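/-
Data: for each representative of the third norm, a step after which its word leaves it on four fours.
-/
import Mathlib.Init

set_option autoImplicit false

namespace CfsgLib.Leech

/-- The steps, in the order of the representatives. -/
def escapeSteps : List (List Nat × Nat × Bool) := [
  ([0, 1, 2, 3, 4, 5, 6, 7, 8, 9, 10, 11, 12, 13, 14, 15, 16, 17, 18, 19, 20, 21, 22, 23], 0, false),
  ([0, 1, 2, 3, 4, 5, 6, 7, 8, 9, 10, 11, 12, 13, 14, 15, 16, 17, 18, 19, 20, 21, 22, 23], 0, false),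
  ([2, 13, 6, 16, 0, 5, 10, 21, 7, 15, 11, 23, 8, 17, 20, 14, 3, 18, 12, 1, 22, 9, 19, 4], 15398581, false),
  ([5, 16, 6, 21, 2, 8, 14, 12, 0, 9, 10, 13, 7, 11, 22, 4, 3, 18, 23, 1, 19, 20, 15, 17], 5817604, false),
  ([19, 2, 16, 11, 12, 21, 3, 4, 17, 22, 1, 20, 6, 18, 14, 9, 0, 15, 8, 23, 10, 5, 13, 7], 11344550, false),
  ([15, 1, 16, 11, 4, 23, 10, 7, 5, 19, 3, 17, 22, 18, 14, 8, 12, 6, 9, 21, 2, 13, 20, 0], 6100032, false),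
  ([22, 9, 4, 20, 3, 18, 15, 8, 6, 13, 14, 10, 11, 0, 17, 23, 19, 5, 7, 2, 21, 1, 16, 12], 2173253, false),
  ([10, 14, 11, 16, 23, 2, 0, 22, 12, 17, 4, 5, 19, 13, 9, 1, 7, 20, 15, 18, 3, 8, 21, 6], 15990216, false),
  ([21, 8, 22, 1, 10, 9, 23, 2, 17, 4, 0, 6, 5, 20, 3, 15, 7, 13, 18, 19, 14, 12, 11, 16], 3535014, false),
  ([11, 0, 10, 20, 7, 1, 2, 4, 18, 17, 15, 8, 14, 19, 21, 13, 16, 12, 22, 23, 9, 5, 3, 6], 14616083, false),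
  ([7, 13, 8, 4, 2, 18, 3, 23, 10, 20, 6, 0, 12, 15, 19, 1, 22, 17, 11, 14, 21, 9, 16, 5], 1023684, false),
  ([6, 2, 23, 20, 0, 13, 10, 12, 5, 18, 3, 8, 16, 19, 11, 15, 7, 17, 9, 14, 4, 22, 21, 1], 6642085, false),
  ([12, 3, 2, 14, 23, 11, 9, 18, 19, 4, 21, 6, 7, 8, 1, 16, 10, 20, 22, 17, 13, 0, 5, 15], 9564758, false),
  ([21, 1, 14, 8, 16, 22, 9, 6, 2, 5, 19, 17, 10, 11, 12, 15, 13, 18, 7, 23, 0, 3, 4, 20], 7094771, false),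
  ([18, 21, 7, 6, 2, 5, 1, 15, 16, 22, 13, 10, 17, 12, 4, 0, 14, 9, 19, 20, 8, 11, 3, 23], 14682450, false),
  ([6, 10, 11, 4, 9, 1, 2, 12, 16, 23, 22, 0, 7, 8, 14, 15, 21, 17, 19, 18, 20, 13, 5, 3], 11596333, false),
  ([10, 13, 5, 3, 20, 12, 0, 22, 17, 9, 18, 2, 8, 7, 1, 11, 19, 21, 6, 23, 4, 15, 16, 14], 7953446, false),
  ([22, 2, 1, 3, 4, 0, 5, 19, 7, 16, 14, 12, 21, 10, 6, 8, 20, 9, 13, 23, 17, 15, 18, 11], 5627071, false),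
  ([7, 10, 8, 5, 2, 19, 0, 9, 16, 13, 4, 11, 20, 18, 23, 1, 17, 6, 21, 3, 14, 15, 12, 22], 786999, false),
  ([4, 6, 23, 22, 11, 15, 14, 1, 20, 7, 21, 3, 8, 10, 12, 9, 2, 16, 17, 19, 18, 13, 0, 5], 3431245, false),
  ([3, 20, 2, 21, 0, 11, 16, 1, 23, 8, 18, 14, 13, 22, 6, 19, 15, 7, 10, 17, 12, 9, 5, 4], 12940166, false),
  ([11, 9, 18, 15, 5, 22, 12, 17, 6, 8, 21, 10, 19, 2, 0, 14, 3, 4, 1, 7, 16, 13, 20, 23], 1543733, false),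
  ([16, 19, 15, 18, 12, 22, 20, 11, 5, 13, 3, 8, 23, 0, 2, 7, 6, 4, 14, 1, 9, 10, 21, 17], 8843685, false)]

end CfsgLib.Leech
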