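/-
The rank-24 lattice of the code: membership, norms, monomial symmetries.
-/
import Cfsg.Agent.Golay.Perms

set_option autoImplicit false

namespace CfsgLib.Leech

open Cfsg CfsgLib.Golay
open scoped Pointwise

theorem cast2_iff (a : ℤ) : (a : ZMod 2) ≠ 0 ↔ a % 2 = 1 := by
  rw [Ne, ZMod.intCast_zmod_eq_zero_iff_dvd]
  omega

theorem cast2_eq {a b : ℤ} (h : a % 2 = b % 2) : (a : ZMod 2) = (b : ZMod 2) :=
  (ZMod.intCast_eq_intCast_iff a b 2).2 h

theorem code_wordOf {s : Finset GolayPt} (h : s ∈ supports (golayCode : Set (GolayPt → ZMod 2))) :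
    wordOf s ∈ golayCode := by
  obtain ⟨w, hw, rfl⟩ := h
  rwa [wordOf_support]

theorem one_mem_code : (1 : GolayPt → ZMod 2) ∈ golayCode :=
  Submodule.subset_span (Or.inr rfl)

theorem support_mem {w : GolayPt → ZMod 2} (hw : w ∈ golayCode) :
    support₂ w ∈ supports (golayCode : Set (GolayPt → ZMod 2)) := ⟨w, hw, rfl⟩

theorem card_support_four {s : Finset GolayPt} (h : s ∈ supports (golayCode : Set (GolayPt → ZMod 2))) :
    4 ∣ s.card := by
  rcases support_card_cases (mem_supports_iff.1 h) with e | e | e | e | e <;> omega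

theorem card_inter_even {s t : Finset GolayPt}
    (hs : s ∈ supports (golayCode : Set (GolayPt → ZMod 2)))
    (ht : t ∈ supports (golayCode : Set (GolayPt → ZMod 2))) : 2 ∣ (s ∩ t).card := by
  have h3 : symmDiff s t ∈ supports (golayCode : Set (GolayPt → ZMod 2)) := by
    rw [mem_supports_iff, mask_symmDiff]
    exact inCode_xor (mem_supports_iff.1 hs) (mem_supports_iff.1 ht)
  have h1 := card_support_four hs
  have h2 := card_support_four ht
  have h4 := card_support_four h3
  have e1 := Finset.card_sdiff_add_card_inter s t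
  have e2 := Finset.card_sdiff_add_card_inter t s
  rw [Finset.inter_comm t s] at e2
  have e3 : (symmDiff s t).card = (s \ t).card + (t \ s).card := by
    rw [symmDiff_def, Finset.sup_eq_union, Finset.card_union_of_disjoint disjoint_sdiff_sdiff]
  omega

/-- The word of the halved coordinates. -/
def half (x : GolayPt → ℤ) : GolayPt → ZMod 2 := fun i => ((x i / 2 : ℤ) : ZMod 2)

theorem mem_support_half {x : GolayPt → ℤ} {i : GolayPt} :
    i ∈ support₂ (half x) ↔ (x i / 2) % 2 = 1 := by
  rw [support₂, Finset.mem_filter, and_iff_right (Finset.mem_univ i)]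
  exact cast2_iff _

theorem mem_leechSet_iff {x : GolayPt → ℤ} : x ∈ leechSet ↔
    ∃ m : ℤ, (m = 0 ∨ m = 1) ∧ (∀ i, x i % 2 = m) ∧ (∑ i, x i - 4 * m) % 8 = 0 ∧
      half x ∈ golayCode := by
  constructor
  · rintro ⟨m, h1, h2, h3⟩
    have hpar : ∀ i, x i % 2 = m % 2 := h1
    refine ⟨m % 2, by omega, hpar, ?_, ?_⟩
    · have h2' : (∑ i, x i) % 8 = (4 * m) % 8 := h2
      omega
    · have e : (Finset.univ.filter fun i => x i ≡ 2 + m % 2 [ZMOD 4]) = support₂ (half x) := by
        ext i
        rw [mem_support_half, Finset.mem_filter, and_iff_right (Finset.mem_univ i)]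
        have := hpar i
        show x i % 4 = (2 + m % 2) % 4 ↔ _
        omega
      obtain ⟨w, hw, hws⟩ := h3 (2 + m % 2)
      rw [e] at hws
      exact support_injective hws ▸ hw
  · rintro ⟨m, hm, h1, h2, h3⟩
    refine ⟨m, fun i => ?_, ?_, fun k => ?_⟩
    · show x i % 2 = m % 2
      have := h1 i
      omega
    · show (∑ i, x i) % 8 = (4 * m) % 8
      omega
    · by_cases hk : k % 4 = 2 + m
      · refine ⟨half x, h3, Finset.ext fun i => ?_⟩
        rw [mem_support_half, Finset.mem_filter, and_iff_right (Finset.mem_univ i)]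
        have := h1 i
        show _ ↔ x i % 4 = k % 4
        omega
      · by_cases hk' : k % 4 = m
        · refine ⟨half x + 1, add_mem h3 one_mem_code, Finset.ext fun i => ?_⟩
          have e : (half x + 1) i = ((x i / 2 + 1 : ℤ) : ZMod 2) := by simp [half]
          rw [support₂, Finset.mem_filter, Finset.mem_filter, and_iff_right (Finset.mem_univ i),
            and_iff_right (Finset.mem_univ i), e, cast2_iff]
          have := h1 i
          show _ ↔ x i % 4 = k % 4
          omega
        · refine ⟨0, zero_mem _, Finset.ext fun i => ?_⟩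
          rw [support₂, Finset.mem_filter, Finset.mem_filter, and_iff_right (Finset.mem_univ i),
            and_iff_right (Finset.mem_univ i)]
          have := h1 i
          refine ⟨fun h => absurd rfl h, fun h => absurd ?_ hk'⟩
          have h' : x i % 4 = k % 4 := h
          omega

/-- The defining set as a subgroup. -/
def latt : AddSubgroup (GolayPt → ℤ) where
  carrier := leechSet
  zero_mem' := mem_leechSet_iff.2 ⟨0, Or.inl rfl, fun i => rfl, by simp, by
    convert zero_mem golayCode
    funext i; simp [half]⟩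
  add_mem' := by
    intro x y hx hy
    obtain ⟨m, hm, hx1, hx2, hx3⟩ := mem_leechSet_iff.1 hx
    obtain ⟨n, hn, hy1, hy2, hy3⟩ := mem_leechSet_iff.1 hy
    refine mem_leechSet_iff.2 ⟨(m + n) % 2, by omega, fun i => ?_, ?_, ?_⟩
    · have := hx1 i; have := hy1 i
      simp only [Pi.add_apply]; omega
    · simp only [Pi.add_apply, Finset.sum_add_distrib]
      omega
    · have e : half (x + y) = half x + half y + ((m * n : ℤ) : ZMod 2) • (1 : GolayPt → ZMod 2) := by
        funext i
        simp only [half, Pi.add_apply, Pi.smul_apply, Pi.one_apply, smul_eq_mul, mul_one, ← Int.cast_add]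
        refine cast2_eq ?_
        have := hx1 i; have := hy1 i
        rcases hm with rfl | rfl <;> rcases hn with rfl | rfl <;> omega
      rw [e]
      exact add_mem (add_mem hx3 hy3) (golayCode.smul_mem _ one_mem_code)
  neg_mem' := by
    intro x hx
    obtain ⟨m, hm, hx1, hx2, hx3⟩ := mem_leechSet_iff.1 hx
    refine mem_leechSet_iff.2 ⟨m, hm, fun i => ?_, ?_, ?_⟩
    · have := hx1 i
      simp only [Pi.neg_apply]; omega
    · simp only [Pi.neg_apply, Finset.sum_neg_distrib]
      omega
    · have e : half (-x) = half x + ((m : ℤ) : ZMod 2) • (1 : GolayPt → ZMod 2) := by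
        funext i
        simp only [half, Pi.neg_apply, Pi.add_apply, Pi.smul_apply, Pi.one_apply, smul_eq_mul, mul_one,
          ← Int.cast_add]
        refine cast2_eq ?_
        have := hx1 i
        omega
      rw [e]
      exact add_mem hx3 (golayCode.smul_mem _ one_mem_code)

theorem leechLattice_eq : leechLattice = latt := AddSubgroup.closure_eq latt

theorem mem_lattice {x : GolayPt → ℤ} : x ∈ leechLattice ↔
    ∃ m : ℤ, (m = 0 ∨ m = 1) ∧ (∀ i, x i % 2 = m) ∧ (∑ i, x i - 4 * m) % 8 = 0 ∧
      half x ∈ golayCode := by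
  rw [leechLattice_eq]
  exact mem_leechSet_iff

/-! ### Norms -/

theorem sqNorm_eq {x : GolayPt → ℤ} {m : ℤ} (hm : m = 0 ∨ m = 1) (h : ∀ i, x i % 2 = m) :
    sqNorm x = 4 * ∑ i, (x i / 2) ^ 2 + 4 * m * ∑ i, x i / 2 + 24 * m ∧
      ∑ i, x i = 2 * ∑ i, x i / 2 + 24 * m := by
  have hx : ∀ i, x i = 2 * (x i / 2) + m := fun i => by have := h i; omega
  have hmm : m * m = m := by rcases hm with rfl | rfl <;> rfl
  constructor
  · rw [sqNorm, Finset.sum_congr rfl (g := fun i => 4 * (x i / 2) ^ 2 + 4 * m * (x i / 2) + m)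
      fun i _ => ?_]
    · rw [Finset.sum_add_distrib, Finset.sum_add_distrib, ← Finset.mul_sum, ← Finset.mul_sum,
        Finset.sum_const, Finset.card_univ, card_pt]
      simp
    · conv_lhs => rw [hx i]
      linear_combination hmm
  · conv_lhs => rw [Finset.sum_congr rfl fun i _ => hx i]
    rw [Finset.sum_add_distrib, ← Finset.mul_sum, Finset.sum_const, Finset.card_univ, card_pt]
    simp

theorem sum_odd (x : GolayPt → ℤ) :
    ∑ i, (x i / 2) % 2 = ((support₂ (half x)).card : ℤ) := by
  have e : support₂ (half x) = Finset.univ.filter fun i => (x i / 2) % 2 = 1 := by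
    ext i; simp [mem_support_half]
  rw [e, Finset.natCast_card_filter]
  refine Finset.sum_congr rfl fun i _ => ?_
  split_ifs with h <;> omega

theorem sum_sq_mod {ι : Type*} (s : Finset ι) (f : ι → ℤ) :
    (∑ i ∈ s, f i ^ 2) % 4 = (∑ i ∈ s, f i % 2) % 4 := by
  rw [Finset.sum_int_mod, Finset.sum_int_mod s 4 fun i => f i % 2]
  refine congrArg (· % 4) (Finset.sum_congr rfl fun i _ => ?_)
  obtain ⟨q, hq | hq⟩ : ∃ q, f i = 2 * q ∨ f i = 2 * q + 1 := ⟨f i / 2, by omega⟩ <;>
    rw [hq] <;> ring_nf <;> omega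

theorem sqNorm_dvd {x : GolayPt → ℤ} (hx : x ∈ leechLattice) : (16 : ℤ) ∣ sqNorm x := by
  obtain ⟨m, hm, h1, h2, h3⟩ := mem_lattice.1 hx
  obtain ⟨e1, e2⟩ := sqNorm_eq hm h1
  have e3 := sum_sq_mod Finset.univ fun i => x i / 2
  rw [sum_odd] at e3
  have e4 : (4 : ℤ) ∣ ((support₂ (half x)).card : ℤ) := by exact_mod_cast card_support_four (support_mem h3)
  rcases hm with rfl | rfl <;> omega

theorem sqNorm_nonneg (x : GolayPt → ℤ) : 0 ≤ sqNorm x := Finset.sum_nonneg fun i _ => sq_nonneg _

theorem sqNorm_eq_zero {x : GolayPt → ℤ} (h : sqNorm x = 0) : x = 0 := funext fun i => by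
  have := (Finset.sum_eq_zero_iff_of_nonneg fun i _ => sq_nonneg _).1 h i (Finset.mem_univ i)
  simpa using this

theorem one_le_sq_of_ne_zero {a : ℤ} (h : a ≠ 0) : 1 ≤ a ^ 2 := by
  have h1 : 1 ≤ |a| := Int.one_le_abs h
  nlinarith [sq_abs a]

theorem sqNorm_min {x : GolayPt → ℤ} (hx : x ∈ leechLattice) (h0 : x ≠ 0) : 32 ≤ sqNorm x := by
  have hd := sqNorm_dvd hx
  have hpos : 0 < sqNorm x :=
    lt_of_le_of_ne (sqNorm_nonneg x) fun e => h0 (sqNorm_eq_zero e.symm)
  by_contra hlt
  have hN : sqNorm x = 16 := by omega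
  obtain ⟨m, hm, h1, h2, h3⟩ := mem_lattice.1 hx
  rcases hm with rfl | rfl
  · obtain ⟨e1, e2⟩ := sqNorm_eq (Or.inl rfl) h1
    have hsq : ∑ i, (x i / 2) ^ 2 = 4 := by omega
    have hle : ∑ i, (x i / 2) % 2 ≤ ∑ i, (x i / 2) ^ 2 := Finset.sum_le_sum fun i _ => by
      rcases eq_or_ne (x i / 2) 0 with e | e
      · simp [e]
      · have : 1 ≤ (x i / 2) ^ 2 := one_le_sq_of_ne_zero e
        omega
    rw [sum_odd, hsq] at hle
    have h00 : (support₂ (half x)).card = 0 := by
      rcases support_card_cases (mem_supports_iff.1 (support_mem h3)) with e | e | e | e | e <;> omega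
    have heven : ∀ i, (x i / 2) % 2 = 0 := fun i => by
      have : i ∉ support₂ (half x) := by simp [Finset.card_eq_zero.1 h00]
      rw [mem_support_half] at this
      omega
    have hu : ∀ i, x i / 2 = 2 * (x i / 4) := fun i => by have := heven i; omega
    have s1 : ∑ i, (x i / 2) ^ 2 = 4 * ∑ i, (x i / 4) ^ 2 := by
      rw [Finset.mul_sum]; exact Finset.sum_congr rfl fun i _ => by rw [hu i]; ring
    have s2 : ∑ i, x i / 2 = 2 * ∑ i, x i / 4 := by
      rw [Finset.mul_sum]; exact Finset.sum_congr rfl fun i _ => hu i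
    have s3 : (∑ i, (x i / 4) ^ 2) % 2 = (∑ i, x i / 4) % 2 := by
      rw [Finset.sum_int_mod, Finset.sum_int_mod Finset.univ 2 fun i => x i / 4]
      refine congrArg (· % 2) (Finset.sum_congr rfl fun i _ => ?_)
      rcases Int.emod_two_eq_zero_or_one (x i / 4) with e | e <;>
        simp [pow_two, Int.mul_emod, e]
    omega
  · have h24 : ∑ _i : GolayPt, (1 : ℤ) ≤ sqNorm x := Finset.sum_le_sum fun i _ =>
      one_le_sq_of_ne_zero (by have := h1 i; omega)
    rw [Finset.sum_const, Finset.card_univ, card_pt] at h24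
    simp at h24
    omega

theorem sqNorm_add (x y : GolayPt → ℤ) : sqNorm (x + y) = sqNorm x + sqNorm y + 2 * dotInt x y := by
  simp only [sqNorm, dotInt, Pi.add_apply, Finset.mul_sum, ← Finset.sum_add_distrib]
  exact Finset.sum_congr rfl fun i _ => by ring

theorem sqNorm_sub (x y : GolayPt → ℤ) : sqNorm (x - y) = sqNorm x + sqNorm y - 2 * dotInt x y := by
  simp only [sqNorm, dotInt, Pi.sub_apply, Finset.mul_sum, ← Finset.sum_add_distrib, ← Finset.sum_sub_distrib]
  exact Finset.sum_congr rfl fun i _ => by ring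

theorem dot_dvd {x y : GolayPt → ℤ} (hx : x ∈ leechLattice) (hy : y ∈ leechLattice) :
    (8 : ℤ) ∣ dotInt x y := by
  have := sqNorm_dvd hx
  have := sqNorm_dvd hy
  have := sqNorm_dvd (add_mem hx hy)
  have := sqNorm_add x y
  omega

/-! ### Monomial symmetries -/

theorem comp_mem {σ : Equiv.Perm GolayPt} (hσ : σ ∈ M24) {x : GolayPt → ℤ} (hx : x ∈ leechLattice) :
    (fun i => x (σ i)) ∈ leechLattice := by
  obtain ⟨m, hm, h1, h2, h3⟩ := mem_lattice.1 hx
  refine mem_lattice.2 ⟨m, hm, fun i => h1 (σ i), ?_, ?_⟩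
  · rw [Equiv.sum_comp σ x]; exact h2
  · exact mem_M24_iff.1 (inv_mem hσ) _ h3

/-- Negation of the coordinates in a set. -/
def flip (c : Finset GolayPt) (x : GolayPt → ℤ) : GolayPt → ℤ := fun i => if i ∈ c then -x i else x i

theorem flip_flip (c : Finset GolayPt) (x : GolayPt → ℤ) : flip c (flip c x) = x := by
  funext i; by_cases h : i ∈ c <;> simp [flip, h]

theorem sqNorm_flip (c : Finset GolayPt) (x : GolayPt → ℤ) : sqNorm (flip c x) = sqNorm x :=
  Finset.sum_congr rfl fun i _ => by by_cases h : i ∈ c <;> simp [flip, h]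

theorem half_flip {x : GolayPt → ℤ} {m : ℤ} (hm : m = 0 ∨ m = 1) (h1 : ∀ i, x i % 2 = m)
    (c : Finset GolayPt) : half (flip c x) = half x + ((m : ℤ) : ZMod 2) • wordOf c := by
  funext i
  by_cases h : i ∈ c
  · simp only [half, flip, wordOf, h, if_true, Pi.add_apply, Pi.smul_apply, smul_eq_mul, mul_one,
      ← Int.cast_add]
    refine cast2_eq ?_
    have := h1 i
    omega
  · simp [half, flip, wordOf, h]

theorem flip_mem {c : Finset GolayPt} (hc : c ∈ supports (golayCode : Set (GolayPt → ZMod 2)))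
    {x : GolayPt → ℤ} (hx : x ∈ leechLattice) : flip c x ∈ leechLattice := by
  obtain ⟨m, hm, h1, h2, h3⟩ := mem_lattice.1 hx
  refine mem_lattice.2 ⟨m, hm, fun i => ?_, ?_, ?_⟩
  · have := h1 i
    by_cases h : i ∈ c <;> simp only [flip, h, if_true, if_false] <;> omega
  · have e : ∑ i, flip c x i = ∑ i, x i - 2 * ∑ i ∈ c, x i := by
      rw [← Fintype.sum_ite_mem c x, Finset.mul_sum, ← Finset.sum_sub_distrib]
      exact Finset.sum_congr rfl fun i _ => by by_cases h : i ∈ c <;> simp [flip, h]; ring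
    have e2 : ∑ i ∈ c, x i = 2 * ∑ i ∈ c, x i / 2 + m * c.card := by
      rw [Finset.mul_sum, show m * (c.card : ℤ) = ∑ _i ∈ c, m by
        rw [Finset.sum_const, nsmul_eq_mul, mul_comm], ← Finset.sum_add_distrib]
      exact Finset.sum_congr rfl fun i _ => by have := h1 i; omega
    have e3 : (∑ i ∈ c, x i / 2) % 2 = 0 := by
      have hs : ∑ i ∈ c, (x i / 2) % 2 = ((c ∩ support₂ (half x)).card : ℤ) := by
        rw [show c ∩ support₂ (half x) = c.filter fun i => (x i / 2) % 2 = 1 by
          ext i; simp [mem_support_half], Finset.natCast_card_filter]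
        exact Finset.sum_congr rfl fun i _ => by split_ifs with h <;> omega
      have := card_inter_even hc (support_mem h3)
      rw [Finset.sum_int_mod, hs]
      omega
    have hc4 := card_support_four hc
    rw [e, e2]
    rcases hm with rfl | rfl <;> omega
  · rw [half_flip hm h1]
    exact add_mem h3 (golayCode.smul_mem _ (code_wordOf hc))

end CfsgLib.Leech
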