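/-
Short vectors congruent modulo twice the lattice.
-/
import Cfsg.Agent.Leech.Basic

set_option autoImplicit false

namespace CfsgLib.Leech

open Cfsg

theorem sqNorm_neg (x : GolayPt → ℤ) : sqNorm (-x) = sqNorm x :=
  Finset.sum_congr rfl fun i _ => by simp

theorem congr_short {x y z : GolayPt → ℤ} (hy : y ∈ leechLattice) (hz : z ∈ leechLattice)
    (hxy : x - y = 2 • z) (hxn : sqNorm x ≤ 64) (hyn : sqNorm y ≤ 64) :
    x = y ∨ x = -y ∨ (sqNorm x = 64 ∧ sqNorm y = 64 ∧ dotInt x y = 0) := by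
  set w : GolayPt → ℤ := y + z with hw
  have hxe : x = w + z := by
    rw [hw]; funext i
    have := congrFun hxy i
    simp at this ⊢; omega
  have hye : y = w - z := by simp [hw]
  by_cases hz0 : z = 0
  · left; rw [hxe, hye, hz0]; simp
  by_cases hw0 : w = 0
  · right; left; rw [hxe, hye, hw0]; simp
  right; right
  have h1 := sqNorm_min hz hz0
  have h2 : 32 ≤ sqNorm w := sqNorm_min (show w ∈ leechLattice from add_mem hy hz) hw0
  rw [hxe, sqNorm_add] at hxn
  rw [hye, sqNorm_sub] at hyn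
  rw [hxe, hye, sqNorm_add, sqNorm_sub]
  have h4 : dotInt (w + z) (w - z) = sqNorm w - sqNorm z := by
    simp only [dotInt, sqNorm, Pi.add_apply, Pi.sub_apply, ← Finset.sum_sub_distrib]
    exact Finset.sum_congr rfl fun i _ => by ring
  rw [h4]
  refine ⟨?_, ?_, ?_⟩ <;> omega

end CfsgLib.Leech
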