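/-
The index of the lattice, and a totally singular half.
-/
import Cfsg.Agent.Leech.Basic

set_option autoImplicit false

namespace CfsgLib.Leech

open Cfsg CfsgLib.Golay

/-- Reduction modulo two. -/
def red : (GolayPt → ℤ) →+ (GolayPt → ZMod 2) := (Int.castAddHom (ZMod 2)).compLeft GolayPt

theorem red_apply (x : GolayPt → ℤ) (i : GolayPt) : red x i = (x i : ZMod 2) := rfl

theorem red_surjective : Function.Surjective red := fun w =>
  ⟨fun i => ((w i).val : ℤ), funext fun i => by simp [red_apply]⟩

/-- Doubling. -/
def dbl : (GolayPt → ℤ) →+ (GolayPt → ℤ) := AddMonoidHom.mk' (fun x => 2 • x) fun a b => by simp [smul_add]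

theorem dbl_apply (x : GolayPt → ℤ) (i : GolayPt) : dbl x i = 2 * x i := by
  show (2 • x) i = _
  simp

theorem dbl_injective : Function.Injective dbl := fun a b h => funext fun i => by
  have := congrFun h i
  rw [dbl_apply, dbl_apply] at this
  omega

theorem range_dbl : dbl.range = red.ker := by
  ext x
  constructor
  · rintro ⟨y, rfl⟩
    exact funext fun i => by
      rw [red_apply, dbl_apply, Pi.zero_apply, ZMod.intCast_zmod_eq_zero_iff_dvd]
      exact dvd_mul_right 2 _
  · intro h
    refine ⟨fun i => x i / 2, funext fun i => ?_⟩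
    have h' : ((x i : ℤ) : ZMod 2) = 0 := congrFun h i
    rw [ZMod.intCast_zmod_eq_zero_iff_dvd] at h'
    rw [dbl_apply]
    omega

theorem index_range_dbl : dbl.range.index = 2 ^ 24 := by
  rw [range_dbl, AddSubgroup.index_ker, AddMonoidHom.range_eq_top_of_surjective _ red_surjective,
    AddSubgroup.card_top, Nat.card_fun, Nat.card_zmod, Nat.card_eq_fintype_card, card_pt]

/-- Sum modulo four. -/
def sum4 : (GolayPt → ℤ) →+ ZMod 4 :=
  AddMonoidHom.mk' (fun x => ((∑ i, x i : ℤ) : ZMod 4)) fun a b => by
    simp [Finset.sum_add_distrib]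

/-- Halves of the even vectors over a subgroup of words. -/
def halves (S : AddSubgroup (GolayPt → ZMod 2)) : AddSubgroup (GolayPt → ℤ) := S.comap red ⊓ sum4.ker

theorem mem_halves {S : AddSubgroup (GolayPt → ZMod 2)} {y : GolayPt → ℤ} :
    y ∈ halves S ↔ red y ∈ S ∧ (4 : ℤ) ∣ ∑ i, y i := by
  rw [halves, AddSubgroup.mem_inf, AddSubgroup.mem_comap, AddMonoidHom.mem_ker]
  exact and_congr_right fun _ => ZMod.intCast_zmod_eq_zero_iff_dvd (∑ i, y i) 4

theorem index_halves {S : AddSubgroup (GolayPt → ZMod 2)}
    (hS : S ≤ golayCode.toAddSubgroup) {k : ℕ} (hk : Nat.card S = k) :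
    ((halves S).map dbl).index * k = 2 ^ 49 := by
  rw [AddSubgroup.index_map_of_injective _ dbl_injective, index_range_dbl]
  have h1 : (S.comap red).index * k = 2 ^ 24 := by
    rw [AddSubgroup.index_comap_of_surjective _ red_surjective, ← hk, mul_comm,
      AddSubgroup.card_mul_index, Nat.card_fun, Nat.card_zmod, Nat.card_eq_fintype_card, card_pt]
  have h2 : (halves S).relIndex (S.comap red) = 2 := by
    rw [halves, AddSubgroup.inf_relIndex_left, AddSubgroup.relIndex_ker]
    have e : ((S.comap red).map sum4 : Set (ZMod 4)) = {0, 2} := by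
      ext v
      constructor
      · rintro ⟨y, hy, rfl⟩
        have hc := card_support_four (support_mem (hS hy))
        have hs : (∑ i, y i) % 2 = ((support₂ (red y)).card : ℤ) % 2 := by
          rw [show support₂ (red y) = Finset.univ.filter fun i => y i % 2 = 1 by
            ext i; rw [support₂, Finset.mem_filter, Finset.mem_filter]; exact and_congr_right fun _ => cast2_iff _,
            Finset.natCast_card_filter, Finset.sum_int_mod]
          refine congrArg (· % 2) (Finset.sum_congr rfl fun i _ => ?_)
          split_ifs <;> omega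
        have : (∑ i, y i) % 4 = 0 ∨ (∑ i, y i) % 4 = 2 := by omega
        show ((∑ i, y i : ℤ) : ZMod 4) ∈ ({0, 2} : Set (ZMod 4))
        rw [← ZMod.intCast_mod _ 4]
        push_cast
        rcases this with e | e <;> rw [e] <;> simp
      · rintro (rfl | rfl)
        · exact zero_mem _
        · refine ⟨Pi.single none 2, ?_, ?_⟩
          · show red _ ∈ S
            have e : red (Pi.single none 2) = 0 := funext fun i => by
              rw [red_apply]
              by_cases h : i = none
              · subst h; rw [Pi.single_eq_same]; decide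
              · rw [Pi.single_eq_of_ne h]; rfl
            rw [e]; exact zero_mem _
          · show ((∑ i, Pi.single (M := fun _ : GolayPt => ℤ) none 2 i : ℤ) : ZMod 4) = 2
            rw [Finset.sum_pi_single']; simp
    rw [← SetLike.coe_sort_coe, Nat.card_coe_set_eq, e]
    exact Set.ncard_pair (by decide)
  have h3 : (halves S).index = 2 * (S.comap red).index := by
    have h := AddSubgroup.relIndex_mul_index (show halves S ≤ S.comap red from inf_le_left)
    rw [h2] at h
    exact h.symm
  rw [h3]
  calc 2 * (S.comap red).index * 2 ^ 24 * k = 2 * ((S.comap red).index * k) * 2 ^ 24 := by ring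
    _ = 2 ^ 49 := by rw [h1]; norm_num

theorem half_dbl (y : GolayPt → ℤ) : half (dbl y) = red y := funext fun i => by
  simp only [half, red_apply, dbl_apply]
  congr 1
  omega

theorem map_halves_le {S : AddSubgroup (GolayPt → ZMod 2)} (hS : S ≤ golayCode.toAddSubgroup) :
    (halves S).map dbl ≤ leechLattice := by
  rintro _ ⟨y, hy, rfl⟩
  obtain ⟨h1, h2⟩ := mem_halves.1 hy
  refine mem_lattice.2 ⟨0, Or.inl rfl, fun i => ?_, ?_, by rw [half_dbl]; exact hS h1⟩
  · rw [dbl_apply]; omega
  · simp only [dbl_apply, ← Finset.mul_sum]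
    omega

/-- A vector with all coordinates odd. -/
def oddVec : GolayPt → ℤ := fun i => if i = none then -3 else 1

theorem oddVec_mem : oddVec ∈ leechLattice := by
  refine mem_lattice.2 ⟨1, Or.inr rfl, by decide, by decide, ?_⟩
  have : half oddVec = 0 := by decide
  rw [this]; exact zero_mem _

theorem card_code : Nat.card golayCode = 4096 := by
  have e : ((golayCode : Set (GolayPt → ZMod 2))) = wmask ⁻¹' ↑codeList.toFinset := by
    ext w
    simp [mem_code_iff_list]
  have hr : (↑codeList.toFinset : Set ℕ) ⊆ Set.range wmask := fun m hm => by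
    simp only [List.coe_toFinset, Set.mem_ofPred_eq] at hm
    obtain ⟨w, -, hw⟩ := exists_word_of_allSums basis exists_word_basis m hm
    exact ⟨w, hw⟩
  rw [← SetLike.coe_sort_coe, Nat.card_coe_set_eq, e,
    Set.ncard_preimage_of_injective_subset_range wmask_injective hr, Set.ncard_coe_finset,
    List.toFinset_card_of_nodup codeList_nodup]
  decide +kernel

theorem pow49 : (2 : ℕ) ^ 49 = 8192 * 2 ^ 36 := by norm_num

theorem pow49' : (2 : ℕ) ^ 49 = 2 ^ 12 * (2 ^ 36 * 2) := by norm_num

theorem index_lattice : leechLattice.index = 2 ^ 36 := by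
  have hev : leechLattice ⊓ red.ker = (halves golayCode.toAddSubgroup).map dbl := by
    refine le_antisymm (fun x hx => ?_) (le_inf (map_halves_le le_rfl) ?_)
    · obtain ⟨m, hm, h1, h2, h3⟩ := mem_lattice.1 hx.1
      obtain ⟨y, rfl⟩ : x ∈ dbl.range := range_dbl ▸ hx.2
      refine ⟨y, mem_halves.2 ⟨half_dbl y ▸ h3, ?_⟩, rfl⟩
      simp only [dbl_apply, ← Finset.mul_sum] at h2
      have := h1 none
      rw [dbl_apply] at this
      omega
    · rw [← range_dbl]; exact AddSubgroup.map_le_range _ _
  have h2 : red.ker.relIndex leechLattice = 2 := by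
    rw [AddSubgroup.relIndex_ker]
    have e : (leechLattice.map red : Set (GolayPt → ZMod 2)) = {0, 1} := by
      ext v
      constructor
      · rintro ⟨x, hx, rfl⟩
        obtain ⟨m, hm, h1, -, -⟩ := mem_lattice.1 hx
        rcases hm with rfl | rfl
        · left; exact funext fun i => cast2_eq (a := x i) (b := 0) (by simpa using h1 i)
        · right; exact funext fun i => (cast2_eq (a := x i) (b := 1) (by simpa using h1 i)).trans Int.cast_one
      · rintro (rfl | rfl)
        · exact zero_mem _
        · exact ⟨oddVec, oddVec_mem, by decide⟩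
    rw [← SetLike.coe_sort_coe, Nat.card_coe_set_eq, e]
    exact Set.ncard_pair (by decide)
  have h3 := index_halves (le_refl golayCode.toAddSubgroup) (k := 4096) card_code
  have h4 : (leechLattice ⊓ red.ker).index = 2 * leechLattice.index := by
    have h := AddSubgroup.relIndex_mul_index (show leechLattice ⊓ red.ker ≤ leechLattice from inf_le_left)
    rw [AddSubgroup.inf_relIndex_left, h2] at h
    exact h.symm
  rw [hev] at h4
  rw [h4] at h3
  exact Nat.eq_of_mul_eq_mul_left (show 0 < 8192 by norm_num)
    ((show 8192 * leechLattice.index = 2 * leechLattice.index * 4096 by ring).trans (h3.trans pow49))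

/-- The subgroup of the two trivial words. -/
def signs : AddSubgroup (GolayPt → ZMod 2) := AddSubgroup.zmultiples 1

theorem mem_signs {w : GolayPt → ZMod 2} : w ∈ signs ↔ w = 0 ∨ w = 1 := by
  constructor
  · rintro ⟨n, rfl⟩
    rcases Int.emod_two_eq_zero_or_one n with e | e
    · left; funext i; simp only [Pi.smul_apply, Pi.one_apply, Pi.zero_apply, zsmul_one]
      exact (cast2_eq (a := n) (b := 0) (by omega)).trans Int.cast_zero
    · right; funext i; simp only [Pi.smul_apply, Pi.one_apply, zsmul_one]
      exact (cast2_eq (a := n) (b := 1) (by omega)).trans Int.cast_one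
  · rintro (rfl | rfl)
    · exact zero_mem _
    · exact AddSubgroup.mem_zmultiples _

theorem mul_pow_two' (a : ℤ) {b : ℤ} (h : a = 2 * b) : a ^ 2 = 4 * b ^ 2 := by rw [h]; ring

theorem singular_half : ∃ A : AddSubgroup (GolayPt → ℤ), A ≤ leechLattice ∧
    (∀ v ∈ leechLattice, (2 : ℤ) • v ∈ A) ∧ (A.addSubgroupOf leechLattice).index = 2 ^ 12 ∧
      ∀ v ∈ A, (32 : ℤ) ∣ sqNorm v := by
  have hS : signs ≤ golayCode.toAddSubgroup := fun w hw => by
    rcases mem_signs.1 hw with rfl | rfl
    · exact zero_mem _
    · exact one_mem_code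
  have hk : Nat.card signs = 2 := by
    rw [← SetLike.coe_sort_coe, Nat.card_coe_set_eq,
      show (signs : Set (GolayPt → ZMod 2)) = {0, 1} from Set.ext fun w => mem_signs]
    exact Set.ncard_pair (by decide)
  refine ⟨(halves signs).map dbl, map_halves_le hS, fun v hv => ?_, ?_, ?_⟩
  · obtain ⟨m, hm, h1, h2, -⟩ := mem_lattice.1 hv
    refine ⟨v, mem_halves.2 ⟨mem_signs.2 ?_, by omega⟩, funext fun i => by rw [dbl_apply]; simp⟩
    rcases hm with rfl | rfl
    · left; funext i; exact (cast2_eq (a := v i) (b := 0) (by simpa using h1 i)).trans Int.cast_zero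
    · right; funext i; exact (cast2_eq (a := v i) (b := 1) (by simpa using h1 i)).trans Int.cast_one
  · show ((halves signs).map dbl).relIndex leechLattice = _
    have h := AddSubgroup.relIndex_mul_index (map_halves_le hS)
    have h' := index_halves hS hk
    rw [index_lattice] at h
    rw [← h] at h'
    have hpos : 0 < (2 : ℕ) ^ 36 * 2 := Nat.mul_pos (Nat.two_pow_pos 36) two_pos
    refine Nat.eq_of_mul_eq_mul_right hpos ?_
    rw [← Nat.mul_assoc]
    exact h'.trans (pow49'.trans (Nat.mul_assoc _ _ _).symm)
  · rintro _ ⟨y, hy, rfl⟩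
    obtain ⟨h1, h2⟩ := mem_halves.1 hy
    have e : sqNorm (dbl y) = 4 * ∑ i, y i ^ 2 := by
      rw [sqNorm, Finset.mul_sum]; exact Finset.sum_congr rfl fun i _ => by rw [dbl_apply]; ring
    rw [e]
    have h8 : (8 : ℤ) ∣ ∑ i, y i ^ 2 := by
      rcases mem_signs.1 h1 with h | h
      · have hy2 : ∀ i, y i = 2 * (y i / 2) := fun i => by
          have h' : ((y i : ℤ) : ZMod 2) = 0 := congrFun h i
          rw [ZMod.intCast_zmod_eq_zero_iff_dvd] at h'
          omega
        have s1 : ∑ i, y i ^ 2 = 4 * ∑ i, (y i / 2) ^ 2 := by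
          rw [Finset.mul_sum]; exact Finset.sum_congr rfl fun i _ => by rw [mul_pow_two' (y i) (hy2 i)]
        have s2 : ∑ i, y i = 2 * ∑ i, y i / 2 := by
          rw [Finset.mul_sum]; exact Finset.sum_congr rfl fun i _ => hy2 i
        have s3 := sum_sq_mod Finset.univ fun i => y i / 2
        have s4 : (∑ i, (y i / 2) % 2) % 2 = (∑ i, y i / 2) % 2 := (Finset.sum_int_mod _ _ _).symm
        omega
      · have hy1 : ∀ i, y i % 8 = 1 ∨ y i % 8 = 3 ∨ y i % 8 = 5 ∨ y i % 8 = 7 := fun i => by
          have h' : ((y i : ℤ) : ZMod 2) ≠ 0 := by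
            rw [show ((y i : ℤ) : ZMod 2) = 1 from congrFun h i]; decide
          rw [cast2_iff] at h'
          omega
        have s1 : (∑ i, y i ^ 2) % 8 = (∑ _i : GolayPt, (1 : ℤ)) % 8 := by
          rw [Finset.sum_int_mod]
          refine congrArg (· % 8) (Finset.sum_congr rfl fun i _ => ?_)
          rcases hy1 i with e | e | e | e <;> simp [pow_two, Int.mul_emod, e]
        rw [Finset.sum_const, Finset.card_univ, card_pt] at s1
        exact Int.dvd_of_emod_eq_zero (s1.trans (by simp))
    omega

end CfsgLib.Leech
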