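/-
Monomial automorphisms of the lattice, the centre, the stabiliser of the standard cross.
-/
import Cfsg.Agent.Leech.Index
import Cfsg.Agent.Golay.DodStab
import Cfsg.Prelude.Def_SporadicCombinatorics

set_option autoImplicit false

namespace CfsgLib.Leech

open Cfsg CfsgLib.Golay
open scoped Pointwise

theorem flip_add (c : Finset GolayPt) (x y : GolayPt → ℤ) : flip c (x + y) = flip c x + flip c y := by
  funext i; by_cases h : i ∈ c <;> simp [flip, h, add_comm]

/-- A signed permutation as a permutation of the lattice. -/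
def monoPerm {σ : Equiv.Perm GolayPt} (hσ : σ ∈ M24) {c : Finset GolayPt}
    (hc : c ∈ supports (golayCode : Set (GolayPt → ZMod 2))) : Equiv.Perm leechLattice where
  toFun v := ⟨flip c fun i => v.1 (σ.symm i), flip_mem hc (comp_mem (σ := σ⁻¹) (inv_mem hσ) v.2)⟩
  invFun v := ⟨fun i => flip c v.1 (σ i), comp_mem hσ (flip_mem hc v.2)⟩
  left_inv v := Subtype.ext (funext fun i => by
    show flip c (flip c fun i => v.1 (σ.symm i)) (σ i) = v.1 i
    rw [flip_flip, σ.symm_apply_apply])
  right_inv v := Subtype.ext (funext fun i => by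
    show flip c (fun i => flip c v.1 (σ (σ.symm i))) i = v.1 i
    simp [flip_flip])

/-- A signed permutation as an automorphism. -/
def mono {σ : Equiv.Perm GolayPt} (hσ : σ ∈ M24) {c : Finset GolayPt}
    (hc : c ∈ supports (golayCode : Set (GolayPt → ZMod 2))) : Co0 :=
  ⟨monoPerm hσ hc, ⟨fun v w => Subtype.ext (by
      show flip c (fun i => (v + w : leechLattice).1 (σ.symm i)) = _
      rw [show (fun i => (v + w : leechLattice).1 (σ.symm i)) =
        (fun i => v.1 (σ.symm i)) + fun i => w.1 (σ.symm i) from rfl, flip_add]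
      rfl),
    fun v => by
      show sqNorm (flip c fun i => v.1 (σ.symm i)) = _
      rw [sqNorm_flip, sqNorm, Equiv.sum_comp σ.symm fun i => v.1 i ^ 2]
      rfl⟩⟩

theorem mono_apply {σ : Equiv.Perm GolayPt} (hσ : σ ∈ M24) {c : Finset GolayPt}
    (hc : c ∈ supports (golayCode : Set (GolayPt → ZMod 2))) (v : leechLattice) :
    ((mono hσ hc).1 v).1 = signedPerm σ c v.1 := rfl

/-- An automorphism as an additive map. -/
def hom (g : Co0) : leechLattice →+ leechLattice := AddMonoidHom.mk' g.1 g.2.1

theorem hom_apply (g : Co0) (v : leechLattice) : hom g v = g.1 v := rfl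

theorem univ_mem : (Finset.univ : Finset GolayPt) ∈ supports (golayCode : Set (GolayPt → ZMod 2)) :=
  ⟨1, one_mem_code, by simp [support₂]⟩

theorem empty_mem : (∅ : Finset GolayPt) ∈ supports (golayCode : Set (GolayPt → ZMod 2)) :=
  ⟨0, zero_mem _, by simp [support₂]⟩

/-- Negation. -/
def negOne : Co0 := mono (one_mem M24) univ_mem

theorem perm_one_symm (i : GolayPt) : (1 : Equiv.Perm GolayPt).symm i = i := rfl

theorem negOne_apply (v : leechLattice) : negOne.1 v = -v :=
  Subtype.ext (funext fun i => by rw [negOne, mono_apply]; simp [signedPerm, perm_one_symm])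

theorem negOne_central : negOne ∈ Subgroup.center Co0 := Subgroup.mem_center_iff.2 fun g =>
  Subtype.ext (Equiv.ext fun v => by
    show g.1 (negOne.1 v) = negOne.1 (g.1 v)
    rw [negOne_apply, negOne_apply]
    exact map_neg (hom g) v)

theorem negOne_sq : negOne * negOne = 1 := Subtype.ext (Equiv.ext fun v => by
  show negOne.1 (negOne.1 v) = v
  rw [negOne_apply, negOne_apply, neg_neg])

theorem single_mem (i : GolayPt) : (Pi.single i 8 : GolayPt → ℤ) ∈ leechLattice := by
  refine mem_lattice.2 ⟨0, Or.inl rfl, fun k => ?_, by simp, ?_⟩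
  · by_cases h : k = i
    · subst h; simp
    · simp [h]
  · convert zero_mem golayCode
    funext k
    by_cases h : k = i
    · subst h; simp only [half, Pi.single_eq_same]; rfl
    · simp [half, h]

/-- Eight at one place. -/
def eight (i : GolayPt) : leechLattice := ⟨Pi.single i 8, single_mem i⟩

theorem eight_ne_zero (i : GolayPt) : eight i ≠ 0 := fun h => by
  have := congrFun (congrArg Subtype.val h) i
  simp [eight] at this

theorem negOne_ne_one : negOne ≠ 1 := fun h => by
  have h1 : negOne.1 (eight none) = eight none := by rw [h]; rfl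
  rw [negOne_apply] at h1
  have := congrFun (congrArg Subtype.val h1) none
  simp [eight] at this

theorem eight_smul (g : Co0) (v : leechLattice) (j : GolayPt) :
    8 * (g.1 v).1 j = ∑ i, v.1 i * (g.1 (eight i)).1 j := by
  have e : (8 : ℤ) • v = ∑ i, v.1 i • eight i := Subtype.ext (funext fun k => by
    simp only [AddSubgroup.coe_zsmul, AddSubgroup.val_finset_sum, Pi.smul_apply, Finset.sum_apply,
      smul_eq_mul, eight]
    rw [Finset.sum_eq_single k (fun i _ hi => by simp [hi.symm]) (fun h => absurd (Finset.mem_univ k) h)]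
    simp [mul_comm])
  have h := congrArg (fun w : leechLattice => w.1 j) (congrArg (hom g) e)
  simp only [map_zsmul, map_sum, AddSubgroup.coe_zsmul, AddSubgroup.val_finset_sum, Pi.smul_apply,
    Finset.sum_apply, smul_eq_mul, hom_apply] at h
  exact h

theorem sqNorm_single (i : GolayPt) (a : ℤ) : sqNorm (Pi.single i a : GolayPt → ℤ) = a ^ 2 := by
  rw [sqNorm, Finset.sum_eq_single i (fun j _ hj => by simp [hj]) (fun h => absurd (Finset.mem_univ i) h)]
  simp

theorem separate {i j : GolayPt} (h : i ≠ j) :
    ∃ c ∈ supports (golayCode : Set (GolayPt → ZMod 2)), j ∈ c ∧ i ∉ c := by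
  obtain ⟨a, ha, b, hb⟩ : ∃ a, a ∈ DodStab.D ∧ ∃ b, b ∉ DodStab.D :=
    ⟨some 0, by decide +kernel, none, by decide +kernel⟩
  have hab : a ≠ b := fun e => hb (e ▸ ha)
  obtain ⟨σ, hσ, hσi⟩ := exists_map_tuple (n := 2) (by omega) ![a, b] ![j, i]
    (by intro x y e; fin_cases x <;> fin_cases y <;> simp_all)
    (by intro x y e; fin_cases x <;> fin_cases y <;> simp_all)
  refine ⟨σ • DodStab.D, (smul_mem_dodecads hσ DodStab.D_mem).1, ?_, ?_⟩
  · have := hσi 0
    simp only [Matrix.cons_val_zero] at this
    rw [← this]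
    exact Finset.smul_mem_smul_finset (a := σ) ha
  · have h1 := hσi 1
    simp only [Matrix.cons_val_one, Matrix.cons_val_zero] at h1
    rw [← h1]
    intro e
    exact hb ((Finset.smul_mem_smul_finset_iff (a := σ)).1 e)

theorem center_eq (g : Co0) (hg : g ∈ Subgroup.center Co0) : g = 1 ∨ g = negOne := by
  have hcomm : ∀ (h : Co0) (v : leechLattice), h.1 (g.1 v) = g.1 (h.1 v) := fun h v =>
    congrArg (fun k : Co0 => k.1 v) (Subgroup.mem_center_iff.1 hg h)
  have hdiag : ∀ i j, i ≠ j → (g.1 (eight i)).1 j = 0 := fun i j hij => by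
    obtain ⟨c, hc, hjc, hic⟩ := separate hij
    have hfix : (mono (one_mem M24) hc).1 (eight i) = eight i := Subtype.ext (funext fun k => by
      rw [mono_apply]
      by_cases hk : k ∈ c
      · have : k ≠ i := fun e => hic (e ▸ hk)
        simp [signedPerm, hk, eight, this, perm_one_symm]
      · simp [signedPerm, hk, perm_one_symm])
    have h := congrArg (fun w : leechLattice => w.1 j) (hcomm (mono (one_mem M24) hc) (eight i))
    rw [hfix] at h
    simp only [mono_apply, signedPerm, hjc, if_true] at h
    have h' : -(g.1 (eight i)).1 j = (g.1 (eight i)).1 j := h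
    omega
  set a : GolayPt → ℤ := fun i => (g.1 (eight i)).1 i
  have ha : ∀ i, a i = 8 ∨ a i = -8 := fun i => by
    have e : (g.1 (eight i)).1 = Pi.single i (a i) := funext fun j => by
      by_cases h : j = i
      · subst h; simp [a]
      · rw [hdiag i j (Ne.symm h), Pi.single_eq_of_ne h]
    have h2 := g.2.2 (eight i)
    rw [e] at h2
    simp only [eight, sqNorm_single] at h2
    exact sq_eq_sq_iff_eq_or_eq_neg.1 (h2.trans rfl)
  have hconst : ∀ i, a i = a none := fun i => by
    obtain ⟨σ, hσ, hσi⟩ := exists_map_tuple (n := 1) (by omega) (fun _ => none) (fun _ => i)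
      (fun _ _ _ => Subsingleton.elim _ _) (fun _ _ _ => Subsingleton.elim _ _)
    have hm : (mono hσ empty_mem).1 (eight none) = eight i := Subtype.ext (funext fun k => by
      rw [mono_apply]
      simp only [signedPerm, Finset.notMem_empty, if_false, eight]
      by_cases hk : k = i
      · subst hk; rw [← hσi 0, σ.symm_apply_apply]; simp
      · rw [Pi.single_eq_of_ne hk, Pi.single_eq_of_ne fun e => hk (by rw [← hσi 0, ← e, σ.apply_symm_apply])])
    have h := congrArg (fun w : leechLattice => w.1 i) (hcomm (mono hσ empty_mem) (eight none))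
    rw [hm] at h
    simp only [mono_apply, signedPerm, Finset.notMem_empty, if_false] at h
    rw [← hσi 0, σ.symm_apply_apply] at h
    rw [← hσi 0]
    exact h.symm
  have hv : ∀ (v : leechLattice) j, 8 * (g.1 v).1 j = a none * v.1 j := fun v j => by
    rw [eight_smul, Finset.sum_eq_single j (fun i _ hi => by rw [hdiag i j hi, mul_zero])
      (fun h => absurd (Finset.mem_univ j) h), ← hconst j]
    ring
  rcases ha none with e | e
  · left
    refine Subtype.ext (Equiv.ext fun v => Subtype.ext (funext fun j => ?_))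
    have := hv v j
    rw [e] at this
    show (g.1 v).1 j = v.1 j
    omega
  · right
    refine Subtype.ext (Equiv.ext fun v => Subtype.ext (funext fun j => ?_))
    have := hv v j
    rw [e] at this
    rw [negOne_apply]
    show (g.1 v).1 j = -(v.1 j)
    omega

theorem card_center : Nat.card (Subgroup.center Co0) = 2 := by
  rw [← SetLike.coe_sort_coe, Nat.card_coe_set_eq,
    show (Subgroup.center Co0 : Set Co0) = {1, negOne} from Set.ext fun g => ⟨center_eq g, by
      rintro (rfl | rfl)
      · exact one_mem _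
      · exact negOne_central⟩]
  exact Set.ncard_pair negOne_ne_one.symm

theorem projInv_mem : projInv ∈ M24 := by
  have h : presTab (tabOf projInv) = true := by decide +kernel
  have := permOf_mem_M24 (validTab_tabOf projInv) h
  rwa [permOf_tabOf] at this

theorem not_split (K : Subgroup Co0) : ¬ (Subgroup.zpowers negOne).IsComplement' K := by
  intro hK
  have hσ : ∀ i, projInv.symm (projInv.symm i) = i ∧
      (projInv.symm i ∈ DodStab.D ↔ i ∉ DodStab.D) := by decide +kernel
  set g := mono projInv_mem DodStab.D_mem.1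
  have hg2 : g * g = negOne := Subtype.ext (Equiv.ext fun v => Subtype.ext (funext fun i => by
    rw [negOne_apply]
    show (g.1 (g.1 v)).1 i = -(v.1 i)
    simp only [g, mono_apply, signedPerm, (hσ i).1, (hσ i).2]
    by_cases h : i ∈ DodStab.D <;> simp [h]))
  obtain ⟨⟨⟨h, hh⟩, ⟨k, hk⟩⟩, e⟩ := hK.2 g
  have e' : h * k = g := e
  have hc : h * k = k * h := by
    obtain ⟨n, rfl⟩ := hh
    exact (Commute.zpow_left (Subgroup.mem_center_iff.1 negOne_central k).symm n)
  have hh2 : h * h = 1 := by
    obtain ⟨n, rfl⟩ := hh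
    show negOne ^ n * negOne ^ n = 1
    rw [← (Commute.refl negOne).mul_zpow, negOne_sq, one_zpow]
  have hn : negOne ∈ K := by
    have : g * g = k * k := by
      rw [← e', ← mul_assoc, mul_assoc h k h, ← hc, ← mul_assoc, hh2, one_mul]
    rw [← hg2, this]
    exact mul_mem hk hk
  exact negOne_ne_one ((Subgroup.disjoint_def.1 hK.disjoint) (Subgroup.mem_zpowers _) hn)

theorem stab_mono (g : Co0) (hg : ∀ v : leechLattice, v.1 ∈ stdCross → (g.1 v).1 ∈ stdCross) :
    ∃ (σ : Equiv.Perm GolayPt) (hσ : σ ∈ M24) (c : Finset GolayPt)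
      (hc : c ∈ supports (golayCode : Set (GolayPt → ZMod 2))), g = mono hσ hc := by
  choose π s hs hπ using fun i => hg (eight i) ⟨i, 8, Or.inl rfl, rfl⟩
  have hinj : Function.Injective π := fun i j h => by
    by_contra hne
    have hcase : (g.1 (eight i)).1 = (g.1 (eight j)).1 ∨ (g.1 (eight i)).1 = -(g.1 (eight j)).1 := by
      rw [hπ i, hπ j, h]
      rcases hs i with e | e <;> rcases hs j with e' | e' <;> simp [e, e', ← Pi.single_neg]
    rcases hcase with e | e
    · have := congrFun (congrArg Subtype.val (g.1.injective (Subtype.ext e))) i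
      simp [eight, hne] at this
    · have e2 : g.1 (eight i) = g.1 (-eight j) := Subtype.ext (e.trans (congrArg Subtype.val (map_neg (hom g) _).symm))
      have := congrFun (congrArg Subtype.val (g.1.injective e2)) i
      simp [eight, hne] at this
  let σ : Equiv.Perm GolayPt := Equiv.ofBijective π (Finite.injective_iff_bijective.1 hinj)
  let c : Finset GolayPt := Finset.univ.filter fun j => s (σ.symm j) = -8
  have happ : ∀ v : leechLattice, (g.1 v).1 = flip c fun j => v.1 (σ.symm j) := fun v => funext fun j => by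
    have h := eight_smul g v j
    rw [Finset.sum_eq_single (σ.symm j) (fun i _ hi => ?_) (fun h => absurd (Finset.mem_univ _) h)] at h
    · have e : (g.1 (eight (σ.symm j))).1 j = s (σ.symm j) := by
        rw [hπ, show π (σ.symm j) = j from σ.apply_symm_apply j, Pi.single_eq_same]
      rw [e] at h
      by_cases hc : j ∈ c
      · have hsj : s (σ.symm j) = -8 := by simpa [c] using hc
        rw [hsj] at h
        simp only [flip, hc, if_true]
        omega
      · have hsj : s (σ.symm j) = 8 := (hs _).resolve_right (by simpa [c] using hc)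
        rw [hsj] at h
        simp only [flip, hc, if_false]
        omega
    · rw [hπ, Pi.single_eq_of_ne, mul_zero]
      exact fun e => hi (σ.injective (by rw [σ.apply_symm_apply]; exact e.symm))
  have hσM : σ ∈ M24 := mem_M24_iff.2 fun w hw => by
    have hx : (fun i => if w i = 0 then (0 : ℤ) else 2) ∈ leechLattice := by
      refine mem_lattice.2 ⟨0, Or.inl rfl, fun i => by split_ifs <;> rfl, ?_, ?_⟩
      · have := card_support_four (support_mem hw)
        have e : ∑ i, (if w i = 0 then (0 : ℤ) else 2) = 2 * ((support₂ w).card : ℤ) := by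
          rw [support₂, Finset.natCast_card_filter, Finset.mul_sum]
          exact Finset.sum_congr rfl fun i _ => by split_ifs <;> simp_all
        rw [e]
        omega
      · convert hw using 1
        funext i
        rcases (by decide : ∀ a : ZMod 2, a = 0 ∨ a = 1) (w i) with e | e <;> simp [half, e]
    obtain ⟨m, hm, h1, -, h4⟩ := mem_lattice.1 (g.1 ⟨_, hx⟩).2
    rw [happ, half_flip (m := 0) (Or.inl rfl) (fun i => by dsimp only; split_ifs <;> rfl) c] at h4
    simp only [Int.cast_zero, zero_smul, add_zero] at h4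
    convert h4 using 1
    funext i
    rcases (by decide : ∀ a : ZMod 2, a = 0 ∨ a = 1) (w (σ.symm i)) with e | e <;> simp [half, e]
  have hcC : c ∈ supports (golayCode : Set (GolayPt → ZMod 2)) := by
    obtain ⟨m, hm, h1, -, h4⟩ := mem_lattice.1 (g.1 ⟨oddVec, oddVec_mem⟩).2
    rw [happ, half_flip (m := 1) (Or.inr rfl)
      (fun i => (by decide : ∀ k, oddVec k % 2 = 1) (σ.symm i)) c] at h4
    have h0 : half (fun j => oddVec (σ.symm j)) = 0 :=
      funext fun j => congrFun (by decide : half oddVec = 0) (σ.symm j)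
    rw [h0, zero_add, Int.cast_one, one_smul] at h4
    exact ⟨_, h4, support_wordOf c⟩
  exact ⟨σ, hσM, c, hcC, Subtype.ext (Equiv.ext fun v => Subtype.ext (happ v))⟩

theorem mono_stab {σ : Equiv.Perm GolayPt} (hσ : σ ∈ M24) {c : Finset GolayPt}
    (hc : c ∈ supports (golayCode : Set (GolayPt → ZMod 2))) (v : leechLattice) (hv : v.1 ∈ stdCross) :
    ((mono hσ hc).1 v).1 ∈ stdCross := by
  obtain ⟨i, s, hs, e⟩ := hv
  refine ⟨σ i, if σ i ∈ c then -s else s, by split_ifs <;> omega, funext fun j => ?_⟩
  rw [mono_apply, e, signedPerm]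
  by_cases hj : j = σ i
  · subst hj; by_cases h : σ i ∈ c <;> simp [h]
  · have : σ.symm j ≠ i := fun h => hj (by rw [← h, σ.apply_symm_apply])
    simp [hj, this]

theorem mono_injective {σ τ : Equiv.Perm GolayPt} (hσ : σ ∈ M24) (hτ : τ ∈ M24) {c d : Finset GolayPt}
    (hc : c ∈ supports (golayCode : Set (GolayPt → ZMod 2)))
    (hd : d ∈ supports (golayCode : Set (GolayPt → ZMod 2))) (h : mono hσ hc = mono hτ hd) :
    σ = τ ∧ c = d := by
  have e : ∀ i j, signedPerm σ c (Pi.single i 8) j = signedPerm τ d (Pi.single i 8) j := fun i j => by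
    have := congrArg (fun k : Co0 => (k.1 (eight i)).1 j) h
    simpa [mono_apply, eight] using this
  have hst : σ = τ := Equiv.ext fun i => by
    have := e i (σ i)
    by_contra hne
    have hne' : τ.symm (σ i) ≠ i := fun h' => hne (by
      have := congrArg τ h'
      rwa [τ.apply_symm_apply] at this)
    by_cases h' : σ i ∈ c <;> simp [signedPerm, h', hne'] at this
  subst hst
  refine ⟨rfl, Finset.ext fun j => ?_⟩
  have := e (σ.symm j) j
  by_cases h1 : j ∈ c <;> by_cases h2 : j ∈ d <;> simp [signedPerm, h1, h2] at this ⊢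

theorem card_stab : Nat.card {g : Co0 // ∀ v : leechLattice, v.1 ∈ stdCross →
    ((g • v : leechLattice)).1 ∈ stdCross} = 4096 * 244823040 := by
  let f : M24 × supports (golayCode : Set (GolayPt → ZMod 2)) →
      {g : Co0 // ∀ v : leechLattice, v.1 ∈ stdCross → ((g • v : leechLattice)).1 ∈ stdCross} :=
    fun p => ⟨mono p.1.2 p.2.2, fun v hv => mono_stab p.1.2 p.2.2 v hv⟩
  have hf : Function.Bijective f := by
    constructor
    · rintro ⟨⟨σ, hσ⟩, ⟨c, hc⟩⟩ ⟨⟨τ, hτ⟩, ⟨d, hd⟩⟩ h
      obtain ⟨rfl, rfl⟩ := mono_injective hσ hτ hc hd (congrArg Subtype.val h)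
      rfl
    · rintro ⟨g, hg⟩
      obtain ⟨σ, hσ, c, hc, rfl⟩ := stab_mono g hg
      exact ⟨(⟨σ, hσ⟩, ⟨c, hc⟩), rfl⟩
  rw [← Nat.card_congr (Equiv.ofBijective f hf), Nat.card_prod, card_M24, supports, Nat.card_coe_set_eq,
    Set.ncard_image_of_injective _ support_injective, ← Nat.card_coe_set_eq, SetLike.coe_sort_coe,
    card_code, mul_comm]

end CfsgLib.Leech
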