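/-
The stabiliser of the standard cross.
-/
import Cfsg.Agent.Leech.Aut
import Cfsg.Agent.Leech.Congr

set_option autoImplicit false

namespace CfsgLib.Leech

open Cfsg CfsgLib.Golay

theorem eight_mem_cross (i : GolayPt) : (eight i).1 ∈ stdCross := ⟨i, 8, Or.inl rfl, rfl⟩

theorem cross_mem {x : GolayPt → ℤ} (h : x ∈ stdCross) : x ∈ leechLattice ∧ sqNorm x = 64 := by
  obtain ⟨i, s, hs, rfl⟩ := h
  refine ⟨?_, by rw [sqNorm_single]; rcases hs with rfl | rfl <;> norm_num⟩
  rcases hs with rfl | rfl
  · exact single_mem i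
  · rw [show (Pi.single i (-8) : GolayPt → ℤ) = -Pi.single i 8 from (Pi.single_neg (f := fun _ => ℤ) i 8)]
    exact neg_mem (single_mem i)

theorem fours_mem {i j : GolayPt} {a b : ℤ} (ha : a = 4 ∨ a = -4) (hb : b = 4 ∨ b = -4) :
    (Pi.single i a - Pi.single j b : GolayPt → ℤ) ∈ leechLattice := by
  refine mem_lattice.2 ⟨0, Or.inl rfl, fun k => ?_, ?_, ?_⟩
  · simp only [Pi.sub_apply, Pi.single_apply]
    split_ifs <;> omega
  · simp only [Pi.sub_apply, Finset.sum_sub_distrib, Finset.sum_pi_single', Finset.mem_univ, if_true]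
    omega
  · convert zero_mem golayCode
    funext k
    refine cast2_eq (b := 0) ?_ |>.trans Int.cast_zero
    simp only [Pi.sub_apply, Pi.single_apply]
    split_ifs <;> omega

theorem cross_congr {x y : GolayPt → ℤ} (hx : x ∈ stdCross) (hy : y ∈ stdCross) :
    ∃ z ∈ leechLattice, x - y = 2 • z := by
  obtain ⟨i, s, hs, rfl⟩ := hx
  obtain ⟨j, t, ht, rfl⟩ := hy
  refine ⟨_, fours_mem (i := i) (j := j) (a := s / 2) (b := t / 2) (by omega) (by omega), funext fun k => ?_⟩
  simp only [Pi.sub_apply, Pi.single_apply, Pi.smul_apply, nsmul_eq_mul, Nat.cast_ofNat]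
  split_ifs <;> omega

/-- The stabiliser of the standard cross. -/
def crossStab : Subgroup Co0 where
  carrier := {g | ∀ v : leechLattice, v.1 ∈ stdCross → (g • v).1 ∈ stdCross}
  one_mem' := fun v hv => hv
  mul_mem' := fun {a b} ha hb v hv => ha _ (hb v hv)
  inv_mem' := fun {g} hg v hv => by
    have hfin : {w : leechLattice | w.1 ∈ stdCross}.Finite := by
      refine Set.Finite.subset (Set.finite_range fun p : GolayPt × Bool =>
        if p.2 then eight p.1 else -eight p.1) fun w hw => ?_
      obtain ⟨i, s, hs, e⟩ := hw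
      rcases hs with rfl | rfl
      · exact ⟨(i, true), Subtype.ext e.symm⟩
      · exact ⟨(i, false), Subtype.ext (by rw [e, Pi.single_neg (f := fun _ => ℤ)]; rfl)⟩
    haveI := hfin.to_subtype
    let f : {w : leechLattice | w.1 ∈ stdCross} → {w : leechLattice | w.1 ∈ stdCross} :=
      fun w => ⟨g • w.1, hg w.1 w.2⟩
    have hinj : Function.Injective f := fun a b h => Subtype.ext (MulAction.injective g (congrArg Subtype.val h))
    obtain ⟨w, hw⟩ := (Finite.injective_iff_surjective.1 hinj) ⟨v, hv⟩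
    have e : g • w.1 = v := congrArg Subtype.val hw
    rw [← e, inv_smul_smul]
    exact w.2

theorem mem_crossStab {g : Co0} : g ∈ crossStab ↔
    ∀ v : leechLattice, v.1 ∈ stdCross → (g • v).1 ∈ stdCross := Iff.rfl

theorem mono_mem_crossStab {σ : Equiv.Perm GolayPt} (hσ : σ ∈ M24) {c : Finset GolayPt}
    (hc : c ∈ supports (golayCode : Set (GolayPt → ZMod 2))) : mono hσ hc ∈ crossStab :=
  fun v hv => mono_stab hσ hc v hv

theorem mem_crossStab_of_eight {g : Co0} {i : GolayPt} (h : (g • eight i).1 ∈ stdCross) : g ∈ crossStab := by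
  intro v hv
  obtain ⟨z, hz, e⟩ := cross_congr hv (eight_mem_cross i)
  have e' : g • v = g • eight i + 2 • g • (⟨z, hz⟩ : leechLattice) := by
    have hv' : v = eight i + 2 • (⟨z, hz⟩ : leechLattice) := Subtype.ext (by
      simp only [AddSubgroup.coe_add, AddSubgroup.coe_nsmul]
      rw [← e]; abel)
    conv_lhs => rw [hv']
    exact (map_add (hom g) _ _).trans (congrArg _ (map_nsmul (hom g) _ _))
  have hn : sqNorm (g • v).1 = 64 := (g.2.2 v).trans (cross_mem hv).2
  by_contra hc
  have horth : ∀ y ∈ stdCross, dotInt (g • v).1 y = 0 := fun y hy => by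
    obtain ⟨z', hz', e2⟩ := cross_congr h hy
    rcases congr_short (cross_mem hy).1 (z := (g • (⟨z, hz⟩ : leechLattice)).1 + z')
      (add_mem (g • (⟨z, hz⟩ : leechLattice)).2 hz')
      (by rw [e', smul_add, ← e2]; simp only [AddSubgroup.coe_add, AddSubgroup.coe_nsmul]; abel)
      hn.le (cross_mem hy).2.le with r | r | r
    · exact absurd (r ▸ hy) hc
    · obtain ⟨j, s, hs, ey⟩ := hy
      exact absurd ⟨j, -s, by omega, by rw [r, ey, Pi.single_neg (f := fun _ => ℤ)]⟩ hc
    · exact r.2.2
  have h0 : (g • v).1 = 0 := funext fun j => by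
    have := horth _ (eight_mem_cross j)
    simp only [dotInt, eight] at this
    rw [Finset.sum_eq_single j (fun k _ hk => by simp [hk]) (fun hk => absurd (Finset.mem_univ j) hk),
      Pi.single_eq_same] at this
    simp only [Pi.zero_apply]
    omega
  rw [h0] at hn
  simp [sqNorm] at hn

end CfsgLib.Leech
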