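/-
The lattice is generated by its minimal vectors.
-/
import Cfsg.Agent.Leech.Index

set_option autoImplicit false

namespace CfsgLib.Leech

open Cfsg CfsgLib.Golay

/-- The subgroup generated by the minimal vectors. -/
def minGen : AddSubgroup (GolayPt → ℤ) :=
  AddSubgroup.closure {x : GolayPt → ℤ | x ∈ leechLattice ∧ sqNorm x = 32}

theorem minGen_le : minGen ≤ leechLattice := (AddSubgroup.closure_le _).2 fun _ h => h.1

/-- Twice the indicator of a set. -/
def two (s : Finset GolayPt) : GolayPt → ℤ := fun i => if i ∈ s then 2 else 0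

theorem half_two (s : Finset GolayPt) : half (two s) = wordOf s := funext fun i => by
  by_cases h : i ∈ s <;> simp [half, two, wordOf, h]

theorem two_mem {s : Finset GolayPt} (hs : s ∈ supports (golayCode : Set (GolayPt → ZMod 2))) :
    two s ∈ leechLattice := by
  refine mem_lattice.2 ⟨0, Or.inl rfl, fun i => ?_, ?_, by rw [half_two]; exact code_wordOf hs⟩
  · by_cases h : i ∈ s <;> simp [two, h]
  · have := card_support_four hs
    simp only [two, Fintype.sum_ite_mem, Finset.sum_const, nsmul_eq_mul]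
    omega

theorem sqNorm_two (s : Finset GolayPt) : sqNorm (two s) = 4 * s.card := by
  have e : ∀ i, two s i ^ 2 = if i ∈ s then 4 else 0 := fun i => by by_cases h : i ∈ s <;> simp [two, h]
  simp only [sqNorm, e, Fintype.sum_ite_mem, Finset.sum_const, nsmul_eq_mul]
  ring

/-- Four at one place and `±4` at another. -/
theorem pair_mem {i j : GolayPt} (h : i ≠ j) {a : ℤ} (ha : a = 4 ∨ a = -4) :
    Pi.single i 4 + Pi.single j a ∈ minGen := by
  have hv : ∀ k, (Pi.single i 4 + Pi.single j a : GolayPt → ℤ) k = 4 ∧ k = i ∨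
      (Pi.single i 4 + Pi.single j a : GolayPt → ℤ) k = a ∧ k = j ∨
      (Pi.single i 4 + Pi.single j a : GolayPt → ℤ) k = 0 := fun k => by
    rcases eq_or_ne k i with rfl | hi
    · left; simp [h]
    · rcases eq_or_ne k j with rfl | hj
      · right; left; simp [hi]
      · right; right; simp [hi, hj]
  refine AddSubgroup.subset_closure ⟨mem_lattice.2 ⟨0, Or.inl rfl, fun k => ?_, ?_, ?_⟩, ?_⟩
  · rcases hv k with ⟨e, -⟩ | ⟨e, -⟩ | e <;> rw [e] <;> omega
  · simp only [Pi.add_apply, Finset.sum_add_distrib, Finset.sum_pi_single', Finset.mem_univ, if_true]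
    omega
  · convert zero_mem golayCode
    funext k
    show ((_ / 2 : ℤ) : ZMod 2) = ((0 : ℤ) : ZMod 2)
    refine cast2_eq ?_
    rcases hv k with ⟨e, -⟩ | ⟨e, -⟩ | e <;> rw [e] <;> omega
  · have e : ∀ k, (Pi.single i 4 + Pi.single j a : GolayPt → ℤ) k ^ 2 =
        (Pi.single (M := fun _ => ℤ) i 16 + Pi.single j 16 : GolayPt → ℤ) k := fun k => by
      rcases eq_or_ne k i with rfl | hi
      · simp [h]
      · rcases eq_or_ne k j with rfl | hj
        · rcases ha with rfl | rfl <;> simp [hi]
        · simp [hi, hj]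
    simp only [sqNorm, e]
    simp [Finset.sum_add_distrib]

/-- A subgroup containing the standard generating vectors. -/
structure HasGens (H : AddSubgroup (GolayPt → ℤ)) : Prop where
  pairs : ∀ a : ℤ, a = 4 ∨ a = -4 → (Pi.single none 4 + Pi.single (some 0) a : GolayPt → ℤ) ∈ H
  diffs : ∀ j : GolayPt, j ≠ none → (Pi.single j 4 + Pi.single none (-4) : GolayPt → ℤ) ∈ H
  octs : ∀ a ∈ basis, two (toSet a.2) ∈ H
  odd : oddVec ∈ H

variable {H : AddSubgroup (GolayPt → ℤ)}

theorem four_mul_mem (hH : HasGens H) (z : GolayPt → ℤ) (hz : 2 ∣ ∑ i, z i) : (fun i => 4 * z i) ∈ H := by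
  obtain ⟨q, hq⟩ := hz
  have h8 : (Pi.single none 8 : GolayPt → ℤ) ∈ H := by
    have e : (Pi.single none 8 : GolayPt → ℤ) =
        (Pi.single none 4 + Pi.single (some 0) 4) + (Pi.single none 4 + Pi.single (some 0) (-4)) := by
      funext k
      rcases eq_or_ne k none with rfl | hi
      · simp
      · rcases eq_or_ne k (some 0) with rfl | hj <;> simp [*]
    rw [e]
    exact add_mem (hH.pairs 4 (Or.inl rfl)) (hH.pairs (-4) (Or.inr rfl))
  have hd : ∀ j : GolayPt, (Pi.single j 4 - Pi.single none 4 : GolayPt → ℤ) ∈ H := fun j => by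
    rcases eq_or_ne j none with rfl | hj
    · rw [sub_self]; exact zero_mem _
    · have := hH.diffs j hj
      rwa [Pi.single_neg, ← sub_eq_add_neg] at this
  have e : (fun i => 4 * z i) =
      ∑ j, z j • (Pi.single j 4 - Pi.single none 4 : GolayPt → ℤ) + q • (Pi.single none 8 : GolayPt → ℤ) := by
    funext i
    simp only [Pi.add_apply, Finset.sum_apply, Pi.smul_apply, Pi.sub_apply, smul_eq_mul, mul_sub,
      Finset.sum_sub_distrib]
    rw [← Finset.sum_mul, hq, Finset.sum_eq_single i (fun j _ hj => by simp [hj.symm])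
      (fun h => absurd (Finset.mem_univ i) h)]
    rcases eq_or_ne i none with rfl | hi <;> simp [*] <;> ring
  rw [e]
  exact add_mem (sum_mem fun j _ => zsmul_mem (hd j) _) (zsmul_mem h8 q)

theorem half_add_even {x y : GolayPt → ℤ} (hx : ∀ i, x i % 2 = 0) (hy : ∀ i, y i % 2 = 0) :
    half (x + y) = half x + half y := funext fun i => by
  simp only [half, Pi.add_apply, ← Int.cast_add]
  refine cast2_eq ?_
  have := hx i; have := hy i
  omega

theorem exists_minGen (hH : HasGens H) {w : GolayPt → ZMod 2} (hw : w ∈ golayCode) :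
    ∃ k ∈ H, k ∈ leechLattice ∧ (∀ i, k i % 2 = 0) ∧ half k = w := by
  have hl : ∀ l : List (ℕ × ℕ), (∀ a ∈ l, a.2 < 2 ^ 24 ∧ toSet a.2 ∈ octads ∧ two (toSet a.2) ∈ H) →
      ∀ m ∈ allSums l, ∃ k ∈ H, k ∈ leechLattice ∧ (∀ i, k i % 2 = 0) ∧ wmask (half k) = m := by
    intro l
    induction l with
    | nil =>
      intro _ m hm
      refine ⟨0, zero_mem _, zero_mem _, fun i => rfl, ?_⟩
      rw [show half 0 = 0 from funext fun i => by simp [half], wmask_zero]
      simp [allSums] at hm
      exact hm.symm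
    | cons a r ih =>
      intro hl m hm
      obtain ⟨p, b⟩ := a
      have ih' := ih fun a ha => hl a (List.mem_cons_of_mem _ ha)
      simp only [allSums, List.mem_append, List.mem_map] at hm
      rcases hm with hm | ⟨x, hx, rfl⟩
      · exact ih' m hm
      · obtain ⟨k, hk, hkL, hk2, hk3⟩ := ih' x hx
        obtain ⟨hb, ho, ht⟩ := hl (p, b) List.mem_cons_self
        have ht2 : ∀ i, two (toSet b) i % 2 = 0 := fun i => by by_cases h : i ∈ toSet b <;> simp [two, h]
        refine ⟨two (toSet b) + k, add_mem ht hk, add_mem (two_mem ho.1) hkL, fun i => ?_, ?_⟩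
        · have := hk2 i; have := ht2 i
          simp only [Pi.add_apply]; omega
        · rw [half_add_even ht2 hk2, wmask_add, hk3, half_two, wmask_wordOf hb]
  have hb : basis.all (fun a => Nat.blt a.2 16777216 && inCode a.2 && Nat.beq (popc a.2) 8) = true := by
    decide +kernel
  obtain ⟨k, hk, hkL, hk2, hk3⟩ := hl basis (fun a ha => by
    have h := List.all_eq_true.1 hb a ha
    simp only [Bool.and_eq_true, Nat.blt_eq, Nat.beq_eq] at h
    refine ⟨h.1.1, ⟨mem_supports_iff.2 ?_, ?_⟩, hH.octs a ha⟩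
    · rw [mask_toSet h.1.1]; exact h.1.2
    · rw [card_toSet h.1.1]; exact h.2) _ (mem_code_iff_list.1 hw)
  exact ⟨k, hk, hkL, hk2, wmask_injective hk3⟩

theorem even_mem (hH : HasGens H) {x : GolayPt → ℤ} (hx : x ∈ leechLattice) (h2 : ∀ i, x i % 2 = 0) : x ∈ H := by
  obtain ⟨m, hm, h1, h3, h4⟩ := mem_lattice.1 hx
  obtain rfl : m = 0 := (h1 none).symm.trans (h2 none)
  obtain ⟨k, hk, hkL, hk2, hk3⟩ := exists_minGen hH h4
  obtain ⟨n, hn, g1, g3, -⟩ := mem_lattice.1 (hkL)
  obtain rfl : n = 0 := (g1 none).symm.trans (hk2 none)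
  have h4' : ∀ i, x i - k i = 4 * ((x i - k i) / 4) := fun i => by
    have e : ((x i / 2 : ℤ) : ZMod 2) = ((k i / 2 : ℤ) : ZMod 2) := (congrFun hk3 i).symm
    rw [ZMod.intCast_eq_intCast_iff'] at e
    have := h2 i; have := hk2 i
    omega
  have hs : ∑ i, x i - ∑ i, k i = 4 * ∑ i, (x i - k i) / 4 := by
    rw [← Finset.sum_sub_distrib, Finset.mul_sum]
    exact Finset.sum_congr rfl fun i _ => h4' i
  have := add_mem hk (four_mul_mem hH (fun i => (x i - k i) / 4) (by omega))
  convert this using 1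
  funext i
  have := h4' i
  simp only [Pi.add_apply]
  omega

theorem sqNorm_oddVec : sqNorm oddVec = 32 := by decide +kernel

theorem le_of_gens (hH : HasGens H) : leechLattice ≤ H := by
  intro x hx
  obtain ⟨m, hm, h1, -, -⟩ := mem_lattice.1 hx
  rcases hm with rfl | rfl
  · exact even_mem hH hx h1
  · have h : x - oddVec ∈ H := even_mem hH (sub_mem hx oddVec_mem) fun i => by
      have := h1 i
      have : oddVec i % 2 = 1 := (by decide : ∀ k, oddVec k % 2 = 1) i
      simp only [Pi.sub_apply]; omega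
    simpa using add_mem h hH.odd

theorem hasGens_minGen : HasGens minGen where
  pairs a ha := pair_mem (by simp) ha
  diffs j hj := pair_mem hj (Or.inr rfl)
  octs a ha := by
    have h := List.all_eq_true.1 (by decide +kernel :
      basis.all (fun a => Nat.blt a.2 16777216 && inCode a.2 && Nat.beq (popc a.2) 8) = true) a ha
    simp only [Bool.and_eq_true, Nat.blt_eq, Nat.beq_eq] at h
    refine AddSubgroup.subset_closure ⟨two_mem (mem_supports_iff.2 ?_), ?_⟩
    · rw [mask_toSet h.1.1]; exact h.1.2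
    · rw [sqNorm_two, card_toSet h.1.1, h.2]; rfl
  odd := AddSubgroup.subset_closure ⟨oddVec_mem, sqNorm_oddVec⟩

theorem closure_min : minGen = leechLattice := le_antisymm minGen_le (le_of_gens hasGens_minGen)

end CfsgLib.Leech
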