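/-
Data: the six blocks, representatives of short vectors, and words carrying them to the standard ones.
-/
import Mathlib.Init

set_option autoImplicit false

namespace CfsgLib.Leech

/-- Block number of each index. -/
def blockTab : List Nat := [0, 0, 0, 0, 4, 2, 5, 4, 3, 5, 4, 5, 4, 1, 2, 3, 3, 2, 1, 3, 1, 1, 5, 2]

/-- A representative. -/
def repPair : List Int := [4, 0, 0, 0, 0, 0, 0, 0, 0, 0, 0, 0, 0, 0, 0, 0, 0, 0, 0, 0, 0, 0, 0, 4]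

/-- A representative. -/
def repOct : List Int := [2, 0, 2, 0, 2, 2, 2, 0, 0, 0, 2, 2, 0, 0, 0, 0, 0, 0, 0, 0, 0, 0, 0, 2]

/-- A representative. -/
def repM3 : List Int := [1, 1, 1, 1, 1, 1, 1, 1, 1, 1, 1, 1, 1, 1, 1, 1, 1, 1, 1, 1, 1, 1, 1, -3]

/-- A representative. -/
def repDod : List Int := [2, 2, 2, 2, 2, 0, 2, 0, 2, 2, 0, 0, 2, 2, 0, 0, 2, 0, 2, 0, 0, 0, 0, 0]

/-- A representative. -/
def repO4 : List Int := [-2, 4, 2, 0, 2, 2, 2, 0, 0, 0, 2, 2, 0, 0, 0, 0, 0, 0, 0, 0, 0, 0, 0, 2]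

/-- A representative. -/
def repThree : List Int := [-3, -3, 1, 1, 1, 1, 1, 1, 1, 1, 1, 1, 1, 1, 1, 1, 1, 1, 1, 1, 1, 1, 1, -3]

/-- A representative. -/
def repFive : List Int := [1, 1, 1, 1, 1, 1, 1, 1, 1, 1, 1, 1, 1, 1, 1, 1, 1, 1, 1, 1, 1, 1, 1, 5]

/-- A representative. -/
def repCross : List Int := [0, 0, 0, 0, 0, 0, 0, 0, 0, 0, 0, 0, 0, 0, 0, 0, 0, 0, 0, 0, 0, 0, 0, 8]

/-- A representative. -/
def repQuad : List Int := [4, 4, 4, 0, 0, 0, 0, 0, 0, 0, 0, 0, 0, 0, 0, 0, 0, 0, 0, 0, 0, 0, 0, 4]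

/-- A representative. -/
def repSix : List Int := [-2, 0, 2, 0, 2, 2, 2, 0, 0, 0, 2, 2, 0, 0, 0, 0, 0, 0, 0, 0, 0, 0, 0, 6]

/-- A representative. -/
def repO44 : List Int := [2, 4, 2, 4, 2, 2, 2, 0, 0, 0, 2, 2, 0, 0, 0, 0, 0, 0, 0, 0, 0, 0, 0, 2]

/-- A representative. -/
def repD4 : List Int := [-2, 2, 2, 2, 2, 0, 2, 0, 2, 2, 0, 0, 2, 2, 0, 0, 2, 0, 2, 0, 0, 0, 0, 4]

/-- A representative. -/
def repFive33 : List Int := [-3, -3, 1, 1, 1, 1, 1, 1, 1, 1, 1, 1, 1, 1, 1, 1, 1, 1, 1, 1, 1, 1, 1, 5]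

/-- A representative. -/
def repT5 : List Int := [-3, -3, -3, -3, 1, 1, 1, 1, 1, 1, 1, 1, 1, 1, 1, 1, 1, 1, 1, 1, 1, 1, 1, -3]

/-- A representative. -/
def repSixteen : List Int := [0, 2, 0, 2, 0, 0, 0, 2, 2, 2, 0, 0, 2, 2, 2, 2, 2, 2, 2, 2, 2, 2, 2, 0]

/-- Word for the representative. -/
def wordPair : List (List Nat × Nat × Bool) := [
  ([0, 1, 2, 3, 4, 5, 6, 7, 8, 9, 10, 11, 12, 13, 14, 15, 16, 17, 18, 19, 20, 21, 22, 23], 0, false)]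

/-- Word for the representative. -/
def wordOct : List (List Nat × Nat × Bool) := [
  ([10, 4, 0, 2, 16, 7, 13, 20, 6, 18, 21, 15, 19, 9, 12, 23, 11, 3, 22, 5, 14, 17, 8, 1], 12917851, true),
  ([16, 21, 17, 13, 14, 1, 11, 12, 0, 15, 8, 22, 7, 6, 5, 9, 4, 19, 3, 18, 10, 20, 23, 2], 13062145, false)]

/-- Word for the representative. -/
def wordM3 : List (List Nat × Nat × Bool) := [
  ([11, 9, 2, 19, 10, 0, 20, 15, 6, 21, 3, 8, 4, 12, 16, 13, 5, 23, 18, 7, 14, 22, 1, 17], 12849992, true),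
  ([5, 17, 14, 11, 12, 10, 9, 18, 13, 23, 8, 22, 3, 20, 0, 15, 1, 21, 4, 7, 19, 2, 6, 16], 1474854, true),
  ([12, 6, 21, 5, 19, 7, 4, 22, 3, 11, 9, 17, 1, 14, 10, 15, 20, 16, 8, 18, 23, 0, 13, 2], 0, false)]

/-- Word for the representative. -/
def wordDod : List (List Nat × Nat × Bool) := [
  ([0, 1, 2, 3, 4, 5, 6, 7, 8, 9, 10, 11, 12, 13, 14, 15, 16, 17, 18, 19, 20, 21, 22, 23], 0, false)]

/-- Word for the representative. -/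
def wordO4 : List (List Nat × Nat × Bool) := [
  ([10, 9, 0, 18, 16, 8, 7, 19, 20, 11, 14, 2, 15, 22, 17, 3, 6, 5, 1, 4, 12, 13, 21, 23], 2774135, true),
  ([18, 22, 2, 21, 23, 3, 20, 1, 13, 19, 9, 5, 17, 6, 15, 14, 16, 8, 0, 10, 12, 4, 7, 11], 4208622, false)]

/-- Word for the representative. -/
def wordThree : List (List Nat × Nat × Bool) := [
  ([0, 5, 12, 21, 2, 16, 15, 19, 6, 4, 11, 10, 3, 7, 13, 14, 23, 20, 17, 8, 1, 18, 9, 22], 15738840, true),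
  ([19, 2, 13, 20, 16, 10, 0, 3, 12, 23, 22, 8, 11, 1, 18, 14, 21, 9, 15, 6, 7, 4, 5, 17], 6546070, false)]

/-- Word for the representative. -/
def wordFive : List (List Nat × Nat × Bool) := [
  ([7, 4, 6, 21, 11, 1, 5, 20, 8, 18, 3, 23, 2, 22, 14, 17, 10, 15, 13, 0, 16, 19, 9, 12], 12131583, true),
  ([9, 8, 6, 20, 18, 16, 2, 14, 11, 13, 19, 3, 5, 1, 4, 23, 0, 12, 10, 7, 17, 22, 15, 21], 10589527, true),
  ([15, 1, 11, 19, 4, 7, 20, 8, 5, 16, 14, 10, 18, 21, 9, 23, 2, 12, 3, 22, 6, 13, 17, 0], 16196511, false)]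

/-- Word for the representative. -/
def wordCross : List (List Nat × Nat × Bool) := [
  ([0, 1, 2, 3, 4, 5, 6, 7, 8, 9, 10, 11, 12, 13, 14, 15, 16, 17, 18, 19, 20, 21, 22, 23], 0, false)]

/-- Word for the representative. -/
def wordQuad : List (List Nat × Nat × Bool) := [
  ([9, 10, 20, 15, 3, 1, 6, 5, 4, 7, 14, 21, 17, 8, 0, 22, 16, 2, 11, 13, 18, 12, 19, 23], 13845191, true),
  ([23, 1, 17, 10, 3, 6, 8, 12, 11, 19, 20, 4, 18, 14, 15, 7, 0, 21, 16, 22, 9, 13, 2, 5], 0, false)]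

/-- Word for the representative. -/
def wordSix : List (List Nat × Nat × Bool) := [
  ([4, 0, 2, 23, 18, 19, 8, 17, 10, 9, 20, 3, 7, 22, 15, 11, 6, 14, 1, 5, 13, 16, 21, 12], 11864663, true),
  ([11, 18, 14, 4, 9, 7, 20, 10, 0, 6, 5, 12, 13, 8, 17, 2, 16, 22, 15, 3, 1, 19, 23, 21], 3525895, true),
  ([1, 12, 19, 15, 9, 22, 2, 11, 23, 21, 7, 10, 0, 17, 13, 20, 8, 14, 5, 6, 3, 4, 18, 16], 0, false)]

/-- Word for the representative. -/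
def wordO44 : List (List Nat × Nat × Bool) := [
  ([4, 23, 10, 5, 15, 17, 13, 20, 1, 16, 19, 21, 18, 6, 12, 22, 9, 7, 0, 3, 11, 2, 8, 14], 10986402, true),
  ([8, 20, 19, 1, 10, 6, 9, 7, 3, 11, 0, 2, 18, 5, 23, 14, 17, 15, 4, 13, 16, 22, 21, 12], 12430709, true),
  ([23, 1, 13, 17, 19, 11, 21, 15, 22, 7, 18, 4, 0, 9, 20, 5, 12, 6, 16, 8, 10, 14, 3, 2], 0, false)]

/-- Word for the representative. -/
def wordD4 : List (List Nat × Nat × Bool) := [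
  ([22, 13, 3, 14, 12, 21, 4, 2, 1, 17, 8, 5, 0, 10, 20, 11, 23, 15, 19, 18, 6, 9, 16, 7], 11411212, true),
  ([11, 1, 8, 9, 18, 17, 20, 5, 16, 21, 22, 19, 7, 12, 3, 4, 0, 15, 13, 10, 6, 14, 2, 23], 14023156, true),
  ([2, 16, 15, 11, 1, 4, 19, 9, 3, 14, 13, 7, 18, 22, 8, 17, 6, 23, 10, 5, 0, 12, 21, 20], 3635161, true),
  ([23, 2, 14, 18, 20, 12, 22, 16, 0, 8, 19, 5, 1, 10, 21, 6, 13, 7, 17, 9, 11, 15, 4, 3], 0, false)]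

/-- Word for the representative. -/
def wordFive33 : List (List Nat × Nat × Bool) := [
  ([4, 1, 2, 23, 7, 3, 17, 11, 22, 10, 14, 8, 9, 20, 6, 16, 13, 18, 12, 0, 5, 21, 19, 15], 5966731, true),
  ([4, 18, 9, 11, 17, 7, 21, 8, 13, 1, 2, 12, 6, 23, 16, 5, 14, 20, 15, 10, 0, 22, 3, 19], 16072121, true),
  ([0, 16, 18, 9, 19, 21, 5, 14, 3, 11, 10, 6, 15, 2, 17, 23, 7, 4, 22, 1, 20, 8, 12, 13], 6134150, true),
  ([0, 22, 7, 4, 6, 2, 12, 3, 1, 13, 14, 17, 23, 5, 8, 9, 21, 19, 10, 20, 16, 18, 15, 11], 13062145, false)]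

/-- Word for the representative. -/
def wordT5 : List (List Nat × Nat × Bool) := [
  ([2, 15, 19, 10, 18, 22, 5, 12, 13, 17, 21, 7, 1, 11, 14, 23, 6, 8, 4, 16, 3, 9, 0, 20], 5409412, true),
  ([18, 12, 16, 8, 23, 3, 6, 20, 1, 15, 5, 14, 7, 4, 21, 17, 9, 0, 11, 19, 13, 22, 2, 10], 6644740, true),
  ([10, 11, 19, 8, 1, 21, 18, 22, 9, 5, 12, 2, 3, 20, 23, 14, 17, 0, 4, 7, 6, 13, 16, 15], 2015069, true),
  ([23, 18, 9, 11, 22, 19, 20, 15, 14, 5, 4, 2, 0, 12, 10, 21, 8, 1, 13, 16, 7, 17, 3, 6], 13062145, false)]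

/-- Sign classes on sixteen points. -/
def sixteenCls : List Nat := [0, 10, 130, 136, 258, 264, 384, 394, 514, 520, 640, 650, 768, 778, 898, 904]

/-- Words for the sign classes. -/
def sixteenWords : List (List (List Nat × Nat × Bool)) := [
[
  ([17, 16, 8, 12, 1, 11, 3, 18, 5, 22, 9, 15, 19, 21, 10, 4, 0, 6, 14, 2, 7, 13, 20, 23], 14227928, true),
  ([23, 16, 8, 19, 13, 10, 6, 7, 22, 4, 1, 0, 11, 17, 20, 12, 2, 9, 5, 21, 14, 15, 18, 3], 14047398, true),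
  ([0, 23, 20, 7, 17, 13, 16, 4, 8, 22, 2, 15, 18, 10, 1, 11, 6, 12, 3, 9, 21, 5, 19, 14], 0, false)],
[
  ([11, 2, 23, 10, 22, 3, 7, 8, 18, 12, 9, 19, 13, 0, 16, 15, 14, 1, 4, 17, 6, 5, 20, 21], 14433816, true),
  ([1, 22, 20, 11, 13, 16, 10, 15, 19, 18, 8, 2, 0, 3, 23, 14, 6, 9, 17, 7, 21, 5, 4, 12], 13460675, true),
  ([0, 11, 18, 14, 8, 21, 1, 10, 23, 20, 6, 9, 22, 16, 12, 19, 7, 13, 4, 5, 2, 3, 17, 15], 0, false)],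
[
  ([3, 7, 12, 1, 14, 2, 13, 9, 19, 18, 22, 8, 17, 5, 4, 20, 16, 10, 23, 21, 11, 6, 15, 0], 3319453, true),
  ([14, 21, 19, 8, 15, 23, 1, 9, 0, 6, 3, 10, 12, 11, 20, 17, 2, 4, 22, 18, 5, 13, 16, 7], 4934364, true),
  ([23, 6, 7, 15, 1, 12, 8, 22, 14, 3, 9, 21, 13, 4, 18, 2, 20, 0, 11, 5, 17, 19, 16, 10], 13062145, false)],
[
  ([13, 15, 18, 8, 19, 22, 23, 21, 0, 11, 16, 5, 20, 12, 17, 2, 4, 14, 7, 10, 1, 3, 6, 9], 2408162, true),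
  ([3, 11, 2, 8, 19, 1, 10, 14, 9, 17, 6, 20, 23, 21, 4, 16, 12, 13, 18, 7, 15, 22, 0, 5], 6795527, true),
  ([0, 1, 2, 3, 4, 5, 6, 7, 8, 9, 10, 11, 12, 13, 14, 15, 16, 17, 18, 19, 20, 21, 22, 23], 13062145, false)],
[
  ([0, 23, 5, 4, 22, 10, 8, 19, 3, 15, 21, 1, 17, 9, 11, 18, 12, 6, 14, 13, 16, 20, 7, 2], 12283140, true),
  ([5, 22, 9, 2, 1, 15, 11, 14, 8, 16, 20, 4, 13, 12, 18, 3, 19, 10, 0, 17, 7, 23, 21, 6], 427666, true),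
  ([0, 1, 2, 3, 4, 5, 6, 7, 8, 9, 10, 11, 12, 13, 14, 15, 16, 17, 18, 19, 20, 21, 22, 23], 13062145, false)],
[
  ([1, 19, 14, 13, 3, 5, 7, 17, 15, 9, 20, 18, 8, 2, 23, 12, 22, 6, 11, 16, 10, 0, 21, 4], 14493076, true),
  ([6, 14, 11, 13, 19, 23, 1, 17, 20, 8, 18, 9, 16, 15, 7, 0, 5, 21, 2, 3, 22, 4, 12, 10], 14537488, true),
  ([23, 0, 8, 13, 4, 7, 10, 17, 20, 1, 11, 3, 14, 16, 22, 2, 19, 21, 15, 5, 12, 9, 6, 18], 13062145, false)],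
[
  ([18, 12, 3, 13, 21, 6, 16, 22, 0, 20, 19, 9, 17, 7, 10, 4, 23, 11, 15, 5, 8, 1, 14, 2], 3999224, true),
  ([10, 8, 14, 7, 11, 18, 3, 17, 13, 6, 19, 20, 9, 2, 15, 1, 4, 5, 0, 22, 16, 23, 12, 21], 13072703, true),
  ([23, 18, 9, 11, 22, 19, 20, 15, 14, 5, 4, 2, 0, 12, 10, 21, 8, 1, 13, 16, 7, 17, 3, 6], 0, false)],
[
  ([1, 18, 17, 16, 11, 6, 8, 4, 13, 12, 5, 19, 23, 14, 10, 7, 20, 2, 15, 22, 21, 3, 9, 0], 6353827, true),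
  ([11, 1, 13, 8, 0, 14, 3, 15, 16, 2, 20, 5, 22, 18, 12, 23, 7, 9, 10, 19, 17, 21, 4, 6], 7048849, true),
  ([23, 0, 12, 16, 18, 10, 20, 14, 21, 6, 17, 3, 22, 8, 19, 4, 11, 5, 15, 7, 9, 13, 2, 1], 13062145, false)],
[
  ([3, 21, 13, 22, 1, 4, 2, 9, 18, 23, 8, 5, 16, 15, 0, 12, 19, 10, 7, 17, 20, 14, 6, 11], 427666, true),
  ([19, 21, 2, 12, 11, 18, 8, 3, 20, 23, 5, 16, 0, 17, 1, 14, 6, 15, 4, 13, 9, 7, 22, 10], 1480121, true),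
  ([0, 1, 2, 3, 4, 5, 6, 7, 8, 9, 10, 11, 12, 13, 14, 15, 16, 17, 18, 19, 20, 21, 22, 23], 13062145, false)],
[
  ([0, 6, 2, 11, 8, 12, 3, 21, 5, 9, 13, 22, 16, 20, 7, 23, 4, 17, 19, 10, 18, 15, 1, 14], 12790446, true),
  ([23, 5, 8, 3, 15, 22, 17, 10, 14, 20, 2, 6, 12, 1, 16, 13, 7, 11, 21, 9, 19, 18, 4, 0], 4420775, true),
  ([0, 11, 18, 14, 8, 21, 1, 10, 23, 20, 6, 9, 22, 16, 12, 19, 7, 13, 4, 5, 2, 3, 17, 15], 13062145, false)],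
[
  ([23, 4, 5, 6, 12, 1, 9, 16, 8, 21, 15, 18, 22, 10, 19, 3, 17, 13, 2, 20, 11, 0, 7, 14], 7851505, true),
  ([17, 14, 21, 1, 12, 4, 2, 11, 15, 20, 19, 7, 23, 6, 5, 16, 18, 8, 0, 3, 22, 13, 10, 9], 10697494, true),
  ([23, 6, 7, 15, 1, 12, 8, 22, 14, 3, 9, 21, 13, 4, 18, 2, 20, 0, 11, 5, 17, 19, 16, 10], 0, false)],
[
  ([0, 6, 11, 5, 20, 22, 1, 14, 12, 17, 13, 8, 3, 2, 21, 9, 18, 7, 4, 16, 10, 23, 19, 15], 8732458, true),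
  ([1, 18, 5, 17, 8, 4, 0, 20, 13, 12, 15, 7, 2, 19, 16, 9, 3, 11, 10, 6, 14, 22, 21, 23], 6082678, true),
  ([23, 2, 10, 15, 6, 9, 12, 19, 22, 3, 13, 5, 16, 18, 1, 4, 21, 0, 17, 7, 14, 11, 8, 20], 13062145, false)],
[
  ([5, 6, 23, 2, 7, 19, 11, 15, 1, 10, 14, 0, 20, 21, 12, 16, 9, 17, 22, 8, 3, 13, 4, 18], 7479572, true),
  ([5, 14, 0, 6, 1, 8, 3, 7, 2, 13, 9, 20, 10, 4, 23, 19, 22, 21, 18, 16, 17, 15, 11, 12], 11690445, true),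
  ([22, 23, 20, 9, 13, 15, 7, 17, 11, 18, 3, 14, 0, 19, 5, 16, 1, 8, 2, 12, 4, 6, 10, 21], 13062145, false)],
[
  ([11, 23, 4, 6, 14, 7, 21, 20, 3, 1, 18, 22, 12, 0, 15, 16, 13, 19, 2, 9, 5, 10, 8, 17], 7234164, true),
  ([13, 12, 2, 7, 23, 17, 18, 6, 15, 0, 8, 16, 4, 1, 20, 14, 9, 5, 21, 10, 22, 11, 19, 3], 13428246, true),
  ([23, 6, 7, 15, 1, 12, 8, 22, 14, 3, 9, 21, 13, 4, 18, 2, 20, 0, 11, 5, 17, 19, 16, 10], 0, false)],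
[
  ([9, 21, 12, 15, 4, 20, 2, 5, 19, 6, 0, 11, 10, 22, 17, 3, 14, 1, 16, 8, 7, 18, 23, 13], 12975680, true),
  ([16, 7, 19, 9, 11, 14, 22, 20, 17, 2, 4, 10, 18, 8, 12, 3, 13, 6, 21, 15, 5, 0, 1, 23], 5601351, true),
  ([22, 23, 20, 9, 13, 15, 7, 17, 11, 18, 3, 14, 0, 19, 5, 16, 1, 8, 2, 12, 4, 6, 10, 21], 0, false)],
[
  ([11, 6, 5, 0, 1, 23, 16, 8, 22, 12, 17, 18, 19, 20, 10, 21, 15, 2, 3, 7, 13, 14, 9, 4], 13410549, true),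
  ([3, 7, 5, 10, 6, 23, 9, 4, 22, 12, 15, 19, 13, 8, 20, 14, 2, 21, 1, 11, 16, 17, 18, 0], 2104311, true),
  ([23, 6, 7, 15, 1, 12, 8, 22, 14, 3, 9, 21, 13, 4, 18, 2, 20, 0, 11, 5, 17, 19, 16, 10], 13062145, false)]]

/-- Sign witnesses. -/
def witPair : Nat × List (Nat × Nat × Nat) := (0, [(0, 1302533, 0), (23, 13938692, 0)])

/-- Sign witnesses. -/
def witOct : Nat × List (Nat × Nat × Nat) := (0, [(0, 0, 0), (2, 1302533, 0), (4, 6053905, 0), (5, 7417889, 0), (6, 2854977, 0), (10, 7767041, 0), (11, 2422785, 0), (23, 13062145, 0)])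

/-- Sign witnesses. -/
def witDod : Nat × List (Nat × Nat × Nat) := (0, [(0, 0, 0), (1, 3719203, 0), (2, 689317, 0), (3, 11535529, 0), (4, 15335473, 0), (6, 10110017, 0), (8, 5390753, 0), (9, 10666625, 0), (12, 6837377, 0), (13, 12641313, 0), (16, 14254209, 0), (18, 7767041, 0)])

/-- Sign witnesses. -/
def witO4 : Nat × List (Nat × Nat × Nat) := (0, [(0, 0, 0), (1, 4845570, 0), (2, 1302533, 0), (4, 6053905, 0), (5, 7417889, 0), (6, 2854977, 0), (10, 7767041, 0), (11, 2422785, 0), (23, 13062145, 0)])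

/-- Sign witnesses. -/
def witCross : Nat × List (Nat × Nat × Nat) := (0, [(23, 13062145, 0)])

/-- Sign witnesses. -/
def witQuad : Nat × List (Nat × Nat × Nat) := (0, [(0, 6053905, 0), (1, 4845570, 0), (2, 5210132, 0), (23, 10170384, 0)])

/-- Sign witnesses. -/
def witSix : Nat × List (Nat × Nat × Nat) := (0, [(0, 0, 0), (2, 1302533, 0), (4, 6053905, 0), (5, 7417889, 0), (6, 2854977, 0), (10, 7767041, 0), (11, 2422785, 0), (23, 13062145, 0)])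

/-- Sign witnesses. -/
def witO44 : Nat × List (Nat × Nat × Nat) := (0, [(0, 0, 0), (1, 4845570, 0), (2, 1302533, 0), (3, 7221256, 0), (4, 6053905, 0), (5, 7417889, 0), (6, 2854977, 0), (10, 7767041, 0), (11, 2422785, 0), (23, 13062145, 0)])

/-- Sign witnesses. -/
def witD4 : Nat × List (Nat × Nat × Nat) := (0, [(0, 0, 0), (1, 3719203, 0), (2, 689317, 0), (3, 4900873, 0), (4, 1100945, 0), (6, 6326497, 0), (8, 5390753, 0), (9, 5770785, 0), (12, 6837377, 0), (13, 3811457, 0), (16, 2313249, 0), (18, 7767041, 0), (23, 16436384, 0)])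

/-- Sign witnesses. -/
def witSixteen : Nat × List (Nat × Nat × Nat) := (1, [(1, 0, 0), (3, 0, 10), (7, 0, 130), (8, 0, 258), (9, 0, 514), (12, 5279, 136), (13, 8398155, 264), (14, 18147, 640), (15, 8421811, 384), (16, 8455014, 768), (17, 8521420, 650), (18, 262637, 394), (19, 525274, 904), (20, 1050548, 898), (21, 10486557, 778), (22, 12584506, 520)])

/-- Tables fixing the reference octad and the point one. -/
def outerTabs : List (List Nat) := [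
  [0, 1, 2, 3, 4, 5, 6, 7, 8, 9, 10, 11, 12, 13, 14, 15, 16, 17, 18, 19, 20, 21, 22, 23],
  [23, 1, 10, 7, 4, 0, 5, 20, 3, 18, 6, 2, 16, 12, 22, 19, 15, 17, 21, 14, 9, 8, 13, 11],
  [2, 1, 6, 8, 23, 11, 0, 16, 21, 20, 5, 4, 9, 22, 7, 3, 12, 15, 13, 17, 19, 18, 14, 10],
  [11, 1, 4, 9, 2, 0, 6, 14, 19, 15, 23, 5, 7, 18, 16, 13, 22, 8, 21, 17, 12, 3, 20, 10],
  [11, 1, 6, 12, 0, 2, 23, 21, 15, 3, 10, 5, 20, 13, 16, 17, 18, 19, 9, 22, 14, 8, 7, 4],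
  [10, 1, 6, 13, 11, 23, 4, 22, 17, 9, 5, 2, 16, 20, 3, 7, 12, 8, 18, 19, 14, 15, 21, 0],
  [4, 1, 0, 14, 11, 23, 2, 12, 15, 20, 5, 6, 22, 16, 21, 13, 9, 18, 19, 3, 17, 7, 8, 10],
  [5, 1, 0, 15, 6, 23, 10, 13, 14, 18, 2, 11, 12, 16, 7, 19, 21, 8, 22, 20, 9, 17, 3, 4],
  [4, 1, 5, 16, 23, 10, 6, 17, 19, 3, 11, 0, 18, 12, 14, 8, 20, 15, 9, 22, 13, 7, 21, 2],
  [11, 1, 4, 17, 0, 10, 23, 21, 20, 16, 2, 5, 15, 13, 3, 12, 7, 14, 9, 8, 19, 22, 18, 6],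
  [5, 1, 23, 18, 11, 0, 10, 17, 8, 13, 4, 2, 16, 12, 20, 19, 3, 22, 9, 21, 14, 15, 7, 6],
  [23, 1, 5, 19, 10, 4, 2, 16, 7, 22, 0, 11, 12, 21, 13, 20, 17, 14, 3, 9, 18, 8, 15, 6],
  [6, 1, 2, 20, 10, 4, 23, 19, 22, 13, 5, 11, 3, 18, 14, 15, 16, 8, 9, 21, 12, 7, 17, 0],
  [2, 1, 10, 21, 6, 0, 23, 13, 12, 16, 4, 11, 9, 20, 22, 15, 19, 8, 17, 18, 14, 7, 3, 5],
  [5, 1, 11, 22, 23, 4, 10, 15, 8, 16, 2, 6, 19, 21, 14, 7, 9, 12, 17, 18, 20, 3, 13, 0]]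

end CfsgLib.Leech
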