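/-
The automorphism that is not monomial.
-/
import Cfsg.Agent.Leech.Minimal
import Cfsg.Agent.Leech.Aut
import Cfsg.Agent.Leech.MoveData

set_option autoImplicit false

namespace CfsgLib.Leech

open Cfsg CfsgLib.Golay

/-- The block of a point. -/
def blockOf (p : GolayPt) : ℕ := blockTab.getD (idx p).val 0

/-- The sum over the block of a point. -/
def blockSum (x : GolayPt → ℤ) (p : GolayPt) : ℤ :=
  ∑ q ∈ Finset.univ.filter (fun q => blockOf q = blockOf p), x q

/-- Sign of a block. -/
def blockSign (p : GolayPt) : ℤ := if blockOf p = 0 then -1 else 1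

/-- Twice the exceptional map. -/
def xiTwo : (GolayPt → ℤ) →+ (GolayPt → ℤ) :=
  AddMonoidHom.mk' (fun x p => blockSign p * (2 * x p - blockSum x p)) fun a b => funext fun p => by
    simp only [blockSum, Pi.add_apply, Finset.sum_add_distrib]
    ring

theorem xiTwo_apply (x : GolayPt → ℤ) (p : GolayPt) :
    xiTwo x p = blockSign p * (2 * x p - blockSum x p) := rfl

theorem block_card : ∀ p : GolayPt, (Finset.univ.filter fun q => blockOf q = blockOf p).card = 4 := by
  decide +kernel

theorem blockSum_congr (x : GolayPt → ℤ) {p q : GolayPt} (h : blockOf q = blockOf p) :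
    blockSum x q = blockSum x p := by rw [blockSum, blockSum, h]

theorem blockSum_xiTwo (x : GolayPt → ℤ) (p : GolayPt) :
    blockSum (xiTwo x) p = blockSign p * (-2 * blockSum x p) := by
  have hc : ∀ q ∈ Finset.univ.filter (fun q => blockOf q = blockOf p),
      xiTwo x q = blockSign p * (2 * x q - blockSum x p) := fun q hq => by
    have h := (Finset.mem_filter.1 hq).2
    rw [xiTwo_apply, blockSum_congr x h, blockSign, blockSign, h]
  rw [blockSum, Finset.sum_congr rfl hc, ← Finset.mul_sum, Finset.sum_sub_distrib, ← Finset.mul_sum,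
    Finset.sum_const, block_card, nsmul_eq_mul]
  show blockSign p * (2 * blockSum x p - _) = _
  push_cast
  ring

theorem xiTwo_xiTwo (x : GolayPt → ℤ) (p : GolayPt) : xiTwo (xiTwo x) p = 4 * x p := by
  rw [xiTwo_apply, blockSum_xiTwo, xiTwo_apply]
  unfold blockSign
  split_ifs <;> ring

theorem sum_sq_blocks (x : GolayPt → ℤ) : ∑ p, blockSum x p * blockSum x p = 4 * ∑ p, x p * blockSum x p := by
  have e : ∀ p, blockSum x p * blockSum x p =
      ∑ q, if blockOf q = blockOf p then x q * blockSum x q else 0 := fun p => by
    rw [← Finset.sum_filter]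
    conv_lhs => arg 1; rw [blockSum]
    rw [Finset.sum_mul]
    exact Finset.sum_congr rfl fun q hq => by rw [blockSum_congr x (Finset.mem_filter.1 hq).2]
  rw [Finset.sum_congr rfl fun p _ => e p, Finset.sum_comm, Finset.mul_sum]
  refine Finset.sum_congr rfl fun q _ => ?_
  rw [← Finset.sum_filter, Finset.sum_const, nsmul_eq_mul,
    show (Finset.univ.filter fun p => blockOf q = blockOf p) =
      Finset.univ.filter fun p => blockOf p = blockOf q by ext; simp [eq_comm], block_card]
  push_cast
  ring

theorem sqNorm_xiTwo (x : GolayPt → ℤ) : sqNorm (xiTwo x) = 4 * sqNorm x := by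
  have h := sum_sq_blocks x
  have e : ∀ p, xiTwo x p ^ 2 = 4 * x p ^ 2 - 4 * (x p * blockSum x p) + blockSum x p * blockSum x p := fun p => by
    rw [xiTwo_apply]
    unfold blockSign
    split_ifs <;> ring
  simp only [sqNorm, e, Finset.sum_add_distrib, Finset.sum_sub_distrib, ← Finset.mul_sum]
  rw [h]
  ring

/-- Vectors whose doubled image is twice a lattice vector. -/
def xiDom : AddSubgroup (GolayPt → ℤ) := (leechLattice.map dbl).comap xiTwo

theorem mem_xiDom {x : GolayPt → ℤ} : x ∈ xiDom ↔ ∃ y ∈ leechLattice, dbl y = xiTwo x := Iff.rfl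

/-- Membership tested by computation. -/
def inLeech (x : GolayPt → ℤ) : Bool :=
  let m := x none % 2
  (List.range 24).all (fun i => x (ptN i) % 2 == m) &&
    ((List.range 24).map fun i => x (ptN i)).sum % 8 == (4 * m) % 8 &&
    inCode ((List.range 24).foldl (fun N i => bif (x (ptN i) / 2) % 2 == 1 then N ||| 2 ^ i else N) 0)

theorem pts_list {N : Type*} [AddCommMonoid N] (g : GolayPt → N) :
    ((List.range 24).map fun i => g (ptN i)).sum = ∑ p, g p := by
  have e : ((List.range 24).map fun i => g (ptN i)).sum = ∑ i : Fin 24, g (ptN i.val) := by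
    rw [← Finset.sum_range fun i => g (ptN i)]
    rfl
  rw [e]
  refine Fintype.sum_equiv ⟨fun i => ptN i.val, idx, fun i => Fin.ext (idx_ptN i.isLt), fun p => ptN_idx p⟩ _ _
    fun i => rfl

theorem inLeech_spec {x : GolayPt → ℤ} (h : inLeech x = true) : x ∈ leechLattice := by
  simp only [inLeech, Bool.and_eq_true, beq_iff_eq, List.all_eq_true, List.mem_range] at h
  obtain ⟨⟨h1, h2⟩, h3⟩ := h
  refine mem_lattice.2 ⟨x none % 2, by omega, fun p => ?_, ?_, ?_⟩
  · have := h1 (idx p).val (idx p).isLt
    rwa [ptN_idx] at this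
  · rw [pts_list] at h2
    omega
  · have e : wmask (half x) =
        (List.range 24).foldl (fun N i => bif (x (ptN i) / 2) % 2 == 1 then N ||| 2 ^ i else N) 0 := by
      have hl : ∀ (l : List ℕ) (N j : ℕ),
          (l.foldl (fun N i => bif (x (ptN i) / 2) % 2 == 1 then N ||| 2 ^ i else N) N).testBit j =
            (N.testBit j || decide (j ∈ l ∧ (x (ptN j) / 2) % 2 = 1)) := by
        intro l
        induction l with
        | nil => simp
        | cons a r ih =>
          intro N j
          rw [List.foldl_cons, ih]
          by_cases ha : (x (ptN a) / 2) % 2 = 1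
          · rw [beq_iff_eq.2 ha, cond_true, Nat.testBit_or, Nat.testBit_two_pow, Bool.or_assoc]
            congr 1
            rw [← Bool.decide_or, decide_eq_decide]
            constructor
            · rintro (e | e)
              · subst e; exact ⟨List.mem_cons_self, ha⟩
              · exact ⟨List.mem_cons_of_mem _ e.1, e.2⟩
            · rintro ⟨e, e2⟩
              rcases List.mem_cons.1 e with e' | e'
              · exact Or.inl e'.symm
              · exact Or.inr ⟨e', e2⟩
          · rw [beq_eq_false_iff_ne.2 ha, cond_false]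
            congr 1
            rw [decide_eq_decide]
            refine ⟨fun e => ⟨List.mem_cons_of_mem _ e.1, e.2⟩, fun ⟨e, e2⟩ => ?_⟩
            rcases List.mem_cons.1 e with e' | e'
            · exact absurd (e' ▸ e2) ha
            · exact ⟨e', e2⟩
      refine Nat.eq_of_testBit_eq fun j => ?_
      rw [hl, Nat.zero_testBit, Bool.false_or]
      rcases lt_or_ge j 24 with hj | hj
      · have hb := testBit_wmask (half x) (ptN j)
        rw [idx_ptN hj] at hb
        rw [hb, decide_eq_decide]
        show ((_ : ℤ) : ZMod 2) ≠ 0 ↔ _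
        rw [cast2_iff]
        simp [hj]
      · rw [testBit_of_lt (show wmask (half x) < 2 ^ 24 from mask_lt _) hj]
        simp [show ¬ j < 24 by omega]
    rw [← e] at h3
    exact mem_code_iff.2 h3

/-- The exceptional map, computed. -/
def xiVal (x : GolayPt → ℤ) : GolayPt → ℤ := fun p => xiTwo x p / 2

/-- A vector lies in the domain, tested by computation. -/
def domOk (x : GolayPt → ℤ) : Bool :=
  (List.range 24).all (fun i => xiTwo x (ptN i) % 2 == 0) && inLeech (xiVal x)

theorem domOk_spec {x : GolayPt → ℤ} (h : domOk x = true) : x ∈ xiDom := by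
  simp only [domOk, Bool.and_eq_true, List.all_eq_true, List.mem_range, beq_iff_eq] at h
  refine mem_xiDom.2 ⟨xiVal x, inLeech_spec h.2, funext fun p => ?_⟩
  have := h.1 (idx p).val (idx p).isLt
  rw [ptN_idx] at this
  rw [dbl_apply, xiVal]
  omega

theorem gens_pairs : ([4, -4] : List ℤ).all (fun a =>
    domOk (fun p => (if p = none then 4 else 0) + (if p = some 0 then a else 0))) = true := by
  decide +kernel

theorem gens_diffs : (List.range 23).all (fun j =>
    domOk (fun p => (if (idx p).val = j then 4 else 0) + (if p = none then -4 else 0))) = true := by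
  decide +kernel

theorem gens_octs : basis.all (fun a =>
    domOk (fun p => if a.2.testBit (idx p).val then 2 else 0)) = true := by decide +kernel

theorem gens_odd : domOk oddVec = true := by decide +kernel

theorem hasGens_xiDom : HasGens xiDom where
  pairs a ha := by
    have h := List.all_eq_true.1 gens_pairs a (by rcases ha with rfl | rfl <;> simp)
    convert domOk_spec h using 1
    funext p
    simp [Pi.single_apply]
  diffs j hj := by
    have hlt : (idx j).val < 23 := by
      have := (idx j).isLt
      by_contra hc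
      exact hj (idx_injective (Fin.ext (show (idx j).val = (idx none).val by
        rw [show (idx (none : GolayPt)).val = 23 from rfl]; omega)))
    have h := List.all_eq_true.1 gens_diffs _ (List.mem_range.2 hlt)
    convert domOk_spec h using 1
    funext p
    simp only [Pi.add_apply, Pi.single_apply]
    congr 1
    exact if_congr ⟨fun e => by rw [e], fun e => idx_injective (Fin.ext e)⟩ rfl rfl
  octs a ha := by
    have h := List.all_eq_true.1 gens_octs a ha
    convert domOk_spec h using 1
    funext p
    simp [two, mem_toSet]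
  odd := domOk_spec gens_odd

theorem xiVal_spec {x : GolayPt → ℤ} (hx : x ∈ leechLattice) :
    xiVal x ∈ leechLattice ∧ dbl (xiVal x) = xiTwo x := by
  obtain ⟨y, hy, e⟩ := mem_xiDom.1 (le_of_gens hasGens_xiDom hx)
  have : xiVal x = y := funext fun p => by
    rw [xiVal, ← congrFun e p, dbl_apply]
    omega
  rw [this]
  exact ⟨hy, e⟩

theorem xiVal_xiVal {x : GolayPt → ℤ} (hx : x ∈ leechLattice) : xiVal (xiVal x) = x := by
  obtain ⟨h1, e⟩ := xiVal_spec hx
  obtain ⟨-, e2⟩ := xiVal_spec h1
  have e' : xiTwo (2 • xiVal x) = xiTwo (xiTwo x) := congrArg xiTwo e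
  rw [map_nsmul] at e'
  funext p
  have a := congrFun e' p
  have b := congrFun e2 p
  rw [xiTwo_xiTwo] at a
  rw [dbl_apply] at b
  simp at a
  omega

/-- The exceptional permutation of the lattice. -/
def xiPerm : Equiv.Perm leechLattice where
  toFun v := ⟨xiVal v.1, (xiVal_spec v.2).1⟩
  invFun v := ⟨xiVal v.1, (xiVal_spec v.2).1⟩
  left_inv v := Subtype.ext (xiVal_xiVal v.2)
  right_inv v := Subtype.ext (xiVal_xiVal v.2)

/-- The exceptional automorphism. -/
def xi : Co0 :=
  ⟨xiPerm, ⟨fun v w => Subtype.ext (dbl_injective (by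
      show dbl (xiVal (v.1 + w.1)) = dbl (xiVal v.1 + xiVal w.1)
      rw [map_add, (xiVal_spec (add_mem v.2 w.2)).2, (xiVal_spec v.2).2, (xiVal_spec w.2).2, map_add])),
    fun v => by
      show sqNorm (xiVal v.1) = sqNorm v.1
      have h1 : sqNorm (dbl (xiVal v.1)) = 4 * sqNorm (xiVal v.1) := by
        simp only [sqNorm, dbl_apply, Finset.mul_sum]
        exact Finset.sum_congr rfl fun i _ => by ring
      rw [(xiVal_spec v.2).2, sqNorm_xiTwo] at h1
      omega⟩⟩

theorem xi_apply (v : leechLattice) : (xi.1 v).1 = xiVal v.1 := rfl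

end CfsgLib.Leech
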