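/-
Carrying one lattice vector to another: computed words and sign normalisation.
-/
import Cfsg.Agent.Leech.Xi
import Cfsg.Agent.Leech.Stab

set_option autoImplicit false

namespace CfsgLib.Leech

open Cfsg CfsgLib.Golay
open scoped Pointwise

/-- Some element of a subgroup carries the first vector to the second. -/
def MoveIn (K : Subgroup Co0) (x y : GolayPt → ℤ) : Prop :=
  ∃ g ∈ K, ∃ hx : x ∈ leechLattice, (g • (⟨x, hx⟩ : leechLattice)).1 = y

variable {K L : Subgroup Co0} {x y z : GolayPt → ℤ}

theorem MoveIn.refl (hx : x ∈ leechLattice) : MoveIn K x x := ⟨1, one_mem K, hx, by rw [one_smul]⟩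

theorem MoveIn.mem (h : MoveIn K x y) : y ∈ leechLattice := by
  obtain ⟨g, -, hx, rfl⟩ := h
  exact (g • (⟨x, hx⟩ : leechLattice)).2

theorem MoveIn.trans (h : MoveIn K x y) (h' : MoveIn K y z) : MoveIn K x z := by
  obtain ⟨g, hg, hx, e⟩ := h
  obtain ⟨g', hg', hy, e'⟩ := h'
  refine ⟨g' * g, mul_mem hg' hg, hx, ?_⟩
  rw [← e', mul_smul, show g • (⟨x, hx⟩ : leechLattice) = ⟨y, hy⟩ from Subtype.ext e]

theorem MoveIn.symm (h : MoveIn K x y) : MoveIn K y x := by
  obtain ⟨g, hg, hx, rfl⟩ := h
  exact ⟨g⁻¹, inv_mem hg, Subtype.prop _, congrArg Subtype.val (inv_smul_smul g _)⟩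

theorem MoveIn.mono (h : MoveIn K x y) (hKL : K ≤ L) : MoveIn L x y := by
  obtain ⟨g, hg, rest⟩ := h
  exact ⟨g, hKL hg, rest⟩

theorem move_smul {v w : leechLattice} (h : MoveIn K v.1 w.1) : ∃ g ∈ K, g • v = w := by
  obtain ⟨g, hg, hx, e⟩ := h
  exact ⟨g, hg, Subtype.ext e⟩

theorem move_perm {σ : Equiv.Perm GolayPt} (hσ : σ ∈ M24) (hK : crossStab ≤ K) (hx : x ∈ leechLattice) :
    MoveIn K x (fun p => x (σ p)) :=
  ⟨mono (inv_mem hσ) empty_mem, hK (mono_mem_crossStab _ _), hx, funext fun p => by
    rw [show (mono (inv_mem hσ) empty_mem • (⟨x, hx⟩ : leechLattice)).1 p =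
      signedPerm σ⁻¹ ∅ x p from rfl]
    simp [signedPerm, Equiv.Perm.inv_def]⟩

theorem move_flip {c : Finset GolayPt} (hc : c ∈ supports (golayCode : Set (GolayPt → ZMod 2)))
    (hK : crossStab ≤ K) (hx : x ∈ leechLattice) : MoveIn K x (flip c x) :=
  ⟨mono (one_mem M24) hc, hK (mono_mem_crossStab _ _), hx, funext fun p => by
    rw [show (mono (one_mem M24) hc • (⟨x, hx⟩ : leechLattice)).1 p = signedPerm 1 c x p from rfl]
    simp [signedPerm, flip, perm_one_symm]⟩

theorem move_xi (hK : xi ∈ K) (hx : x ∈ leechLattice) : MoveIn K x (xiVal x) := ⟨xi, hK, hx, rfl⟩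

/-! ### Words -/

/-- The vector of a list. -/
def vecOf (l : List ℤ) : GolayPt → ℤ := fun p => l.getD (idx p).val 0

theorem vecOf_map (f : ℕ → ℤ) : vecOf ((List.range 24).map f) = fun p => f (idx p).val := by
  funext p
  simp [vecOf, List.getD_eq_getElem?_getD]

/-- One step of a word. -/
def stepList (s : List ℕ × ℕ × Bool) (l : List ℤ) : List ℤ :=
  let m := (List.range 24).map fun j =>
    bif s.2.1.testBit j then -(l.getD (s.1.getD j 0) 0) else l.getD (s.1.getD j 0) 0
  bif s.2.2 then (List.range 24).map fun j => xiVal (vecOf m) (ptN j) else m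

/-- The effect of a word. -/
def runWord : List (List ℕ × ℕ × Bool) → List ℤ → List ℤ
  | [], l => l
  | s :: w, l => runWord w (stepList s l)

/-- The entries of a word are automorphisms. -/
def wordOk (w : List (List ℕ × ℕ × Bool)) : Bool :=
  w.all fun s => validTab s.1 && presTab s.1 && inCode s.2.1 && Nat.blt s.2.1 (2 ^ 24)

theorem toSet_mem {m : ℕ} (h : inCode m = true) (hm : m < 2 ^ 24) :
    toSet m ∈ supports (golayCode : Set (GolayPt → ZMod 2)) :=
  mem_supports_iff.2 (by rwa [mask_toSet hm])

theorem move_step {s : List ℕ × ℕ × Bool}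
    (hs : (validTab s.1 && presTab s.1 && inCode s.2.1 && Nat.blt s.2.1 (2 ^ 24)) = true)
    (hK : crossStab ≤ K) (hxi : xi ∈ K)
    {l : List ℤ} (hl : vecOf l ∈ leechLattice) : MoveIn K (vecOf l) (vecOf (stepList s l)) := by
  simp only [Bool.and_eq_true, Nat.blt_eq] at hs
  obtain ⟨⟨⟨hv, hp⟩, hc⟩, hlt⟩ := hs
  have h1 := move_perm (permOf_mem_M24 hv hp) hK hl
  have h2 := h1.trans (move_flip (toSet_mem hc hlt) hK h1.mem)
  have e : flip (toSet s.2.1) (fun p => vecOf l (permOf s.1 p)) =
      vecOf ((List.range 24).map fun j =>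
        bif s.2.1.testBit j then -(l.getD (s.1.getD j 0) 0) else l.getD (s.1.getD j 0) 0) := by
    rw [vecOf_map]
    funext p
    simp only [flip, vecOf, idx_permOf hv, mem_toSet]
    by_cases h : s.2.1.testBit (idx p).val <;> simp [h]
  rw [e] at h2
  unfold stepList
  cases s.2.2
  · exact h2
  · refine h2.trans ?_
    have h3 := move_xi hxi h2.mem
    have e3 : ∀ l', vecOf ((List.range 24).map fun j => xiVal (vecOf l') (ptN j)) = xiVal (vecOf l') :=
      fun l' => by rw [vecOf_map]; funext p; rw [ptN_idx]
    rw [cond_true, e3]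
    exact h3

theorem move_word (hK : crossStab ≤ K) (hxi : xi ∈ K) : ∀ {w : List (List ℕ × ℕ × Bool)}, wordOk w = true →
    ∀ {l : List ℤ}, vecOf l ∈ leechLattice → MoveIn K (vecOf l) (vecOf (runWord w l))
  | [], _, _, hl => MoveIn.refl hl
  | s :: w, h, l, hl => by
    simp only [wordOk, List.all_cons, Bool.and_eq_true] at h
    have h1 := move_step (s := s) (by simpa only [Bool.and_eq_true] using h.1) hK hxi hl
    exact h1.trans (move_word hK hxi (w := w) (by simpa only [wordOk] using h.2) h1.mem)

/-- A word carries one representative to another. -/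
def carries (w : List (List ℕ × ℕ × Bool)) (l t : List ℤ) : Bool :=
  wordOk w && runWord w l == t && inLeech (vecOf l)

theorem carries_spec (hK : crossStab ≤ K) (hxi : xi ∈ K) {w : List (List ℕ × ℕ × Bool)} {l t : List ℤ}
    (h : carries w l t = true) : vecOf l ∈ leechLattice ∧ MoveIn K (vecOf l) (vecOf t) := by
  simp only [carries, Bool.and_eq_true, beq_iff_eq] at h
  exact ⟨inLeech_spec h.2, h.1.2 ▸ move_word hK hxi h.1.1 (inLeech_spec h.2)⟩

/-! ### Signs -/

/-- The support mask of a list. -/
def suppMask (r : List ℤ) : ℕ :=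
  (List.range 24).foldl (fun N i => bif r.getD i 0 != 0 then N ||| 2 ^ i else N) 0

/-- The positions of a list which are two modulo four. -/
def oddHalf (r : List ℤ) (i : ℕ) : Bool := r.getD i 0 % 4 == 2

/-- The pattern realised by one witness. -/
def witTarget (r : List ℤ) (w0 i : ℕ) : ℕ := bif oddHalf r i then 2 ^ i ^^^ 2 ^ w0 else 2 ^ i

/-- One witness is valid. -/
def rowOk (r : List ℤ) (cls : List ℕ) (w0 : ℕ) (a : ℕ × ℕ × ℕ) : Bool :=
  inCode a.2.1 && Nat.blt a.2.1 (2 ^ 24) && cls.contains a.2.2 &&
    Nat.beq ((a.2.1 ^^^ a.2.2) &&& suppMask r) (witTarget r w0 a.1)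

/-- The witnesses realise all admissible sign patterns. -/
def witOk (r : List ℤ) (cls : List ℕ) (w : ℕ × List (ℕ × ℕ × ℕ)) : Bool :=
  w.2.all (rowOk r cls w.1) &&
    (w.2.map Prod.fst == (List.range 24).filter fun i => r.getD i 0 != 0) &&
    (cls.contains 0 && cls.all fun a => cls.all fun b => cls.contains (a ^^^ b)) &&
    ((List.range 24).all fun i => r.getD i 0 % 2 == 0) && inLeech (vecOf r)

theorem exists_pattern {r : List ℤ} {cls : List ℕ} {w0 : ℕ} (q : ℕ → Bool) (h0 : 0 ∈ cls)
    (hcl : ∀ a ∈ cls, ∀ b ∈ cls, a ^^^ b ∈ cls) :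
    ∀ rows : List (ℕ × ℕ × ℕ), rows.all (rowOk r cls w0) = true → (rows.map Prod.fst).Nodup →
      ∃ C K, inCode C = true ∧ C < 2 ^ 24 ∧ K ∈ cls ∧ ∀ j,
        ((C ^^^ K) &&& suppMask r).testBit j =
          Bool.xor (decide (j ∈ rows.map Prod.fst) && q j)
            (decide (w0 = j) && ((rows.map Prod.fst).filter fun i => q i && oddHalf r i).length % 2 == 1)
  | [], _, _ => ⟨0, 0, by decide +kernel, Nat.two_pow_pos 24, h0, fun j => by simp⟩
  | (i, c, k) :: rows, h, hnd => by
    rw [List.all_cons, Bool.and_eq_true] at h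
    rw [List.map_cons, List.nodup_cons] at hnd
    obtain ⟨C, K, h1, h2, h3, h4⟩ := exists_pattern q h0 hcl rows h.2 hnd.2
    by_cases hq : q i = true
    · have hr := h.1
      simp only [rowOk, Bool.and_eq_true, Nat.blt_eq, Nat.beq_eq, List.contains_iff_mem] at hr
      obtain ⟨⟨⟨hc, hlt⟩, hk⟩, ht⟩ := hr
      refine ⟨C ^^^ c, K ^^^ k, inCode_xor h1 hc, Nat.xor_lt_two_pow h2 hlt, hcl _ h3 _ hk, fun j => ?_⟩
      have e : (C ^^^ c ^^^ (K ^^^ k)) &&& suppMask r =
          (C ^^^ K) &&& suppMask r ^^^ (c ^^^ k) &&& suppMask r := by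
        rw [← Nat.and_xor_distrib_right]
        congr 1
        ac_rfl
      rw [e, Nat.testBit_xor, h4, ht, List.map_cons, List.filter_cons]
      unfold witTarget
      have hi : j = i → decide (j ∈ rows.map Prod.fst) = false := fun e => by
        subst e; exact decide_eq_false hnd.1
      rcases Bool.eq_false_or_eq_true (oddHalf r i) with ho | ho <;>
        simp only [ho, hq, Bool.and_self, Bool.and_false, cond_true, cond_false, if_true, if_false,
          Nat.testBit_xor, Nat.testBit_two_pow, List.length_cons, Bool.false_eq_true]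
      · have hp : ∀ n : ℕ, ((n + 1) % 2 == 1) = !(n % 2 == 1) := fun n => by
          rcases Nat.mod_two_eq_zero_or_one n with e | e <;> simp [Nat.add_mod, e]
        rw [hp]
        by_cases hji : j = i
        · subst hji
          simp only [decide_eq_true (List.mem_cons_self), hi rfl, hq]
          by_cases hw : w0 = j <;> simp [hw] <;> rcases Nat.mod_two_eq_zero_or_one _ with e | e <;> simp [e]
        · have : decide (j ∈ i :: rows.map Prod.fst) = decide (j ∈ rows.map Prod.fst) := by
            simp [hji]
          rw [this, decide_eq_false (Ne.symm hji)]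
          by_cases hw : w0 = j <;> simp [hw]
      · by_cases hji : j = i
        · subst hji
          simp only [decide_eq_true (List.mem_cons_self), hi rfl, hq]
          simp
        · have : decide (j ∈ i :: rows.map Prod.fst) = decide (j ∈ rows.map Prod.fst) := by
            simp [hji]
          rw [this, decide_eq_false (Ne.symm hji)]
          simp
    · refine ⟨C, K, h1, h2, h3, fun j => ?_⟩
      rw [h4, List.map_cons, List.filter_cons]
      simp only [Bool.not_eq_true] at hq
      simp only [hq, Bool.false_and, Bool.false_eq_true, if_false]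
      by_cases hji : j = i
      · subst hji
        simp [hq, hnd.1]
      · simp [show (j == i) = false by simpa using hji, hji]

theorem length_filter_sum (q : ℕ → Bool) : ∀ l : List ℕ,
    ((l.filter q).length : ℤ) = (l.map fun i => bif q i then (1 : ℤ) else 0).sum
  | [] => rfl
  | a :: l => by
    rw [List.filter_cons, List.map_cons, List.sum_cons, ← length_filter_sum q l]
    cases q a <;> simp [add_comm]

theorem testBit_suppMask (r : List ℤ) (j : ℕ) :
    (suppMask r).testBit j = (decide (j < 24) && r.getD j 0 != 0) := by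
  have hl : ∀ (l : List ℕ) (N : ℕ),
      (l.foldl (fun N i => bif r.getD i 0 != 0 then N ||| 2 ^ i else N) N).testBit j =
        (N.testBit j || decide (j ∈ l) && r.getD j 0 != 0) := by
    intro l
    induction l with
    | nil => simp
    | cons a l ih =>
      intro N
      rw [List.foldl_cons, ih]
      by_cases hja : j = a
      · subst hja
        cases h : (r.getD j 0 != 0) <;> simp [Nat.testBit_two_pow_self]
      · cases h : (r.getD a 0 != 0) <;> simp [hja, Nat.testBit_two_pow, Ne.symm hja]
  rw [suppMask, hl, Nat.zero_testBit, Bool.false_or]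
  simp

/-- A vector with the same absolute values differs from a representative by a listed sign class and a code word. -/
theorem exists_flip {r : List ℤ} {cls : List ℕ} {w : ℕ × List (ℕ × ℕ × ℕ)} (h : witOk r cls w = true)
    (hx : x ∈ leechLattice) (habs : ∀ p, (x p).natAbs = (vecOf r p).natAbs) :
    ∃ k ∈ cls, ∃ C, C ∈ supports (golayCode : Set (GolayPt → ZMod 2)) ∧
      flip C x = flip (toSet k) (vecOf r) := by
  simp only [witOk, Bool.and_eq_true, beq_iff_eq, List.all_eq_true, List.mem_range,
    List.contains_iff_mem] at h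
  obtain ⟨⟨⟨⟨hrows, hfst⟩, h0, hcl⟩, heven⟩, hrL⟩ := h
  let q : ℕ → Bool := fun i => x (ptN i) != r.getD i 0
  have hnd : (w.2.map Prod.fst).Nodup := hfst ▸ List.nodup_range.filter _
  obtain ⟨C, K, hC, hClt, hK, hpat⟩ := exists_pattern q h0 hcl w.2 (List.all_eq_true.2 hrows) hnd
  have hsign : ∀ i < 24, x (ptN i) = r.getD i 0 ∨ x (ptN i) = -(r.getD i 0) := fun i hi => by
    have := habs (ptN i)
    rw [vecOf, idx_ptN hi] at this
    exact Int.natAbs_eq_natAbs_iff.1 this
  have hpar : ((w.2.map Prod.fst).filter fun i => q i && oddHalf r i).length % 2 = 0 := by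
    rw [hfst, List.filter_filter]
    set f : ℕ → Bool := fun i => (q i && oddHalf r i) && r.getD i 0 != 0
    obtain ⟨m, hm, hp, hs, -⟩ := mem_lattice.1 hx
    obtain ⟨m', -, hp', hs', -⟩ := mem_lattice.1 (inLeech_spec hrL)
    have hm0 : m' = 0 := by
      have h1 := hp' (ptN 0)
      have h2 := heven 0 (by omega)
      rw [vecOf, idx_ptN (by omega)] at h1
      omega
    have e : ∀ i < 24, 4 * (bif f i then (1 : ℤ) else 0) % 8 = (r.getD i 0 - x (ptN i)) % 8 := fun i hi => by
      have h2 := heven i hi
      simp only [f, q, oddHalf]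
      rcases hsign i hi with e | e
      · simp [e]
      · by_cases e' : x (ptN i) = r.getD i 0
        · simp [e']
        · have hne : (x (ptN i) != r.getD i 0) = true := by simpa using e'
          by_cases h4 : r.getD i 0 % 4 = 2
          · have : (r.getD i 0 != 0) = true := bne_iff_ne.2 (by omega)
            simp only [hne, beq_iff_eq.2 h4, this, Bool.and_self, cond_true]
            omega
          · simp only [beq_eq_false_iff_ne.2 h4, Bool.and_false, Bool.false_and, cond_false]
            omega
    have e2 : (4 * (((List.range 24).filter f).length : ℤ)) % 8 = (∑ p, (vecOf r p - x p)) % 8 := by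
      rw [length_filter_sum, ← pts_list, ← List.sum_map_mul_left]
      conv_lhs => rw [List.sum_int_mod]
      conv_rhs => rw [List.sum_int_mod]
      congr 2
      rw [List.map_map, List.map_map]
      refine List.map_congr_left fun i hi => ?_
      simp only [Function.comp]
      rw [vecOf, idx_ptN (List.mem_range.1 hi)]
      exact e i (List.mem_range.1 hi)
    rw [Finset.sum_sub_distrib] at e2
    have hx0 : m = 0 := by
      have h1 := hp (ptN 0)
      rcases hsign 0 (by omega) with e | e <;> have := heven 0 (by omega) <;> omega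
    omega
  refine ⟨K, hK, ?_⟩
  have hfin : ∀ p, flip (toSet C) x p = flip (toSet K) (vecOf r) p := fun p => by
    have hb := hpat (idx p).val
    rw [Nat.testBit_and, Nat.testBit_xor, testBit_suppMask, hpar, decide_eq_true (idx p).isLt,
      Bool.true_and] at hb
    simp only [Nat.zero_mod, show ((0 : ℕ) == 1) = false from rfl, Bool.and_false, Bool.xor_false,
      hfst, List.mem_filter, List.mem_range, (idx p).isLt, true_and, q, ptN_idx] at hb
    simp only [flip, mem_toSet, vecOf]
    set a := r.getD (idx p).val 0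
    have hxa : x p = a ∨ x p = -a := by
      have := hsign _ (idx p).isLt
      rwa [ptN_idx] at this
    by_cases ha : a = 0
    · have : x p = 0 := by omega
      simp [ha, this]
    · have hab : (a != 0) = true := by simpa using ha
      rw [hab, Bool.and_true, decide_eq_true rfl, Bool.true_and] at hb
      cases hC' : C.testBit (idx p).val <;> cases hK' : K.testBit (idx p).val <;>
        rw [hC', hK'] at hb <;> rcases hxa with e | e <;> simp [e] at hb ⊢ <;> omega
  exact ⟨_, toSet_mem hC hClt, funext hfin⟩

/-- A vector with the same absolute values moves to a representative with one of the listed sign classes. -/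
theorem move_signs {r : List ℤ} {cls : List ℕ} {w : ℕ × List (ℕ × ℕ × ℕ)} (h : witOk r cls w = true)
    (hx : x ∈ leechLattice) (habs : ∀ p, (x p).natAbs = (vecOf r p).natAbs) :
    ∃ k ∈ cls, MoveIn crossStab x (flip (toSet k) (vecOf r)) := by
  obtain ⟨k, hk, C, hC, e⟩ := exists_flip h hx habs
  exact ⟨k, hk, e ▸ move_flip hC (le_refl crossStab) hx⟩

end CfsgLib.Leech
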