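/-
Positions of short vectors: each admissible pattern of absolute values is one orbit of the Mathieu group.
-/
import Cfsg.Agent.Leech.Move
import Cfsg.Agent.Golay.OctStab
import Cfsg.Agent.Golay.DodStab

set_option autoImplicit false

namespace CfsgLib.Leech

open Cfsg CfsgLib.Golay Finset
open scoped Pointwise

/-- The places of a given absolute value. -/
def lev (x : GolayPt → ℤ) (k : ℕ) : Finset GolayPt := univ.filter fun p => (x p).natAbs = k

theorem mem_lev {x : GolayPt → ℤ} {k : ℕ} {p : GolayPt} : p ∈ lev x k ↔ (x p).natAbs = k := by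
  simp [lev]

/-- A permutation carries the absolute values of one vector to those of another. -/
def Fits (x r : GolayPt → ℤ) : Prop := ∃ σ ∈ M24, ∀ p, (x (σ p)).natAbs = (r p).natAbs

theorem fits_of_levels {x r : GolayPt → ℤ} {σ : Equiv.Perm GolayPt} (hσ : σ ∈ M24) (k0 : ℕ) (ks : List ℕ)
    (hx : ∀ p, (x p).natAbs = k0 ∨ (x p).natAbs ∈ ks) (hr : ∀ p, (r p).natAbs = k0 ∨ (r p).natAbs ∈ ks)
    (h : ∀ k ∈ ks, σ • lev r k = lev x k) : Fits x r := by
  refine ⟨σ, hσ, fun p => ?_⟩
  have key : ∀ k ∈ ks, ((r p).natAbs = k ↔ (x (σ p)).natAbs = k) := fun k hk => by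
    rw [← mem_lev, ← mem_lev, ← h k hk]
    exact (Finset.smul_mem_smul_finset_iff σ).symm
  rcases hr p with e | e
  · rcases hx (σ p) with e' | e'
    · rw [e, e']
    · exact ((key _ e').2 rfl).symm
  · exact (key _ e).1 rfl

theorem smul_compl' (σ : Equiv.Perm GolayPt) (s : Finset GolayPt) : σ • sᶜ = (σ • s)ᶜ := by
  ext p
  simp [← Finset.inv_smul_mem_iff]

/-- One small level. -/
theorem fits_small {x r : GolayPt → ℤ} (k0 k n : ℕ) (hn : n ≤ 5)
    (hx : ∀ p, (x p).natAbs = k0 ∨ (x p).natAbs = k) (hr : ∀ p, (r p).natAbs = k0 ∨ (r p).natAbs = k)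
    (cx : (lev x k).card = n) (cr : (lev r k).card = n) : Fits x r := by
  obtain ⟨σ, hσ, e⟩ := exists_map_set (s := lev r k) (t := lev x k) (by omega) (by omega)
  exact fits_of_levels hσ k0 [k] (by simpa using hx) (by simpa using hr) (by simpa using e)

/-- A single point and a pair. -/
theorem fits_one_two {x r : GolayPt → ℤ} (k0 k l : ℕ) (hkl : k ≠ l)
    (hx : ∀ p, (x p).natAbs = k0 ∨ (x p).natAbs = k ∨ (x p).natAbs = l)
    (hr : ∀ p, (r p).natAbs = k0 ∨ (r p).natAbs = k ∨ (r p).natAbs = l)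
    (cx : (lev x k).card = 1) (cr : (lev r k).card = 1)
    (dx : (lev x l).card = 2) (dr : (lev r l).card = 2) : Fits x r := by
  obtain ⟨a, ha⟩ := card_eq_one.1 cx
  obtain ⟨a', ha'⟩ := card_eq_one.1 cr
  obtain ⟨b, c, hbc, hb⟩ := card_eq_two.1 dx
  obtain ⟨b', c', hbc', hb'⟩ := card_eq_two.1 dr
  have ne : ∀ (y : GolayPt → ℤ) u v, lev y k = {u} → v ∈ lev y l → u ≠ v := fun y u v h h' e => by
    have h1 : u ∈ lev y k := h ▸ mem_singleton_self u
    rw [mem_lev] at h1
    rw [← e, mem_lev] at h'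
    exact hkl (h1.symm.trans h')
  have hab := ne x a b ha (by simp [hb]); have hac := ne x a c ha (by simp [hb])
  have hab' := ne r a' b' ha' (by simp [hb']); have hac' := ne r a' c' ha' (by simp [hb'])
  obtain ⟨σ, hσ, e⟩ := exists_map_tuple (n := 3) (by omega) ![a', b', c'] ![a, b, c]
    (by intro i j h; fin_cases i <;> fin_cases j <;> simp_all)
    (by intro i j h; fin_cases i <;> fin_cases j <;> simp_all)
  have e0 : σ a' = a := e 0
  have e1 : σ b' = b := e 1
  have e2 : σ c' = c := e 2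
  refine fits_of_levels hσ k0 [k, l] (by simpa using hx) (by simpa using hr) ?_
  intro m hm
  simp only [List.mem_cons, List.not_mem_nil, or_false] at hm
  rcases hm with rfl | rfl
  · rw [ha', ha, Finset.smul_finset_singleton, Equiv.Perm.smul_def, e0]
  · rw [hb', hb, Finset.smul_finset_insert, Finset.smul_finset_singleton, Equiv.Perm.smul_def,
      Equiv.Perm.smul_def, e1, e2]

/-- An octad with one of its points. -/
theorem map_octad_in {o o' : Finset GolayPt} (ho : o ∈ octads) (ho' : o' ∈ octads) {p p' : GolayPt}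
    (hp : p ∈ o) (hp' : p' ∈ o') : ∃ σ ∈ M24, σ • o = o' ∧ σ p = p' := by
  have tup : ∀ (u : Finset GolayPt) (q : GolayPt), u.card = 8 → q ∈ u →
      ∃ f : Fin 5 → GolayPt, Function.Injective f ∧ f 0 = q ∧ ∀ i, f i ∈ u := fun u q hu hq => by
    let e := u.equivFinOfCardEq hu
    refine ⟨fun i => (e.symm (Equiv.swap 0 (e ⟨q, hq⟩) (Fin.castLE (by omega) i))).1,
      fun i j h => Fin.castLE_injective _ ((Equiv.swap _ _).injective (e.symm.injective (Subtype.ext h))), ?_,
      fun i => Subtype.prop _⟩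
    show (e.symm (Equiv.swap 0 (e ⟨q, hq⟩) 0)).1 = q
    rw [Equiv.swap_apply_left, e.symm_apply_apply]
  obtain ⟨f, hf, hf0, hfo⟩ := tup o p (card_of_mem_octads ho) hp
  obtain ⟨g, hg, hg0, hgo⟩ := tup o' p' (card_of_mem_octads ho') hp'
  obtain ⟨σ, hσ, e⟩ := exists_map_tuple (n := 5) le_rfl f g hf hg
  refine ⟨σ, hσ, octad_unique (smul_mem_octads hσ ho) ho' (s := univ.image g) ?_ ?_ ?_, by rw [← hf0, e, hg0]⟩
  · rw [card_image_of_injective _ hg, card_univ, Fintype.card_fin]
  · intro q hq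
    obtain ⟨i, -, rfl⟩ := Finset.mem_image.1 hq
    rw [← e i]
    exact Finset.smul_mem_smul_finset (a := σ) (hfo i)
  · intro q hq
    obtain ⟨i, -, rfl⟩ := Finset.mem_image.1 hq
    exact hgo i

/-- The stabiliser of the octad and the point one is transitive outside. -/
theorem outer_ok : (outerTabs.all fun g => validTab g && presTab g && Nat.beq (actTab g octO) octO &&
      Nat.beq (g.getD 1 0) 1) = true ∧
    (List.range 24).all (fun j => octO.testBit j || Nat.beq j 1 ||
      outerTabs.any fun g => Nat.beq (g.getD 3 0) j) = true := by decide +kernel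

theorem map_octad_out {o : Finset GolayPt} (ho : o ∈ octads) {q : GolayPt} (hq : q ∉ o) :
    ∃ σ ∈ M24, σ • OctStab.O = o ∧ σ (ptN 1) = q := by
  obtain ⟨g, hg, e⟩ := exists_map_octad OctStab.O_mem ho
  have hq' : (2 ^ (idx (g⁻¹ q)).val) ∈ ptMasks octO false := by
    rw [← mask_singleton]
    refine mask_mem_ptMasks (Bool.eq_false_iff.2 fun h => hq ?_)
    have := Finset.smul_mem_smul_finset (a := g) (mem_toSet.2 h)
    rw [e] at this
    simpa using this
  rw [← mask_singleton] at hq'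
  obtain ⟨τ, hτ, e'⟩ := exists_map_of_orbitOk (s := {ptN 1}) (t := {g⁻¹ q}) OctStab.fix_lt (by omega)
    OctStab.gens_ok OctStab.okPtOut (mask_mem_ptMasks (b := false) (by decide +kernel)) hq'
  rw [Finset.smul_finset_singleton, singleton_inj, Equiv.Perm.smul_def] at e'
  refine ⟨g * τ, mul_mem hg (OctStab.of_mem hτ).1, by rw [mul_smul, (OctStab.of_mem hτ).2, e], ?_⟩
  rw [Equiv.Perm.mul_apply, e']
  simp

theorem map_octad_out_two {o : Finset GolayPt} (ho : o ∈ octads) {q q' : GolayPt} (hq : q ∉ o) (hq' : q' ∉ o)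
    (hne : q ≠ q') : ∃ σ ∈ M24, σ • OctStab.O = o ∧ σ (ptN 1) = q ∧ σ (ptN 3) = q' := by
  obtain ⟨g, hg, e, e1⟩ := map_octad_out ho hq
  have h := outer_ok
  simp only [List.all_eq_true, List.mem_range, Bool.and_eq_true, Bool.or_eq_true, Nat.beq_eq,
    List.any_eq_true] at h
  obtain ⟨t, ht, htj⟩ : ∃ t ∈ outerTabs, t.getD 3 0 = (idx (g⁻¹ q')).val := by
    rcases h.2 _ (idx (g⁻¹ q')).isLt with (h1 | h1) | h1
    · refine absurd ?_ hq'
      have := Finset.smul_mem_smul_finset (a := g) (mem_toSet.2 h1)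
      rw [show toSet octO = OctStab.O from rfl, e] at this
      simpa using this
    · refine absurd ?_ hne
      have : g⁻¹ q' = ptN 1 := by rw [← ptN_idx (g⁻¹ q'), h1]
      rw [← e1, ← this]
      simp
    · exact h1
  obtain ⟨⟨⟨hv, hp⟩, hO⟩, h1⟩ := h.1 t ht
  have hfix : permOf t • OctStab.O = OctStab.O := by
    refine mask_injective ?_
    rw [mask_smul hv, mask_toSet OctStab.octO_lt, hO]
  have app : ∀ i < 24, permOf t (ptN i) = ptN (t.getD i 0) := fun i hi => by
    rw [← ptN_idx (permOf t (ptN i)), idx_permOf hv, idx_ptN hi]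
  refine ⟨g * permOf t, mul_mem hg (permOf_mem_M24 hv hp), by rw [mul_smul, hfix, e], ?_, ?_⟩
  · rw [Equiv.Perm.mul_apply, app 1 (by omega), h1, e1]
  · rw [Equiv.Perm.mul_apply, app 3 (by omega), htj, ptN_idx]
    simp

/-- A dodecad with an outer point. -/
theorem map_dod_out {d : Finset GolayPt} (hd : d ∈ dodecads) {p q : GolayPt} (hp : p ∉ DodStab.D)
    (hq : q ∉ d) : ∃ σ ∈ M24, σ • DodStab.D = d ∧ σ p = q := by
  obtain ⟨a, ha, e⟩ := DodStab.exists_map_dodecad DodStab.D_mem hd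
  obtain ⟨u, hu⟩ : d.Nonempty := card_pos.1 (by rw [card_of_mem_dodecads hd]; omega)
  have hap : a p ∉ d := fun h => hp (by rw [← e] at h; exact (Finset.smul_mem_smul_finset_iff a).1 h)
  obtain ⟨b, hb, eb, -, ebp⟩ := DodStab.exists_map_out (n := 1) (by omega) hd hu (fun _ => a p) (fun _ => q)
    (fun _ _ _ => Subsingleton.elim _ _) (fun _ _ _ => Subsingleton.elim _ _) (fun _ => hap) (fun _ => hq)
  exact ⟨b * a, mul_mem hb ha, by rw [mul_smul, e, eb], by rw [Equiv.Perm.mul_apply]; exact ebp 0⟩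

end CfsgLib.Leech
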