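/-
The automorphism group is transitive on the vectors of each of the three smallest norms.
-/
import Cfsg.Agent.Leech.Positions
import Cfsg.Agent.Leech.Congr

set_option autoImplicit false

namespace CfsgLib.Leech

open Cfsg CfsgLib.Golay Finset
open scoped Pointwise

/-- Representatives of the first norm with their words. -/
def list32 : List (List ℤ × List (List ℕ × ℕ × Bool)) :=
  [(repPair, wordPair), (repOct, wordOct), (repM3, wordM3)]

/-- Representatives of the second norm with their words. -/
def list48 : List (List ℤ × List (List ℕ × ℕ × Bool)) :=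
  [(repDod, wordDod), (repO4, wordO4), (repThree, wordThree), (repFive, wordFive)]

/-- A sign class of the representative on sixteen points. -/
def sixteenRep (k : ℕ) : List ℤ :=
  (List.range 24).map fun i => bif k.testBit i then -(repSixteen.getD i 0) else repSixteen.getD i 0

/-- Representatives of the third norm with their words. -/
def list64 : List (List ℤ × List (List ℕ × ℕ × Bool)) :=
  [(repCross, wordCross), (repQuad, wordQuad), (repSix, wordSix), (repO44, wordO44), (repD4, wordD4),
    (repFive33, wordFive33), (repT5, wordT5)] ++ List.zipWith (fun k w => (sixteenRep k, w)) sixteenCls sixteenWords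

theorem lists_ok : (list32.all fun p => carries p.2 p.1 repPair) = true ∧
    (list48.all fun p => carries p.2 p.1 repDod) = true ∧
    (list64.all fun p => carries p.2 p.1 repCross) = true ∧
    (sixteenCls.all fun k => (list64.map Prod.fst).contains (sixteenRep k)) = true := by decide +kernel

theorem wits32 : (witOk repPair [0] witPair && witOk repOct [0] witOct) = true := by decide +kernel

theorem wits48 : (witOk repDod [0] witDod && witOk repO4 [0] witO4) = true := by decide +kernel

theorem wits64 : (witOk repCross [0] witCross && witOk repQuad [0] witQuad && witOk repSix [0] witSix &&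
    witOk repO44 [0] witO44 && witOk repD4 [0] witD4) = true := by decide +kernel

theorem wit16 : witOk repSixteen sixteenCls witSixteen = true := by decide +kernel

theorem flip_zero (x : GolayPt → ℤ) : flip (toSet 0) x = x := by
  funext p; simp [flip, mem_toSet]

/-- An even vector of known pattern. -/
theorem move_even {r : List ℤ} {w : ℕ × List (ℕ × ℕ × ℕ)} (hw : witOk r [0] w = true)
    {x : GolayPt → ℤ} (hx : x ∈ leechLattice) (h : Fits x (vecOf r)) : MoveIn crossStab x (vecOf r) := by
  obtain ⟨σ, hσ, e⟩ := h
  have h1 := move_perm hσ (le_refl crossStab) hx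
  obtain ⟨k, hk, h2⟩ := move_signs hw h1.mem e
  rw [List.mem_singleton.1 hk, flip_zero] at h2
  exact h1.trans h2

/-- An odd vector of known pattern. -/
theorem move_odd {r : List ℤ} (hr : (List.range 24).all (fun i => r.getD i 0 % 4 == 1) = true)
    {x : GolayPt → ℤ} (hx : x ∈ leechLattice) (hodd : ∀ p, x p % 2 = 1) (h : Fits x (vecOf r)) :
    MoveIn crossStab x (vecOf r) := by
  obtain ⟨σ, hσ, e⟩ := h
  have h1 := move_perm hσ (le_refl crossStab) hx
  obtain ⟨m, -, hp, -, hc⟩ := mem_lattice.1 h1.mem
  have h2 := h1.trans (move_flip (support_mem hc) (le_refl crossStab) h1.mem)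
  have eq : flip (support₂ (half fun p => x (σ p))) (fun p => x (σ p)) = vecOf r := by
    funext p
    simp only [List.all_eq_true, List.mem_range, beq_iff_eq] at hr
    have h4 := hr _ (idx p).isLt
    have ho := hodd (σ p)
    have ha := e p
    simp only [vecOf] at ha ⊢
    by_cases hmem : p ∈ support₂ (half fun p => x (σ p))
    · simp only [flip, hmem, if_true]
      rw [mem_support_half] at hmem
      omega
    · simp only [flip, hmem, if_false]
      rw [mem_support_half] at hmem
      omega
  rw [eq] at h2
  exact h2

theorem natAbs_le_of_norm {x : GolayPt → ℤ} (h : sqNorm x ≤ 64) (p : GolayPt) : (x p).natAbs ≤ 8 := by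
  have h1 : x p ^ 2 ≤ 64 :=
    (single_le_sum (f := fun i => x i ^ 2) (fun i _ => sq_nonneg _) (mem_univ p)).trans h
  have h2 : ((x p).natAbs : ℤ) ^ 2 = x p ^ 2 := Int.natAbs_sq _
  have : ((x p).natAbs : ℤ) ≤ 8 := by nlinarith [Int.natCast_nonneg (x p).natAbs]
  omega

theorem sum_levels (x : GolayPt → ℤ) (f : ℕ → ℤ) (ks : List ℕ) (hnd : ks.Nodup)
    (hx : ∀ p, (x p).natAbs ∈ ks) :
    ∑ p, f (x p).natAbs = (ks.map fun k => f k * ((lev x k).card : ℤ)).sum := by
  rw [← List.sum_toFinset _ hnd, ← sum_fiberwise_of_maps_to (g := fun p => (x p).natAbs) (t := ks.toFinset)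
    (fun p _ => List.mem_toFinset.2 (hx p))]
  refine sum_congr rfl fun k _ => ?_
  rw [sum_congr rfl (g := fun _ => f k) fun p hp => by rw [(mem_filter.1 hp).2], sum_const,
    nsmul_eq_mul, mul_comm]
  rfl

theorem sq_natAbs (a : ℤ) : a ^ 2 = (((a.natAbs * a.natAbs : ℕ)) : ℤ) := by
  rw [Nat.cast_mul, ← pow_two, Int.natAbs_sq]

/-- The arithmetic of an even short vector. -/
theorem even_counts {x : GolayPt → ℤ} (hx : x ∈ leechLattice) (hev : ∀ p, x p % 2 = 0) {N : ℕ}
    (hn : sqNorm x = 4 * N) (hN : N ≤ 16) :
    (∀ p, (x p).natAbs ∈ [0, 2, 4, 6, 8]) ∧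
    (lev x 2).card + 4 * (lev x 4).card + 9 * (lev x 6).card + 16 * (lev x 8).card = N ∧
    (lev x 2 ∪ lev x 6) ∈ supports (golayCode : Set (GolayPt → ZMod 2)) ∧
    (lev x 2 ∪ lev x 6).card = (lev x 2).card + (lev x 6).card ∧
    ((lev x 2).card + (lev x 6).card = 0 → 2 ∣ (lev x 4).card) := by
  have hv : ∀ p, (x p).natAbs ∈ [0, 2, 4, 6, 8] := fun p => by
    have := natAbs_le_of_norm (x := x) (by omega) p
    have := hev p
    simp only [List.mem_cons, List.not_mem_nil, or_false]
    omega
  obtain ⟨m, hm, h1, h2, h3⟩ := mem_lattice.1 hx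
  have hm0 : m = 0 := by have := h1 none; have := hev none; omega
  subst hm0
  have hsupp : support₂ (half x) = lev x 2 ∪ lev x 6 := by
    ext p
    have := hv p
    simp only [List.mem_cons, List.not_mem_nil, or_false] at this
    rw [mem_support_half, mem_union, mem_lev, mem_lev]
    omega
  refine ⟨hv, ?_, hsupp ▸ support_mem h3, card_union_of_disjoint (disjoint_left.2 fun p h h' => ?_), fun h0 => ?_⟩
  · have e := sum_levels x (fun k => ((k * k : ℕ) : ℤ)) [0, 2, 4, 6, 8] (by decide) hv
    rw [show ∑ p, ((((x p).natAbs * (x p).natAbs : ℕ)) : ℤ) = sqNorm x from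
      sum_congr rfl fun p _ => (sq_natAbs _).symm, hn] at e
    simp at e
    omega
  · rw [mem_lev] at h h'
    omega
  · have e2 := Finset.card_eq_zero.1 (show (lev x 2).card = 0 by omega)
    have e6 := Finset.card_eq_zero.1 (show (lev x 6).card = 0 by omega)
    have e := sum_levels x (fun k => if k = 4 then (4 : ℤ) else 0) [0, 2, 4, 6, 8] (by decide) hv
    have e' : (∑ p, x p) % 8 = (∑ p, if (x p).natAbs = 4 then (4 : ℤ) else 0) % 8 := by
      rw [sum_int_mod, sum_int_mod univ 8 fun p => if (x p).natAbs = 4 then (4 : ℤ) else 0]
      refine congrArg (· % 8) (sum_congr rfl fun p _ => ?_)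
      have := hv p
      have n2 : p ∉ lev x 2 := by simp [e2]
      have n6 : p ∉ lev x 6 := by simp [e6]
      rw [mem_lev] at n2 n6
      simp only [List.mem_cons, List.not_mem_nil, or_false] at this
      split_ifs <;> omega
    rw [e] at e'
    generalize ∑ p, x p = t at e' h2
    simp at e'
    omega

/-- The arithmetic of an odd short vector. -/
theorem odd_counts {x : GolayPt → ℤ} (hod : ∀ p, x p % 2 = 1) {n : ℤ} (hn : sqNorm x = n) (hN : n ≤ 64) :
    (∀ p, (x p).natAbs ∈ [1, 3, 5, 7]) ∧
    24 + 8 * ((lev x 3).card : ℤ) + 24 * (lev x 5).card + 48 * (lev x 7).card = n := by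
  have hv : ∀ p, (x p).natAbs ∈ [1, 3, 5, 7] := fun p => by
    have := natAbs_le_of_norm (x := x) (by omega) p
    have := hod p
    simp only [List.mem_cons, List.not_mem_nil, or_false]
    omega
  refine ⟨hv, ?_⟩
  have e := sum_levels x (fun k => ((k * k : ℕ) : ℤ)) [1, 3, 5, 7] (by decide) hv
  have e1 := sum_levels x (fun _ => (1 : ℤ)) [1, 3, 5, 7] (by decide) hv
  rw [show ∑ p, ((((x p).natAbs * (x p).natAbs : ℕ)) : ℤ) = sqNorm x from
    sum_congr rfl fun p _ => (sq_natAbs _).symm, hn] at e
  rw [sum_const, card_univ, card_pt] at e1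
  simp at e e1
  omega

theorem mem_octads_of {s : Finset GolayPt} (h : s ∈ supports (golayCode : Set (GolayPt → ZMod 2)))
    (hc : s.card = 8) : s ∈ octads := ⟨h, hc⟩

theorem compl_mem {s : Finset GolayPt} (h : s ∈ supports (golayCode : Set (GolayPt → ZMod 2))) :
    sᶜ ∈ supports (golayCode : Set (GolayPt → ZMod 2)) := by
  obtain ⟨w, hw, rfl⟩ := h
  refine ⟨w + 1, add_mem hw one_mem_code, ?_⟩
  ext p
  rcases (by decide : ∀ a : ZMod 2, a = 0 ∨ a = 1) (w p) with e | e <;> simp [support₂, e] <;> decide

theorem not_lev {x : GolayPt → ℤ} {k : ℕ} (h : (lev x k).card = 0) (p : GolayPt) : (x p).natAbs ≠ k := by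
  have : p ∉ lev x k := by simp [Finset.card_eq_zero.1 h]
  rwa [mem_lev] at this

/-- The monomial orbits of the first norm. -/
theorem pattern32 {x : GolayPt → ℤ} (hx : x ∈ leechLattice) (hn : sqNorm x = 32) :
    ∃ r ∈ list32.map Prod.fst, MoveIn crossStab x (vecOf r) := by
  have hs := wits32
  simp only [Bool.and_eq_true] at hs
  obtain ⟨sP, sO⟩ := hs
  obtain ⟨m, hm, hpar, -, -⟩ := mem_lattice.1 hx
  rcases hm with rfl | rfl
  · obtain ⟨hv, hsum, hcode, hcard, hpair⟩ := even_counts hx hpar (N := 8) (by omega) (by omega)
    have n6 := not_lev (show (lev x 6).card = 0 by omega)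
    have n8 := not_lev (show (lev x 8).card = 0 by omega)
    simp only [List.mem_cons, List.not_mem_nil, or_false] at hv
    rcases support_card_cases (mem_supports_iff.1 hcode) with e | e | e | e | e <;> try omega
    · have n2 := not_lev (show (lev x 2).card = 0 by omega)
      refine ⟨_, by simp [list32, list48, list64], move_even sP hx (fits_small 0 4 2 (by omega) (fun p => ?_) (by decide +kernel) (by omega)
        (by decide +kernel))⟩
      have := hv p; have := n6 p; have := n8 p; have := n2 p
      omega
    · have c6 := Finset.card_eq_zero.1 (show (lev x 6).card = 0 by omega)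
      rw [c6, union_empty] at hcode e
      obtain ⟨σ, hσ, eσ⟩ := exists_map_octad OctStab.O_mem (mem_octads_of hcode e)
      have n4 := not_lev (show (lev x 4).card = 0 by omega)
      refine ⟨_, by simp [list32, list48, list64], move_even sO hx (fits_of_levels hσ 0 [2] (fun p => ?_) (by decide +kernel) ?_)⟩
      · rw [List.mem_singleton]
        have := hv p; have := n6 p; have := n8 p; have := n4 p
        omega
      · intro k hk
        rw [List.mem_singleton.1 hk, show lev (vecOf repOct) 2 = OctStab.O from by decide +kernel, eσ]
  · obtain ⟨hv, hsum⟩ := odd_counts hpar hn (by omega)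
    simp only [List.mem_cons, List.not_mem_nil, or_false] at hv
    have n5 := not_lev (show (lev x 5).card = 0 by omega)
    have n7 := not_lev (show (lev x 7).card = 0 by omega)
    refine ⟨repM3, by simp [list32, list48, list64], move_odd (by decide +kernel) hx hpar (fits_small 1 3 1 (by omega) (fun p => ?_) (by decide +kernel)
      (by omega) (by decide +kernel))⟩
    have := hv p; have := n5 p; have := n7 p
    omega

/-- The monomial orbits of the second norm. -/
theorem pattern48 {x : GolayPt → ℤ} (hx : x ∈ leechLattice) (hn : sqNorm x = 48) :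
    ∃ r ∈ list48.map Prod.fst, MoveIn crossStab x (vecOf r) := by
  have hs := wits48
  simp only [Bool.and_eq_true] at hs
  obtain ⟨sD, sO4⟩ := hs
  obtain ⟨m, hm, hpar, -, -⟩ := mem_lattice.1 hx
  rcases hm with rfl | rfl
  · obtain ⟨hv, hsum, hcode, hcard, hpair⟩ := even_counts hx hpar (N := 12) (by omega) (by omega)
    have n8 := not_lev (show (lev x 8).card = 0 by omega)
    simp only [List.mem_cons, List.not_mem_nil, or_false] at hv
    rcases support_card_cases (mem_supports_iff.1 hcode) with e | e | e | e | e <;> try omega
    · have c6 := Finset.card_eq_zero.1 (show (lev x 6).card = 0 by omega)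
      rw [c6, union_empty] at hcode e
      obtain ⟨q, hq⟩ := card_eq_one.1 (show (lev x 4).card = 1 by omega)
      have hqo : q ∉ lev x 2 := by
        have : q ∈ lev x 4 := hq ▸ mem_singleton_self q
        rw [mem_lev] at this ⊢
        omega
      obtain ⟨σ, hσ, eσ, eq'⟩ := map_octad_out (mem_octads_of hcode e) hqo
      have n6 := not_lev (show (lev x 6).card = 0 by rw [c6, card_empty])
      refine ⟨_, by simp [list32, list48, list64], move_even sO4 hx (fits_of_levels hσ 0 [2, 4] (fun p => ?_) (by decide +kernel) ?_)⟩
      · simp only [List.mem_cons, List.not_mem_nil, or_false]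
        have := hv p; have := n6 p; have := n8 p
        omega
      · intro k hk
        simp only [List.mem_cons, List.not_mem_nil, or_false] at hk
        rcases hk with rfl | rfl
        · rw [show lev (vecOf repO4) 2 = OctStab.O from by decide +kernel, eσ]
        · rw [show lev (vecOf repO4) 4 = {ptN 1} from by decide +kernel, smul_finset_singleton,
            Equiv.Perm.smul_def, eq', hq]
    · have c6 := Finset.card_eq_zero.1 (show (lev x 6).card = 0 by omega)
      rw [c6, union_empty] at hcode e
      obtain ⟨σ, hσ, eσ⟩ := DodStab.exists_map_dodecad DodStab.D_mem (d' := lev x 2) ⟨hcode, e⟩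
      have n4 := not_lev (show (lev x 4).card = 0 by omega)
      have n6 := not_lev (show (lev x 6).card = 0 by rw [c6, card_empty])
      refine ⟨_, by simp [list32, list48, list64], move_even sD hx (fits_of_levels hσ 0 [2] (fun p => ?_) (by decide +kernel) ?_)⟩
      · rw [List.mem_singleton]
        have := hv p; have := n6 p; have := n8 p; have := n4 p
        omega
      · intro k hk
        rw [List.mem_singleton.1 hk, show lev (vecOf repDod) 2 = DodStab.D from by decide +kernel, eσ]
  · obtain ⟨hv, hsum⟩ := odd_counts hpar hn (by omega)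
    simp only [List.mem_cons, List.not_mem_nil, or_false] at hv
    have n7 := not_lev (show (lev x 7).card = 0 by omega)
    rcases eq_or_ne (lev x 5).card 0 with h5 | h5
    · have n5 := not_lev h5
      refine ⟨repThree, by simp [list32, list48, list64], move_odd (by decide +kernel) hx hpar (fits_small 1 3 3 (by omega) (fun p => ?_)
        (by decide +kernel) (by omega) (by decide +kernel))⟩
      have := hv p; have := n5 p; have := n7 p
      omega
    · have n3 := not_lev (show (lev x 3).card = 0 by omega)
      refine ⟨repFive, by simp [list32, list48, list64], move_odd (by decide +kernel) hx hpar (fits_small 1 5 1 (by omega) (fun p => ?_)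
        (by decide +kernel) (by omega) (by decide +kernel))⟩
      have := hv p; have := n3 p; have := n7 p
      omega

/-- The monomial orbits of the third norm. -/
theorem pattern64 {x : GolayPt → ℤ} (hx : x ∈ leechLattice) (hn : sqNorm x = 64) :
    ∃ r ∈ list64.map Prod.fst, MoveIn crossStab x (vecOf r) := by
  have hs := wits64
  simp only [Bool.and_eq_true] at hs
  obtain ⟨⟨⟨⟨sC, sQ⟩, sS⟩, sO44⟩, sD4⟩ := hs
  obtain ⟨m, hm, hpar, -, -⟩ := mem_lattice.1 hx
  rcases hm with rfl | rfl
  · obtain ⟨hv, hsum, hcode, hcard, hpair⟩ := even_counts hx hpar (N := 16) (by omega) (by omega)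
    simp only [List.mem_cons, List.not_mem_nil, or_false] at hv
    rcases support_card_cases (mem_supports_iff.1 hcode) with e | e | e | e | e <;> try omega
    · have n2 := not_lev (show (lev x 2).card = 0 by omega)
      have n6 := not_lev (show (lev x 6).card = 0 by omega)
      rcases eq_or_ne (lev x 8).card 0 with h8 | h8
      · have n8 := not_lev h8
        refine ⟨_, by simp [list32, list48, list64], move_even sQ hx (fits_small 0 4 4 (by omega) (fun p => ?_) (by decide +kernel) (by omega)
          (by decide +kernel))⟩
        have := hv p; have := n2 p; have := n6 p; have := n8 p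
        omega
      · have n4 := not_lev (show (lev x 4).card = 0 by omega)
        refine ⟨_, by simp [list32, list48, list64], move_even sC hx (fits_small 0 8 1 (by omega) (fun p => ?_) (by decide +kernel) (by omega)
          (by decide +kernel))⟩
        have := hv p; have := n2 p; have := n6 p; have := n4 p
        omega
    · have n8 := not_lev (show (lev x 8).card = 0 by omega)
      rcases eq_or_ne (lev x 6).card 0 with h6 | h6
      · have n6 := not_lev h6
        rw [Finset.card_eq_zero.1 h6, union_empty] at hcode e
        obtain ⟨q, q', hqq, hq⟩ := card_eq_two.1 (show (lev x 4).card = 2 by omega)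
        have hout : ∀ u ∈ lev x 4, u ∉ lev x 2 := fun u h h' => by
          rw [mem_lev] at h h'
          omega
        obtain ⟨σ, hσ, eσ, e1, e3⟩ := map_octad_out_two (mem_octads_of hcode e) (hout q (by simp [hq]))
          (hout q' (by simp [hq])) hqq
        refine ⟨_, by simp [list32, list48, list64], move_even sO44 hx (fits_of_levels hσ 0 [2, 4] (fun p => ?_) (by decide +kernel) ?_)⟩
        · simp only [List.mem_cons, List.not_mem_nil, or_false]
          have := hv p; have := n6 p; have := n8 p
          omega
        · intro k hk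
          simp only [List.mem_cons, List.not_mem_nil, or_false] at hk
          rcases hk with rfl | rfl
          · rw [show lev (vecOf repO44) 2 = OctStab.O from by decide +kernel, eσ]
          · rw [show lev (vecOf repO44) 4 = {ptN 1, ptN 3} from by decide +kernel, smul_finset_insert,
              smul_finset_singleton, Equiv.Perm.smul_def, Equiv.Perm.smul_def, e1, e3, hq]
      · have n4 := not_lev (show (lev x 4).card = 0 by omega)
        obtain ⟨q, hq⟩ := card_eq_one.1 (show (lev x 6).card = 1 by omega)
        obtain ⟨σ, hσ, eσ, eq'⟩ := map_octad_in OctStab.O_mem (mem_octads_of hcode e)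
          (show ptN 23 ∈ OctStab.O by decide +kernel) (show q ∈ lev x 2 ∪ lev x 6 by simp [hq])
        refine ⟨_, by simp [list32, list48, list64], move_even sS hx (fits_of_levels hσ 2 [0, 6] (fun p => ?_) (by decide +kernel) ?_)⟩
        · simp only [List.mem_cons, List.not_mem_nil, or_false]
          have := hv p; have := n4 p; have := n8 p
          omega
        · intro k hk
          simp only [List.mem_cons, List.not_mem_nil, or_false] at hk
          rcases hk with rfl | rfl
          · have hc : lev x 0 = (lev x 2 ∪ lev x 6)ᶜ := by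
              ext p
              have := hv p; have := n4 p; have := n8 p
              rw [mem_compl, mem_union, mem_lev, mem_lev, mem_lev]
              omega
            rw [show lev (vecOf repSix) 0 = OctStab.Oᶜ from by decide +kernel, smul_compl', eσ, hc]
          · rw [show lev (vecOf repSix) 6 = {ptN 23} from by decide +kernel, smul_finset_singleton,
              Equiv.Perm.smul_def, eq', hq]
    · have n6 := not_lev (show (lev x 6).card = 0 by omega)
      have n8 := not_lev (show (lev x 8).card = 0 by omega)
      rw [Finset.card_eq_zero.1 (show (lev x 6).card = 0 by omega), union_empty] at hcode e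
      obtain ⟨q, hq⟩ := card_eq_one.1 (show (lev x 4).card = 1 by omega)
      have hqo : q ∉ lev x 2 := by
        have : q ∈ lev x 4 := hq ▸ mem_singleton_self q
        rw [mem_lev] at this ⊢
        omega
      obtain ⟨σ, hσ, eσ, eq'⟩ := map_dod_out (p := ptN 23) (show lev x 2 ∈ dodecads from ⟨hcode, e⟩)
        (by decide +kernel) hqo
      refine ⟨_, by simp [list32, list48, list64], move_even sD4 hx (fits_of_levels hσ 0 [2, 4] (fun p => ?_) (by decide +kernel) ?_)⟩
      · simp only [List.mem_cons, List.not_mem_nil, or_false]
        have := hv p; have := n6 p; have := n8 p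
        omega
      · intro k hk
        simp only [List.mem_cons, List.not_mem_nil, or_false] at hk
        rcases hk with rfl | rfl
        · rw [show lev (vecOf repD4) 2 = DodStab.D from by decide +kernel, eσ]
        · rw [show lev (vecOf repD4) 4 = {ptN 23} from by decide +kernel, smul_finset_singleton,
            Equiv.Perm.smul_def, eq', hq]
    · have n4 := not_lev (show (lev x 4).card = 0 by omega)
      have n6 := not_lev (show (lev x 6).card = 0 by omega)
      have n8 := not_lev (show (lev x 8).card = 0 by omega)
      rw [Finset.card_eq_zero.1 (show (lev x 6).card = 0 by omega), union_empty] at hcode e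
      obtain ⟨σ, hσ, eσ⟩ := exists_map_octad OctStab.O_mem (mem_octads_of (compl_mem hcode)
        (by rw [card_compl, card_pt, e]))
      have hfit : Fits x (vecOf repSixteen) := by
        refine fits_of_levels hσ 0 [2] (fun p => ?_) (by decide +kernel) ?_
        · rw [List.mem_singleton]
          have := hv p; have := n4 p; have := n6 p; have := n8 p
          omega
        · intro k hk
          rw [List.mem_singleton.1 hk, show lev (vecOf repSixteen) 2 = OctStab.Oᶜ from by decide +kernel,
            smul_compl', eσ, compl_compl]
      obtain ⟨σ', hσ', e'⟩ := hfit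
      have h1 := move_perm hσ' (le_refl crossStab) hx
      obtain ⟨k, hk, h2⟩ := move_signs wit16 h1.mem e'
      refine ⟨sixteenRep k, List.contains_iff_mem.1 (List.all_eq_true.1 lists_ok.2.2.2 k hk), ?_⟩
      have hflip : vecOf (sixteenRep k) = flip (toSet k) (vecOf repSixteen) := by
        rw [sixteenRep, vecOf_map]
        funext p
        simp only [flip, mem_toSet, vecOf]
        cases k.testBit (idx p).val <;> simp
      rw [hflip]
      exact h1.trans h2
  · obtain ⟨hv, hsum⟩ := odd_counts hpar hn (by omega)
    simp only [List.mem_cons, List.not_mem_nil, or_false] at hv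
    have n7 := not_lev (show (lev x 7).card = 0 by omega)
    rcases eq_or_ne (lev x 5).card 0 with h5 | h5
    · have n5 := not_lev h5
      refine ⟨repT5, by simp [list32, list48, list64], move_odd (by decide +kernel) hx hpar (fits_small 1 3 5 (by omega) (fun p => ?_)
        (by decide +kernel) (by omega) (by decide +kernel))⟩
      have := hv p; have := n5 p; have := n7 p
      omega
    · refine ⟨repFive33, by simp [list32, list48, list64], move_odd (by decide +kernel) hx hpar (fits_one_two 1 5 3 (by omega) (fun p => ?_)
        (by decide +kernel) (by omega) (by decide +kernel) (by omega) (by decide +kernel))⟩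
      have := hv p; have := n7 p
      omega

/-- The group generated by the stabiliser of the standard cross and the exceptional map. -/
def gen : Subgroup Co0 := crossStab ⊔ Subgroup.zpowers xi

theorem xi_mem_gen : xi ∈ gen := Subgroup.mem_sup_right (Subgroup.mem_zpowers xi)

theorem to_target {l : List (List ℤ × List (List ℕ × ℕ × Bool))} {t : List ℤ}
    (hl : (l.all fun p => carries p.2 p.1 t) = true) {x : GolayPt → ℤ}
    (h : ∃ r ∈ l.map Prod.fst, MoveIn crossStab x (vecOf r)) : MoveIn gen x (vecOf t) := by
  obtain ⟨r, hr, h⟩ := h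
  obtain ⟨p, hp, rfl⟩ := List.mem_map.1 hr
  exact (h.mono le_sup_left).trans (carries_spec le_sup_left xi_mem_gen (List.all_eq_true.1 hl p hp)).2

theorem gen_top : gen = ⊤ := top_le_iff.1 fun g _ => by
  have h := to_target lists_ok.2.2.1 (pattern64 (g • eight none).2 ((g.2.2 _).trans (cross_mem (eight_mem_cross none)).2))
  obtain ⟨k, hk, e⟩ := move_smul (w := eight none) ((show (eight none).1 = vecOf repCross from by
    funext p; exact (by decide +kernel : ∀ p, (Pi.single none 8 : GolayPt → ℤ) p = vecOf repCross p) p) ▸ h)
  have hkg : k * g ∈ crossStab := mem_crossStab_of_eight (i := none) (by rw [mul_smul, e]; exact eight_mem_cross none)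
  simpa using mul_mem (inv_mem hk) (Subgroup.mem_sup_left (T := Subgroup.zpowers xi) hkg : k * g ∈ gen)

theorem transitive_of {l : List (List ℤ × List (List ℕ × ℕ × Bool))} {t : List ℤ}
    (hl : (l.all fun p => carries p.2 p.1 t) = true) {x y : GolayPt → ℤ}
    (h : ∃ r ∈ l.map Prod.fst, MoveIn crossStab x (vecOf r))
    (h' : ∃ r ∈ l.map Prod.fst, MoveIn crossStab y (vecOf r)) : MoveIn ⊤ x y :=
  ((to_target hl h).trans (to_target hl h').symm).mono le_top

theorem transitive32 {v w : leechLattice} (h : sqNorm v.1 = 32) (h' : sqNorm w.1 = 32) :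
    ∃ g : Co0, g • v = w := by
  obtain ⟨g, -, e⟩ := move_smul (transitive_of lists_ok.1 (pattern32 v.2 h) (pattern32 w.2 h'))
  exact ⟨g, e⟩

theorem transitive48 {v w : leechLattice} (h : sqNorm v.1 = 48) (h' : sqNorm w.1 = 48) :
    ∃ g : Co0, g • v = w := by
  obtain ⟨g, -, e⟩ := move_smul (transitive_of lists_ok.2.1 (pattern48 v.2 h) (pattern48 w.2 h'))
  exact ⟨g, e⟩

theorem transitive64 {v w : leechLattice} (h : sqNorm v.1 = 64) (h' : sqNorm w.1 = 64) :
    ∃ g : Co0, g • v = w := by
  obtain ⟨g, -, e⟩ := move_smul (transitive_of lists_ok.2.2.1 (pattern64 v.2 h) (pattern64 w.2 h'))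
  exact ⟨g, e⟩

end CfsgLib.Leech
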