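/-
The stabiliser of the standard cross is maximal.
-/
import Cfsg.Agent.Leech.Orbits
import Cfsg.Agent.Leech.EscapeData

set_option autoImplicit false

namespace CfsgLib.Leech

open Cfsg CfsgLib.Golay

theorem eight_none_eq : (eight none).1 = vecOf repCross :=
  funext fun p => (by decide +kernel : ∀ p, (Pi.single none 8 : GolayPt → ℤ) p = vecOf repCross p) p

/-- Each step of a word is one automorphism. -/
theorem step_elt {s : List ℕ × ℕ × Bool}
    (hs : (validTab s.1 && presTab s.1 && inCode s.2.1 && Nat.blt s.2.1 (2 ^ 24)) = true) :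
    ∃ E : Co0, (s.2.2 = false → E ∈ crossStab) ∧ E ∈ gen ∧ ∀ (l : List ℤ) (hl : vecOf l ∈ leechLattice),
      (E • (⟨vecOf l, hl⟩ : leechLattice)).1 = vecOf (stepList s l) := by
  simp only [Bool.and_eq_true, Nat.blt_eq] at hs
  obtain ⟨⟨⟨hv, hp⟩, hc⟩, hlt⟩ := hs
  let M : Co0 := mono (inv_mem (permOf_mem_M24 hv hp)) (toSet_mem hc hlt)
  have hMS : M ∈ crossStab := mono_mem_crossStab _ _
  have hM : ∀ (l : List ℤ) (hl : vecOf l ∈ leechLattice), (M • (⟨vecOf l, hl⟩ : leechLattice)).1 =
      vecOf ((List.range 24).map fun j =>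
        bif s.2.1.testBit j then -(l.getD (s.1.getD j 0) 0) else l.getD (s.1.getD j 0) 0) := fun l hl => by
    rw [vecOf_map]
    funext p
    rw [show (M • (⟨vecOf l, hl⟩ : leechLattice)).1 p =
      signedPerm (permOf s.1)⁻¹ (toSet s.2.1) (vecOf l) p from rfl]
    simp only [signedPerm, vecOf, Equiv.Perm.inv_def, Equiv.symm_symm, idx_permOf hv, mem_toSet]
    by_cases h : s.2.1.testBit (idx p).val <;> simp [h]
  unfold stepList
  cases hb : s.2.2
  · exact ⟨M, fun _ => hMS, Subgroup.mem_sup_left hMS, hM⟩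
  · refine ⟨xi * M, fun h => Bool.noConfusion h, mul_mem xi_mem_gen (Subgroup.mem_sup_left hMS), fun l hl => ?_⟩
    rw [mul_smul, cond_true, vecOf_map]
    funext p
    rw [ptN_idx]
    show xiVal (M • (⟨vecOf l, hl⟩ : leechLattice)).1 p = _
    rw [hM]

theorem word_elt : ∀ {w : List (List ℕ × ℕ × Bool)}, wordOk w = true →
    ∃ E : Co0, ∀ (l : List ℤ) (hl : vecOf l ∈ leechLattice),
      (E • (⟨vecOf l, hl⟩ : leechLattice)).1 = vecOf (runWord w l)
  | [], _ => ⟨1, fun l hl => by rw [one_smul]; rfl⟩
  | s :: w, h => by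
    simp only [wordOk, List.all_cons, Bool.and_eq_true] at h
    obtain ⟨E, -, -, hE⟩ := step_elt (s := s) (by simpa only [Bool.and_eq_true] using h.1)
    obtain ⟨F, hF⟩ := word_elt (w := w) (by simpa only [wordOk] using h.2)
    refine ⟨F * E, fun l hl => ?_⟩
    rw [mul_smul, show E • (⟨vecOf l, hl⟩ : leechLattice) =
      ⟨vecOf (stepList s l), by rw [← hE l hl]; exact Subtype.prop _⟩ from Subtype.ext (hE l hl)]
    exact hF _ _

/-- A list with four fours and twenty zeros, inside the lattice. -/
def isQuad (l : List ℤ) : Bool :=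
  ((List.range 24).all fun i => l.getD i 0 == 0 || l.getD i 0 == 4 || l.getD i 0 == -4) &&
    Nat.beq ((List.range 24).filter fun i => l.getD i 0 != 0).length 4 && inLeech (vecOf l)

/-- One representative escapes to four fours. -/
def escapes (p : List ℤ × List (List ℕ × ℕ × Bool)) (s : List ℕ × ℕ × Bool) : Bool :=
  p.1 == repCross || p.1 == repQuad || (wordOk [s] && !s.2.2 && isQuad (runWord p.2 (stepList s p.1)))

theorem escapes_ok : List.all (list64.zip escapeSteps) (fun a => escapes a.1 a.2) = true ∧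
    list64.length = escapeSteps.length := by decide +kernel

theorem isQuad_move {l : List ℤ} (h : isQuad l = true) : MoveIn crossStab (vecOf l) (vecOf repQuad) := by
  simp only [isQuad, Bool.and_eq_true, List.all_eq_true, List.mem_range, Bool.or_eq_true, beq_iff_eq,
    Nat.beq_eq] at h
  obtain ⟨⟨hv, hc⟩, hL⟩ := h
  have hs := wits64
  simp only [Bool.and_eq_true] at hs
  have hv' : ∀ p, (vecOf l p).natAbs = 0 ∨ (vecOf l p).natAbs = 4 := fun p => by
    rcases hv _ (idx p).isLt with (e | e) | e <;> simp only [vecOf, e] <;> simp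
  refine move_even hs.1.1.1.2 (inLeech_spec hL) (fits_small 0 4 4 (by omega) hv' (by decide +kernel) ?_
    (by decide +kernel))
  have e : lev (vecOf l) 4 = (((List.range 24).filter fun i => l.getD i 0 != 0).map ptN).toFinset := by
    ext p
    have := hv' p
    simp only [mem_lev, List.mem_toFinset, List.mem_map, List.mem_filter, List.mem_range, bne_iff_ne]
    constructor
    · intro h4
      exact ⟨(idx p).val, ⟨(idx p).isLt, fun e0 => by rw [vecOf, e0] at h4; simp at h4⟩, ptN_idx p⟩
    · rintro ⟨i, ⟨hi, hne⟩, rfl⟩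
      simp only [vecOf, idx_ptN hi] at this ⊢
      omega
  rw [e, List.toFinset_card_of_nodup, List.length_map, hc]
  refine (List.nodup_range.filter _).map_on fun a ha b hb hab => ?_
  rw [List.mem_filter, List.mem_range] at ha hb
  rw [← idx_ptN ha.1, ← idx_ptN hb.1, hab]

theorem maximal {K : Subgroup Co0} (hK : crossStab ≤ K) (hne : ¬ K ≤ crossStab) : K = ⊤ := by
  obtain ⟨g, hg, hgS⟩ := SetLike.not_le_iff_exists.1 hne
  have key : ∀ {y : GolayPt → ℤ}, MoveIn K (eight none).1 y → ∀ {E : Co0},
      (E • eight none).1 = y → E ∈ K := fun {y} h E hE => by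
    obtain ⟨k, hk, hx, e⟩ := h
    have : k⁻¹ * E ∈ crossStab := mem_crossStab_of_eight (i := none) (by
      rw [mul_smul, show E • eight none = k • eight none from Subtype.ext (hE.trans e.symm), inv_smul_smul]
      exact eight_mem_cross none)
    simpa using mul_mem hk (hK this)
  have finish : MoveIn K (eight none).1 (vecOf repQuad) → K = ⊤ := fun h => by
    have hq : MoveIn crossStab (xi • eight none).1 (vecOf repQuad) := by
      have e : (xi • eight none).1 = vecOf ((List.range 24).map fun i => xiVal (vecOf repCross) (ptN i)) := by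
        rw [vecOf_map]
        funext p
        rw [ptN_idx, ← eight_none_eq]
        rfl
      rw [e]
      exact isQuad_move (by decide +kernel)
    have : xi ∈ K := key (h.trans (hq.mono hK).symm) rfl
    rw [← top_le_iff, ← gen_top]
    exact sup_le hK ((Subgroup.zpowers_le).2 this)
  have hyn : sqNorm (g • eight none).1 = 64 := (g.2.2 _).trans (cross_mem (eight_mem_cross none)).2
  obtain ⟨r, hr, h⟩ := pattern64 (g • eight none).2 hyn
  have hKr : MoveIn K (eight none).1 (vecOf r) :=
    MoveIn.trans ⟨g, hg, (eight none).2, rfl⟩ (h.mono hK)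
  obtain ⟨p, hp, rfl⟩ := List.mem_map.1 hr
  obtain ⟨i, hi, hip⟩ := List.mem_iff_getElem.1 hp
  have hi' : i < escapeSteps.length := escapes_ok.2 ▸ hi
  obtain ⟨t, he⟩ : ∃ t, escapes p t = true := by
    refine ⟨escapeSteps[i], List.all_eq_true.1 escapes_ok.1 (p, escapeSteps[i]) ?_⟩
    refine List.mem_iff_getElem.2 ⟨i, by rw [List.length_zip]; omega, ?_⟩
    rw [List.getElem_zip]
    exact Prod.ext hip rfl
  simp only [escapes, Bool.or_eq_true, beq_iff_eq, Bool.and_eq_true, Bool.not_eq_true'] at he
  rcases he with (e | e) | ⟨⟨hs, hf⟩, hquad⟩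
  · refine absurd ?_ hgS
    obtain ⟨k, hk, hy, e'⟩ := h
    have : k * g ∈ crossStab := mem_crossStab_of_eight (i := none) (by
      rw [mul_smul, show g • eight none = ⟨_, hy⟩ from rfl, e', e, ← eight_none_eq]
      exact eight_mem_cross none)
    simpa using mul_mem (inv_mem hk) this
  · exact finish (e ▸ hKr)
  · have hcar := List.all_eq_true.1 lists_ok.2.2.1 _ hp
    simp only [carries, Bool.and_eq_true, beq_iff_eq] at hcar
    obtain ⟨⟨hw, hrun⟩, hL⟩ := hcar
    obtain ⟨W, hW⟩ := word_elt hw
    obtain ⟨E, hE, -, hE'⟩ := step_elt (s := t) (by simpa [wordOk] using hs)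
    have hrL := inLeech_spec hL
    have hWK : W ∈ K := by
      have h1 : (W⁻¹ • eight none).1 = vecOf p.1 := by
        have : W • (⟨_, hrL⟩ : leechLattice) = eight none := Subtype.ext (by rw [hW, hrun, eight_none_eq])
        rw [← this, inv_smul_smul]
      simpa using inv_mem (key hKr h1)
    refine finish (hKr.trans (MoveIn.trans ?_ ((isQuad_move hquad).mono hK)))
    refine ⟨W * E, mul_mem hWK (hK (hE hf)), hrL, ?_⟩
    rw [mul_smul, show E • (⟨_, hrL⟩ : leechLattice) =
      ⟨vecOf (stepList t p.1), by rw [← hE' _ hrL]; exact Subtype.prop _⟩ from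
      Subtype.ext (hE' _ hrL)]
    exact hW _ _

theorem isCoatom_crossStab : IsCoatom crossStab := by
  refine ⟨fun h => ?_, fun K hK => maximal hK.le hK.not_ge⟩
  have hx : xi ∈ crossStab := h ▸ Subgroup.mem_top xi
  obtain ⟨i, s, hs, e⟩ := hx _ (eight_mem_cross none)
  have e' := congrFun e
  have hfour : (List.range 24).all (fun i => (xiVal (vecOf repCross) (ptN i)).natAbs != 8) = true := by
    decide +kernel
  have := e' i
  rw [show (xi • eight none).1 i = xiVal (eight none).1 i from rfl, Pi.single_eq_same, eight_none_eq] at this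
  have h8 := List.all_eq_true.1 hfour (idx i).val (List.mem_range.2 (idx i).isLt)
  rw [ptN_idx, this, bne_iff_ne] at h8
  omega

end CfsgLib.Leech
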