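/-
Counting short vectors by a table recursion.
-/
import Cfsg.Agent.Leech.Index
import Cfsg.Agent.Leech.CountData

set_option autoImplicit false

namespace CfsgLib.Leech

open Cfsg CfsgLib.Golay

/-! ### Tables -/

/-- All lists choosing from the given classes. -/
def choices : List (List ℤ) → Finset (List ℤ)
  | [] => {[]}
  | V :: cls => V.toFinset.biUnion fun v => (choices cls).image (List.cons v)

/-- The lists of given weight and residue. -/
def sols (f : ℤ → ℕ) (M : ℕ) (cls : List (List ℤ)) (N r : ℕ) : Finset (List ℤ) :=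
  (choices cls).filter fun a => (a.map f).sum = N ∧ (a.sum - (r : ℤ)) % (M : ℤ) = 0

/-- One step of the recursion. -/
def step (f : ℤ → ℕ) (M Nm : ℕ) (V : List ℤ) (T : List ℕ) : List ℕ :=
  (List.range ((Nm + 1) * M)).map fun k =>
    (V.map fun v => bif Nat.ble (f v) (k / M) then
      T.getD ((k / M - f v) * M + (((k % M : ℕ) : ℤ) - v).natMod M) 0 else 0).sum

/-- A chain of tables obeys the recursion. -/
def chk (f : ℤ → ℕ) (M Nm : ℕ) : List (List ℤ) → List (List ℕ) → Bool
  | [], [T] => T == (List.range ((Nm + 1) * M)).map fun k => bif Nat.beq k 0 then 1 else 0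
  | V :: cls, T :: T' :: Ts => (T == step f M Nm V T') && chk f M Nm cls (T' :: Ts)
  | _, _ => false

theorem chk_sound {f : ℤ → ℕ} {M Nm : ℕ} (hM : 0 < M) : ∀ (cls : List (List ℤ)) (Ts : List (List ℕ)),
    (∀ V ∈ cls, V.Nodup) → chk f M Nm cls Ts = true → ∀ N ≤ Nm, ∀ r < M,
      (sols f M cls N r).card = (Ts.headD []).getD (N * M + r) 0
  | [], [], _, h, _, _, _, _ => by simp [chk] at h
  | [], [T], _, h, N, hN, r, hr => by
    simp only [chk, beq_iff_eq] at h
    have hlt : N * M + r < (Nm + 1) * M := by nlinarith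
    rw [List.headD_cons, h, List.getD_eq_getElem _ _ (by simpa using hlt), List.getElem_map,
      List.getElem_range, sols, choices, Finset.filter_singleton]
    by_cases h0 : N = 0 ∧ r = 0
    · obtain ⟨rfl, rfl⟩ := h0
      simp
    · rw [if_neg, Finset.card_empty]
      · have : N * M + r ≠ 0 := fun e => h0 (by
          rcases Nat.add_eq_zero.1 e with ⟨e1, e2⟩
          exact ⟨(Nat.mul_eq_zero.1 e1).resolve_right (by omega), e2⟩)
        cases hb : Nat.beq (N * M + r) 0
        · rfl
        · exact absurd (Nat.eq_of_beq_eq_true hb) this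
      · rintro ⟨h1, h2⟩
        simp at h1 h2
        refine h0 ⟨h1.symm, ?_⟩
        have : ((r : ℤ)) % (M : ℤ) = 0 := Int.emod_eq_zero_of_dvd h2
        rw [Int.emod_eq_of_lt (by omega) (by omega)] at this
        omega
  | [], _ :: _ :: _, _, h, _, _, _, _ => by simp [chk] at h
  | V :: cls, [], _, h, _, _, _, _ => by simp [chk] at h
  | V :: cls, [T], _, h, _, _, _, _ => by simp [chk] at h
  | V :: cls, T :: T' :: Ts, hnd, h, N, hN, r, hr => by
    simp only [chk, Bool.and_eq_true, beq_iff_eq] at h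
    have ih := chk_sound hM cls (T' :: Ts) (fun W hW => hnd W (List.mem_cons_of_mem _ hW)) h.2
    have hlt : N * M + r < (Nm + 1) * M := by nlinarith
    rw [List.headD_cons, h.1, step, List.getD_eq_getElem _ _ (by simpa using hlt), List.getElem_map,
      List.getElem_range]
    have hd : (N * M + r) / M = N := by
      rw [Nat.add_comm, Nat.add_mul_div_right _ _ hM, Nat.div_eq_of_lt hr, Nat.zero_add]
    have hmod : (N * M + r) % M = r := by rw [Nat.mul_add_mod', Nat.mod_eq_of_lt hr]
    rw [hd, hmod, sols, choices, Finset.filter_biUnion, Finset.card_biUnion,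
      ← List.sum_toFinset _ (hnd V List.mem_cons_self)]
    · refine Finset.sum_congr rfl fun v _ => ?_
      rw [Finset.filter_image, Finset.card_image_of_injective _ List.cons_injective]
      by_cases hle : f v ≤ N
      · rw [show Nat.ble (f v) N = true by rw [Nat.ble_eq]; exact hle, cond_true]
        have hr' : ((r : ℤ) - v).natMod M < M := Int.natMod_lt (by omega)
        have := ih (N - f v) (by omega) _ hr'
        rw [List.headD_cons] at this
        rw [← this, sols]
        refine congrArg Finset.card (Finset.filter_congr fun a _ => ?_)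
        simp only [List.map_cons, List.sum_cons]
        rw [Int.natMod, Int.toNat_of_nonneg (Int.emod_nonneg _ (by omega))]
        refine and_congr (by omega) ?_
        rw [← Int.emod_eq_emod_iff_emod_sub_eq_zero, ← Int.emod_eq_emod_iff_emod_sub_eq_zero,
          Int.emod_emod_of_dvd _ dvd_rfl, Int.emod_eq_emod_iff_emod_sub_eq_zero,
          Int.emod_eq_emod_iff_emod_sub_eq_zero, sub_sub_eq_add_sub, add_comm v]
      · have : Nat.ble (f v) N = false := by rw [Bool.eq_false_iff]; exact fun h' => hle (Nat.le_of_ble_eq_true h')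
        rw [this, cond_false, Finset.card_eq_zero, Finset.filter_eq_empty_iff]
        intro a _ h'
        simp only [List.map_cons, List.sum_cons] at h'
        omega
    · intro u _ v _ huv
      refine Finset.disjoint_left.2 fun a ha ha' => huv ?_
      simp only [Finset.mem_filter, Finset.mem_image] at ha ha'
      obtain ⟨⟨b, -, rfl⟩, -⟩ := ha
      obtain ⟨⟨c, -, e⟩, -⟩ := ha'
      exact ((List.cons.injEq _ _ _ _).mp e).1.symm

/-! ### Functions on the points -/

theorem mem_choices_map {V : GolayPt → List ℤ} : ∀ (l : List GolayPt), l.Nodup → ∀ a : List ℤ,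
    (a ∈ choices (l.map V) ↔ ∃ y : GolayPt → ℤ, (∀ p ∈ l, y p ∈ V p) ∧ l.map y = a)
  | [], _, a => by simp [choices, eq_comm]
  | p :: l, hnd, a => by
    rw [List.nodup_cons] at hnd
    simp only [List.map_cons, choices, Finset.mem_biUnion, Finset.mem_image, List.mem_toFinset,
      mem_choices_map l hnd.2]
    constructor
    · rintro ⟨v, hv, b, ⟨y, hy, rfl⟩, rfl⟩
      refine ⟨Function.update y p v, fun q hq => ?_, ?_⟩
      · rcases List.mem_cons.1 hq with rfl | hq
        · simpa using hv
        · have : q ≠ p := fun e => hnd.1 (e ▸ hq)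
          simpa [this] using hy q hq
      · simp only [Function.update_self, List.cons.injEq, true_and]
        refine List.map_congr_left fun q hq => Function.update_of_ne ?_ _ _
        rintro rfl
        exact hnd.1 hq
    · rintro ⟨y, hy, rfl⟩
      exact ⟨y p, hy p List.mem_cons_self, _, ⟨y, fun q hq => hy q (List.mem_cons_of_mem _ hq), rfl⟩, rfl⟩

theorem sum_map_points {N : Type*} [AddCommMonoid N] {l : List GolayPt} (hnd : l.Nodup)
    (hall : ∀ p, p ∈ l) (g : GolayPt → N) : (l.map g).sum = ∑ p, g p := by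
  rw [← List.sum_toFinset _ hnd]
  exact Finset.sum_congr (Finset.eq_univ_of_forall fun p => List.mem_toFinset.2 (hall p)) fun _ _ => rfl

/-- Functions counted by the tables. -/
theorem ncard_fun {f : ℤ → ℕ} {M Nm : ℕ} (hM : 0 < M) {V : GolayPt → List ℤ} {l : List GolayPt}
    (hl : l.Nodup) (hall : ∀ p, p ∈ l) {cls : List (List ℤ)} (hcls : l.map V = cls)
    (hVn : ∀ p, (V p).Nodup) {Ts : List (List ℕ)} (h : chk f M Nm cls Ts = true)
    {N r : ℕ} (hN : N ≤ Nm) (hr : r < M) :
    {y : GolayPt → ℤ | (∀ p, y p ∈ V p) ∧ ∑ p, f (y p) = N ∧ (∑ p, y p - (r : ℤ)) % (M : ℤ) = 0}.Finite ∧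
    {y : GolayPt → ℤ | (∀ p, y p ∈ V p) ∧ ∑ p, f (y p) = N ∧ (∑ p, y p - (r : ℤ)) % (M : ℤ) = 0}.ncard =
      (Ts.headD []).getD (N * M + r) 0 := by
  subst hcls
  have hinj : Function.Injective fun y : GolayPt → ℤ => l.map y := fun y z e =>
    funext fun p => List.map_inj_left.1 e p (hall p)
  have e : (fun y : GolayPt → ℤ => l.map y) ''
      {y : GolayPt → ℤ | (∀ p, y p ∈ V p) ∧ ∑ p, f (y p) = N ∧ (∑ p, y p - (r : ℤ)) % (M : ℤ) = 0} =
        ↑(sols f M (l.map V) N r) := by
    ext a
    simp only [Set.mem_image, Set.mem_setOf_eq, sols, Finset.coe_filter, mem_choices_map l hl]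
    constructor
    · rintro ⟨y, ⟨h1, h2, h3⟩, rfl⟩
      refine ⟨⟨y, fun p _ => h1 p, rfl⟩, ?_, ?_⟩
      · rw [List.map_map, ← h2]; exact sum_map_points hl hall (f ∘ y)
      · rwa [sum_map_points hl hall]
    · rintro ⟨⟨y, h1, rfl⟩, h2, h3⟩
      refine ⟨y, ⟨fun p => h1 p (hall p), ?_, ?_⟩, rfl⟩
      · rw [← h2, List.map_map]; exact (sum_map_points hl hall (f ∘ y)).symm
      · rwa [sum_map_points hl hall] at h3
  refine ⟨Set.Finite.of_finite_image (e ▸ Finset.finite_toSet _) hinj.injOn, ?_⟩
  rw [← Set.ncard_image_of_injective _ hinj, e, Set.ncard_coe_finset]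
  refine chk_sound hM _ Ts (fun W hW => ?_) h N hN r hr
  obtain ⟨p, -, rfl⟩ := List.mem_map.1 hW
  exact hVn p

/-! ### Fibres over code words -/

/-- The supports of the code words. -/
def codeSets : Finset (Finset GolayPt) := codeList.toFinset.image toSet

theorem mem_codeSets {s : Finset GolayPt} :
    s ∈ codeSets ↔ s ∈ supports (golayCode : Set (GolayPt → ZMod 2)) := by
  rw [codeSets, Finset.mem_image, mem_supports_iff]
  constructor
  · rintro ⟨m, hm, rfl⟩
    obtain ⟨h1, h2⟩ := mem_codeList.1 (List.mem_toFinset.1 hm)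
    rwa [mask_toSet h2]
  · exact fun h => ⟨mask s, List.mem_toFinset.2 (mem_codeList.2 ⟨h, mask_lt s⟩), toSet_mask s⟩

theorem sum_codeSets (g : ℕ → ℕ) : ∑ s ∈ codeSets, g s.card = (codeList.map fun m => g (popc m)).sum := by
  rw [codeSets, Finset.sum_image, List.sum_toFinset _ codeList_nodup]
  · exact congrArg List.sum (List.map_congr_left fun m hm => by rw [card_toSet (mem_codeList.1 hm).2])
  · intro a ha b hb e
    rw [← mask_toSet (mem_codeList.1 (List.mem_toFinset.1 ha)).2, e,
      mask_toSet (mem_codeList.1 (List.mem_toFinset.1 hb)).2]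

theorem ncard_fibres {ι β : Type*} [DecidableEq β] (S : Finset ι) (F : ι → Set β) (g : ι → ℕ)
    (hF : ∀ s ∈ S, (F s).Finite ∧ (F s).ncard = g s)
    (hd : ∀ s ∈ S, ∀ t ∈ S, ∀ x, x ∈ F s → x ∈ F t → s = t) :
    {x | ∃ s ∈ S, x ∈ F s}.Finite ∧ {x | ∃ s ∈ S, x ∈ F s}.ncard = ∑ s ∈ S, g s := by
  classical
  let G : ι → Finset β := fun s => if h : s ∈ S then (hF s h).1.toFinset else ∅
  have hG : ∀ s ∈ S, (G s : Set β) = F s := fun s hs => by simp [G, hs]
  have e : {x | ∃ s ∈ S, x ∈ F s} = ↑(S.biUnion G) := by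
    ext x
    simp only [Set.mem_setOf_eq, Finset.coe_biUnion, Set.mem_iUnion, Finset.mem_coe, exists_prop]
    exact exists_congr fun s => and_congr_right fun hs => by rw [← hG s hs, Finset.mem_coe]
  refine ⟨e ▸ Finset.finite_toSet _, ?_⟩
  rw [e, Set.ncard_coe_finset, Finset.card_biUnion]
  · exact Finset.sum_congr rfl fun s hs => by
      rw [← (hF s hs).2, ← hG s hs, Set.ncard_coe_finset]
  · intro s hs t ht hne
    refine Finset.disjoint_left.2 fun x hx hx' => hne (hd s hs t ht x ?_ ?_)
    · rw [← hG s hs]; exact hx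
    · rw [← hG t ht]; exact hx'

theorem natAbs_sq (v : ℤ) : ((v.natAbs * v.natAbs : ℕ) : ℤ) = v ^ 2 := by
  push_cast
  rw [abs_mul_abs_self, pow_two]

/-- Even vectors of a bounded norm. -/
theorem even_count {O E : List ℤ} (hO : O.Nodup) (hE : E.Nodup) (hOo : ∀ v ∈ O, v % 2 = 1)
    (hEe : ∀ v ∈ E, v % 2 = 0) (P : ℤ → Prop) (hV : ∀ v : ℤ, v ^ 2 ≤ 16 → (P (2 * v) ↔ v ∈ O ∨ v ∈ E))
    (T : ℕ → List (List ℕ))
    (hT : ∀ w ∈ [0, 8, 12, 16, 24], chk (fun v => v.natAbs * v.natAbs) 4 16
      (List.replicate w O ++ List.replicate (24 - w) E) (T w) = true)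
    {N : ℕ} (hN : N ≤ 16) :
    {x : GolayPt → ℤ | x ∈ leechLattice ∧ sqNorm x = 4 * N ∧ (∀ i, x i % 2 = 0) ∧ ∀ i, P (x i)}.Finite ∧
    {x : GolayPt → ℤ | x ∈ leechLattice ∧ sqNorm x = 4 * N ∧ (∀ i, x i % 2 = 0) ∧ ∀ i, P (x i)}.ncard =
      (codeList.map fun m => ((T (popc m)).headD []).getD (N * 4) 0).sum := by
  classical
  let Y : Finset GolayPt → Set (GolayPt → ℤ) := fun s =>
    {y | (∀ p, y p ∈ if p ∈ s then O else E) ∧ ∑ p, (y p).natAbs * (y p).natAbs = N ∧
      (∑ p, y p - ((0 : ℕ) : ℤ)) % ((4 : ℕ) : ℤ) = 0}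
  have hY : ∀ s ∈ codeSets, (dbl '' Y s).Finite ∧
      (dbl '' Y s).ncard = ((T s.card).headD []).getD (N * 4) 0 := by
    intro s hs
    have hw : s.card ∈ [0, 8, 12, 16, 24] := by
      rcases support_card_cases (mem_supports_iff.1 (mem_codeSets.1 hs)) with e | e | e | e | e <;> simp [e]
    have h := ncard_fun (f := fun v => v.natAbs * v.natAbs) (V := fun p => if p ∈ s then O else E)
      (M := 4) (Nm := 16) (by omega) (l := s.toList ++ sᶜ.toList)
      (List.Nodup.append s.nodup_toList sᶜ.nodup_toList fun p h1 h2 => by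
        simp at h1 h2
        exact h2 h1)
      (fun p => by simp [em]) (cls := List.replicate s.card O ++ List.replicate (24 - s.card) E) (by
        rw [List.map_append]
        congr 1
        · rw [List.eq_replicate_iff]
          exact ⟨by simp, fun v hv => by
            obtain ⟨p, hp, rfl⟩ := List.mem_map.1 hv
            simp [Finset.mem_toList.1 hp]⟩
        · rw [List.eq_replicate_iff]
          refine ⟨by simp [Finset.card_compl, card_pt], fun v hv => ?_⟩
          obtain ⟨p, hp, rfl⟩ := List.mem_map.1 hv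
          simp [Finset.mem_compl.1 (Finset.mem_toList.1 hp)])
      (fun p => by split_ifs <;> assumption) (hT _ hw) hN (r := 0) (by omega)
    exact ⟨h.1.image _, by rw [Set.ncard_image_of_injective _ dbl_injective]; exact h.2⟩
  have hsupp : ∀ (s : Finset GolayPt) (y : GolayPt → ℤ), y ∈ Y s → support₂ (red y) = s := by
    intro s y hy
    ext p
    rw [support₂, Finset.mem_filter, and_iff_right (Finset.mem_univ p), red_apply, cast2_iff]
    have := hy.1 p
    by_cases h : p ∈ s
    · simp only [h, if_true] at this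
      exact iff_of_true (hOo _ this) h
    · simp only [h, if_false] at this
      exact iff_of_false (by rw [hEe _ this]; omega) h
  have h := ncard_fibres codeSets (fun s => dbl '' Y s) (fun s => ((T s.card).headD []).getD (N * 4) 0) hY
    fun s _ t _ x hx hx' => by
      obtain ⟨y, hy, rfl⟩ := hx
      obtain ⟨z, hz, e⟩ := hx'
      rw [dbl_injective e] at hz
      rw [← hsupp s y hy, hsupp t y hz]
  rw [sum_codeSets (fun w => ((T w).headD []).getD (N * 4) 0)] at h
  suffices e : {x : GolayPt → ℤ | x ∈ leechLattice ∧ sqNorm x = 4 * N ∧ (∀ i, x i % 2 = 0) ∧ ∀ i, P (x i)} =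
      {x | ∃ s ∈ codeSets, x ∈ dbl '' Y s} by rw [e]; exact h
  ext x
  rw [Set.mem_setOf_eq, Set.mem_setOf_eq]
  constructor
  · rintro ⟨hx, hn, h2, hP⟩
    obtain ⟨y, rfl⟩ : x ∈ dbl.range := by
      rw [range_dbl]
      exact funext fun i => cast2_eq (b := 0) (by simpa using h2 i) |>.trans Int.cast_zero
    obtain ⟨m, hm, h1, h3, h4⟩ := mem_lattice.1 hx
    rw [half_dbl] at h4
    have hm0 : m = 0 := (h1 none).symm.trans (h2 none)
    have e : sqNorm (dbl y) = 4 * ∑ i, y i ^ 2 := by
      rw [sqNorm, Finset.mul_sum]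
      exact Finset.sum_congr rfl fun i _ => by rw [dbl_apply]; ring
    have hsum : ∑ i, y i ^ 2 = N := by omega
    refine ⟨support₂ (red y), mem_codeSets.2 (support_mem h4), y, ⟨fun p => ?_, ?_, ?_⟩, rfl⟩
    · have hb : y p ^ 2 ≤ 16 := by
        have : y p ^ 2 ≤ ∑ i, y i ^ 2 :=
          Finset.single_le_sum (f := fun i => y i ^ 2) (fun i _ => sq_nonneg _) (Finset.mem_univ p)
        omega
      have hmem := (hV _ hb).1 (by rw [← dbl_apply]; exact hP p)
      have hp : p ∈ support₂ (red y) ↔ y p % 2 = 1 := by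
        rw [support₂, Finset.mem_filter, and_iff_right (Finset.mem_univ p), red_apply, cast2_iff]
      rcases hmem with hm' | hm'
      · rwa [if_pos (hp.2 (hOo _ hm'))]
      · rwa [if_neg fun h => by rw [hp, hEe _ hm'] at h; omega]
    · apply Int.natCast_inj.1
      push_cast
      rw [← hsum]
      exact Finset.sum_congr rfl fun i _ => by rw [abs_mul_abs_self, pow_two]
    · simp only [dbl_apply, ← Finset.mul_sum] at h3
      push_cast
      omega
  · rintro ⟨s, hs, y, hy, rfl⟩
    have hy2 : ∑ i, y i ^ 2 = N := by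
      rw [← hy.2.1]
      push_cast
      exact Finset.sum_congr rfl fun i _ => by rw [abs_mul_abs_self, pow_two]
    refine ⟨?_, ?_, fun i => by rw [dbl_apply]; omega, fun i => ?_⟩
    · refine map_halves_le le_rfl ⟨y, mem_halves.2 ⟨?_, ?_⟩, rfl⟩
      · rw [← wordOf_support (red y), hsupp s y hy]
        exact code_wordOf (mem_codeSets.1 hs)
      · have := hy.2.2
        push_cast at this
        omega
    · rw [sqNorm, ← hy2, Finset.mul_sum]
      exact Finset.sum_congr rfl fun i _ => by rw [dbl_apply]; ring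
    · have hb : y i ^ 2 ≤ 16 := by
        have : y i ^ 2 ≤ ∑ i, y i ^ 2 :=
          Finset.single_le_sum (f := fun i => y i ^ 2) (fun i _ => sq_nonneg _) (Finset.mem_univ i)
        omega
      rw [dbl_apply]
      refine (hV _ hb).2 ?_
      have := hy.1 i
      split_ifs at this
      · exact Or.inl this
      · exact Or.inr this

/-- Weight of an odd coordinate. -/
def fOdd (v : ℤ) : ℕ := (v.natAbs * v.natAbs - 1) / 8

theorem fOdd_spec {v : ℤ} (h : v % 4 = 1) : 8 * (fOdd v : ℤ) = v ^ 2 - 1 := by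
  rw [← natAbs_sq]
  set n := v.natAbs with hn
  have hodd : n % 2 = 1 := by omega
  obtain ⟨q, hq⟩ : ∃ q, n = 2 * q + 1 := ⟨n / 2, by omega⟩
  obtain ⟨u, hu⟩ := Nat.even_mul_succ_self q
  have e : n * n = 8 * u + 1 := by rw [hq]; nlinarith
  rw [fOdd, ← hn, e]
  omega

/-- Odd vectors of a bounded norm. -/
theorem odd_count {U : List ℤ} (hU : U.Nodup) (hU4 : ∀ v ∈ U, v % 4 = 1) (P : ℤ → Prop)
    (hPn : ∀ v, P (-v) ↔ P v) (hV : ∀ v : ℤ, v % 4 = 1 → v ^ 2 ≤ 41 → (P v ↔ v ∈ U))
    (Ts : List (List ℕ)) (hT : chk fOdd 8 5 (List.replicate 24 U) Ts = true) {N : ℕ} (hN : N ≤ 5) :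
    {x : GolayPt → ℤ | x ∈ leechLattice ∧ sqNorm x = 24 + 8 * N ∧ (∀ i, x i % 2 = 1) ∧ ∀ i, P (x i)}.Finite ∧
    {x : GolayPt → ℤ | x ∈ leechLattice ∧ sqNorm x = 24 + 8 * N ∧ (∀ i, x i % 2 = 1) ∧ ∀ i, P (x i)}.ncard =
      (codeList.map fun _ => (Ts.headD []).getD (N * 8 + 4) 0).sum := by
  classical
  let Y : Set (GolayPt → ℤ) :=
    {y | (∀ p, y p ∈ U) ∧ ∑ p, fOdd (y p) = N ∧ (∑ p, y p - ((4 : ℕ) : ℤ)) % ((8 : ℕ) : ℤ) = 0}
  have hY := ncard_fun (f := fOdd) (V := fun _ => U) (M := 8) (Nm := 5) (by omega)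
    (l := (Finset.univ : Finset GolayPt).toList) (Finset.nodup_toList _) (fun p => by simp)
    (cls := List.replicate 24 U) (by
      rw [List.eq_replicate_iff]
      exact ⟨by simp [card_pt], fun v hv => by obtain ⟨p, -, rfl⟩ := List.mem_map.1 hv; rfl⟩)
    (fun _ => hU) hT hN (r := 4) (by omega)
  have hflip : ∀ s : Finset GolayPt, Function.Injective (flip s) := fun s =>
    Function.LeftInverse.injective (flip_flip s)
  have hrec : ∀ (s : Finset GolayPt) (y : GolayPt → ℤ), y ∈ Y → support₂ (half (flip s y)) = s := by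
    intro s y hy
    ext p
    rw [mem_support_half]
    have := hU4 _ (hy.1 p)
    by_cases h : p ∈ s <;> simp only [flip, h, if_true, if_false, iff_true, iff_false] <;> omega
  have hsum : ∀ y : GolayPt → ℤ, (∀ p, y p % 4 = 1) → 8 * (∑ p, (fOdd (y p) : ℤ)) = sqNorm y - 24 := by
    intro y hy
    rw [Finset.mul_sum, sqNorm, show (24 : ℤ) = ∑ _p : GolayPt, (1 : ℤ) by simp [card_pt],
      ← Finset.sum_sub_distrib]
    exact Finset.sum_congr rfl fun p _ => fOdd_spec (hy p)
  have h := ncard_fibres codeSets (fun s => flip s '' Y) (fun _ => (Ts.headD []).getD (N * 8 + 4) 0)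
    (fun s _ => ⟨hY.1.image _, by rw [Set.ncard_image_of_injective _ (hflip s)]; exact hY.2⟩)
    fun s _ t _ x hx hx' => by
      obtain ⟨y, hy, rfl⟩ := hx
      obtain ⟨z, hz, e⟩ := hx'
      rw [← hrec s y hy, ← e, hrec t z hz]
  rw [sum_codeSets (fun _ => (Ts.headD []).getD (N * 8 + 4) 0)] at h
  suffices e : {x : GolayPt → ℤ | x ∈ leechLattice ∧ sqNorm x = 24 + 8 * N ∧ (∀ i, x i % 2 = 1) ∧ ∀ i, P (x i)} =
      {x | ∃ s ∈ codeSets, x ∈ flip s '' Y} by rw [e]; exact h
  ext x
  rw [Set.mem_setOf_eq, Set.mem_setOf_eq]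
  constructor
  · rintro ⟨hx, hn, h2, hP⟩
    obtain ⟨m, hm, h1, h3, h4⟩ := mem_lattice.1 hx
    set s := support₂ (half x)
    have hu : flip s x ∈ leechLattice := flip_mem (support_mem h4) hx
    have hmod : ∀ p, flip s x p % 4 = 1 := fun p => by
      have := h2 p
      have hs : p ∈ s ↔ (x p / 2) % 2 = 1 := mem_support_half
      by_cases h : p ∈ s
      · simp only [flip, h, if_true]; have := hs.1 h; omega
      · simp only [flip, h, if_false]; have := mt hs.2 h; omega
    refine ⟨s, mem_codeSets.2 (support_mem h4), flip s x, ⟨fun p => ?_, ?_, ?_⟩, flip_flip s x⟩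
    · have hb : flip s x p ^ 2 ≤ 41 := by
        have hone : ∀ q, 0 ≤ flip s x q ^ 2 - 1 := fun q => by
          have := one_le_sq_of_ne_zero (show flip s x q ≠ 0 by have := hmod q; omega)
          omega
        have h' := Finset.single_le_sum (f := fun q => flip s x q ^ 2 - 1) (fun q _ => hone q) (Finset.mem_univ p)
        rw [Finset.sum_sub_distrib, Finset.sum_const, Finset.card_univ, card_pt, nsmul_eq_mul] at h'
        have hsq : ∑ q, flip s x q ^ 2 = sqNorm x := sqNorm_flip s x
        push_cast at h'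
        omega
      refine (hV _ (hmod p) hb).1 ?_
      by_cases h : p ∈ s
      · simp only [flip, h, if_true, hPn]; exact hP p
      · simp only [flip, h, if_false]; exact hP p
    · have := hsum _ hmod
      rw [sqNorm_flip, ← Nat.cast_sum] at this
      omega
    · obtain ⟨n, hn', g1, g3, -⟩ := mem_lattice.1 hu
      have : n = 1 := by
        have q1 := g1 none
        have q2 := hmod none
        omega
      subst this
      push_cast
      omega
  · rintro ⟨s, hs, y, hy, rfl⟩
    have hmod : ∀ p, y p % 4 = 1 := fun p => hU4 _ (hy.1 p)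
    have hyL : y ∈ leechLattice := by
      refine mem_lattice.2 ⟨1, Or.inr rfl, fun p => by have := hmod p; omega, ?_, ?_⟩
      · have := hy.2.2
        push_cast at this
        omega
      · convert zero_mem golayCode
        funext p
        show ((_ / 2 : ℤ) : ZMod 2) = ((0 : ℤ) : ZMod 2)
        refine cast2_eq ?_
        have := hmod p
        omega
    refine ⟨flip_mem (mem_codeSets.1 hs) hyL, ?_, fun p => ?_, fun p => ?_⟩
    · have := hsum _ hmod
      rw [← Nat.cast_sum, hy.2.1] at this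
      rw [sqNorm_flip]
      omega
    · have := hmod p
      by_cases h : p ∈ s <;> simp only [flip, h, if_true, if_false] <;> omega
    · have hb : y p ^ 2 ≤ 41 := by
        have h' := Finset.single_le_sum (f := fun q => (fOdd (y q) : ℕ)) (fun q _ => Nat.zero_le _) (Finset.mem_univ p)
        simp only [hy.2.1] at h'
        have := fOdd_spec (hmod p)
        omega
      have hyP := (hV _ (hmod p) hb).2 (hy.1 p)
      by_cases h : p ∈ s
      · simp only [flip, h, if_true, hPn]; exact hyP
      · simp only [flip, h, if_false]; exact hyP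

end CfsgLib.Leech
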