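/-
The tables obey the recursion, and the resulting totals.
-/
import Cfsg.Agent.Leech.Count

set_option autoImplicit false

namespace CfsgLib.Leech

open CfsgLib.Golay

/-- Odd values. -/
def valsO : List ℤ := [1, -1, 3, -3]
/-- Even values. -/
def valsE : List ℤ := [0, 2, -2, 4, -4]
/-- Even values other than two. -/
def valsE4 : List ℤ := [0, 4, -4]
/-- Values one modulo four. -/
def valsU : List ℤ := [1, -3, 5]
/-- Values one modulo four other than five. -/
def valsU3 : List ℤ := [1, -3]

/-- Tables by weight. -/
def tabE : ℕ → List (List ℕ)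
  | 0 => evenTab0 | 8 => evenTab8 | 12 => evenTab12 | 16 => evenTab16 | _ => evenTab24

/-- Tables by weight, without two. -/
def tabE4 : ℕ → List (List ℕ)
  | 0 => noFourTab0 | 8 => noFourTab8 | 12 => noFourTab12 | 16 => noFourTab16 | _ => noFourTab24

theorem tabE_ok : ∀ w ∈ [0, 8, 12, 16, 24], chk (fun v => v.natAbs * v.natAbs) 4 16
    (List.replicate w valsO ++ List.replicate (24 - w) valsE) (tabE w) = true := by decide +kernel

theorem tabE4_ok : ∀ w ∈ [0, 8, 12, 16, 24], chk (fun v => v.natAbs * v.natAbs) 4 16
    (List.replicate w valsO ++ List.replicate (24 - w) valsE4) (tabE4 w) = true := by decide +kernel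

theorem tabU_ok : chk fOdd 8 5 (List.replicate 24 valsU) oddTab = true := by decide +kernel

theorem tabU3_ok : chk fOdd 8 5 (List.replicate 24 valsU3) noFiveTab = true := by decide +kernel

theorem totalE : (codeList.map fun m => ((tabE (popc m)).headD []).getD (8 * 4) 0).sum = 98256 ∧
    (codeList.map fun m => ((tabE (popc m)).headD []).getD (12 * 4) 0).sum = 8384512 ∧
    (codeList.map fun m => ((tabE (popc m)).headD []).getD (16 * 4) 0).sum = 199066704 ∧
    (codeList.map fun m => ((tabE4 (popc m)).headD []).getD (12 * 4) 0).sum = 5275648 :=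
  ⟨by decide +kernel, by decide +kernel, by decide +kernel, by decide +kernel⟩

theorem totalU : (codeList.map fun _ => (oddTab.headD []).getD (1 * 8 + 4) 0).sum = 98304 ∧
    (codeList.map fun _ => (oddTab.headD []).getD (3 * 8 + 4) 0).sum = 8388608 ∧
    (codeList.map fun _ => (oddTab.headD []).getD (5 * 8 + 4) 0).sum = 198967296 ∧
    (codeList.map fun _ => (noFiveTab.headD []).getD (3 * 8 + 4) 0).sum = 8290304 :=
  ⟨by decide +kernel, by decide +kernel, by decide +kernel, by decide +kernel⟩

end CfsgLib.Leech
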