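/-
The numbers of short lattice vectors.
-/
import Cfsg.Agent.Leech.CountTabs

set_option autoImplicit false

namespace CfsgLib.Leech

open Cfsg CfsgLib.Golay

/-- Even vectors of a norm with a coordinate condition. -/
def evenSet (n : ℤ) (P : ℤ → Prop) : Set (GolayPt → ℤ) :=
  {x | x ∈ leechLattice ∧ sqNorm x = n ∧ (∀ i, x i % 2 = 0) ∧ ∀ i, P (x i)}

/-- Odd vectors of a norm with a coordinate condition. -/
def oddSet (n : ℤ) (P : ℤ → Prop) : Set (GolayPt → ℤ) :=
  {x | x ∈ leechLattice ∧ sqNorm x = n ∧ (∀ i, x i % 2 = 1) ∧ ∀ i, P (x i)}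

theorem evenSet_all {n : ℕ} (hn : n ≤ 16) :
    (evenSet (4 * n) fun _ => True).Finite ∧ (evenSet (4 * n) fun _ => True).ncard =
      (codeList.map fun m => ((tabE (popc m)).headD []).getD (n * 4) 0).sum :=
  even_count (O := valsO) (E := valsE) (by decide) (by decide) (by decide) (by decide) (fun _ => True) (fun v hv => by
    have h1 : v ≤ 4 := by nlinarith
    have h2 : -4 ≤ v := by nlinarith
    interval_cases v <;> decide) tabE tabE_ok hn

theorem evenSet_noFour {n : ℕ} (hn : n ≤ 16) :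
    (evenSet (4 * n) fun v => |v| ≠ 4).Finite ∧ (evenSet (4 * n) fun v => |v| ≠ 4).ncard =
      (codeList.map fun m => ((tabE4 (popc m)).headD []).getD (n * 4) 0).sum :=
  even_count (O := valsO) (E := valsE4) (by decide) (by decide) (by decide) (by decide) (fun v => |v| ≠ 4) (fun v hv => by
    have h1 : v ≤ 4 := by nlinarith
    have h2 : -4 ≤ v := by nlinarith
    interval_cases v <;> decide) tabE4 tabE4_ok hn

theorem oddSet_all {n : ℕ} (hn : n ≤ 5) :
    (oddSet (24 + 8 * n) fun _ => True).Finite ∧ (oddSet (24 + 8 * n) fun _ => True).ncard =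
      (codeList.map fun _ => (oddTab.headD []).getD (n * 8 + 4) 0).sum :=
  odd_count (U := valsU) (by decide) (by decide) (fun _ => True) (fun _ => Iff.rfl) (fun v h4 hv => by
    have h1 : v ≤ 6 := by nlinarith
    have h2 : -6 ≤ v := by nlinarith
    interval_cases v <;> revert h4 <;> decide) oddTab tabU_ok hn

theorem oddSet_noFive {n : ℕ} (hn : n ≤ 5) :
    (oddSet (24 + 8 * n) fun v => |v| ≠ 5).Finite ∧ (oddSet (24 + 8 * n) fun v => |v| ≠ 5).ncard =
      (codeList.map fun _ => (noFiveTab.headD []).getD (n * 8 + 4) 0).sum :=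
  odd_count (U := valsU3) (by decide) (by decide) (fun v => |v| ≠ 5) (fun v => by rw [abs_neg]) (fun v h4 hv => by
    have h1 : v ≤ 6 := by nlinarith
    have h2 : -6 ≤ v := by nlinarith
    interval_cases v <;> revert h4 <;> decide) noFiveTab tabU3_ok hn

theorem norm_split (n : ℤ) : {x : GolayPt → ℤ | x ∈ leechLattice ∧ sqNorm x = n} =
    (evenSet n fun _ => True) ∪ oddSet n fun _ => True := by
  ext x
  refine ⟨fun ⟨hx, hn⟩ => ?_, fun h => h.elim (fun h => ⟨h.1, h.2.1⟩) fun h => ⟨h.1, h.2.1⟩⟩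
  obtain ⟨m, hm, h1, -, -⟩ := mem_lattice.1 hx
  rcases hm with rfl | rfl
  · exact Or.inl ⟨hx, hn, h1, fun _ => trivial⟩
  · exact Or.inr ⟨hx, hn, h1, fun _ => trivial⟩

theorem disjoint_even_odd (n : ℤ) (P Q : ℤ → Prop) : Disjoint (evenSet n P) (oddSet n Q) :=
  Set.disjoint_left.2 fun x h h' => by
    have := h.2.2.1 none
    have := h'.2.2.1 none
    omega

theorem ncard_32 : {x : GolayPt → ℤ | x ∈ leechLattice ∧ sqNorm x = 32}.ncard = 196560 ∧
    {x : GolayPt → ℤ | x ∈ leechLattice ∧ sqNorm x = 32}.Finite := by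
  have he := evenSet_all (n := 8) (by omega)
  have ho := oddSet_all (n := 1) (by omega)
  rw [totalE.1] at he
  rw [totalU.1] at ho
  norm_num at he ho
  rw [norm_split]
  exact ⟨by rw [Set.ncard_union_eq (disjoint_even_odd _ _ _) he.1 ho.1, he.2, ho.2], he.1.union ho.1⟩

theorem ncard_48 : {x : GolayPt → ℤ | x ∈ leechLattice ∧ sqNorm x = 48}.ncard = 16773120 ∧
    {x : GolayPt → ℤ | x ∈ leechLattice ∧ sqNorm x = 48}.Finite := by
  have he := evenSet_all (n := 12) (by omega)
  have ho := oddSet_all (n := 3) (by omega)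
  rw [totalE.2.1] at he
  rw [totalU.2.1] at ho
  norm_num at he ho
  rw [norm_split]
  exact ⟨by rw [Set.ncard_union_eq (disjoint_even_odd _ _ _) he.1 ho.1, he.2, ho.2], he.1.union ho.1⟩

theorem ncard_64 : {x : GolayPt → ℤ | x ∈ leechLattice ∧ sqNorm x = 64}.ncard = 398034000 ∧
    {x : GolayPt → ℤ | x ∈ leechLattice ∧ sqNorm x = 64}.Finite := by
  have he := evenSet_all (n := 16) (by omega)
  have ho := oddSet_all (n := 5) (by omega)
  rw [totalE.2.2.1] at he
  rw [totalU.2.2.1] at ho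
  norm_num at he ho
  rw [norm_split]
  exact ⟨by rw [Set.ncard_union_eq (disjoint_even_odd _ _ _) he.1 ho.1, he.2, ho.2], he.1.union ho.1⟩

theorem shapes_48 :
    {x : GolayPt → ℤ | x ∈ leechLattice ∧ sqNorm x = 48 ∧ ∀ i, x i = 0 ∨ x i = 2 ∨ x i = -2}.ncard = 5275648 ∧
    {x : GolayPt → ℤ | x ∈ leechLattice ∧ sqNorm x = 48 ∧ ∃ i j k, i ≠ j ∧ j ≠ k ∧ i ≠ k ∧
      |x i| = 3 ∧ |x j| = 3 ∧ |x k| = 3}.ncard = 8290304 ∧
    {x : GolayPt → ℤ | x ∈ leechLattice ∧ sqNorm x = 48 ∧ ∃ i, |x i| = 4}.ncard = 3108864 ∧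
    {x : GolayPt → ℤ | x ∈ leechLattice ∧ sqNorm x = 48 ∧ ∃ i, |x i| = 5}.ncard = 98304 := by
  have he := evenSet_all (n := 12) (by omega)
  have he4 := evenSet_noFour (n := 12) (by omega)
  have ho := oddSet_all (n := 3) (by omega)
  have ho5 := oddSet_noFive (n := 3) (by omega)
  rw [totalE.2.1] at he
  rw [totalE.2.2.2] at he4
  rw [totalU.2.1] at ho
  rw [totalU.2.2.2] at ho5
  norm_num at he he4 ho ho5
  have sq : ∀ (x : GolayPt → ℤ) i, x i ^ 2 ≤ sqNorm x := fun x i =>
    Finset.single_le_sum (f := fun i => x i ^ 2) (fun i _ => sq_nonneg _) (Finset.mem_univ i)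
  have absval : ∀ a c : ℤ, |a| = c → a = c ∨ a = -c := fun a c h => by
    rcases abs_choice a with e | e <;> omega
  refine ⟨?_, ?_, ?_, ?_⟩
  · rw [← he4.2]
    refine congrArg Set.ncard (Set.ext fun x => ⟨fun ⟨hx, hn, h⟩ => ⟨hx, hn, fun i => ?_, fun i => ?_⟩,
      fun ⟨hx, hn, h2, h4⟩ => ⟨hx, hn, fun i => ?_⟩⟩)
    · rcases h i with e | e | e <;> rw [e] <;> rfl
    · rcases h i with e | e | e <;> rw [e] <;> decide
    · have hb := sq x i
      rw [hn] at hb
      have b1 : x i ≤ 6 := by nlinarith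
      have b2 : -6 ≤ x i := by nlinarith
      have hne : x i ≠ 4 ∧ x i ≠ -4 := ⟨fun e => h4 i (by rw [e]; rfl), fun e => h4 i (by rw [e]; rfl)⟩
      have hev := h2 i
      by_contra hc
      have h6 : x i = 6 ∨ x i = -6 := by omega
      obtain ⟨m, hm, g1, -, g4⟩ := mem_lattice.1 hx
      have e1 := (sqNorm_eq (m := 0) (Or.inl rfl) h2).1
      have hle : ∑ j, ((x j / 2) % 2 + if j = i then 8 else 0) ≤ ∑ j, (x j / 2) ^ 2 :=
        Finset.sum_le_sum fun j _ => by
          by_cases hj : j = i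
          · subst hj
            rcases h6 with e | e <;> rw [e] <;> norm_num
          · rw [if_neg hj]
            rcases eq_or_ne (x j / 2) 0 with e | e
            · simp [e]
            · have := one_le_sq_of_ne_zero e
              omega
      rw [Finset.sum_add_distrib, sum_odd, Finset.sum_ite_eq', if_pos (Finset.mem_univ i)] at hle
      have hi : i ∈ support₂ (half x) := mem_support_half.2 (by rcases h6 with e | e <;> rw [e] <;> rfl)
      have hpos := Finset.card_pos.2 ⟨i, hi⟩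
      rcases support_card_cases (mem_supports_iff.1 (support_mem g4)) with e | e | e | e | e <;> omega
  · rw [← ho5.2]
    refine congrArg Set.ncard (Set.ext fun x => ⟨fun ⟨hx, hn, i, j, k, hij, hjk, hik, ei, ej, ek⟩ => ?_,
      fun ⟨hx, hn, h2, h5⟩ => ⟨hx, hn, ?_⟩⟩)
    · obtain ⟨m, hm, h1, -, -⟩ := mem_lattice.1 hx
      have hm1 : m = 1 := by
        have := h1 i
        rcases absval _ _ ei with e | e <;> rw [e] at this <;> omega
      subst hm1
      refine ⟨hx, hn, h1, fun l hl => ?_⟩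
      have hli : l ≠ i := fun e => by rw [e, ei] at hl; omega
      have hlj : l ≠ j := fun e => by rw [e, ej] at hl; omega
      have hlk : l ≠ k := fun e => by rw [e, ek] at hl; omega
      have h0 : ∀ p, 0 ≤ x p ^ 2 - 1 := fun p => by
        have := one_le_sq_of_ne_zero (show x p ≠ 0 by have := h1 p; omega)
        omega
      have hle : ∑ p ∈ {i, j, k, l}, (x p ^ 2 - 1) ≤ ∑ p, (x p ^ 2 - 1) :=
        Finset.sum_le_sum_of_subset_of_nonneg (Finset.subset_univ _) fun p _ _ => h0 p
      rw [Finset.sum_insert (by simp [hij, hik, hli.symm]), Finset.sum_insert (by simp [hjk, hlj.symm]),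
        Finset.sum_insert (by simp [hlk.symm]), Finset.sum_singleton, ← sq_abs (x i), ← sq_abs (x j),
        ← sq_abs (x k), ← sq_abs (x l), ei, ej, ek, hl, Finset.sum_sub_distrib, Finset.sum_const,
        Finset.card_univ, card_pt, nsmul_eq_mul] at hle
      rw [sqNorm] at hn
      push_cast at hle
      omega
    · have hval : ∀ p, x p = 1 ∨ x p = -1 ∨ x p = 3 ∨ x p = -3 := fun p => by
        have hb := sq x p
        rw [hn] at hb
        have b1 : x p ≤ 6 := by nlinarith
        have b2 : -6 ≤ x p := by nlinarith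
        have hne : x p ≠ 5 ∧ x p ≠ -5 := ⟨fun e => h5 p (by rw [e]; rfl), fun e => h5 p (by rw [e]; rfl)⟩
        have := h2 p
        omega
      have hT : (Finset.univ.filter fun p => |x p| = 3).card = 3 := by
        have e : sqNorm x = ∑ p, (1 + 8 * if |x p| = 3 then (1 : ℤ) else 0) :=
          Finset.sum_congr rfl fun p _ => by rcases hval p with e | e | e | e <;> rw [e] <;> norm_num
        rw [hn, Finset.sum_add_distrib, ← Finset.mul_sum, ← Finset.natCast_card_filter, Finset.sum_const,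
          Finset.card_univ, card_pt, nsmul_eq_mul] at e
        push_cast at e
        omega
      obtain ⟨i, j, k, hij, hik, hjk, e⟩ := Finset.card_eq_three.1 hT
      have hm : ∀ p ∈ ({i, j, k} : Finset GolayPt), |x p| = 3 := fun p hp => by
        rw [← e] at hp; exact (Finset.mem_filter.1 hp).2
      exact ⟨i, j, k, hij, hjk, hik, hm i (by simp), hm j (by simp), hm k (by simp)⟩
  · have e : {x : GolayPt → ℤ | x ∈ leechLattice ∧ sqNorm x = 48 ∧ ∃ i, |x i| = 4} =
        (evenSet 48 fun _ => True) \ evenSet 48 fun v => |v| ≠ 4 := by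
      ext x
      constructor
      · rintro ⟨hx, hn, i, hi⟩
        obtain ⟨m, hm, h1, -, -⟩ := mem_lattice.1 hx
        have hm0 : m = 0 := by
          have := h1 i
          rcases absval _ _ hi with e | e <;> rw [e] at this <;> omega
        exact ⟨⟨hx, hn, hm0 ▸ h1, fun _ => trivial⟩, fun h => h.2.2.2 i hi⟩
      · rintro ⟨⟨hx, hn, h2, -⟩, h⟩
        refine ⟨hx, hn, ?_⟩
        by_contra hc
        push Not at hc
        exact h ⟨hx, hn, h2, hc⟩
    rw [e, Set.ncard_sdiff (show evenSet 48 (fun v => |v| ≠ 4) ⊆ evenSet 48 fun _ => True from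
      fun x h => ⟨h.1, h.2.1, h.2.2.1, fun _ => trivial⟩) he4.1, he.2, he4.2]
  · have e : {x : GolayPt → ℤ | x ∈ leechLattice ∧ sqNorm x = 48 ∧ ∃ i, |x i| = 5} =
        (oddSet 48 fun _ => True) \ oddSet 48 fun v => |v| ≠ 5 := by
      ext x
      constructor
      · rintro ⟨hx, hn, i, hi⟩
        obtain ⟨m, hm, h1, -, -⟩ := mem_lattice.1 hx
        have hm0 : m = 1 := by
          have := h1 i
          rcases absval _ _ hi with e | e <;> rw [e] at this <;> omega
        exact ⟨⟨hx, hn, hm0 ▸ h1, fun _ => trivial⟩, fun h => h.2.2.2 i hi⟩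
      · rintro ⟨⟨hx, hn, h2, -⟩, h⟩
        refine ⟨hx, hn, ?_⟩
        by_contra hc
        push Not at hc
        exact h ⟨hx, hn, h2, hc⟩
    rw [e, Set.ncard_sdiff (show oddSet 48 (fun v => |v| ≠ 5) ⊆ oddSet 48 fun _ => True from
      fun x h => ⟨h.1, h.2.1, h.2.2.1, fun _ => trivial⟩) ho5.1, ho.2, ho5.2]

end CfsgLib.Leech
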