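/-
The order of the automorphism group.
-/
import Cfsg.Agent.Leech.Orbits
import Cfsg.Agent.Leech.Numbers

set_option autoImplicit false

namespace CfsgLib.Leech

open Cfsg CfsgLib.Golay

theorem orbit_crossStab : MulAction.orbit crossStab (eight none) =
    {v : leechLattice | v.1 ∈ stdCross} := by
  ext v
  constructor
  · rintro ⟨⟨g, hg⟩, rfl⟩
    exact hg _ (eight_mem_cross none)
  · intro hv
    obtain ⟨i, s, hs, e⟩ := hv
    obtain ⟨σ, hσ, hσi⟩ := exists_map_tuple (n := 1) (by omega) (fun _ => none) (fun _ => i)
      (fun _ _ _ => Subsingleton.elim _ _) (fun _ _ _ => Subsingleton.elim _ _)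
    have h1 : (mono hσ empty_mem • eight none) = eight i := Subtype.ext (funext fun k => by
      rw [show (mono hσ empty_mem • eight none).1 k = signedPerm σ ∅ (eight none).1 k from rfl]
      simp only [signedPerm, Finset.notMem_empty, if_false, eight]
      rw [← hσi 0, Pi.single_apply, Pi.single_apply]
      exact if_congr (σ.symm_apply_eq) rfl rfl)
    rcases hs with rfl | rfl
    · exact ⟨⟨_, mono_mem_crossStab hσ empty_mem⟩, h1.trans (Subtype.ext e.symm)⟩
    · refine ⟨⟨negOne * mono hσ empty_mem, mul_mem (mono_mem_crossStab _ _) (mono_mem_crossStab hσ empty_mem)⟩, ?_⟩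
      show (negOne * mono hσ empty_mem) • eight none = v
      rw [mul_smul, h1]
      refine Subtype.ext ?_
      rw [show negOne • eight i = -eight i from negOne_apply _, e, Pi.single_neg (f := fun _ => ℤ)]
      rfl

theorem ncard_cross : {v : leechLattice | v.1 ∈ stdCross}.ncard = 48 := by
  have h := Set.ncard_range_of_injective (f := fun p : GolayPt × Bool =>
    (⟨Pi.single p.1 (if p.2 then 8 else -8), (cross_mem ⟨p.1, _, by split_ifs <;> simp, rfl⟩).1⟩ : leechLattice)) (by
      rintro ⟨i, a⟩ ⟨j, b⟩ h
      have e := congrFun (congrArg Subtype.val h) i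
      have hij : i = j := by
        by_contra hne
        simp [hne] at e
        split_ifs at e <;> omega
      subst hij
      cases a <;> cases b <;> simp_all)
  rw [Nat.card_eq_fintype_card, Fintype.card_prod, card_pt, Fintype.card_bool] at h
  refine (congrArg Set.ncard (Set.ext fun v => ?_)).trans h
  constructor
  · rintro ⟨i, s, hs, e⟩
    refine ⟨(i, decide (s = 8)), Subtype.ext ?_⟩
    rw [e]
    rcases hs with rfl | rfl <;> simp
  · rintro ⟨p, rfl⟩
    exact ⟨p.1, _, by split_ifs <;> simp, rfl⟩

theorem ncard_norm64 : {v : leechLattice | sqNorm v.1 = 64}.ncard = 398034000 := by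
  rw [← Set.ncard_image_of_injective _ Subtype.val_injective]
  refine (congrArg Set.ncard (Set.ext fun x => ?_)).trans ncard_64.1
  constructor
  · rintro ⟨v, hv, rfl⟩; exact ⟨v.2, hv⟩
  · rintro ⟨h, h'⟩; exact ⟨⟨x, h⟩, h', rfl⟩

theorem card_crossStab : Nat.card crossStab = 4096 * 244823040 := card_stab

theorem card_Co0 : Nat.card Co0 = 8315553613086720000 := by
  have h1 := card_eq_mul_of_orbit crossStab (eight none) _ orbit_crossStab
  have h2 := card_eq_mul_of_orbit (⊤ : Subgroup Co0) (eight none) {v : leechLattice | sqNorm v.1 = 64} (by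
    ext v
    constructor
    · rintro ⟨g, rfl⟩
      exact ((g.1).2.2 _).trans (cross_mem (eight_mem_cross none)).2
    · intro hv
      obtain ⟨g, e⟩ := transitive64 (v := eight none) (w := v) (cross_mem (eight_mem_cross none)).2 hv
      exact ⟨⟨g, trivial⟩, e⟩)
  rw [crossStab_inf] at h1
  rw [top_inf_eq, Subgroup.card_top, ncard_norm64] at h2
  rw [ncard_cross, card_crossStab] at h1
  omega
where
  crossStab_inf : crossStab ⊓ MulAction.stabilizer Co0 (eight none) = MulAction.stabilizer Co0 (eight none) :=
    inf_eq_right.2 fun g hg => mem_crossStab_of_eight (i := none) (by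
      rw [MulAction.mem_stabilizer_iff.1 hg]; exact eight_mem_cross none)

end CfsgLib.Leech
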