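/-
The automorphism group modulo its centre is simple.
-/
import Cfsg.Agent.Leech.Maximal
import Cfsg.Agent.Leech.Order
import Cfsg.Agent.Golay.Simple
import Mathlib.GroupTheory.Abelianization.Defs

set_option autoImplicit false

namespace CfsgLib.Leech

open Cfsg CfsgLib.Golay
open scoped Pointwise commutatorElement

/-- A code set. -/
abbrev IsCodeSet (c : Finset GolayPt) : Prop := c ∈ supports (golayCode : Set (GolayPt → ZMod 2))

theorem symm_mem_code {c d : Finset GolayPt} (hc : IsCodeSet c) (hd : IsCodeSet d) : IsCodeSet (symmDiff c d) := by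
  rw [IsCodeSet, mem_supports_iff, mask_symmDiff]
  exact inCode_xor (mem_supports_iff.1 hc) (mem_supports_iff.1 hd)

theorem smul_mem_code {σ : Equiv.Perm GolayPt} (hσ : σ ∈ M24) {c : Finset GolayPt} (hc : IsCodeSet c) :
    IsCodeSet (σ • c) := (smul_mem_wordsOfWeight hσ (k := c.card) ⟨hc, rfl⟩).1

theorem mem_smul_iff {σ : Equiv.Perm GolayPt} {c : Finset GolayPt} {j : GolayPt} :
    j ∈ σ • c ↔ σ.symm j ∈ c := by
  rw [← Finset.inv_smul_mem_iff]
  rfl

theorem mono_mul {σ τ : Equiv.Perm GolayPt} (hσ : σ ∈ M24) (hτ : τ ∈ M24) {c d : Finset GolayPt}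
    (hc : IsCodeSet c) (hd : IsCodeSet d) : mono hσ hc * mono hτ hd =
      mono (mul_mem hσ hτ) (symm_mem_code hc (smul_mem_code hσ hd)) := by
  refine Subtype.ext (Equiv.ext fun v => Subtype.ext (funext fun j => ?_))
  show signedPerm σ c (signedPerm τ d v.1) j = signedPerm (σ * τ) (symmDiff c (σ • d)) v.1 j
  have e : (σ * τ).symm j = τ.symm (σ.symm j) := rfl
  simp only [signedPerm, Finset.mem_symmDiff, mem_smul_iff, e]
  by_cases h1 : j ∈ c <;> by_cases h2 : σ.symm j ∈ d <;> simp [h1, h2]

theorem mono_congr {σ τ : Equiv.Perm GolayPt} {hσ : σ ∈ M24} {hτ : τ ∈ M24} {c d : Finset GolayPt}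
    {hc : IsCodeSet c} {hd : IsCodeSet d} (h1 : σ = τ) (h2 : c = d) : mono hσ hc = mono hτ hd := by
  subst h1; subst h2; rfl

/-- A sign change. -/
def diag {c : Finset GolayPt} (hc : IsCodeSet c) : Co0 := mono (one_mem M24) hc

/-- A coordinate permutation. -/
def perm {σ : Equiv.Perm GolayPt} (hσ : σ ∈ M24) : Co0 := mono hσ empty_mem

theorem mono_one : mono (one_mem M24) empty_mem = (1 : Co0) :=
  Subtype.ext (Equiv.ext fun v => Subtype.ext (funext fun j => by
    rw [mono_apply]; simp [signedPerm, perm_one_symm]))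

theorem diag_mul {c d : Finset GolayPt} (hc : IsCodeSet c) (hd : IsCodeSet d) :
    diag hc * diag hd = diag (symm_mem_code hc hd) := by
  rw [diag, diag, mono_mul]
  exact mono_congr (one_mul 1) (by rw [one_smul])

theorem diag_inv {c : Finset GolayPt} (hc : IsCodeSet c) : (diag hc)⁻¹ = diag hc := by
  refine inv_eq_of_mul_eq_one_right ?_
  rw [diag_mul, ← mono_one]
  exact mono_congr rfl (symmDiff_self c)

theorem diag_comm {c d : Finset GolayPt} (hc : IsCodeSet c) (hd : IsCodeSet d) :
    diag hc * diag hd = diag hd * diag hc := by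
  rw [diag_mul, diag_mul]
  exact mono_congr rfl (symmDiff_comm c d)

theorem mono_eq {σ : Equiv.Perm GolayPt} (hσ : σ ∈ M24) {c : Finset GolayPt} (hc : IsCodeSet c) :
    mono hσ hc = diag hc * perm hσ := by
  rw [diag, perm, mono_mul]
  exact mono_congr (one_mul σ).symm (by rw [one_smul]; exact (symmDiff_bot c).symm)

theorem perm_inv {σ : Equiv.Perm GolayPt} (hσ : σ ∈ M24) : (perm hσ)⁻¹ = perm (inv_mem hσ) := by
  refine inv_eq_of_mul_eq_one_right ?_
  rw [perm, perm, mono_mul, ← mono_one]
  exact mono_congr (mul_inv_cancel σ) (by simp)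

theorem conj_diag {σ : Equiv.Perm GolayPt} (hσ : σ ∈ M24) {c d : Finset GolayPt} (hc : IsCodeSet c)
    (hd : IsCodeSet d) : mono hσ hc * diag hd * (mono hσ hc)⁻¹ = diag (smul_mem_code hσ hd) := by
  rw [mul_inv_eq_iff_eq_mul, diag, diag, mono_mul, mono_mul]
  exact mono_congr (by rw [mul_one, one_mul]) (by rw [one_smul, symmDiff_comm])

theorem exists_mono {g : Co0} (hg : g ∈ crossStab) :
    ∃ (σ : Equiv.Perm GolayPt) (hσ : σ ∈ M24) (c : Finset GolayPt) (hc : IsCodeSet c), g = mono hσ hc :=
  stab_mono g hg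

/-- The sign changes. -/
def signChanges : Subgroup Co0 where
  carrier := {g | ∃ (c : Finset GolayPt) (hc : IsCodeSet c), g = diag hc}
  one_mem' := ⟨∅, empty_mem, mono_one.symm⟩
  mul_mem' := by
    rintro _ _ ⟨c, hc, rfl⟩ ⟨d, hd, rfl⟩
    exact ⟨_, _, diag_mul hc hd⟩
  inv_mem' := by
    rintro _ ⟨c, hc, rfl⟩
    exact ⟨c, hc, diag_inv hc⟩

theorem diag_mem {c : Finset GolayPt} (hc : IsCodeSet c) : diag hc ∈ signChanges := ⟨c, hc, rfl⟩

theorem signChanges_conj {g x : Co0} (hg : g ∈ crossStab) (hx : x ∈ signChanges) :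
    g * x * g⁻¹ ∈ signChanges := by
  obtain ⟨σ, hσ, c, hc, rfl⟩ := exists_mono hg
  obtain ⟨d, hd, rfl⟩ := hx
  rw [conj_diag]
  exact diag_mem _

theorem toSet_xor (a b : ℕ) : toSet (a ^^^ b) = symmDiff (toSet a) (toSet b) := by
  ext p
  simp only [Finset.mem_symmDiff, mem_toSet, Nat.testBit_xor]
  cases a.testBit (idx p).val <;> cases b.testBit (idx p).val <;> simp

/-- A subgroup containing the sign changes on octads contains all. -/
theorem signChanges_le {M : Subgroup Co0} (h : ∀ o (ho : o ∈ octads), diag ho.1 ∈ M) : signChanges ≤ M := by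
  rintro _ ⟨c, hc, rfl⟩
  have hb : ∀ a ∈ basis, a.2 < 2 ^ 24 ∧ inCode a.2 = true ∧ popc a.2 = 8 := by decide +kernel
  have hl : ∀ l : List (ℕ × ℕ), (∀ a ∈ l, a ∈ basis) → ∀ m ∈ allSums l,
      ∀ hm : IsCodeSet (toSet m), diag hm ∈ M := by
    intro l
    induction l with
    | nil =>
      intro _ m hm hm'
      simp only [allSums, List.mem_singleton] at hm
      have e : diag hm' = 1 := by
        rw [← mono_one]
        exact mono_congr rfl (by rw [hm]; ext p; simp [mem_toSet])
      rw [e]; exact one_mem M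
    | cons a r ih =>
      intro hl m hm hm'
      obtain ⟨p, b⟩ := a
      simp only [allSums, List.mem_append, List.mem_map] at hm
      rcases hm with hm | ⟨x, hx, rfl⟩
      · exact ih (fun a ha => hl a (List.mem_cons_of_mem _ ha)) m hm hm'
      · obtain ⟨h1, h2, h3⟩ := hb _ (hl (p, b) List.mem_cons_self)
        have ho : toSet b ∈ octads := by
          rw [mem_octads_iff, mask_toSet h1, mem_wtList]
          exact ⟨h2, h1, h3⟩
        have hxc : IsCodeSet (toSet x) := by
          have e : toSet x = symmDiff (toSet b) (toSet (b ^^^ x)) := by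
            rw [toSet_xor, symmDiff_symmDiff_cancel_left]
          rw [e]; exact symm_mem_code ho.1 hm'
        rw [show diag hm' = diag ho.1 * diag hxc by rw [diag_mul]; exact mono_congr rfl (toSet_xor b x)]
        exact mul_mem (h _ ho) (ih (fun a ha => hl a (List.mem_cons_of_mem _ ha)) x hx hxc)
  have hmem := mem_codeList.2 ⟨mem_supports_iff.1 hc, mask_lt c⟩
  have := hl basis (fun a ha => ha) (mask c) hmem (by rw [toSet_mask]; exact hc)
  simpa only [toSet_mask] using this

/-- If a subgroup normalised by the monomial group is moved by the commutators, it holds all sign changes. -/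
theorem signChanges_le_of_commutator {M : Subgroup Co0}
    (h : ∀ {σ : Equiv.Perm GolayPt} (hσ : σ ∈ M24) {c : Finset GolayPt} (hc : IsCodeSet c),
      diag (symm_mem_code hc (smul_mem_code hσ hc)) ∈ M) : signChanges ≤ M := by
  refine signChanges_le fun o ho => ?_
  obtain ⟨g, hg, e⟩ := exists_map_octad OctStab.O_mem ho
  have h4 : toSet 8966165 ∈ octads ∧ toSet (8966165 ^^^ octO) ∈ octads := by
    refine ⟨?_, ?_⟩ <;> rw [mem_octads_iff, mask_toSet (by decide +kernel), mem_wtList] <;>
      refine ⟨?_, ?_, ?_⟩ <;> decide +kernel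
  obtain ⟨a, ha, hb⟩ : ∃ a ∈ octads, symmDiff a o ∈ octads := by
    refine ⟨g • toSet 8966165, smul_mem_octads hg h4.1, ?_⟩
    rw [← e, show OctStab.O = toSet octO from rfl, ← Finset.smul_finset_symmDiff, ← toSet_xor]
    exact smul_mem_octads hg h4.2
  obtain ⟨σ, hσ, eσ⟩ := exists_map_octad ha hb
  have := h hσ ha.1
  rwa [show diag (symm_mem_code ha.1 (smul_mem_code hσ ha.1)) = diag ho.1 from
    mono_congr rfl (by rw [eσ, symmDiff_symmDiff_cancel_left])] at this

theorem xi_sq : xi * xi = 1 := Subtype.ext (Equiv.ext fun v => Subtype.ext (xiVal_xiVal v.2))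

theorem xi_inv : xi⁻¹ = xi := inv_eq_of_mul_eq_one_right xi_sq

/-- The permutations occurring in a subgroup. -/
def permPart (M : Subgroup Co0) : Subgroup M24 where
  carrier := {σ | ∃ (c : Finset GolayPt) (hc : IsCodeSet c), mono σ.2 hc ∈ M}
  one_mem' := ⟨∅, empty_mem, by
    rw [show mono (1 : M24).2 empty_mem = (1 : Co0) from mono_one]; exact one_mem M⟩
  mul_mem' := by
    rintro ⟨σ, hσ⟩ ⟨τ, hτ⟩ ⟨c, hc, h⟩ ⟨d, hd, h'⟩
    exact ⟨_, symm_mem_code hc (smul_mem_code hσ hd), by
      have := mul_mem h h'
      rwa [mono_mul] at this⟩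
  inv_mem' := by
    rintro ⟨σ, hσ⟩ ⟨c, hc, h⟩
    refine ⟨σ⁻¹ • c, smul_mem_code (inv_mem hσ) hc, ?_⟩
    have e : (mono hσ hc)⁻¹ = mono (inv_mem hσ) (smul_mem_code (inv_mem hσ) hc) := by
      refine inv_eq_of_mul_eq_one_right ?_
      rw [mono_mul, ← mono_one]
      exact mono_congr (mul_inv_cancel σ) (by rw [smul_inv_smul]; exact symmDiff_self c)
    rw [← e]; exact inv_mem h

theorem permPart_top {M : Subgroup Co0} (hM : ∀ g ∈ crossStab, ∀ x ∈ M, g * x * g⁻¹ ∈ M)
    {σ : Equiv.Perm GolayPt} {hσ : σ ∈ M24} {c : Finset GolayPt} {hc : IsCodeSet c}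
    (h : mono hσ hc ∈ M) (hne : σ ≠ 1) : permPart M = ⊤ := by
  have hn : (permPart M).Normal := ⟨by
    rintro ⟨τ, hτ⟩ ⟨d, hd, hm⟩ ⟨g, hg⟩
    refine ⟨g • d, smul_mem_code hg hd, ?_⟩
    have := hM _ (mono_mem_crossStab hg empty_mem) _ hm
    rw [show mono hg empty_mem = perm hg from rfl, perm_inv, perm, perm, mono_mul, mono_mul] at this
    convert this using 2
    all_goals first
      | rfl
      | rw [Finset.smul_finset_empty, ← Finset.bot_eq_empty, symmDiff_bot, bot_symmDiff]⟩
  haveI := CfsgLib.Golay.Simple.simple_M24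
  refine hn.eq_bot_or_eq_top.resolve_left fun hb => hne ?_
  have : (⟨σ, hσ⟩ : M24) ∈ permPart M := ⟨c, hc, h⟩
  rw [hb, Subgroup.mem_bot] at this
  exact congrArg Subtype.val this

/-- The identity table. -/
def idTab : List ℕ := List.range 24

theorem conj_xi_diag {m : ℕ} (hm : inCode m = true) (hlt : m < 2 ^ 24) (l : List ℤ)
    (hl : vecOf l ∈ leechLattice) : ((xi * diag (toSet_mem hm hlt) * xi) • (⟨vecOf l, hl⟩ : leechLattice)).1 =
      vecOf (runWord [(idTab, 0, true), (idTab, m, true), (idTab, 0, false)] l) := by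
  have hmap : ∀ (k : ℕ) (l' : List ℤ), vecOf ((List.range 24).map fun j =>
      bif k.testBit j then -(l'.getD (idTab.getD j 0) 0) else l'.getD (idTab.getD j 0) 0) =
      flip (toSet k) (vecOf l') := fun k l' => by
    rw [vecOf_map]
    funext p
    have : idTab.getD (idx p).val 0 = (idx p).val := by simp [idTab, List.getD_eq_getElem?_getD]
    simp only [flip, vecOf, this, mem_toSet]
    cases k.testBit (idx p).val <;> simp
  have hxi : ∀ l', vecOf ((List.range 24).map fun j => xiVal (vecOf l') (ptN j)) = xiVal (vecOf l') :=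
    fun l' => by rw [vecOf_map]; funext p; rw [ptN_idx]
  simp only [runWord, stepList, cond_true, cond_false, hmap, hxi, flip_zero]
  rw [mul_smul, mul_smul, vecOf_map]
  funext p
  rw [ptN_idx]
  rfl

/-- Normal closure of the sign changes. -/
def closureSigns : Subgroup Co0 := Subgroup.normalClosure (signChanges : Set Co0)

theorem diag_mem_closure {c : Finset GolayPt} (hc : IsCodeSet c) : diag hc ∈ closureSigns :=
  Subgroup.subset_normalClosure (diag_mem hc)

theorem conjXi_mem {c : Finset GolayPt} (hc : IsCodeSet c) : xi * diag hc * xi ∈ closureSigns := by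
  have := (Subgroup.normalClosure_normal (s := (signChanges : Set Co0))).conj_mem _ (diag_mem_closure hc) xi
  rwa [xi_inv] at this

theorem eight_vec (i : ℕ) (hi : i < 24) :
    vecOf ((List.range 24).map fun j => if j = i then 8 else 0) = (eight (ptN i)).1 := by
  rw [vecOf_map]
  funext p
  simp only [eight, Pi.single_apply]
  exact if_congr ⟨fun e => by rw [← ptN_idx p, e], fun e => by rw [e, idx_ptN hi]⟩ rfl rfl

theorem closureSigns_top : closureSigns = ⊤ := by
  have hin : inCode 9347075 = true ∧ inCode 13062145 = true := by decide +kernel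
  have hlt1 : 9347075 < 2 ^ 24 := by decide
  have hlt2 : 13062145 < 2 ^ 24 := by decide
  have ev : ∀ (i : ℕ) (hi : i < 24) (m : ℕ) (hm : inCode m = true) (hlt : m < 2 ^ 24),
      ((xi * diag (toSet_mem hm hlt) * xi) • eight (ptN i)).1 =
      vecOf (runWord [(idTab, 0, true), (idTab, m, true), (idTab, 0, false)]
        ((List.range 24).map fun j => if j = i then 8 else 0)) := fun i hi m hm hlt => by
    rw [← conj_xi_diag hm hlt _ (by rw [eight_vec i hi]; exact Subtype.prop _)]
    congr 2
    exact Subtype.ext (eight_vec i hi).symm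
  set t := xi * diag (toSet_mem hin.1 hlt1) * xi
  have ht : t ∈ crossStab := mem_crossStab_of_eight (i := ptN 23) (by
    rw [ev 23 (by omega) 9347075 hin.1 hlt1]
    have h : ((List.range 24).any fun j => [(8 : ℤ), -8].any fun a =>
        runWord [(idTab, 0, true), (idTab, 9347075, true), (idTab, 0, false)]
          ((List.range 24).map fun j => if j = 23 then 8 else 0) ==
        (List.range 24).map fun k => if k = j then a else 0) = true := by decide +kernel
    simp only [List.any_eq_true, List.mem_range, beq_iff_eq] at h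
    obtain ⟨j, hj, a, ha, e⟩ := h
    rw [e, vecOf_map]
    refine ⟨ptN j, a, by simpa using ha, funext fun p => ?_⟩
    rw [Pi.single_apply]
    exact if_congr ⟨fun e => by rw [← ptN_idx p, e], fun e => by rw [e, idx_ptN hj]⟩ rfl rfl)
  obtain ⟨σ, hσ, c, hc, e⟩ := exists_mono ht
  have hne : σ ≠ 1 := by
    rintro rfl
    have hmove : ((List.range 24).all fun i =>
        (runWord [(idTab, 0, true), (idTab, 9347075, true), (idTab, 0, false)]
          ((List.range 24).map fun j => if j = i then 8 else 0)).getD i 0 != 0) = false := by decide +kernel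
    refine Bool.false_ne_true (hmove.symm.trans (List.all_eq_true.2 fun i hi => ?_))
    rw [List.mem_range] at hi
    have h1 := congrFun (ev i hi 9347075 hin.1 hlt1) (ptN i)
    rw [vecOf, idx_ptN hi] at h1
    rw [bne_iff_ne, ← h1]
    show ((t • eight (ptN i)).1 (ptN i)) ≠ 0
    rw [e, show (mono hσ hc • eight (ptN i)).1 (ptN i) = signedPerm 1 c (eight (ptN i)).1 (ptN i) from rfl]
    simp only [signedPerm, perm_one_symm, eight, Pi.single_eq_same]
    split_ifs <;> norm_num
  have hN : ∀ g ∈ crossStab, ∀ x ∈ closureSigns, g * x * g⁻¹ ∈ closureSigns := fun g _ x hx =>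
    (Subgroup.normalClosure_normal).conj_mem x hx g
  have hP := permPart_top hN (hσ := hσ) (hc := hc) (e ▸ conjXi_mem _) hne
  have hle : crossStab ≤ closureSigns := fun g hg => by
    obtain ⟨τ, hτ, d, hd, rfl⟩ := exists_mono hg
    obtain ⟨d', hd', hm⟩ : (⟨τ, hτ⟩ : M24) ∈ permPart closureSigns := hP ▸ Subgroup.mem_top _
    have := mul_mem (diag_mem_closure (symm_mem_code hd hd')) hm
    rwa [diag, mono_mul, show mono _ _ = mono hτ hd from mono_congr (one_mul τ)
      (by rw [one_smul, symmDiff_assoc, symmDiff_self]; exact symmDiff_bot d)] at this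
  refine maximal hle fun hle' => ?_
  obtain ⟨i, s, hs, e2⟩ := hle' (conjXi_mem (toSet_mem hin.2 hlt2)) _ (eight_mem_cross (ptN 23))
  rw [ev 23 (by omega) 13062145 hin.2 hlt2] at e2
  have hno : ((List.range 24).all fun j =>
      ((runWord [(idTab, 0, true), (idTab, 13062145, true), (idTab, 0, false)]
        ((List.range 24).map fun j => if j = 23 then 8 else 0)).getD j 0).natAbs != 8) = true := by
    decide +kernel
  have h8 := List.all_eq_true.1 hno (idx i).val (List.mem_range.2 (idx i).isLt)
  have := congrFun e2 i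
  rw [Pi.single_eq_same, vecOf] at this
  rw [this, bne_iff_ne] at h8
  omega

theorem commutator_top : commutator Co0 = ⊤ := by
  rw [← top_le_iff, ← closureSigns_top]
  refine Subgroup.normalClosure_le_normal (SetLike.coe_subset_coe.2 (signChanges_le_of_commutator ?_))
  intro σ hσ c hc
  have h := Subgroup.commutator_mem_commutator (H₁ := (⊤ : Subgroup Co0)) (H₂ := ⊤)
    (Subgroup.mem_top (diag hc)) (Subgroup.mem_top (perm hσ))
  have e : ⁅diag hc, perm hσ⁆ = diag (symm_mem_code hc (smul_mem_code hσ hc)) := by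
    rw [commutatorElement_def, mul_assoc, mul_assoc, ← mul_assoc (perm hσ), diag_inv,
      show perm hσ * diag hc * (perm hσ)⁻¹ = diag (smul_mem_code hσ hc) from conj_diag hσ empty_mem hc,
      diag_mul]
  rw [e] at h
  exact h

theorem le_center_of_le {M : Subgroup Co0} (hn : M.Normal) (hle : M ≤ crossStab) : M ≤ Subgroup.center Co0 := by
  intro m hm
  obtain ⟨σ, hσ, c, hc, rfl⟩ := exists_mono (hle hm)
  by_cases hσ1 : σ = 1
  · subst hσ1
    by_contra hcen
    obtain ⟨a, ha⟩ : ∃ a, a ∈ c := by
      by_contra hne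
      push Not at hne
      refine hcen ?_
      rw [show mono hσ hc = 1 from (mono_congr rfl (Finset.eq_empty_of_forall_notMem hne)).trans mono_one]
      exact one_mem _
    obtain ⟨b, hb⟩ : ∃ b, b ∉ c := by
      by_contra hne
      push Not at hne
      refine hcen ?_
      rw [show mono hσ hc = negOne from mono_congr rfl (Finset.eq_univ_of_forall hne)]
      exact negOne_central
    have hab : a ≠ b := fun e => hb (e ▸ ha)
    have hblock : ∃ u, blockOf u = blockOf (none : GolayPt) ∧ u ≠ none := by decide +kernel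
    obtain ⟨u, hu, hune⟩ := hblock
    obtain ⟨τ, hτ, e⟩ := exists_map_tuple (n := 2) (by omega) ![a, b] ![none, u]
      (by intro i j h; fin_cases i <;> fin_cases j <;> simp_all)
      (by intro i j h; fin_cases i <;> fin_cases j <;> simp_all)
    have e0 : τ a = none := e 0
    have e1 : τ b = u := e 1
    set d := τ • c with hdd
    have hd : IsCodeSet d := smul_mem_code hτ hc
    have hdM : diag hd ∈ M := by
      have := hn.conj_mem _ hm (perm hτ)
      rwa [show mono hσ hc = diag hc from rfl, perm, conj_diag] at this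
    have hdn : (none : GolayPt) ∈ d := by rw [mem_smul_iff, ← e0, τ.symm_apply_apply]; exact ha
    have hdu : u ∉ d := by rw [mem_smul_iff, ← e1, τ.symm_apply_apply]; exact hb
    have h2 := hn.conj_mem _ hdM xi
    rw [xi_inv] at h2
    obtain ⟨ρ, hρ, f, hf, e2⟩ := exists_mono (hle h2)
    by_cases hρ1 : ρ = 1
    · subst hρ1
      have hy : diag hd • xi • eight none = xi • mono hρ hf • eight none := by
        rw [← e2, mul_smul, mul_smul, ← mul_smul xi xi, xi_sq, one_smul]
      have hz : mono hρ hf • eight none = eight none ∨ mono hρ hf • eight none = -eight none := by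
        by_cases hnf : (none : GolayPt) ∈ f
        · right
          refine Subtype.ext (funext fun j => ?_)
          show signedPerm 1 f (eight none).1 j = -((eight none).1 j)
          simp only [signedPerm, perm_one_symm, eight]
          by_cases hj : j = none
          · subst hj; simp [hnf]
          · simp [hj]
        · left
          refine Subtype.ext (funext fun j => ?_)
          show signedPerm 1 f (eight none).1 j = (eight none).1 j
          simp only [signedPerm, perm_one_symm, eight]
          by_cases hj : j = none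
          · subst hj; simp [hnf]
          · simp [hj]
      have hxv : ∀ p, blockOf p = blockOf (none : GolayPt) → xiVal (eight none).1 p ≠ 0 := by
        have h : ∀ p, blockOf p = blockOf (none : GolayPt) → xiVal (Pi.single none 8) p ≠ 0 := by
          decide +kernel
        exact h
      have hn0 := hxv none rfl
      have hu0 := hxv u hu
      rcases hz with r | r <;> rw [r] at hy
      · have := congrArg (fun w : leechLattice => w.1 none) hy
        change signedPerm 1 d (xiVal (eight none).1) none = xiVal (eight none).1 none at this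
        simp only [signedPerm, perm_one_symm, hdn, if_true] at this
        omega
      · have hneg : xi • (-eight none) = -(xi • eight none) := map_neg (hom xi) _
        rw [hneg] at hy
        have := congrArg (fun w : leechLattice => w.1 u) hy
        change signedPerm 1 d (xiVal (eight none).1) u = -(xiVal (eight none).1 u) at this
        simp only [signedPerm, perm_one_symm, hdu, if_false] at this
        omega
    · exact absurd (e2 ▸ h2) fun h3 => not_perm hn hle h3 hρ1
  · exact absurd hm fun hm => not_perm hn hle hm hσ1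
where
  not_perm {M : Subgroup Co0} (hn : M.Normal) (hle : M ≤ crossStab) {σ : Equiv.Perm GolayPt} {hσ : σ ∈ M24}
      {c : Finset GolayPt} {hc : IsCodeSet c} (h : mono hσ hc ∈ M) (hne : σ ≠ 1) : False := by
    have hP := permPart_top (fun g _ x hx => hn.conj_mem x hx g) h hne
    have hE : signChanges ≤ M := signChanges_le_of_commutator fun {τ} hτ {d} hd => by
      obtain ⟨f, hf, hm⟩ : (⟨τ, hτ⟩ : M24) ∈ permPart M := hP ▸ Subgroup.mem_top _
      have h1 := mul_mem (hn.conj_mem _ hm (diag hd)) (inv_mem hm)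
      rw [diag_inv, mul_assoc (diag hd * _), mul_assoc (diag hd),
        ← mul_assoc (mono hτ hf), conj_diag, diag_mul] at h1
      exact h1
    have : closureSigns ≤ M := Subgroup.normalClosure_le_normal (SetLike.coe_subset_coe.2 hE)
    rw [closureSigns_top] at this
    exact isCoatom_crossStab.1 (top_le_iff.1 (this.trans hle))

theorem normal_cases {M : Subgroup Co0} (hn : M.Normal) : M ≤ Subgroup.center Co0 ∨ M = ⊤ := by
  by_cases hle : M ≤ crossStab
  · exact Or.inl (le_center_of_le hn hle)
  right
  have hsup : crossStab ⊔ M = ⊤ := maximal le_sup_left fun h => hle (le_sup_right.trans h)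
  have hnorm : (M ⊔ signChanges).Normal := by
    rw [← Subgroup.normalizer_eq_top_iff, ← top_le_iff, ← hsup, sup_le_iff]
    refine ⟨fun g hg => ?_, le_sup_left.trans Subgroup.le_normalizer⟩
    rw [Subgroup.mem_normalizer_iff]
    intro x
    have key : ∀ k ∈ crossStab, ∀ y ∈ M ⊔ signChanges, k * y * k⁻¹ ∈ M ⊔ signChanges := fun k hk y hy => by
      rw [Subgroup.mem_sup_of_normal_left] at hy
      obtain ⟨a, ha, b, hb, rfl⟩ := hy
      rw [show k * (a * b) * k⁻¹ = k * a * k⁻¹ * (k * b * k⁻¹) by group]
      exact mul_mem (Subgroup.mem_sup_left (hn.conj_mem a ha k)) (Subgroup.mem_sup_right (signChanges_conj hk hb))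
    refine ⟨key g hg x, fun h => ?_⟩
    simpa [mul_assoc] using key g⁻¹ (inv_mem hg) _ h
  have hall : M ⊔ signChanges = ⊤ := top_le_iff.1 (closureSigns_top ▸
    Subgroup.normalClosure_le_normal (SetLike.coe_subset_coe.2 le_sup_right))
  rw [← top_le_iff, ← commutator_top, commutator_def, Subgroup.commutator_le]
  intro g _ h _
  have hg : g ∈ M ⊔ signChanges := hall ▸ Subgroup.mem_top g
  have hh : h ∈ M ⊔ signChanges := hall ▸ Subgroup.mem_top h
  rw [Subgroup.mem_sup_of_normal_left] at hg hh
  obtain ⟨a, ha, x, hx, rfl⟩ := hg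
  obtain ⟨b, hb, y, hy, rfl⟩ := hh
  rw [← QuotientGroup.eq_one_iff]
  obtain ⟨c, hc, rfl⟩ := hx
  obtain ⟨d, hd, rfl⟩ := hy
  have ea : (a : Co0 ⧸ M) = 1 := (QuotientGroup.eq_one_iff a).2 ha
  have eb : (b : Co0 ⧸ M) = 1 := (QuotientGroup.eq_one_iff b).2 hb
  rw [← QuotientGroup.mk'_apply, map_commutatorElement, QuotientGroup.mk'_apply, QuotientGroup.mk'_apply,
    QuotientGroup.mk_mul, QuotientGroup.mk_mul, ea, eb, one_mul, one_mul, commutatorElement_eq_one_iff_mul_comm,
    ← QuotientGroup.mk_mul, ← QuotientGroup.mk_mul, diag_comm]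

theorem isCo1_quot : IsCo1 (Co0 ⧸ Subgroup.center Co0) := by
  have hcard : Nat.card (Co0 ⧸ Subgroup.center Co0) = 4157776806543360000 := by
    have := Subgroup.card_eq_card_quotient_mul_card_subgroup (Subgroup.center Co0)
    rw [card_center, card_Co0] at this
    omega
  haveI : Nontrivial (Co0 ⧸ Subgroup.center Co0) := (nontrivial_of_card hcard)
  refine ⟨⟨fun H hH => ?_⟩, hcard⟩
  rcases normal_cases (hH.comap (QuotientGroup.mk' (Subgroup.center Co0))) with h | h
  · left
    rw [← Subgroup.map_comap_eq_self_of_surjective (QuotientGroup.mk'_surjective _) H, eq_bot_iff]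
    refine (Subgroup.map_mono h).trans (le_of_eq ?_)
    exact (Subgroup.map_eq_bot_iff _).2 (QuotientGroup.ker_mk' _).ge
  · right
    rw [← Subgroup.map_comap_eq_self_of_surjective (QuotientGroup.mk'_surjective _) H, h,
      Subgroup.map_top_of_surjective _ (QuotientGroup.mk'_surjective _)]
where
  nontrivial_of_card {α : Type} (h : Nat.card α = 4157776806543360000) : Nontrivial α :=
    haveI := Nat.finite_of_card_ne_zero (α := α) (by omega)
    Finite.one_lt_card_iff_nontrivial.1 (by omega)

end CfsgLib.Leech
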