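/-
Classes of lattice vectors modulo twice the lattice.
-/
import Cfsg.Agent.Leech.Numbers
import Cfsg.Agent.Leech.Congr
import Cfsg.Prelude.Def_SporadicCombinatorics

set_option autoImplicit false

namespace CfsgLib.Leech

open Cfsg CfsgLib.Golay Finset

/-- Twice the lattice, inside it. -/
def twice : AddSubgroup leechLattice := (leechLattice.map dbl).addSubgroupOf leechLattice

theorem map_dbl_le : leechLattice.map dbl ≤ leechLattice := by
  rintro _ ⟨z, hz, rfl⟩
  exact nsmul_mem hz 2

theorem card_quot : Nat.card (leechLattice ⧸ twice) = 2 ^ 24 := by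
  show (leechLattice.map dbl).relIndex leechLattice = _
  have h := AddSubgroup.relIndex_mul_index map_dbl_le
  rw [AddSubgroup.index_map_of_injective _ dbl_injective, index_range_dbl, index_lattice,
    Nat.mul_comm ((2 : ℕ) ^ 36)] at h
  exact Nat.eq_of_mul_eq_mul_right (Nat.two_pow_pos 36) h

noncomputable instance instFintypeLeechQuot : Fintype (leechLattice ⧸ twice) :=
  haveI : Finite (leechLattice ⧸ twice) :=
    Nat.finite_of_card_ne_zero (by rw [card_quot]; exact (Nat.two_pow_pos 24).ne')
  Fintype.ofFinite _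

noncomputable instance instDecEqLeechQuot : DecidableEq (leechLattice ⧸ twice) := Classical.decEq _

open Classical in
/-- The class of a vector. -/
noncomputable def cls (x : GolayPt → ℤ) : leechLattice ⧸ twice :=
  if h : x ∈ leechLattice then QuotientAddGroup.mk ⟨x, h⟩ else 0

theorem cls_eq_iff {x y : GolayPt → ℤ} (hx : x ∈ leechLattice) (hy : y ∈ leechLattice) :
    cls x = cls y ↔ ∃ z ∈ leechLattice, x - y = 2 • z := by
  rw [cls, cls, dif_pos hx, dif_pos hy, QuotientAddGroup.eq, twice, AddSubgroup.mem_addSubgroupOf]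
  show -x + y ∈ leechLattice.map dbl ↔ _
  constructor
  · rintro ⟨z, hz, e⟩
    refine ⟨-z, neg_mem hz, ?_⟩
    have e' : 2 • z = -x + y := e
    rw [smul_neg, e']
    abel
  · rintro ⟨z, hz, e⟩
    refine ⟨-z, neg_mem hz, ?_⟩
    show 2 • (-z) = -x + y
    rw [smul_neg, ← e]
    abel

theorem congr_cls {x y : GolayPt → ℤ} (hx : x ∈ leechLattice) (hy : y ∈ leechLattice)
    (h : cls x = cls y) (hxn : sqNorm x ≤ 64) (hyn : sqNorm y ≤ 64) :
    x = y ∨ x = -y ∨ (sqNorm x = 64 ∧ sqNorm y = 64 ∧ dotInt x y = 0) := by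
  obtain ⟨z, hz, e⟩ := (cls_eq_iff hx hy).1 h
  exact congr_short hy hz e hxn hyn

theorem class_le_two (S : Finset (GolayPt → ℤ)) (a : ℤ) (ha : a < 64)
    (hS : ∀ x ∈ S, x ∈ leechLattice ∧ sqNorm x = a) (c : leechLattice ⧸ twice) :
    (S.filter fun x => cls x = c).card ≤ 2 := by
  classical
  rcases (S.filter fun x => cls x = c).eq_empty_or_nonempty with he | ⟨x, hx⟩
  · simp [he]
  · refine le_trans (card_le_card (t := {x, -x}) fun y hy => ?_) card_le_two
    simp only [mem_filter] at hx hy
    rcases congr_cls (hS y hy.1).1 (hS x hx.1).1 (hy.2.trans hx.2.symm)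
      (by rw [(hS y hy.1).2]; omega) (by rw [(hS x hx.1).2]; omega) with e | e | e
    · simp [e]
    · simp [e]
    · exact absurd e.1 (by rw [(hS y hy.1).2]; omega)

theorem class_le_frame (S : Finset (GolayPt → ℤ)) (hS : ∀ x ∈ S, x ∈ leechLattice ∧ sqNorm x = 64)
    (c : leechLattice ⧸ twice) : (S.filter fun x => cls x = c).card ≤ 48 := by
  classical
  set F := S.filter fun x => cls x = c
  let p : (GolayPt → ℤ) → Finset (GolayPt → ℤ) := fun x => {x, -x}
  set P := F.image p
  have h1 : F.card ≤ 2 * P.card := by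
    refine card_le_mul_card_image F 2 fun s hs => ?_
    obtain ⟨x, _, rfl⟩ := Finset.mem_image.1 hs
    refine le_trans (card_le_card (t := {x, -x}) fun y hy => ?_) card_le_two
    have : p y = p x := (mem_filter.1 hy).2
    have hy' : y ∈ p y := by simp [p]
    rw [this] at hy'
    exact hy'
  have hr : ∀ s : P, ∃ x ∈ F, p x = s := fun s => Finset.mem_image.1 s.2
  choose r hr hr' using hr
  have li : LinearIndependent ℤ r := by
    rw [Fintype.linearIndependent_iff]
    intro g hg j
    have h0 : ∑ i, g i * dotInt (r i) (r j) = 0 := by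
      have := congrArg (fun v => dotInt v (r j)) hg
      simp only [dotInt, Pi.zero_apply, zero_mul, Finset.sum_const_zero, Finset.sum_apply, Pi.smul_apply,
        smul_eq_mul, Finset.sum_mul] at this
      rw [Finset.sum_comm] at this
      rw [← this]
      exact Finset.sum_congr rfl fun i _ => by rw [dotInt, Finset.mul_sum]; simp only [mul_assoc]
    rw [sum_eq_single j] at h0
    · have hj := hS _ (mem_filter.1 (hr j)).1
      have e : dotInt (r j) (r j) = sqNorm (r j) := Finset.sum_congr rfl fun i _ => by ring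
      rw [e, hj.2] at h0
      omega
    · intro i _ hij
      have hi := mem_filter.1 (hr i)
      have hj := mem_filter.1 (hr j)
      rcases congr_cls (hS _ hi.1).1 (hS _ hj.1).1 (hi.2.trans hj.2.symm)
        (by rw [(hS _ hi.1).2]) (by rw [(hS _ hj.1).2]) with e | e | e
      · exact absurd (Subtype.ext (by rw [← hr' i, ← hr' j, e])) hij
      · exact absurd (Subtype.ext (by rw [← hr' i, ← hr' j, e]; simp [p, pair_comm])) hij
      · rw [e.2.2, mul_zero]
    · simp
  have h2 := li.fintype_card_le_finrank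
  simp only [Fintype.card_coe, Module.finrank_pi, card_pt] at h2
  omega

theorem frames_and_short :
    (∀ x ∈ leechLattice, sqNorm x = 64 → (cross x).ncard = 48) ∧
    ∀ x ∈ leechLattice, ∃ y ∈ leechLattice, sqNorm y ≤ 64 ∧ ∃ z ∈ leechLattice, x - y = 2 • z := by
  classical
  obtain ⟨c4, f4⟩ := ncard_32
  obtain ⟨c6, f6⟩ := ncard_48
  obtain ⟨c8, f8⟩ := ncard_64
  rw [Set.ncard_eq_toFinset_card _ f4] at c4
  rw [Set.ncard_eq_toFinset_card _ f6] at c6
  rw [Set.ncard_eq_toFinset_card _ f8] at c8
  set S4 := f4.toFinset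
  set S6 := f6.toFinset
  set S8 := f8.toFinset
  have m4 : ∀ x, x ∈ S4 → x ∈ leechLattice ∧ sqNorm x = 32 := fun x h => f4.mem_toFinset.1 h
  have m6 : ∀ x, x ∈ S6 → x ∈ leechLattice ∧ sqNorm x = 48 := fun x h => f6.mem_toFinset.1 h
  have m8 : ∀ x, x ∈ S8 → x ∈ leechLattice ∧ sqNorm x = 64 := fun x h => f8.mem_toFinset.1 h
  have b4 : S4.card ≤ 2 * (S4.image cls).card :=
    card_le_mul_card_image S4 2 fun c _ => class_le_two S4 32 (by omega) m4 c
  have b6 : S6.card ≤ 2 * (S6.image cls).card :=
    card_le_mul_card_image S6 2 fun c _ => class_le_two S6 48 (by omega) m6 c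
  have b8 : S8.card ≤ 48 * (S8.image cls).card :=
    card_le_mul_card_image S8 48 fun c _ => class_le_frame S8 m8 c
  have m0 : ∀ x, x ∈ ({0} : Finset (GolayPt → ℤ)) → x ∈ leechLattice ∧ sqNorm x = 0 := fun x h => by
    rw [Finset.mem_singleton.1 h]
    exact ⟨zero_mem _, by simp [sqNorm]⟩
  have dis : ∀ (S T : Finset (GolayPt → ℤ)) (a b : ℤ), a ≠ b → a ≤ 64 → b ≤ 64 →
      (∀ x ∈ S, x ∈ leechLattice ∧ sqNorm x = a) → (∀ x ∈ T, x ∈ leechLattice ∧ sqNorm x = b) →
      Disjoint (S.image cls) (T.image cls) := by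
    intro S T a b hab ha hb hS hT
    rw [Finset.disjoint_left]
    intro c hc hc'
    obtain ⟨x, hx, rfl⟩ := Finset.mem_image.1 hc
    obtain ⟨y, hy, e⟩ := Finset.mem_image.1 hc'
    obtain ⟨hxL, hxa⟩ := hS x hx
    obtain ⟨hyL, hyb⟩ := hT y hy
    rcases congr_cls hxL hyL e.symm (by omega) (by omega) with r | r | r
    · subst r; omega
    · subst r; rw [sqNorm_neg] at hxa; omega
    · omega
  set U := ({0} : Finset (GolayPt → ℤ)).image cls ∪ S4.image cls ∪ S6.image cls ∪ S8.image cls
  have hU : U.card = 1 + (S4.image cls).card + (S6.image cls).card + (S8.image cls).card := by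
    rw [card_union_of_disjoint (by
        simp only [disjoint_union_left]
        exact ⟨⟨dis _ _ 0 64 (by omega) (by omega) (by omega) m0 m8,
          dis _ _ 32 64 (by omega) (by omega) (by omega) m4 m8⟩,
          dis _ _ 48 64 (by omega) (by omega) (by omega) m6 m8⟩),
      card_union_of_disjoint (by
        simp only [disjoint_union_left]
        exact ⟨dis _ _ 0 48 (by omega) (by omega) (by omega) m0 m6,
          dis _ _ 32 48 (by omega) (by omega) (by omega) m4 m6⟩),
      card_union_of_disjoint (dis _ _ 0 32 (by omega) (by omega) (by omega) m0 m4),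
      image_singleton, card_singleton]
  have tot : U.card ≤ 16777216 := by
    refine le_trans (card_le_univ _) (le_of_eq ?_)
    rw [← Nat.card_eq_fintype_card, card_quot]
    norm_num
  constructor
  · intro x hx hxn
    have hset : cross x = ↑(S8.filter fun y => cls y = cls x) := by
      ext y
      simp only [cross, Set.mem_setOf_eq, coe_filter, S8, f8.mem_toFinset]
      constructor
      · rintro ⟨hy, hn, h⟩
        exact ⟨⟨hy, hn.trans hxn⟩, ((cls_eq_iff hx hy).2 h).symm⟩
      · rintro ⟨⟨hy, hn⟩, h⟩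
        exact ⟨hy, hn.trans hxn.symm, (cls_eq_iff hx hy).1 h.symm⟩
    rw [hset, Set.ncard_coe_finset]
    by_contra hne
    have hlt : S8.card < ∑ _c ∈ S8.image cls, 48 := by
      rw [card_eq_sum_card_image cls S8]
      exact sum_lt_sum (fun c _ => class_le_frame S8 m8 c)
        ⟨cls x, mem_image_of_mem _ (f8.mem_toFinset.2 ⟨hx, hxn⟩), lt_of_le_of_ne (class_le_frame S8 m8 _) hne⟩
    rw [sum_const, smul_eq_mul] at hlt
    omega
  · intro x hx
    have hall : U = Finset.univ := by
      refine Finset.eq_univ_of_card _ ?_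
      rw [← Nat.card_eq_fintype_card, card_quot]
      norm_num
      omega
    have hxU : cls x ∈ U := hall ▸ Finset.mem_univ _
    have fin : ∀ (S : Finset (GolayPt → ℤ)) (a : ℤ), a ≤ 64 → (∀ y ∈ S, y ∈ leechLattice ∧ sqNorm y = a) →
        cls x ∈ S.image cls → ∃ y ∈ leechLattice, sqNorm y ≤ 64 ∧ ∃ z ∈ leechLattice, x - y = 2 • z := by
      intro S a ha hS h
      obtain ⟨y, hy, e⟩ := Finset.mem_image.1 h
      exact ⟨y, (hS y hy).1, by rw [(hS y hy).2]; exact ha, (cls_eq_iff hx (hS y hy).1).1 e.symm⟩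
    simp only [U, Finset.mem_union] at hxU
    rcases hxU with ((h | h) | h) | h
    exacts [fin _ 0 (by omega) m0 h, fin _ 32 (by omega) m4 h, fin _ 48 (by omega) m6 h, fin _ 64 le_rfl m8 h]

end CfsgLib.Leech
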