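/-
Pairs of minimal vectors: orthogonal pairs and the census of inner products.
-/
import Cfsg.Agent.Leech.Order
import Cfsg.Agent.Leech.Classes

set_option autoImplicit false

namespace CfsgLib.Leech

open Cfsg CfsgLib.Golay
open scoped Pointwise

theorem dotInt_comm' (x y : GolayPt → ℤ) : dotInt x y = dotInt y x :=
  Finset.sum_congr rfl fun _ _ => mul_comm _ _

theorem dot_self (x : GolayPt → ℤ) : dotInt x x = sqNorm x :=
  Finset.sum_congr rfl fun i _ => (pow_two (x i)).symm

theorem dot_smul (g : Co0) (v w : leechLattice) : dotInt (g • v).1 (g • w).1 = dotInt v.1 w.1 := by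
  have h1 := sqNorm_add (g • v).1 (g • w).1
  have h2 := sqNorm_add v.1 w.1
  have e : sqNorm ((g • v).1 + (g • w).1) = sqNorm (v.1 + w.1) := by
    rw [← AddSubgroup.coe_add, ← AddSubgroup.coe_add, ← show g • (v + w) = g • v + g • w from map_add (hom g) v w]
    exact g.2.2 _
  have e1 : sqNorm (g • v).1 = sqNorm v.1 := g.2.2 v
  have e2 : sqNorm (g • w).1 = sqNorm w.1 := g.2.2 w
  omega

theorem norm_smul (g : Co0) (v : leechLattice) : sqNorm (g • v).1 = sqNorm v.1 := g.2.2 v

theorem smul_add' (g : Co0) (v w : leechLattice) : g • (v + w) = g • v + g • w := map_add (hom g) v w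

theorem smul_sub' (g : Co0) (v w : leechLattice) : g • (v - w) = g • v - g • w := map_sub (hom g) v w

theorem smul_neg' (g : Co0) (v : leechLattice) : g • (-v) = -(g • v) := map_neg (hom g) v

theorem eq_or_neg_of_dot {v w : GolayPt → ℤ} (h : sqNorm v = sqNorm w) :
    (dotInt v w = sqNorm v → w = v) ∧ (dotInt v w = -sqNorm v → w = -v) := by
  constructor
  · intro hd
    have := sqNorm_eq_zero (x := v - w) (by rw [sqNorm_sub]; omega)
    exact (sub_eq_zero.1 this).symm
  · intro hd
    have := sqNorm_eq_zero (x := v + w) (by rw [sqNorm_add]; omega)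
    exact eq_neg_of_add_eq_zero_right this

/-- The dot products of two minimal vectors. -/
theorem dot_values {v w : GolayPt → ℤ} (hv : v ∈ leechLattice) (hw : w ∈ leechLattice) (h : sqNorm v = 32)
    (h' : sqNorm w = 32) : w = v ∨ w = -v ∨ dotInt v w = 16 ∨ dotInt v w = 8 ∨ dotInt v w = 0 ∨
      dotInt v w = -8 ∨ dotInt v w = -16 := by
  obtain ⟨k, hk⟩ := dot_dvd hv hw
  obtain ⟨e1, e2⟩ := eq_or_neg_of_dot (h.trans h'.symm)
  rcases eq_or_ne w v with rfl | hne
  · exact Or.inl rfl
  rcases eq_or_ne w (-v) with rfl | hne'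
  · exact Or.inr (Or.inl rfl)
  have h1 := sqNorm_min (sub_mem hv hw) (sub_ne_zero.2 (Ne.symm hne))
  have h2 := sqNorm_min (add_mem hv hw) (fun e => hne' (eq_neg_of_add_eq_zero_right e))
  rw [sqNorm_sub] at h1
  rw [sqNorm_add] at h2
  omega

/-- The second standard vector. -/
theorem halves_cross {u u' : leechLattice} (h : sqNorm u.1 = 64) (h' : sqNorm u'.1 = 64)
    (hc : ∃ z ∈ leechLattice, u.1 - u'.1 = 2 • z) (ho : dotInt u.1 u'.1 = 0) :
    ∃ v w : leechLattice, sqNorm v.1 = 32 ∧ sqNorm w.1 = 32 ∧ dotInt v.1 w.1 = 0 ∧ u = v + w ∧ u' = v - w := by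
  obtain ⟨z, hz, e⟩ := hc
  have n1 : sqNorm (u.1 - u'.1) = 128 := by rw [sqNorm_sub]; omega
  have e2 : u.1 - u'.1 = z + z := e.trans (two_nsmul z)
  have n2 : sqNorm z = 32 := by
    rw [e2, sqNorm_add, dot_self] at n1
    omega
  have n3 : sqNorm (u.1 - z) = 32 := by
    have : u'.1 = u.1 - z - z := by rw [sub_sub, ← e2]; abel
    have hn := congrArg sqNorm this
    rw [h', sqNorm_sub, sqNorm_sub] at hn
    have q : dotInt (u.1 - z) z = dotInt u.1 z - dotInt z z := by
      simp only [dotInt, Pi.sub_apply, sub_mul, Finset.sum_sub_distrib]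
    rw [q, dot_self] at hn
    rw [sqNorm_sub]
    omega
  refine ⟨u - ⟨z, hz⟩, ⟨z, hz⟩, n3, n2, ?_, (sub_add_cancel u _).symm, Subtype.ext ?_⟩
  · have := sqNorm_add (u.1 - z) z
    rw [sub_add_cancel, n3, n2, h] at this
    show dotInt (u.1 - z) z = 0
    omega
  · show u'.1 = u.1 - z - z
    rw [sub_sub, ← e2]; abel

/-- The standard orthogonal pair. -/
theorem move_cross_point {j : GolayPt} (hj : j ≠ none) {s : ℤ} (hs : s = 8 ∨ s = -8)
    (x : leechLattice) (hx : x.1 = Pi.single j s) :
    ∃ g : Co0, g • eight none = eight none ∧ g • x = eight (some 0) := by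
  obtain ⟨σ, hσ, e⟩ := exists_map_tuple (n := 2) (by omega) ![none, j] ![none, some 0]
    (by intro i k h; fin_cases i <;> fin_cases k <;> simp_all)
    (by intro i k h; fin_cases i <;> fin_cases k <;> simp_all)
  have e0 : σ none = none := e 0
  have e1 : σ j = some 0 := e 1
  obtain ⟨c, hc, hc1, hc0⟩ := separate (i := (none : GolayPt)) (j := some 0) (by simp)
  have hpe : ∀ (τ : Equiv.Perm GolayPt) (hτ : τ ∈ M24) (d : Finset GolayPt) (hd : d ∈ supports (golayCode : Set (GolayPt → ZMod 2)))
      (i : GolayPt) (a : ℤ) (y : leechLattice), y.1 = Pi.single i a →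
      (mono hτ hd • y).1 = Pi.single (τ i) (if τ i ∈ d then -a else a) := by
    intro τ hτ d hd i a y hy
    funext k
    show signedPerm τ d y.1 k = _
    rw [hy, signedPerm]
    by_cases hk : k = τ i
    · subst hk; simp
    · have : τ.symm k ≠ i := fun h => hk (by rw [← h, τ.apply_symm_apply])
      simp [hk, this]
  rcases hs with rfl | rfl
  · exact ⟨mono hσ empty_mem, Subtype.ext (by rw [hpe σ hσ _ _ none 8 _ rfl, e0]; simp; rfl),
      Subtype.ext (by rw [hpe σ hσ _ _ j _ x hx, e1]; simp; rfl)⟩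
  · exact ⟨mono hσ hc, Subtype.ext (by rw [hpe σ hσ _ _ none 8 _ rfl, e0, if_neg hc0]; rfl),
      Subtype.ext (by rw [hpe σ hσ _ _ j _ x hx, e1, if_pos hc1]; rfl)⟩

/-- All orthogonal pairs of minimal vectors form one orbit. -/
theorem transitive_orth {v w v' w' : leechLattice} (hv : sqNorm v.1 = 32) (hw : sqNorm w.1 = 32)
    (hd : dotInt v.1 w.1 = 0) (hv' : sqNorm v'.1 = 32) (hw' : sqNorm w'.1 = 32) (hd' : dotInt v'.1 w'.1 = 0) :
    ∃ g : Co0, g • v = v' ∧ g • w = w' := by
  have key : ∀ {a b : leechLattice}, sqNorm a.1 = 32 → sqNorm b.1 = 32 → dotInt a.1 b.1 = 0 →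
      ∃ g : Co0, g • (a + b) = eight none ∧ g • (a - b) = eight (some 0) := by
    intro a b ha hb hab
    have n1 : sqNorm (a + b).1 = 64 := by rw [AddSubgroup.coe_add, sqNorm_add]; omega
    have n2 : sqNorm (a - b).1 = 64 := by rw [AddSubgroup.coe_sub, sqNorm_sub]; omega
    obtain ⟨g, hg⟩ := transitive64 (v := a + b) (w := eight none) n1 (cross_mem (eight_mem_cross none)).2
    have e : a + b = (a - b) + (b + b) := by abel
    have e' : eight none = g • (a - b) + (g • b + g • b) := by rw [← hg, e, smul_add', smul_add']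
    have horth : dotInt (g • (a - b)).1 (eight none).1 = 0 := by
      rw [← hg, dot_smul]
      have q : dotInt (a - b).1 (a + b).1 = sqNorm a.1 - sqNorm b.1 := by
        simp only [dotInt, sqNorm, AddSubgroup.coe_add, AddSubgroup.coe_sub, Pi.add_apply, Pi.sub_apply,
          ← Finset.sum_sub_distrib]
        exact Finset.sum_congr rfl fun i _ => by ring
      omega
    have hmem : (g • (a - b)).1 ∈ stdCross := by
      by_contra hne
      have h0 : (g • (a - b)).1 = 0 := funext fun j => by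
        obtain ⟨z, hz, ez⟩ := cross_congr (eight_mem_cross none) (eight_mem_cross j)
        have hn := (norm_smul g (a - b)).trans n2
        rcases congr_short (x := (g • (a - b)).1) (eight j).2 (z := z - (g • b).1) (sub_mem hz (g • b).2) (by
            rw [smul_sub, ← ez, e']; simp only [AddSubgroup.coe_add, two_nsmul]; abel)
          hn.le (cross_mem (eight_mem_cross j)).2.le with r | r | r
        · exact absurd (r ▸ eight_mem_cross j) hne
        · exact absurd (r ▸ (⟨j, -8, Or.inr rfl, (Pi.single_neg (f := fun _ => ℤ) j 8).symm⟩ :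
            (-(eight j).1) ∈ stdCross)) hne
        · have := r.2.2
          simp only [dotInt, eight] at this
          rw [Finset.sum_eq_single j (fun k _ hk => by simp [hk]) (fun hk => absurd (Finset.mem_univ j) hk),
            Pi.single_eq_same] at this
          simp only [Pi.zero_apply]
          omega
      have := (norm_smul g (a - b)).trans n2
      rw [h0] at this
      simp [sqNorm] at this
    obtain ⟨j, s, hs, ej⟩ := hmem
    have hj : j ≠ none := by
      rintro rfl
      rw [ej] at horth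
      simp only [dotInt, eight] at horth
      rw [Finset.sum_eq_single (none : GolayPt) (fun k _ hk => by simp [hk]) (fun hk => absurd (Finset.mem_univ _) hk),
        Pi.single_eq_same, Pi.single_eq_same] at horth
      omega
    obtain ⟨h, h1, h2⟩ := move_cross_point hj hs _ ej
    exact ⟨h * g, by rw [mul_smul, hg, h1], by rw [mul_smul, h2]⟩
  obtain ⟨g, g1, g2⟩ := key hv hw hd
  obtain ⟨g', g1', g2'⟩ := key hv' hw' hd'
  refine ⟨g'⁻¹ * g, ?_, ?_⟩
  all_goals rw [mul_smul, inv_smul_eq_iff]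
  all_goals
    refine Subtype.ext (funext fun i => ?_)
    have a1 := congrArg (fun x : leechLattice => x.1 i) (g1.trans g1'.symm)
    have a2 := congrArg (fun x : leechLattice => x.1 i) (g2.trans g2'.symm)
    simp only [smul_add', smul_sub', AddSubgroup.coe_add, AddSubgroup.coe_sub, Pi.add_apply, Pi.sub_apply] at a1 a2
    omega

/-! ### Counting -/

/-- A double count. -/
theorem ncard_rel {α β : Type*} {X : Set α} (hX : X.Finite) (R : α → Set β) (k : ℕ)
    (hfin : ∀ a ∈ X, (R a).Finite) (h : ∀ a ∈ X, (R a).ncard = k) :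
    {p : α × β | p.1 ∈ X ∧ p.2 ∈ R p.1}.ncard = X.ncard * k := by
  classical
  let F : Finset (α × β) := hX.toFinset.biUnion fun a => if ha : a ∈ X then (hfin a ha).toFinset.image (Prod.mk a) else ∅
  have e : {p : α × β | p.1 ∈ X ∧ p.2 ∈ R p.1} = ↑F := by
    ext ⟨a, b⟩
    simp only [F, Set.mem_setOf_eq, Finset.coe_biUnion, Set.mem_iUnion, Finset.mem_coe, Set.Finite.mem_toFinset, exists_prop]
    constructor
    · rintro ⟨ha, hb⟩; exact ⟨a, ha, by simp [ha, hb]⟩
    · rintro ⟨a', ha', hb⟩
      simp only [ha', dif_pos, Finset.mem_image, Set.Finite.mem_toFinset, Prod.mk.injEq] at hb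
      obtain ⟨b', hb', rfl, rfl⟩ := hb
      exact ⟨ha', hb'⟩
  rw [e, Set.ncard_coe_finset, Finset.card_biUnion, Finset.sum_congr rfl (g := fun _ => k) fun a ha => ?_,
    Finset.sum_const, smul_eq_mul, Set.ncard_eq_toFinset_card _ hX]
  · rw [Set.Finite.mem_toFinset] at ha
    rw [dif_pos ha, Finset.card_image_of_injective _ (Prod.mk_right_injective a), ← Set.ncard_eq_toFinset_card _ (hfin a ha), h a ha]
  · intro a ha b hb hne
    rw [Finset.mem_coe, Set.Finite.mem_toFinset] at ha hb
    refine Finset.disjoint_left.2 fun p hp hp' => hne ?_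
    simp only [ha, hb, dif_pos, Finset.mem_image] at hp hp'
    obtain ⟨_, -, rfl⟩ := hp
    obtain ⟨_, -, e⟩ := hp'
    exact (Prod.mk.inj e).1.symm

/-- The minimal vectors. -/
def minSet : Set (GolayPt → ℤ) := {x | x ∈ leechLattice ∧ sqNorm x = 32}

/-- The minimal vectors with a given inner product. -/
def dotSet (v : GolayPt → ℤ) (d : ℤ) : Set (GolayPt → ℤ) :=
  {w | w ∈ leechLattice ∧ sqNorm w = 32 ∧ dotInt v w = d}

theorem dotSet_finite (v : GolayPt → ℤ) (d : ℤ) : (dotSet v d).Finite :=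
  ncard_32.2.subset fun _ h => ⟨h.1, h.2.1⟩

theorem dotSet_card_smul (g : Co0) (v : leechLattice) (d : ℤ) :
    (dotSet v.1 d).ncard = (dotSet (g • v).1 d).ncard := by
  refine Set.ncard_congr (fun w hw => (g • (⟨w, hw.1⟩ : leechLattice)).1)
    (fun w hw => ⟨Subtype.prop _, (norm_smul g _).trans hw.2.1, (dot_smul g v ⟨w, hw.1⟩).trans hw.2.2⟩)
    (fun a b ha hb h => congrArg Subtype.val (MulAction.injective g (Subtype.ext h : _ = g • (⟨b, hb.1⟩ : leechLattice))))
    fun b hb => ?_
  let w : leechLattice := g⁻¹ • ⟨b, hb.1⟩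
  refine ⟨w.1, ⟨w.2, (norm_smul _ _).trans hb.2.1, ?_⟩, congrArg Subtype.val (smul_inv_smul g _)⟩
  rw [← dot_smul g v w, show g • w = ⟨b, hb.1⟩ from smul_inv_smul g _]
  exact hb.2.2

theorem orth_count {v : GolayPt → ℤ} (hv : v ∈ leechLattice) (hn : sqNorm v = 32) :
    (dotSet v 0).ncard = 93150 := by
  have hk : ∀ a ∈ minSet, (dotSet a 0).ncard = (dotSet v 0).ncard := fun a ha => by
    obtain ⟨g, e⟩ := transitive32 (v := ⟨a, ha.1⟩) (w := ⟨v, hv⟩) ha.2 hn
    rw [dotSet_card_smul g ⟨a, ha.1⟩ 0, e]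
  have h1 := ncard_rel (X := minSet) ncard_32.2 (fun a => dotSet a 0) _ (fun a _ => dotSet_finite a 0) hk
  have hk2 : ∀ u ∈ {x : GolayPt → ℤ | x ∈ leechLattice ∧ sqNorm x = 64},
      (cross u \ {u, -u}).ncard = 46 := fun u hu => by
    have h48 := frames_and_short.1 u hu.1 hu.2
    have hne : u ≠ -u := fun e => by
      have := congrArg (dotInt u) e
      have q : dotInt u (-u) = -dotInt u u := by simp [dotInt]
      rw [q, dot_self] at this
      have hun : sqNorm u = 64 := hu.2
      omega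
    rw [Set.ncard_sdiff, h48, Set.ncard_pair hne]
    rintro y (rfl | rfl)
    · exact ⟨hu.1, rfl, 0, zero_mem _, by simp⟩
    · exact ⟨neg_mem hu.1, sqNorm_neg u, u, hu.1, by rw [sub_neg_eq_add, two_nsmul]⟩
  have h2 := ncard_rel ncard_64.2 (fun u => cross u \ {u, -u}) 46
    (fun u hu => (ncard_64.2.subset fun y hy => ⟨hy.1.1, hy.1.2.1.trans hu.2⟩)) hk2
  have e : (fun p : (GolayPt → ℤ) × (GolayPt → ℤ) => (p.1 + p.2, p.1 - p.2)) ''
      {p : (GolayPt → ℤ) × (GolayPt → ℤ) | p.1 ∈ minSet ∧ p.2 ∈ dotSet p.1 0} =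
      {p : (GolayPt → ℤ) × (GolayPt → ℤ) | (p.1 ∈ leechLattice ∧ sqNorm p.1 = 64) ∧ p.2 ∈ cross p.1 \ {p.1, -p.1}} := by
    ext ⟨u, u'⟩
    constructor
    · rintro ⟨⟨a, b⟩, ⟨⟨ha, han⟩, hb, hbn, hab⟩, e⟩
      obtain ⟨rfl, rfl⟩ := Prod.mk.inj e
      dsimp only at *
      have n1 : sqNorm (a + b) = 64 := by rw [sqNorm_add]; omega
      have n2 : sqNorm (a - b) = 64 := by rw [sqNorm_sub]; omega
      refine ⟨⟨add_mem ha hb, n1⟩, ⟨sub_mem ha hb, n2.trans n1.symm, b, hb, by funext i; simp; ring⟩, ?_⟩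
      rintro (e | e)
      · have : b = 0 := funext fun i => by have := congrFun e i; simp at this ⊢; omega
        rw [this] at hbn; simp [sqNorm] at hbn
      · rw [Set.mem_singleton_iff] at e
        have : a = 0 := funext fun i => by have := congrFun e i; simp at this ⊢; omega
        rw [this] at han; simp [sqNorm] at han
    · rintro ⟨⟨hu, hun⟩, ⟨hu', hn', hc⟩, hne⟩
      have hn2 : sqNorm u' = 64 := hn'.trans hun
      have ho : dotInt u u' = 0 := by
        obtain ⟨z, hz, ez⟩ := hc
        rcases congr_short hu' hz ez hun.le hn2.le with r | r | r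
        · exact absurd (Or.inl r.symm) hne
        · refine absurd (Or.inr ?_) hne
          rw [Set.mem_singleton_iff]; exact (neg_eq_iff_eq_neg.2 r).symm
        · exact r.2.2
      obtain ⟨a, b, ha, hb, hab, e1, e2⟩ := halves_cross (u := ⟨u, hu⟩) (u' := ⟨u', hu'⟩) hun hn2 hc ho
      exact ⟨(a.1, b.1), ⟨⟨a.2, ha⟩, b.2, hb, hab⟩,
        Prod.ext (congrArg Subtype.val e1).symm (congrArg Subtype.val e2).symm⟩
  have hinj : Function.Injective (fun p : (GolayPt → ℤ) × (GolayPt → ℤ) => (p.1 + p.2, p.1 - p.2)) := by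
    rintro ⟨a, b⟩ ⟨c, d⟩ h
    obtain ⟨e1, e2⟩ := Prod.mk.inj h
    simp only [Prod.mk.injEq]
    constructor <;> funext i <;> have := congrFun e1 i <;> have := congrFun e2 i <;> simp at * <;> omega
  rw [← Set.ncard_image_of_injective _ hinj, e] at h1
  replace h1 := h2.symm.trans h1
  rw [ncard_64.1] at h1
  rw [show minSet.ncard = 196560 from ncard_32.1] at h1
  omega

theorem second_moment (v : GolayPt → ℤ) :
    ∑ w ∈ ncard_32.2.toFinset, dotInt v w ^ 2 = 262080 * sqNorm v := by
  set S := ncard_32.2.toFinset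
  have hS : ∀ x, x ∈ S ↔ x ∈ leechLattice ∧ sqNorm x = 32 := fun x => ncard_32.2.mem_toFinset
  have hflip : ∀ c ∈ supports (golayCode : Set (GolayPt → ZMod 2)), ∀ i j, i ∉ c → j ∈ c →
      ∑ w ∈ S, w i * w j = 0 := by
    intro c hc i j hi hj
    have h := Finset.sum_nbij' (s := S) (t := S) (f := fun w => w i * w j) (g := fun w => -(w i * w j))
      (flip c) (flip c) (fun w hw => by
        rw [hS] at hw ⊢; exact ⟨flip_mem hc hw.1, (sqNorm_flip c w).trans hw.2⟩) (fun w hw => by
        rw [hS] at hw ⊢; exact ⟨flip_mem hc hw.1, (sqNorm_flip c w).trans hw.2⟩)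
      (fun w _ => flip_flip c w) (fun w _ => flip_flip c w) (fun w _ => by simp [flip, hi, hj])
    rw [Finset.sum_neg_distrib] at h
    omega
  have hoff : ∀ i j, i ≠ j → ∑ w ∈ S, w i * w j = 0 := fun i j hij => by
    obtain ⟨c, hc, hj, hi⟩ := separate hij
    exact hflip c hc i j hi hj
  have hdiag : ∀ i, ∑ w ∈ S, w i * w i = ∑ w ∈ S, w none * w none := fun i => by
    obtain ⟨σ, hσ, e⟩ := exists_map_tuple (n := 1) (by omega) (fun _ => none) (fun _ => i)
      (fun _ _ _ => Subsingleton.elim _ _) (fun _ _ _ => Subsingleton.elim _ _)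
    refine Finset.sum_nbij' (fun w => fun p => w (σ p)) (fun w => fun p => w (σ.symm p)) (fun w hw => ?_)
      (fun w hw => ?_) (fun w _ => by funext p; simp) (fun w _ => by funext p; simp) (fun w _ => by simp [e 0])
    · rw [hS] at hw ⊢
      exact ⟨comp_mem hσ hw.1, (Equiv.sum_comp σ fun p => w p ^ 2).trans hw.2⟩
    · rw [hS] at hw ⊢
      exact ⟨comp_mem (σ := σ⁻¹) (inv_mem hσ) hw.1, (Equiv.sum_comp σ.symm fun p => w p ^ 2).trans hw.2⟩
  have htot : 24 * ∑ w ∈ S, w none * w none = 196560 * 32 := by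
    have h : ∑ i, ∑ w ∈ S, w i * w i = 196560 * 32 := by
      rw [Finset.sum_comm, Finset.sum_congr rfl (g := fun _ => (32 : ℤ)) fun w hw => ((hS w).1 hw).2 ▸ dot_self w,
        Finset.sum_const, ← Set.ncard_eq_toFinset_card _ ncard_32.2, ncard_32.1]
      norm_num
    rw [← h, Finset.sum_congr rfl fun i _ => hdiag i, Finset.sum_const, Finset.card_univ, card_pt]
    simp
  have hexp : ∀ w : GolayPt → ℤ, dotInt v w ^ 2 = ∑ i, ∑ j, v i * v j * (w i * w j) := fun w => by
    rw [pow_two, dotInt, Finset.sum_mul_sum]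
    exact Finset.sum_congr rfl fun i _ => Finset.sum_congr rfl fun j _ => by ring
  rw [Finset.sum_congr rfl fun w _ => hexp w, Finset.sum_comm, sqNorm, Finset.mul_sum]
  refine Finset.sum_congr rfl fun i _ => ?_
  rw [Finset.sum_comm, Finset.sum_eq_single i (fun j _ hj => by rw [← Finset.mul_sum, hoff i j hj.symm, mul_zero])
    (fun h => absurd (Finset.mem_univ i) h), ← Finset.mul_sum, hdiag i, show ∑ w ∈ S, w none * w none = 262080 by omega]
  ring

theorem census {v : GolayPt → ℤ} (hv : v ∈ leechLattice) (hn : sqNorm v = 32) :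
    (dotSet v (-16)).ncard = 4600 ∧ (dotSet v (-8)).ncard = 47104 ∧ (dotSet v 0).ncard = 93150 := by
  classical
  refine ⟨?_, ?_, orth_count hv hn⟩
  all_goals
    set S := ncard_32.2.toFinset with hSdef
    have hS : ∀ x, x ∈ S ↔ x ∈ leechLattice ∧ sqNorm x = 32 := fun x => ncard_32.2.mem_toFinset
    let m : ℤ → ℕ := fun d => (S.filter fun w => dotInt v w = d).card
    have hm : ∀ d, (dotSet v d).ncard = m d := fun d => by
      show _ = (S.filter fun w => dotInt v w = d).card
      rw [← Set.ncard_coe_finset]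
      refine congrArg Set.ncard (Set.ext fun w => ?_)
      simp [dotSet, hS, and_assoc]
    have hsym : ∀ d, m (-d) = m d := fun d => by
      refine Finset.card_nbij' (fun w => -w) (fun w => -w) ?_ ?_ (fun w _ => neg_neg w) (fun w _ => neg_neg w)
      all_goals
        intro w hw
        simp only [Finset.coe_filter, Set.mem_setOf_eq, hS] at hw ⊢
        refine ⟨⟨neg_mem hw.1.1, (sqNorm_neg w).trans hw.1.2⟩, ?_⟩
        have : dotInt v (-w) = -dotInt v w := by simp [dotInt]
        omega
    have hval : ∀ w ∈ S, dotInt v w ∈ ({32, -32, 16, -16, 8, -8, 0} : Finset ℤ) := fun w hw => by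
      rw [hS] at hw
      rcases dot_values hv hw.1 hn hw.2 with rfl | rfl | e | e | e | e | e
      · rw [dot_self, hn]; decide
      · have : dotInt v (-v) = -dotInt v v := by simp [dotInt]
        rw [this, dot_self, hn]; decide
      all_goals rw [e]; decide
    have h32 : m 32 = 1 := by
      refine Finset.card_eq_one.2 ⟨v, ?_⟩
      ext w
      simp only [Finset.mem_filter, hS, Finset.mem_singleton]
      constructor
      · rintro ⟨⟨hw, hwn⟩, hd⟩; exact (eq_or_neg_of_dot (hn.trans hwn.symm)).1 (by omega)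
      · rintro rfl; exact ⟨⟨hv, hn⟩, (dot_self _).trans hn⟩
    have e0 := Finset.card_eq_sum_card_fiberwise hval
    have e2 := second_moment v
    rw [← Finset.sum_fiberwise_of_maps_to hval, Finset.sum_congr rfl (g := fun d : ℤ => (m d : ℤ) * d ^ 2)
      fun d _ => by
        rw [Finset.sum_congr rfl (g := fun _ => d ^ 2) fun w hw => by rw [(Finset.mem_filter.1 hw).2], Finset.sum_const,
          nsmul_eq_mul], hn] at e2
    rw [← Set.ncard_eq_toFinset_card _ ncard_32.2, ncard_32.1] at e0
    have n0 : m 0 = 93150 := (hm 0).symm.trans (orth_count hv hn)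
    have a := hsym 32; have b := hsym 16; have c := hsym 8
    repeat rw [Finset.sum_insert (by decide)] at e0
    repeat rw [Finset.sum_insert (by decide)] at e2
    rw [Finset.sum_singleton] at e0 e2
    norm_num at e0 e2
    rw [hm]
    change 196560 = m 32 + (m (-32) + (m 16 + (m (-16) + (m 8 + (m (-8) + m 0))))) at e0
    omega

end CfsgLib.Leech
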