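/-
Decompositions of a vector of sum of squares forty-eight into minimal vectors.
-/
import Cfsg.Agent.Leech.Pairs

set_option autoImplicit false

namespace CfsgLib.Leech

open Cfsg CfsgLib.Golay

/-- Summands of a vector. -/
def summands (u : GolayPt → ℤ) : Set (GolayPt → ℤ) :=
  {v | v ∈ leechLattice ∧ sqNorm v = 32 ∧ sqNorm (u - v) = 32}

theorem summands_finite (u : GolayPt → ℤ) : (summands u).Finite :=
  ncard_32.2.subset fun _ h => ⟨h.1, h.2.1⟩

theorem summands_smul (g : Co0) (u : leechLattice) : (summands u.1).ncard = (summands (g • u).1).ncard := by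
  refine Set.ncard_congr (fun w hw => (g • (⟨w, hw.1⟩ : leechLattice)).1) (fun w hw => ⟨Subtype.prop _, (norm_smul g _).trans hw.2.1, ?_⟩)
    (fun a b ha hb h => congrArg Subtype.val (MulAction.injective g (Subtype.ext h : _ = g • (⟨b, hb.1⟩ : leechLattice))))
    fun b hb => ?_
  · rw [← AddSubgroup.coe_sub, ← smul_sub', norm_smul]; exact hw.2.2
  · let w : leechLattice := g⁻¹ • ⟨b, hb.1⟩
    refine ⟨w.1, ⟨w.2, (norm_smul _ _).trans hb.2.1, ?_⟩, congrArg Subtype.val (smul_inv_smul g _)⟩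
    rw [← AddSubgroup.coe_sub, ← norm_smul g, smul_sub', show g • w = ⟨b, hb.1⟩ from smul_inv_smul g _]
    exact hb.2.2

theorem summands_count {u : GolayPt → ℤ} (hu : u ∈ leechLattice) (hn : sqNorm u = 48) :
    (summands u).ncard = 552 := by
  have h1 := ncard_rel (X := minSet) ncard_32.2 (fun a => dotSet a (-8)) 47104 (fun a _ => dotSet_finite a _)
    fun a ha => (census ha.1 ha.2).2.1
  have h2 := ncard_rel (X := {x : GolayPt → ℤ | x ∈ leechLattice ∧ sqNorm x = 48}) ncard_48.2 summands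
    (summands u).ncard (fun a _ => summands_finite a) fun a ha => by
      obtain ⟨g, e⟩ := transitive48 (v := ⟨a, ha.1⟩) (w := ⟨u, hu⟩) ha.2 hn
      rw [summands_smul g ⟨a, ha.1⟩, e]
  have e : (fun p : (GolayPt → ℤ) × (GolayPt → ℤ) => (p.1 + p.2, p.1)) ''
      {p : (GolayPt → ℤ) × (GolayPt → ℤ) | p.1 ∈ minSet ∧ p.2 ∈ dotSet p.1 (-8)} =
      {p : (GolayPt → ℤ) × (GolayPt → ℤ) | p.1 ∈ {x : GolayPt → ℤ | x ∈ leechLattice ∧ sqNorm x = 48} ∧
        p.2 ∈ summands p.1} := by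
    ext ⟨x, y⟩
    constructor
    · rintro ⟨⟨a, b⟩, ⟨⟨ha, han⟩, hb, hbn, hab⟩, e⟩
      obtain ⟨rfl, rfl⟩ := Prod.mk.inj e
      dsimp only at *
      refine ⟨⟨add_mem ha hb, by rw [sqNorm_add]; omega⟩, ha, han, by rw [add_sub_cancel_left]; exact hbn⟩
    · rintro ⟨⟨hx, hxn⟩, hy, hyn, hd⟩
      refine ⟨(y, x - y), ⟨⟨hy, hyn⟩, sub_mem hx hy, hd, ?_⟩, Prod.ext (add_sub_cancel y x) rfl⟩
      have := sqNorm_add y (x - y)
      rw [add_sub_cancel, hyn, hd] at this
      show dotInt y (x - y) = -8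
      have hx48 : sqNorm x = 48 := hxn
      omega
  have hinj : Function.Injective (fun p : (GolayPt → ℤ) × (GolayPt → ℤ) => (p.1 + p.2, p.1)) := by
    rintro ⟨a, b⟩ ⟨c, d⟩ h
    obtain ⟨e1, e2⟩ := Prod.mk.inj h
    dsimp only at e1 e2
    subst e2
    exact Prod.ext rfl (add_left_cancel e1)
  rw [← Set.ncard_image_of_injective _ hinj, e] at h1
  replace h1 := h2.symm.trans h1
  rw [ncard_48.1, show minSet.ncard = 196560 from ncard_32.1] at h1
  omega

end CfsgLib.Leech
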