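/-
Data: representatives and words inside the stabiliser of the standard minimal vector.
-/
import Mathlib.Init

set_option autoImplicit false

namespace CfsgLib.Leech

/-- Four-four representative of inner product minus sixteen. -/
def rep16A : List Int := [0, 4, 0, 0, 0, 0, 0, 0, 0, 0, 0, 0, 0, 0, 0, 0, 0, 0, 0, 0, 0, 0, 0, -4]

/-- Octad representative of inner product minus sixteen. -/
def rep16B : List Int := [-2, 0, 2, 0, 2, 2, 2, 0, 0, 0, 2, 2, 0, 0, 0, 0, 0, 0, 0, 0, 0, 0, 0, -2]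

/-- Odd representative of inner product minus sixteen. -/
def rep16C : List Int := [-1, 1, -1, 1, 1, 1, 1, 1, 1, 1, 1, 1, 1, -1, -1, -1, -1, -1, 1, 1, -1, 1, 1, -3]

/-- Word from the first to the second. -/
def word16A : List (List Nat × Nat × Bool) := [
  ([2, 7, 18, 17, 0, 12, 6, 23, 5, 13, 4, 21, 20, 1, 8, 9, 14, 10, 19, 16, 3, 11, 15, 22], 8881652, true),
  ([10, 13, 17, 15, 20, 16, 9, 8, 2, 6, 7, 0, 23, 14, 18, 1, 22, 5, 21, 3, 19, 4, 11, 12], 0, false)]

/-- Word from the third to the second. -/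
def word16C : List (List Nat × Nat × Bool) := [
  ([2, 7, 18, 17, 0, 12, 6, 23, 5, 13, 4, 21, 20, 1, 8, 9, 14, 10, 19, 16, 3, 11, 15, 22], 8881652, true),
  ([10, 13, 17, 15, 20, 16, 9, 8, 2, 6, 7, 0, 23, 14, 18, 1, 22, 5, 21, 3, 19, 4, 11, 12], 0, false)]

end CfsgLib.Leech
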