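/-
The stabiliser of a minimal vector is transitive on minimal vectors of inner product minus sixteen.
-/
import Cfsg.Agent.Leech.Pairs
import Cfsg.Agent.Leech.Maximal
import Cfsg.Agent.Leech.StabData

set_option autoImplicit false

namespace CfsgLib.Leech

open Cfsg CfsgLib.Golay
open scoped Pointwise

theorem repPair_mem : vecOf repPair ∈ leechLattice := inLeech_spec (by decide +kernel)

/-- The standard minimal vector. -/
def vStd : leechLattice := ⟨vecOf repPair, repPair_mem⟩

/-- Its stabiliser. -/
def pairStab : Subgroup Co0 := MulAction.stabilizer Co0 vStd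

theorem move_perm_fix {σ : Equiv.Perm GolayPt} (hσ : σ ∈ M24)
    (hfix : ∀ p, vecOf repPair (σ p) = vecOf repPair p) {x : GolayPt → ℤ} (hx : x ∈ leechLattice) :
    MoveIn pairStab x (fun p => x (σ p)) := by
  have happ : ∀ y : leechLattice, (mono (inv_mem hσ) empty_mem • y).1 = fun p => y.1 (σ p) := fun y => funext fun p => by
    rw [show (mono (inv_mem hσ) empty_mem • y).1 p = signedPerm σ⁻¹ ∅ y.1 p from rfl]
    simp [signedPerm, Equiv.Perm.inv_def]
  refine ⟨mono (inv_mem hσ) empty_mem, ?_, hx, happ ⟨x, hx⟩⟩
  exact MulAction.mem_stabilizer_iff.2 (Subtype.ext ((happ vStd).trans (funext hfix)))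

theorem move_flip_fix {c : Finset GolayPt} (hc : c ∈ supports (golayCode : Set (GolayPt → ZMod 2)))
    (hfix : ∀ p ∈ c, vecOf repPair p = 0) {x : GolayPt → ℤ} (hx : x ∈ leechLattice) :
    MoveIn pairStab x (flip c x) := by
  have happ : ∀ y : leechLattice, (mono (one_mem M24) hc • y).1 = flip c y.1 := fun y => funext fun p => by
    rw [show (mono (one_mem M24) hc • y).1 p = signedPerm 1 c y.1 p from rfl]
    simp [signedPerm, flip, perm_one_symm]
  refine ⟨mono (one_mem M24) hc, ?_, hx, happ ⟨x, hx⟩⟩
  refine MulAction.mem_stabilizer_iff.2 (Subtype.ext ((happ vStd).trans (funext fun p => ?_)))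
  by_cases h : p ∈ c
  · show flip c (vecOf repPair) p = vecOf repPair p
    simp [flip, h, hfix p h]
  · show flip c (vecOf repPair) p = vecOf repPair p
    simp [flip, h]

theorem word_move {w : List (List ℕ × ℕ × Bool)} (hw : wordOk w = true) (hfix : runWord w repPair = repPair)
    {l : List ℤ} (hl : vecOf l ∈ leechLattice) : MoveIn pairStab (vecOf l) (vecOf (runWord w l)) := by
  obtain ⟨E, hE⟩ := word_elt hw
  exact ⟨E, MulAction.mem_stabilizer_iff.2 (Subtype.ext ((hE _ repPair_mem).trans (by rw [hfix]; rfl))), hl, hE l hl⟩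

theorem repPair_eq : ∀ p, vecOf repPair p = if p = none ∨ p = some 0 then 4 else 0 := by decide +kernel

theorem dot_repPair (x : GolayPt → ℤ) : dotInt (vecOf repPair) x = 4 * x none + 4 * x (some 0) := by
  rw [dotInt, ← Finset.sum_subset (Finset.subset_univ ({none, some 0} : Finset GolayPt)) fun p _ hp => ?_]
  · rw [Finset.sum_pair (by simp), repPair_eq, repPair_eq, if_pos (Or.inl rfl), if_pos (Or.inr rfl)]
  · rw [repPair_eq, if_neg (by simpa using hp), zero_mul]

theorem fix_of_pair {σ : Equiv.Perm GolayPt} (h : σ none = none ∧ σ (some 0) = some 0 ∨ σ none = some 0 ∧ σ (some 0) = none)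
    (p : GolayPt) : vecOf repPair (σ p) = vecOf repPair p := by
  rw [repPair_eq, repPair_eq]
  refine if_congr ⟨fun e => ?_, fun e => ?_⟩ rfl rfl
  · rcases h with ⟨a, b⟩ | ⟨a, b⟩ <;> rcases e with e | e
    · exact Or.inl (σ.injective (e.trans a.symm))
    · exact Or.inr (σ.injective (e.trans b.symm))
    · exact Or.inr (σ.injective (e.trans b.symm))
    · exact Or.inl (σ.injective (e.trans a.symm))
  · rcases h with ⟨a, b⟩ | ⟨a, b⟩ <;> rcases e with rfl | rfl <;> simp [a, b]

theorem inj3 {a b c : GolayPt} (h1 : a ≠ b) (h2 : a ≠ c) (h3 : b ≠ c) : Function.Injective ![a, b, c] := by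
  intro i j h
  fin_cases i <;> fin_cases j <;> simp_all

/-- Three separated points. -/
theorem separate3 {a b j : GolayPt} (ha : j ≠ a) (hb : j ≠ b) :
    ∃ c ∈ supports (golayCode : Set (GolayPt → ZMod 2)), j ∈ c ∧ a ∉ c ∧ b ∉ c := by
  by_cases hab : a = b
  · obtain ⟨c, h, h1, h2⟩ := separate (Ne.symm ha)
    exact ⟨c, h, h1, h2, hab ▸ h2⟩
  obtain ⟨p, hp, q, hq, r, hr, hqr⟩ : ∃ p, p ∈ DodStab.D ∧ ∃ q, q ∉ DodStab.D ∧ ∃ r, r ∉ DodStab.D ∧ q ≠ r :=
    ⟨some 0, by decide +kernel, none, by decide +kernel, ptN 22, by decide +kernel, by decide +kernel⟩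
  have hpq : p ≠ q := fun e => hq (e ▸ hp)
  have hpr : p ≠ r := fun e => hr (e ▸ hp)
  obtain ⟨σ, hσ, e⟩ := exists_map_tuple (n := 3) (by omega) ![p, q, r] ![j, a, b]
    (by intro x y h; fin_cases x <;> fin_cases y <;> simp_all)
    (by intro x y h; fin_cases x <;> fin_cases y <;> simp_all)
  have e0 : σ p = j := e 0
  have e1 : σ q = a := e 1
  have e2 : σ r = b := e 2
  refine ⟨σ • DodStab.D, (smul_mem_dodecads hσ DodStab.D_mem).1, e0 ▸ Finset.smul_mem_smul_finset (a := σ) hp, ?_, ?_⟩
  · rw [← e1]; exact fun h => hq ((Finset.smul_mem_smul_finset_iff (a := σ)).1 h)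
  · rw [← e2]; exact fun h => hr ((Finset.smul_mem_smul_finset_iff (a := σ)).1 h)

theorem data16 : witOk rep16B [0] witOct = true ∧ inLeech (vecOf rep16A) = true ∧ inLeech (vecOf rep16C) = true ∧
    wordOk word16A = true ∧ runWord word16A repPair = repPair ∧
    (List.range 24).all (fun i => [0, 2].contains ((runWord word16A rep16A).getD i 0).natAbs) = true ∧
    wordOk word16C = true ∧ runWord word16C repPair = repPair ∧
    (List.range 24).all (fun i => [0, 2].contains ((runWord word16C rep16C).getD i 0).natAbs) = true := by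
  decide +kernel

theorem oct16 {y : GolayPt → ℤ} (hy : y ∈ leechLattice) (hn : sqNorm y = 32)
    (hsum : y none + y (some 0) = -4) (hv' : ∀ p, (y p).natAbs = 0 ∨ (y p).natAbs = 2) :
    MoveIn pairStab y (vecOf rep16B) := by
  have := hv' none; have := hv' (some 0)
  have hnn : (none : GolayPt) ≠ some 0 := by simp
  have hev : ∀ p, y p % 2 = 0 := fun p => by have := hv' p; omega
  obtain ⟨hv, hc, hsupp, hcard, -⟩ := even_counts hy hev (N := 8) (by omega) (by omega)
  have z : ∀ k, k ≠ 0 → k ≠ 2 → (lev y k).card = 0 := fun k h0 h2 =>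
    Finset.card_eq_zero.2 (Finset.eq_empty_of_forall_notMem fun p hp => by
      rw [mem_lev] at hp; have := hv' p; omega)
  have e : (lev y 2).card = 8 := by
    have := z 4 (by omega) (by omega); have := z 6 (by omega) (by omega); have := z 8 (by omega) (by omega)
    omega
  rw [Finset.card_eq_zero.1 (z 6 (by omega) (by omega)), Finset.union_empty] at hsupp
  obtain ⟨g, hg, eg⟩ := exists_map_octad OctStab.O_mem (mem_octads_of hsupp e)
  have hin : ∀ p, (y p).natAbs = 2 → g⁻¹ p ∈ OctStab.O := fun p hp => by
    have : p ∈ g • OctStab.O := by rw [eg, mem_lev]; exact hp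
    rwa [← Finset.inv_smul_mem_iff] at this
  have pin : (none : GolayPt) ∈ OctStab.O ∧ (some 0 : GolayPt) ∈ OctStab.O := by decide +kernel
  obtain ⟨τ, hτ, hO, hτs⟩ := OctStab.transPair (s := {none, some 0}) (t := {g⁻¹ none, g⁻¹ (some 0)})
    (by simp [Finset.insert_subset_iff, pin.1, pin.2])
    (by simp only [Finset.insert_subset_iff, Finset.singleton_subset_iff]
        exact ⟨hin _ (by omega), hin _ (by omega)⟩)
    (Finset.card_pair hnn) (Finset.card_pair fun h => hnn (g⁻¹.injective h))
  have hfix : (g * τ) none = none ∧ (g * τ) (some 0) = some 0 ∨ (g * τ) none = some 0 ∧ (g * τ) (some 0) = none := by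
    have a1 : τ none ∈ ({g⁻¹ none, g⁻¹ (some 0)} : Finset GolayPt) :=
      hτs ▸ Finset.smul_mem_smul_finset (a := τ) (Finset.mem_insert_self _ _)
    have a2 : τ (some 0) ∈ ({g⁻¹ none, g⁻¹ (some 0)} : Finset GolayPt) :=
      hτs ▸ Finset.smul_mem_smul_finset (a := τ) (Finset.mem_insert_of_mem (Finset.mem_singleton_self _))
    simp only [Finset.mem_insert, Finset.mem_singleton] at a1 a2
    simp only [Equiv.Perm.mul_apply]
    rcases a1 with a1 | a1 <;> rcases a2 with a2 | a2
    · exact absurd (τ.injective (a1.trans a2.symm)) hnn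
    · left; simp [a1, a2]
    · right; simp [a1, a2]
    · exact absurd (τ.injective (a1.trans a2.symm)) hnn
  have hσ : g * τ ∈ M24 := mul_mem hg hτ
  have h1 := move_perm_fix hσ (fix_of_pair hfix) hy
  have hB : ∀ p, (vecOf rep16B p).natAbs = if p ∈ OctStab.O then 2 else 0 := by decide +kernel
  have hBv : vecOf rep16B none = -2 ∧ vecOf rep16B (some 0) = -2 := by decide +kernel
  have hmem : ∀ p, p ∈ OctStab.O ↔ (y ((g * τ) p)).natAbs = 2 := fun p => by
    rw [← mem_lev, ← eg]
    conv_lhs => rw [← Finset.smul_mem_smul_finset_iff (a := g * τ), mul_smul, hO]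
    rfl
  have habs : ∀ p, (y ((g * τ) p)).natAbs = (vecOf rep16B p).natAbs := fun p => by
    rw [hB]; split_ifs with h
    · exact (hmem p).1 h
    · have := mt (hmem p).2 h; have := hv' ((g * τ) p); omega
  obtain ⟨k, hk, C, hC, eC⟩ := exists_flip data16.1 h1.mem habs
  rw [List.mem_singleton.1 hk, flip_zero] at eC
  refine eC ▸ h1.trans (move_flip_fix hC (fun q hq => ?_) h1.mem)
  rw [repPair_eq, if_neg]
  intro hq'
  have hval : y ((g * τ) q) = vecOf rep16B q ∧ vecOf rep16B q ≠ 0 := by
    rcases hfix with ⟨a, b⟩ | ⟨a, b⟩ <;> rcases hq' with rfl | rfl <;>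
      (refine ⟨?_, by simp only [hBv]; omega⟩; simp only [a, b, hBv]; omega)
  have := congrFun eC q
  simp only [flip, hq, if_true] at this
  omega

theorem pattern16 {x : GolayPt → ℤ} (hx : x ∈ leechLattice) (hn : sqNorm x = 32)
    (hd : dotInt (vecOf repPair) x = -16) :
    MoveIn pairStab x (vecOf rep16A) ∨ MoveIn pairStab x (vecOf rep16B) ∨ MoveIn pairStab x (vecOf rep16C) := by
  rw [dot_repPair] at hd
  obtain ⟨σ0, hσ0, e0⟩ := exists_map_tuple (n := 2) (by omega) ![none, some 0] ![some 0, none]
    (by intro a b h; fin_cases a <;> fin_cases b <;> simp_all)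
    (by intro a b h; fin_cases a <;> fin_cases b <;> simp_all)
  have s0 : σ0 none = some 0 := e0 0
  have s1 : σ0 (some 0) = none := e0 1
  have h0 : MoveIn pairStab x (fun p => x (σ0 p)) := move_perm_fix hσ0 (fix_of_pair (Or.inr ⟨s0, s1⟩)) hx
  suffices key : ∀ y, y ∈ leechLattice → sqNorm y = 32 → y none + y (some 0) = -4 → y none ≤ y (some 0) →
      MoveIn pairStab y (vecOf rep16A) ∨ MoveIn pairStab y (vecOf rep16B) ∨ MoveIn pairStab y (vecOf rep16C) by
    rcases le_total (x none) (x (some 0)) with h | h
    · exact key x hx hn (by omega) h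
    · have hn' : sqNorm (fun p => x (σ0 p)) = 32 := (Equiv.sum_comp σ0 fun p => x p ^ 2).trans hn
      rcases key _ h0.mem hn' (by simp only [s0, s1]; omega) (by simp only [s0, s1]; exact h) with r | r | r
      · exact Or.inl (h0.trans r)
      · exact Or.inr (Or.inl (h0.trans r))
      · exact Or.inr (Or.inr (h0.trans r))
  clear hx hn hd h0
  intro y hy hn hsum hle
  obtain ⟨m, hm, hpar, -, hcode⟩ := mem_lattice.1 hy
  have hnn : (none : GolayPt) ≠ some 0 := by simp
  rcases hm with rfl | rfl
  · obtain ⟨hv, hc, hsupp, hcard, -⟩ := even_counts hy hpar (N := 8) (by omega) (by omega)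
    simp only [List.mem_cons, List.not_mem_nil, or_false] at hv
    have n8 := not_lev (show (lev y 8).card = 0 by omega)
    have n6 := not_lev (show (lev y 6).card = 0 by
      rcases support_card_cases (mem_supports_iff.1 hsupp) with e | e | e | e | e <;> omega)
    rcases support_card_cases (mem_supports_iff.1 hsupp) with e | e | e | e | e <;> try omega
    · left
      have n2 := not_lev (show (lev y 2).card = 0 by omega)
      have hfour : ∀ p, (y p).natAbs = 0 ∨ (y p).natAbs = 4 := fun p => by
        have := hv p; have := n6 p; have := n8 p; have := n2 p; omega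
      have hsn := hfour none; have hs0 := hfour (some 0)
      have yn : y none = -4 := by omega
      have y0 : y (some 0) = 0 := by omega
      obtain ⟨j, hj, hjn⟩ := Finset.exists_mem_ne (s := lev y 4) (by omega) none
      rw [mem_lev] at hj
      have hj0 : j ≠ some 0 := fun e => by rw [e, y0] at hj; simp at hj
      have hset : lev y 4 = {none, j} := by
        refine (Finset.eq_of_subset_of_card_le (fun p hp => ?_) (by rw [Finset.card_pair hjn.symm]; omega)).symm
        simp only [Finset.mem_insert, Finset.mem_singleton] at hp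
        rw [mem_lev]
        rcases hp with rfl | rfl
        · rw [yn]; rfl
        · exact hj
      obtain ⟨σ, hσ, es⟩ := exists_map_tuple (n := 3) (by omega) ![none, some 0, ptN 1] ![none, some 0, j]
        (inj3 hnn (by decide +kernel) (by decide +kernel)) (inj3 hnn hjn.symm hj0.symm)
      have t0 : σ none = none := es 0
      have t1 : σ (some 0) = some 0 := es 1
      have t2 : σ (ptN 1) = j := es 2
      have h1 := move_perm_fix hσ (fix_of_pair (Or.inl ⟨t0, t1⟩)) hy
      have hval : ∀ p, p ≠ none → p ≠ ptN 1 → y (σ p) = 0 := fun p h h' => by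
        by_contra hne
        have : σ p ∈ lev y 4 := by rw [mem_lev]; have := hfour (σ p); omega
        rw [hset, Finset.mem_insert, Finset.mem_singleton] at this
        rcases this with e | e
        · exact h (σ.injective (e.trans t0.symm))
        · exact h' (σ.injective (e.trans t2.symm))
      have hA : ∀ p, vecOf rep16A p = if p = none then -4 else if p = ptN 1 then 4 else 0 := by decide +kernel
      rcases (show y j = 4 ∨ y j = -4 by omega) with ej | ej
      · refine (congrArg (MoveIn pairStab y) (funext fun p => ?_)).mp h1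
        rw [hA]
        split_ifs with a b
        · rw [a, t0, yn]
        · rw [b, t2, ej]
        · exact hval p a b
      · obtain ⟨c, hc', c1, c2, c3⟩ := separate3 (j := ptN 1) (a := (none : GolayPt)) (b := some 0)
          (by decide +kernel) (by decide +kernel)
        refine (congrArg (MoveIn pairStab y) (funext fun p => ?_)).mp (h1.trans (move_flip_fix hc' (fun q hq => by
          rw [repPair_eq, if_neg]
          rintro (rfl | rfl)
          · exact c2 hq
          · exact c3 hq) h1.mem))
        rw [hA]
        split_ifs with a b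
        · subst a; simp [flip, c2, t0, yn]
        · subst b; simp [flip, c1, t2, ej]
        · simp [flip, hval p a b]
    · right; left
      exact oct16 hy hn hsum fun p => by
        have := hv p; have := n6 p; have := n8 p
        have := not_lev (show (lev y 4).card = 0 by omega) p
        omega
  · right; right
    obtain ⟨hv, hc⟩ := odd_counts hpar hn (by omega)
    simp only [List.mem_cons, List.not_mem_nil, or_false] at hv
    have n5 := not_lev (show (lev y 5).card = 0 by omega)
    have n7 := not_lev (show (lev y 7).card = 0 by omega)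
    have := hv none; have := hv (some 0); have := n5 none; have := n5 (some 0); have := n7 none; have := n7 (some 0)
    have yn : y none = -3 := by
      rcases (show y none = -3 ∨ y none = -2 ∨ y none ≥ -1 ∨ y none ≤ -4 by omega) with r | r | r | r <;> omega
    have y0 : y (some 0) = -1 := by omega
    obtain ⟨a, ha⟩ := Finset.card_eq_one.1 (show (lev y 3).card = 1 by omega)
    have hone : ∀ p, p ≠ none → (y p).natAbs = 1 := fun p hp => by
      have := hv p; have := n5 p; have := n7 p
      by_contra h
      have h1 : p ∈ lev y 3 := by rw [mem_lev]; omega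
      have h2 : (none : GolayPt) ∈ lev y 3 := by rw [mem_lev, yn]; rfl
      rw [ha, Finset.mem_singleton] at h1 h2
      exact hp (h1.trans h2.symm)
    obtain ⟨-, -, hrp, -, hr⟩ := mem_lattice.1 (inLeech_spec data16.2.2.1)
    set c := symmDiff (support₂ (half y)) (support₂ (half (vecOf rep16C))) with hcdef
    have hcc : c ∈ supports (golayCode : Set (GolayPt → ZMod 2)) := by
      rw [mem_supports_iff, mask_symmDiff]
      exact inCode_xor (mem_supports_iff.1 (support_mem hcode)) (mem_supports_iff.1 (support_mem hr))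
    have hR : ∀ p, (vecOf rep16C p).natAbs = (if p = none then 3 else 1) ∧
        (p = none → vecOf rep16C p = -3) ∧ (p = some 0 → vecOf rep16C p = -1) := by decide +kernel
    have heq : ∀ p, flip c y p = vecOf rep16C p ∧ (p = none ∨ p = some 0 → p ∉ c) := fun p => by
      have hm : p ∈ c ↔ ¬ ((y p / 2) % 2 = 1 ↔ (vecOf rep16C p / 2) % 2 = 1) := by
        rw [hcdef, Finset.mem_symmDiff, mem_support_half, mem_support_half]; tauto
      have habs : (y p).natAbs = (vecOf rep16C p).natAbs := by
        rw [(hR p).1]; split_ifs with h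
        · rw [h, yn]; rfl
        · exact hone p h
      refine ⟨?_, fun h => ?_⟩
      · have := hpar p
        by_cases hp : p ∈ c
        · simp only [flip, hp, if_true]; have := hm.1 hp; omega
        · simp only [flip, hp, if_false]; have := mt hm.2 hp; omega
      · rw [hm, not_not]
        rcases h with rfl | rfl
        · rw [(hR _).2.1 rfl, yn]
        · rw [(hR _).2.2 rfl, y0]
    refine (congrArg (MoveIn pairStab y) (funext fun p => (heq p).1)).mp (move_flip_fix hcc (fun q hq => ?_) hy)
    rw [repPair_eq, if_neg]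
    exact fun h => (heq q).2 h hq

theorem to16B {w : List (List ℕ × ℕ × Bool)} (hw : wordOk w = true) (hfix : runWord w repPair = repPair)
    {r : List ℤ} (hr : inLeech (vecOf r) = true)
    (hs : (List.range 24).all (fun i => [0, 2].contains ((runWord w r).getD i 0).natAbs) = true)
    (hn : sqNorm (vecOf r) = 32) (hd : dotInt (vecOf repPair) (vecOf r) = -16) :
    MoveIn pairStab (vecOf r) (vecOf rep16B) := by
  have h := word_move hw hfix (inLeech_spec hr)
  refine h.trans (oct16 h.mem ?_ ?_ fun p => ?_)
  · obtain ⟨g, -, _, e⟩ := h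
    rw [← e, norm_smul]; exact hn
  · obtain ⟨g, hg, hx, e⟩ := h
    have d1 : dotInt (vecOf repPair) (vecOf (runWord w r)) = -16 := by
      rw [← e, show vecOf repPair = vStd.1 from rfl, ← MulAction.mem_stabilizer_iff.1 hg, dot_smul]; exact hd
    rw [dot_repPair] at d1
    omega
  · simp only [List.all_eq_true, List.mem_range] at hs
    simpa [vecOf] using hs (idx p).val (idx p).isLt

theorem data16' : [rep16A, rep16C].all (fun r =>
    ((List.range 24).map fun i => r.getD i 0 * r.getD i 0).sum == 32 &&
      ((List.range 24).map fun i => repPair.getD i 0 * r.getD i 0).sum == -16) = true := by decide +kernel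

theorem to_rep16 {x : GolayPt → ℤ} (hx : x ∈ leechLattice) (hn : sqNorm x = 32)
    (hd : dotInt (vecOf repPair) x = -16) : MoveIn pairStab x (vecOf rep16B) := by
  obtain ⟨-, hA, hC, wA, fA, sA, wC, fC, sC⟩ := data16
  have h' := data16'
  simp only [List.all_cons, List.all_nil, Bool.and_eq_true, Bool.and_true, beq_iff_eq] at h'
  have nv : ∀ r : List ℤ, sqNorm (vecOf r) = ((List.range 24).map fun i => r.getD i 0 * r.getD i 0).sum := fun r => by
    rw [sqNorm, ← pts_list]
    exact congrArg List.sum (List.map_congr_left fun i hi => by rw [vecOf, idx_ptN (List.mem_range.1 hi), pow_two])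
  have dv : ∀ r : List ℤ, dotInt (vecOf repPair) (vecOf r) =
      ((List.range 24).map fun i => repPair.getD i 0 * r.getD i 0).sum := fun r => by
    rw [dotInt, ← pts_list]
    exact congrArg List.sum (List.map_congr_left fun i hi => by rw [vecOf, vecOf, idx_ptN (List.mem_range.1 hi)])
  rcases pattern16 hx hn hd with r | r | r
  · exact r.trans (to16B wA fA hA sA ((nv _).trans h'.1.1) ((dv _).trans h'.1.2))
  · exact r
  · exact r.trans (to16B wC fC hC sC ((nv _).trans h'.2.1) ((dv _).trans h'.2.2))

/-- All pairs of minimal vectors of inner product minus sixteen form one orbit. -/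
theorem transitive_dot16 {v w v' w' : leechLattice} (hv : sqNorm v.1 = 32) (hw : sqNorm w.1 = 32)
    (hd : dotInt v.1 w.1 = -16) (hv' : sqNorm v'.1 = 32) (hw' : sqNorm w'.1 = 32) (hd' : dotInt v'.1 w'.1 = -16) :
    ∃ g : Co0, g • v = v' ∧ g • w = w' := by
  have key : ∀ {a b : leechLattice}, sqNorm a.1 = 32 → sqNorm b.1 = 32 → dotInt a.1 b.1 = -16 →
      ∃ g : Co0, g • a = vStd ∧ (g • b).1 = vecOf rep16B := by
    intro a b ha hb hab
    obtain ⟨g, hg⟩ := transitive32 (v := a) (w := vStd) ha
      (show sqNorm (vecOf repPair) = 32 by simp only [sqNorm, repPair_eq]; decide +kernel)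
    obtain ⟨k, hk, hx, e⟩ := to_rep16 (g • b).2 ((norm_smul g b).trans hb)
      (by rw [show vecOf repPair = vStd.1 from rfl, ← hg, dot_smul]; exact hab)
    exact ⟨k * g, by rw [mul_smul, hg, MulAction.mem_stabilizer_iff.1 hk], by rw [mul_smul]; exact e⟩
  obtain ⟨g, g1, g2⟩ := key hv hw hd
  obtain ⟨g', g1', g2'⟩ := key hv' hw' hd'
  refine ⟨g'⁻¹ * g, ?_, ?_⟩ <;> rw [mul_smul, inv_smul_eq_iff]
  · exact g1.trans g1'.symm
  · exact Subtype.ext (g2.trans g2'.symm)

end CfsgLib.Leech
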