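/-
Data: representatives of inner product minus eight with the standard minimal vector.
-/
import Mathlib.Init

set_option autoImplicit false

namespace CfsgLib.Leech

/-- A table fixing the last point and sending the point one to zero. -/
def octShift : List Nat := [1, 0, 8, 20, 22, 17, 12, 11, 7, 3, 13, 5, 15, 14, 16, 10, 19, 21, 4, 18, 6, 2, 9, 23]

/-- Tables fixing the reference octad and the point one. -/
def innerTabs : List (List Nat) := [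
  [10, 1, 6, 13, 11, 23, 4, 22, 17, 9, 5, 2, 16, 20, 3, 7, 12, 8, 18, 19, 14, 15, 21, 0],
  [4, 1, 5, 16, 23, 10, 6, 17, 19, 3, 11, 0, 18, 12, 14, 8, 20, 15, 9, 22, 13, 7, 21, 2],
  [5, 1, 0, 15, 6, 23, 10, 13, 14, 18, 2, 11, 12, 16, 7, 19, 21, 8, 22, 20, 9, 17, 3, 4],
  [2, 1, 10, 16, 11, 4, 6, 3, 8, 18, 23, 0, 21, 9, 15, 13, 12, 14, 22, 20, 7, 19, 17, 5],
  [2, 1, 10, 15, 4, 11, 0, 16, 12, 20, 5, 23, 14, 13, 7, 19, 21, 8, 22, 18, 3, 17, 9, 6],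
  [23, 1, 4, 20, 2, 6, 11, 12, 14, 3, 5, 0, 21, 8, 7, 22, 17, 16, 18, 15, 9, 13, 19, 10],
  [10, 1, 0, 20, 23, 6, 4, 9, 18, 13, 2, 5, 15, 22, 21, 19, 7, 12, 3, 8, 14, 16, 17, 11],
  [0, 1, 2, 3, 4, 5, 6, 7, 8, 9, 10, 11, 12, 13, 14, 15, 16, 17, 18, 19, 20, 21, 22, 23]]

/-- Octad representative. -/
def rep8B : List Int := [0, -2, 0, 0, 0, 2, 0, 0, 2, 0, 0, 0, 2, 2, 0, 0, 0, 2, 0, 0, 0, 0, 2, -2]

/-- Witnesses for its signs. -/
def wit8B : Nat × List (Nat × Nat × Nat) := (1, [(1, 0, 0), (5, 3719203, 0), (8, 622863, 0), (12, 1413139, 0), (13, 3416079, 0), (17, 2605066, 0), (22, 6832158, 0), (23, 10305542, 0)])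

/-- Odd representative with two minus ones. -/
def rep8C : List Int := [-1, -3, 1, 1, 1, 1, 1, 1, 1, 1, 1, 1, -1, 1, -1, 1, -1, -1, -1, 1, 1, 1, -1, -1]

/-- Odd representative with a three and a one. -/
def rep8D : List Int := [1, 1, 1, 1, 1, 1, 1, 1, 1, 1, 1, 1, 1, 1, 1, 1, 1, 1, 1, 1, 1, 1, 1, -3]

/-- Word for the first odd representative. -/
def word8C : List (List Nat × Nat × Bool) := [
  ([2, 10, 5, 6, 22, 16, 4, 18, 13, 23, 9, 11, 15, 1, 12, 14, 8, 7, 20, 17, 19, 3, 0, 21], 1573998, true),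
  ([11, 22, 19, 20, 15, 14, 5, 4, 2, 0, 12, 10, 21, 8, 1, 13, 16, 7, 17, 3, 23, 18, 9, 6], 13062145, false)]

/-- Word for the second odd representative. -/
def word8D : List (List Nat × Nat × Bool) := [
  ([2, 10, 5, 6, 22, 16, 4, 18, 13, 23, 9, 11, 15, 1, 12, 14, 8, 7, 20, 17, 19, 3, 0, 21], 1573998, true),
  ([11, 22, 19, 20, 15, 14, 5, 4, 2, 0, 12, 10, 21, 8, 1, 13, 16, 7, 17, 3, 23, 18, 9, 6], 13062145, false)]

end CfsgLib.Leech
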