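/-
The stabiliser of a minimal vector is transitive on minimal vectors of inner product minus eight.
-/
import Cfsg.Agent.Leech.Dot16
import Cfsg.Agent.Leech.Stab8Data

set_option autoImplicit false

namespace CfsgLib.Leech

open Cfsg CfsgLib.Golay
open scoped Pointwise

/-- An odd vector with the same absolute values and the same two distinguished entries. -/
theorem odd_fix {r : List ℤ} (hr : inLeech (vecOf r) = true) {y : GolayPt → ℤ} (hy : y ∈ leechLattice)
    (hodd : ∀ p, y p % 2 = 1) (habs : ∀ p, (y p).natAbs = (vecOf r p).natAbs)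
    (hn : y none = vecOf r none) (h0 : y (some 0) = vecOf r (some 0)) : MoveIn pairStab y (vecOf r) := by
  obtain ⟨-, -, -, -, hcy⟩ := mem_lattice.1 hy
  obtain ⟨-, -, -, -, hcr⟩ := mem_lattice.1 (inLeech_spec hr)
  set c := symmDiff (support₂ (half y)) (support₂ (half (vecOf r))) with hcdef
  have hc : c ∈ supports (golayCode : Set (GolayPt → ZMod 2)) := by
    rw [mem_supports_iff, mask_symmDiff]
    exact inCode_xor (mem_supports_iff.1 (support_mem hcy)) (mem_supports_iff.1 (support_mem hcr))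
  have hm : ∀ p, p ∈ c ↔ ¬ ((y p / 2) % 2 = 1 ↔ (vecOf r p / 2) % 2 = 1) := fun p => by
    rw [hcdef, Finset.mem_symmDiff, mem_support_half, mem_support_half]; tauto
  have heq : ∀ p, flip c y p = vecOf r p := fun p => by
    have := habs p; have := hodd p
    by_cases hp : p ∈ c
    · simp only [flip, hp, if_true]; have := (hm p).1 hp; omega
    · simp only [flip, hp, if_false]; have := mt (hm p).2 hp; omega
  refine (congrArg (MoveIn pairStab y) (funext heq)).mp (move_flip_fix hc (fun q hq => ?_) hy)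
  rw [repPair_eq, if_neg]
  rintro (rfl | rfl)
  · exact (hm _).1 hq (by rw [hn])
  · exact (hm _).1 hq (by rw [h0])

theorem inner_ok : (innerTabs.all fun g => validTab g && presTab g && Nat.beq (actTab g octO) octO &&
      Nat.beq (g.getD 1 0) 1) = true ∧
    (List.range 24).all (fun j => !octO.testBit j || innerTabs.any fun g => Nat.beq (g.getD 23 0) j) = true ∧
    validTab octShift = true ∧ presTab octShift = true ∧ octShift.getD 23 0 = 23 ∧ octShift.getD 1 0 = 0 ∧
    (List.range 24).all (fun j => ((rep8B.getD (octShift.getD j 0) 0).natAbs == 2) == octO.testBit j) = true := by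
  decide +kernel

theorem map_octad_in_out {o : Finset GolayPt} (ho : o ∈ octads) {a b : GolayPt} (ha : a ∈ o) (hb : b ∉ o) :
    ∃ σ ∈ M24, σ • OctStab.O = o ∧ σ (ptN 23) = a ∧ σ (ptN 1) = b := by
  obtain ⟨g, hg, e, e1⟩ := map_octad_out ho hb
  have h := inner_ok
  simp only [List.all_eq_true, List.mem_range, Bool.and_eq_true, Bool.or_eq_true, Nat.beq_eq,
    List.any_eq_true, Bool.not_eq_true'] at h
  have hmem : octO.testBit (idx (g⁻¹ a)).val = true := by
    rw [← mem_toSet, show g⁻¹ a = g⁻¹ • a from rfl, Finset.inv_smul_mem_iff]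
    rw [show toSet octO = OctStab.O from rfl, e]
    exact ha
  obtain ⟨t, ht, htj⟩ : ∃ t ∈ innerTabs, t.getD 23 0 = (idx (g⁻¹ a)).val := by
    rcases h.2.1 _ (idx (g⁻¹ a)).isLt with h1 | h1
    · rw [hmem] at h1; exact Bool.noConfusion h1
    · exact h1
  obtain ⟨⟨⟨hv, hp⟩, hO⟩, h1⟩ := h.1 t ht
  have hfix : permOf t • OctStab.O = OctStab.O := by
    refine mask_injective ?_
    rw [mask_smul hv, mask_toSet OctStab.octO_lt, hO]
  have app : ∀ i < 24, permOf t (ptN i) = ptN (t.getD i 0) := fun i hi => by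
    rw [← ptN_idx (permOf t (ptN i)), idx_permOf hv, idx_ptN hi]
  refine ⟨g * permOf t, mul_mem hg (permOf_mem_M24 hv hp), by rw [mul_smul, hfix, e], ?_, ?_⟩
  · rw [Equiv.Perm.mul_apply, app 23 (by omega), htj, ptN_idx]; simp
  · rw [Equiv.Perm.mul_apply, app 1 (by omega), h1, e1]

theorem data8 : witOk rep8B [0] wit8B = true ∧ inLeech (vecOf rep8C) = true ∧ inLeech (vecOf rep8D) = true ∧
    wordOk word8C = true ∧ runWord word8C repPair = repPair ∧
    (List.range 24).all (fun i => [0, 2].contains ((runWord word8C rep8C).getD i 0).natAbs) = true ∧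
    wordOk word8D = true ∧ runWord word8D repPair = repPair ∧
    (List.range 24).all (fun i => [0, 2].contains ((runWord word8D rep8D).getD i 0).natAbs) = true := by
  decide +kernel

theorem oct8 {x : GolayPt → ℤ} (hx : x ∈ leechLattice) (hn : sqNorm x = 32)
    (hsum : x none + x (some 0) = -2) (hv' : ∀ p, (x p).natAbs = 0 ∨ (x p).natAbs = 2) :
    MoveIn pairStab x (vecOf rep8B) := by
  suffices key : ∀ y, y ∈ leechLattice → sqNorm y = 32 → (∀ p, (y p).natAbs = 0 ∨ (y p).natAbs = 2) →
      y none = -2 → y (some 0) = 0 → MoveIn pairStab y (vecOf rep8B) by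
    have := hv' none; have := hv' (some 0)
    rcases (show x none = -2 ∧ x (some 0) = 0 ∨ x none = 0 ∧ x (some 0) = -2 by omega) with ⟨a, b⟩ | ⟨a, b⟩
    · exact key x hx hn hv' a b
    · obtain ⟨σ0, hσ0, e0⟩ := exists_map_tuple (n := 2) (by omega) ![none, some 0] ![some 0, none]
        (by intro i j h; fin_cases i <;> fin_cases j <;> simp_all)
        (by intro i j h; fin_cases i <;> fin_cases j <;> simp_all)
      have s0 : σ0 none = some 0 := e0 0
      have s1 : σ0 (some 0) = none := e0 1
      have h0 := move_perm_fix hσ0 (fix_of_pair (Or.inr ⟨s0, s1⟩)) hx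
      exact h0.trans (key _ h0.mem ((Equiv.sum_comp σ0 fun p => x p ^ 2).trans hn) (fun p => hv' _)
        (by simp only [s0]; exact b) (by simp only [s1]; exact a))
  clear hx hn hsum hv'
  intro y hy hn hv' yn y0
  have hev : ∀ p, y p % 2 = 0 := fun p => by have := hv' p; omega
  obtain ⟨hv, hc, hsupp, hcard, -⟩ := even_counts hy hev (N := 8) (by omega) (by omega)
  have z : ∀ k, k ≠ 0 → k ≠ 2 → (lev y k).card = 0 := fun k h0 h2 =>
    Finset.card_eq_zero.2 (Finset.eq_empty_of_forall_notMem fun p hp => by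
      rw [mem_lev] at hp; have := hv' p; omega)
  have e : (lev y 2).card = 8 := by
    have := z 4 (by omega) (by omega); have := z 6 (by omega) (by omega); have := z 8 (by omega) (by omega)
    omega
  rw [Finset.card_eq_zero.1 (z 6 (by omega) (by omega)), Finset.union_empty] at hsupp
  obtain ⟨σ, hσ, eσ, ea, eb⟩ := map_octad_in_out (mem_octads_of hsupp e) (a := none) (b := some 0)
    (by rw [mem_lev, yn]; rfl) (by rw [mem_lev, y0]; decide)
  obtain ⟨-, -, hv8, hp8, h23, h1, hO⟩ := inner_ok
  set h := permOf octShift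
  have app : ∀ i < 24, h (ptN i) = ptN (octShift.getD i 0) := fun i hi => by
    rw [← ptN_idx (h (ptN i)), idx_permOf hv8, idx_ptN hi]
  have hn23 : ptN 23 = (none : GolayPt) := by decide +kernel
  have h00 : ptN 0 = (some 0 : GolayPt) := by decide +kernel
  have ga : h⁻¹ (none : GolayPt) = ptN 23 := by
    rw [Equiv.Perm.inv_eq_iff_eq, app 23 (by omega), h23, hn23]
  have gb : h⁻¹ (some 0 : GolayPt) = ptN 1 := by
    rw [Equiv.Perm.inv_eq_iff_eq, app 1 (by omega), h1, h00]
  have hfix : (σ * h⁻¹) none = none ∧ (σ * h⁻¹) (some 0) = some 0 :=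
    ⟨by rw [Equiv.Perm.mul_apply, ga, ea], by rw [Equiv.Perm.mul_apply, gb, eb]⟩
  have hM : σ * h⁻¹ ∈ M24 := mul_mem hσ (inv_mem (permOf_mem_M24 hv8 hp8))
  have hmove := move_perm_fix hM (fix_of_pair (Or.inl hfix)) hy
  have hB0 : ∀ p, (vecOf rep8B p).natAbs = 0 ∨ (vecOf rep8B p).natAbs = 2 := by decide +kernel
  have habs : ∀ p, (y ((σ * h⁻¹) p)).natAbs = (vecOf rep8B p).natAbs := fun p => by
    have hp2 : (vecOf rep8B p).natAbs = 2 ↔ (y ((σ * h⁻¹) p)).natAbs = 2 := by
      simp only [List.all_eq_true, List.mem_range, beq_iff_eq] at hO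
      have := hO (idx (h⁻¹ p)).val (idx (h⁻¹ p)).isLt
      rw [← idx_permOf hv8 (h⁻¹ p), show permOf octShift (h⁻¹ p) = p from h.apply_symm_apply p] at this
      rw [← mem_lev (x := y), ← eσ, Equiv.Perm.mul_apply]
      rw [show σ (h⁻¹ p) = σ • h⁻¹ p from rfl, Finset.smul_mem_smul_finset_iff, mem_toSet, ← this, beq_iff_eq]
      rfl
    have := hv' ((σ * h⁻¹) p); have := hB0 p
    omega
  obtain ⟨k, hk, C, hC, eC⟩ := exists_flip data8.1 hmove.mem habs
  rw [List.mem_singleton.1 hk, flip_zero] at eC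
  have hBv : vecOf rep8B none = -2 ∧ vecOf rep8B (some 0) = 0 := by decide +kernel
  have hCn : (none : GolayPt) ∉ C := fun hmem => by
    have := congrFun eC none
    simp only [flip, hmem, if_true, hfix.1, yn, hBv] at this
    omega
  obtain ⟨D, hD, hD0, hDn, hDflip⟩ : ∃ D, D ∈ supports (golayCode : Set (GolayPt → ZMod 2)) ∧
      (some 0 : GolayPt) ∉ D ∧ (none : GolayPt) ∉ D ∧ flip D (fun p => y ((σ * h⁻¹) p)) = vecOf rep8B := by
    by_cases h0 : (some 0 : GolayPt) ∈ C
    · have hk' : (lev y 2)ᶜ ∈ supports (golayCode : Set (GolayPt → ZMod 2)) := compl_mem hsupp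
      have hk'' : (σ * h⁻¹)⁻¹ • (lev y 2)ᶜ ∈ supports (golayCode : Set (GolayPt → ZMod 2)) :=
        (smul_mem_wordsOfWeight (inv_mem hM) (k := ((lev y 2)ᶜ).card) ⟨hk', rfl⟩).1
      have hin : ∀ p, p ∈ (σ * h⁻¹)⁻¹ • (lev y 2)ᶜ ↔ (y ((σ * h⁻¹) p)).natAbs ≠ 2 := fun p => by
        rw [← Finset.inv_smul_mem_iff, inv_inv, Finset.mem_compl, mem_lev]; rfl
      refine ⟨symmDiff C ((σ * h⁻¹)⁻¹ • (lev y 2)ᶜ), ?_, ?_, ?_, ?_⟩
      · rw [mem_supports_iff, mask_symmDiff]
        exact inCode_xor (mem_supports_iff.1 hC) (mem_supports_iff.1 hk'')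
      · rw [Finset.mem_symmDiff, hin, hfix.2, y0]; simp [h0]
      · rw [Finset.mem_symmDiff, hin, hfix.1, yn]; simp [hCn]
      · funext p
        have e1 := congrFun eC p
        have e2 := hv' ((σ * h⁻¹) p)
        by_cases hq : (y ((σ * h⁻¹) p)).natAbs = 2
        · have hiff : p ∈ symmDiff C ((σ * h⁻¹)⁻¹ • (lev y 2)ᶜ) ↔ p ∈ C := by
            rw [Finset.mem_symmDiff, hin]; tauto
          simp only [flip, hiff] at e1 ⊢
          exact e1
        · have hz : y ((σ * h⁻¹) p) = 0 := by omega
          simp only [flip, hz, neg_zero, ite_self] at e1 ⊢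
          exact e1
    · exact ⟨C, hC, h0, hCn, eC⟩
  refine hDflip ▸ hmove.trans (move_flip_fix hD (fun q hq => ?_) hmove.mem)
  rw [repPair_eq, if_neg]
  rintro (rfl | rfl)
  · exact hDn hq
  · exact hD0 hq

theorem to_rep8 {x : GolayPt → ℤ} (hx : x ∈ leechLattice) (hn : sqNorm x = 32)
    (hd : dotInt (vecOf repPair) x = -8) : MoveIn pairStab x (vecOf rep8B) := by
  obtain ⟨-, hC, hD, wC, fC, sC, wD, fD, sD⟩ := data8
  have toB : ∀ {w : List (List ℕ × ℕ × Bool)}, wordOk w = true → runWord w repPair = repPair →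
      ∀ {r : List ℤ}, (List.range 24).all (fun i => [0, 2].contains ((runWord w r).getD i 0).natAbs) = true →
      ∀ {y : GolayPt → ℤ}, MoveIn pairStab x y → y = vecOf r → MoveIn pairStab x (vecOf rep8B) := by
    intro w hw hfix r hs y hmove ey
    subst ey
    have h := hmove.trans (word_move hw hfix hmove.mem)
    obtain ⟨g, hg, hx', e⟩ := id h
    refine h.trans (oct8 h.mem (by rw [← e, norm_smul]; exact hn) ?_ fun p => ?_)
    · have d1 : dotInt (vecOf repPair) (vecOf (runWord w r)) = -8 := by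
        rw [← e, show vecOf repPair = vStd.1 from rfl, ← MulAction.mem_stabilizer_iff.1 hg, dot_smul]; exact hd
      rw [dot_repPair] at d1
      omega
    · simp only [List.all_eq_true, List.mem_range] at hs
      simpa [vecOf] using hs (idx p).val (idx p).isLt
  rw [dot_repPair] at hd
  obtain ⟨m, hm, hpar, -, hcode⟩ := mem_lattice.1 hx
  rcases hm with rfl | rfl
  · obtain ⟨hv, hc, hsupp, hcard, -⟩ := even_counts hx hpar (N := 8) (by omega) (by omega)
    simp only [List.mem_cons, List.not_mem_nil, or_false] at hv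
    have n8 := not_lev (show (lev x 8).card = 0 by omega)
    have n6 := not_lev (show (lev x 6).card = 0 by
      rcases support_card_cases (mem_supports_iff.1 hsupp) with e | e | e | e | e <;> omega)
    rcases support_card_cases (mem_supports_iff.1 hsupp) with e | e | e | e | e <;> try omega
    · have n2 := not_lev (show (lev x 2).card = 0 by omega)
      have := hv none; have := hv (some 0); have := n2 none; have := n2 (some 0)
      have := n6 none; have := n6 (some 0); have := n8 none; have := n8 (some 0)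
      omega
    · refine oct8 hx hn (by omega) fun p => ?_
      have := hv p; have := n6 p; have := n8 p
      have := not_lev (show (lev x 4).card = 0 by omega) p
      omega
  · obtain ⟨hv, hc⟩ := odd_counts hpar hn (by omega)
    simp only [List.mem_cons, List.not_mem_nil, or_false] at hv
    have n5 := not_lev (show (lev x 5).card = 0 by omega)
    have n7 := not_lev (show (lev x 7).card = 0 by omega)
    obtain ⟨j, hj⟩ := Finset.card_eq_one.1 (show (lev x 3).card = 1 by omega)
    have hj3 : ∀ p, ((x p).natAbs = 3 ↔ p = j) ∧ ((x p).natAbs = 1 ↔ p ≠ j) := fun p => by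
      have h3 : (x p).natAbs = 3 ↔ p = j := by rw [← mem_lev, hj, Finset.mem_singleton]
      have := hv p; have := n5 p; have := n7 p
      exact ⟨h3, ⟨fun h1 e => by have := h3.2 e; omega, fun hne => by have := mt h3.1 hne; omega⟩⟩
    have hnn : (none : GolayPt) ≠ some 0 := by simp
    have hR : ∀ p, (vecOf rep8C p).natAbs = (if p = ptN 1 then 3 else 1) ∧
        (vecOf rep8D p).natAbs = (if p = none then 3 else 1) := by decide +kernel
    have hRv : vecOf rep8C none = -1 ∧ vecOf rep8C (some 0) = -1 ∧ vecOf rep8D none = -3 ∧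
        vecOf rep8D (some 0) = 1 ∧ (none : GolayPt) ≠ ptN 1 ∧ (some 0 : GolayPt) ≠ ptN 1 := by decide +kernel
    by_cases hj' : j = none ∨ j = some 0
    · obtain ⟨σ0, hσ0, e0⟩ := exists_map_tuple (n := 2) (by omega) ![none, some 0]
        ![j, if j = none then some 0 else none]
        (by intro a b h; fin_cases a <;> fin_cases b <;> simp_all)
        (by intro a b h; rcases hj' with rfl | rfl <;> fin_cases a <;> fin_cases b <;> simp_all)
      have s0 : σ0 none = j := e0 0
      have s1 : σ0 (some 0) = if j = none then some 0 else none := e0 1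
      have hfix : σ0 none = none ∧ σ0 (some 0) = some 0 ∨ σ0 none = some 0 ∧ σ0 (some 0) = none := by
        rcases hj' with rfl | rfl
        · exact Or.inl ⟨s0, s1.trans (if_pos rfl)⟩
        · exact Or.inr ⟨s0, s1.trans (if_neg hnn.symm)⟩
      have h1 := move_perm_fix hσ0 (fix_of_pair hfix) hx
      have hvals : x (σ0 none) = -3 ∧ x (σ0 (some 0)) = 1 := by
        have := (hj3 (σ0 none)).1.2 s0
        have hne : σ0 (some 0) ≠ j := fun e => hnn (σ0.injective (s0.trans e.symm))
        have := (hj3 (σ0 (some 0))).2.2 hne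
        have : x (σ0 none) + x (σ0 (some 0)) = -2 := by
          rcases hfix with ⟨a, b⟩ | ⟨a, b⟩ <;> rw [a, b] <;> omega
        omega
      refine toB wD fD sD (h1.trans (odd_fix hD h1.mem (fun p => hpar _) (fun p => ?_)
        (hvals.1.trans hRv.2.2.1.symm) (hvals.2.trans hRv.2.2.2.1.symm))) rfl
      rw [(hR p).2]
      split_ifs with h
      · rw [h]; exact (hj3 _).1.2 s0
      · exact (hj3 _).2.2 fun e => h (σ0.injective (e.trans s0.symm))
    · push Not at hj'
      obtain ⟨σ0, hσ0, e0⟩ := exists_map_tuple (n := 3) (by omega) ![none, some 0, ptN 1] ![none, some 0, j]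
        (inj3 hnn hRv.2.2.2.2.1 hRv.2.2.2.2.2) (inj3 hnn hj'.1.symm hj'.2.symm)
      have s0 : σ0 none = none := e0 0
      have s1 : σ0 (some 0) = some 0 := e0 1
      have s2 : σ0 (ptN 1) = j := e0 2
      have h1 := move_perm_fix hσ0 (fix_of_pair (Or.inl ⟨s0, s1⟩)) hx
      have := (hj3 none).2.2 hj'.1.symm
      have := (hj3 (some 0)).2.2 hj'.2.symm
      refine toB wC fC sC (h1.trans (odd_fix hC h1.mem (fun p => hpar _) (fun p => ?_)
        (by simp only [s0, hRv.1]; omega) (by simp only [s1, hRv.2.1]; omega))) rfl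
      rw [(hR p).1]
      split_ifs with h
      · rw [h, s2]; exact (hj3 _).1.2 rfl
      · exact (hj3 _).2.2 fun e => h (σ0.injective (e.trans s2.symm))

/-- All pairs of minimal vectors of inner product minus eight form one orbit. -/
theorem transitive_dot8 {v w v' w' : leechLattice} (hv : sqNorm v.1 = 32) (hw : sqNorm w.1 = 32)
    (hd : dotInt v.1 w.1 = -8) (hv' : sqNorm v'.1 = 32) (hw' : sqNorm w'.1 = 32) (hd' : dotInt v'.1 w'.1 = -8) :
    ∃ g : Co0, g • v = v' ∧ g • w = w' := by
  have key : ∀ {a b : leechLattice}, sqNorm a.1 = 32 → sqNorm b.1 = 32 → dotInt a.1 b.1 = -8 →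
      ∃ g : Co0, g • a = vStd ∧ (g • b).1 = vecOf rep8B := by
    intro a b ha hb hab
    obtain ⟨g, hg⟩ := transitive32 (v := a) (w := vStd) ha
      (show sqNorm (vecOf repPair) = 32 by simp only [sqNorm, repPair_eq]; decide +kernel)
    obtain ⟨k, hk, hx, e⟩ := to_rep8 (g • b).2 ((norm_smul g b).trans hb)
      (by rw [show vecOf repPair = vStd.1 from rfl, ← hg, dot_smul]; exact hab)
    exact ⟨k * g, by rw [mul_smul, hg, MulAction.mem_stabilizer_iff.1 hk], by rw [mul_smul]; exact e⟩
  obtain ⟨g, g1, g2⟩ := key hv hw hd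
  obtain ⟨g', g1', g2'⟩ := key hv' hw' hd'
  refine ⟨g'⁻¹ * g, ?_, ?_⟩ <;> rw [mul_smul, inv_smul_eq_iff]
  · exact g1.trans g1'.symm
  · exact Subtype.ext (g2.trans g2'.symm)

theorem summand_dot {u v : leechLattice} (hu : sqNorm u.1 = 48)
    (h : sqNorm v.1 = 32 ∧ sqNorm (u.1 - v.1) = 32) : dotInt v.1 (u - v).1 = -8 := by
  have h2 := sqNorm_add v.1 (u.1 - v.1)
  rw [add_sub_cancel] at h2
  rw [AddSubgroup.coe_sub]
  omega

/-- All decompositions of vectors of sum of squares forty-eight form one orbit. -/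
theorem transitive_summand {u v u' v' : leechLattice} (hu : sqNorm u.1 = 48)
    (h : sqNorm v.1 = 32 ∧ sqNorm (u.1 - v.1) = 32) (hu' : sqNorm u'.1 = 48)
    (h' : sqNorm v'.1 = 32 ∧ sqNorm (u'.1 - v'.1) = 32) : ∃ g : Co0, g • u = u' ∧ g • v = v' := by
  obtain ⟨g, g1, g2⟩ := transitive_dot8 (v := v) (w := u - v) (v' := v') (w' := u' - v') h.1
    (by rw [AddSubgroup.coe_sub]; exact h.2) (summand_dot hu h) h'.1 (by rw [AddSubgroup.coe_sub]; exact h'.2)
    (summand_dot hu' h')
  refine ⟨g, ?_, g1⟩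
  rw [smul_sub', g1] at g2
  exact sub_left_injective g2

end CfsgLib.Leech
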