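/-
Vectors of sum of squares forty-eight with a minimal vector of inner product sixteen: one orbit.
-/
import Cfsg.Agent.Leech.Dot8

set_option autoImplicit false

namespace CfsgLib.Leech

open Cfsg CfsgLib.Golay
open scoped Pointwise

theorem four_vec {p q : GolayPt} (h : p ≠ q) {s t : ℤ} (hs : s = 4 ∨ s = -4) (ht : t = 4 ∨ t = -4) :
    (Pi.single p s + Pi.single q t : GolayPt → ℤ) ∈ leechLattice ∧
      sqNorm (Pi.single p s + Pi.single q t : GolayPt → ℤ) = 32 ∧
      ∀ y, dotInt y (Pi.single p s + Pi.single q t) = s * y p + t * y q := by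
  refine ⟨?_, ?_, fun y => ?_⟩
  · have := fours_mem (i := p) (j := q) (a := s) (b := -t) hs (by omega)
    rwa [Pi.single_neg (f := fun _ => ℤ), sub_neg_eq_add] at this
  · rw [sqNorm_add, sqNorm_single, sqNorm_single, dotInt,
      Finset.sum_eq_zero fun k _ => by simp only [Pi.single_apply]; split_ifs <;> simp_all]
    rcases hs with rfl | rfl <;> rcases ht with rfl | rfl <;> norm_num
  · simp only [dotInt, Pi.add_apply, mul_add, Finset.sum_add_distrib]
    rw [Finset.sum_eq_single p (fun k _ hk => by simp [hk]) (fun hk => absurd (Finset.mem_univ p) hk),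
      Finset.sum_eq_single q (fun k _ hk => by simp [hk]) (fun hk => absurd (Finset.mem_univ q) hk),
      Pi.single_eq_same, Pi.single_eq_same]
    ring

/-- An octad meeting the standard dodecad in six points, two of them prescribed. -/
theorem exists_hexad {d : Finset GolayPt} (hd : d ∈ dodecads) {a b : GolayPt} (ha : a ∈ d) (hb : b ∈ d)
    (hab : a ≠ b) : ∃ o ∈ octads, (o ∩ d).card = 6 ∧ a ∈ o ∧ b ∈ o := by
  have hex : ∃ m ∈ octList, popc (m &&& DodStab.sqD) = 6 := by decide +kernel
  obtain ⟨m, hm, h6⟩ := hex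
  have hlt : m < 2 ^ 24 := (mem_wtList.1 hm).2.1
  have ho : toSet m ∈ octads := by rw [mem_octads_iff, mask_toSet hlt]; exact hm
  have hc : (toSet m ∩ DodStab.D).card = 6 := by
    rw [← popc_mask, mask_inter, mask_toSet hlt, mask_toSet DodStab.sqD_lt, h6]
  obtain ⟨p, hp⟩ := Finset.card_pos.1 (show 0 < (toSet m ∩ DodStab.D).card by omega)
  obtain ⟨q, hq, hqp⟩ := Finset.exists_mem_ne (s := toSet m ∩ DodStab.D) (by omega) p
  rw [Finset.mem_inter] at hp hq
  obtain ⟨σ, hσ, eσ, e⟩ := DodStab.exists_map_in (n := 2) (by omega) DodStab.D_mem hd ![p, q] ![a, b]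
    (by intro i j h; fin_cases i <;> fin_cases j <;> simp_all)
    (by intro i j h; fin_cases i <;> fin_cases j <;> simp_all)
    (by intro i; fin_cases i; exacts [hp.2, hq.2]) (by intro i; fin_cases i; exacts [ha, hb])
  have e0 : σ p = a := e 0
  have e1 : σ q = b := e 1
  refine ⟨σ • toSet m, smul_mem_octads hσ ho, ?_, e0 ▸ Finset.smul_mem_smul_finset (a := σ) hp.1,
    e1 ▸ Finset.smul_mem_smul_finset (a := σ) hq.1⟩
  rw [← eσ, ← Finset.smul_finset_inter, Finset.card_smul_finset, hc]

/-- A summand meeting the standard vector in sixteen. -/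
theorem exists_summand16 {v : GolayPt → ℤ} (hv : v ∈ leechLattice) (hn : sqNorm v = 48)
    (hd : dotInt (vecOf repPair) v = 16) :
    ∃ b ∈ leechLattice, sqNorm b = 32 ∧ dotInt v b = 24 ∧ dotInt (vecOf repPair) b = 16 := by
  rw [dot_repPair] at hd
  have hnn : (none : GolayPt) ≠ some 0 := by simp
  have pairCase : ∀ {p q : GolayPt}, p ≠ q → (p = none ∨ p = some 0) → ¬ (q = none ∨ q = some 0) →
      4 * v p + 4 * |v q| = 24 →
      ∃ b ∈ leechLattice, sqNorm b = 32 ∧ dotInt v b = 24 ∧ dotInt (vecOf repPair) b = 16 := by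
    intro p q hpq hp hq hval
    rcases le_total 0 (v q) with h | h
    · obtain ⟨h1, h2, h3⟩ := four_vec hpq (s := 4) (t := 4) (Or.inl rfl) (Or.inl rfl)
      refine ⟨_, h1, h2, by rw [h3]; rw [abs_of_nonneg h] at hval; omega, ?_⟩
      rw [h3, repPair_eq, repPair_eq, if_pos hp, if_neg hq]; rfl
    · obtain ⟨h1, h2, h3⟩ := four_vec hpq (s := 4) (t := -4) (Or.inl rfl) (Or.inr rfl)
      refine ⟨_, h1, h2, by rw [h3]; rw [abs_of_nonpos h] at hval; omega, ?_⟩
      rw [h3, repPair_eq, repPair_eq, if_pos hp, if_neg hq]; rfl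
  obtain ⟨m, hm, hpar, hs8, hcode⟩ := mem_lattice.1 hv
  rcases hm with rfl | rfl
  · obtain ⟨hv', hc, hsupp, hcard, hpair⟩ := even_counts hv hpar (N := 12) (by omega) (by omega)
    simp only [List.mem_cons, List.not_mem_nil, or_false] at hv'
    have n8 := not_lev (show (lev v 8).card = 0 by omega)
    rcases support_card_cases (mem_supports_iff.1 hsupp) with e | e | e | e | e <;> try omega
    · have n6 := not_lev (show (lev v 6).card = 0 by omega)
      have hsupp' : lev v 2 ∈ supports (golayCode : Set (GolayPt → ZMod 2)) := by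
        rwa [Finset.card_eq_zero.1 (show (lev v 6).card = 0 by omega), Finset.union_empty] at hsupp
      obtain ⟨r, hr⟩ := Finset.card_eq_one.1 (show (lev v 4).card = 1 by omega)
      have hr4 : ∀ p, (v p).natAbs = 4 ↔ p = r := fun p => by rw [← mem_lev, hr, Finset.mem_singleton]
      have hval : ∀ p, p ≠ r → (v p).natAbs = 0 ∨ (v p).natAbs = 2 := fun p hp => by
        have := hv' p; have := n6 p; have := n8 p; have := mt (hr4 p).1 hp; omega
      obtain ⟨t, ht, htne⟩ : ∃ t ∈ lev v 2, t ≠ none ∧ t ≠ some 0 := by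
        obtain ⟨t, ht⟩ := Finset.card_pos.1 (show 0 < (lev v 2 \ {none, some 0}).card by
          have h1 := Finset.le_card_sdiff ({none, some 0} : Finset GolayPt) (lev v 2)
          have h2 : ({none, some 0} : Finset GolayPt).card = 2 := Finset.card_pair hnn
          omega)
        simp only [Finset.mem_sdiff, Finset.mem_insert, Finset.mem_singleton, not_or] at ht
        exact ⟨t, ht.1, ht.2⟩
      rw [mem_lev] at ht
      have htq : ¬ (t = none ∨ t = some 0) := not_or.2 htne
      have habs : |v t| = 2 := by rw [Int.abs_eq_natAbs, ht]; rfl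
      by_cases hr' : r = none ∨ r = some 0
      · have hr4' := (hr4 r).2 rfl
        have other : v r = 4 := by
          rcases hr' with rfl | rfl
          · have := hval (some 0) hnn.symm; omega
          · have := hval none hnn; omega
        exact pairCase (p := r) (q := t) (fun e => htq (by rw [← e]; exact hr')) hr' htq (by rw [other, habs]; norm_num)
      · have h1 := hval none (fun e => hr' (Or.inl e.symm))
        have h2 := hval (some 0) (fun e => hr' (Or.inr e.symm))
        have hr4' := (hr4 r).2 rfl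
        refine pairCase (p := none) (fun e => hr' (Or.inl e.symm)) (Or.inl rfl) hr' ?_
        rw [Int.abs_eq_natAbs, hr4']
        omega
    · have c6 : (lev v 6).card = 0 := by omega
      have n6 := not_lev c6
      have n4 := not_lev (show (lev v 4).card = 0 by omega)
      rw [Finset.card_eq_zero.1 c6, Finset.union_empty] at hsupp e
      have hval : ∀ p, (v p).natAbs = 0 ∨ (v p).natAbs = 2 := fun p => by
        have := hv' p; have := n6 p; have := n8 p; have := n4 p; omega
      have := hval none; have := hval (some 0)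
      have vn : v none = 2 := by omega
      have v0 : v (some 0) = 2 := by omega
      obtain ⟨o, ho, h6, hn', h0'⟩ := exists_hexad (show lev v 2 ∈ dodecads from ⟨hsupp, e⟩)
        (a := none) (b := some 0) (by rw [mem_lev, vn]; rfl) (by rw [mem_lev, v0]; rfl) hnn
      obtain ⟨z1, z2, hz, hz'⟩ := Finset.card_eq_two.1 (show (o \ lev v 2).card = 2 by
        have := Finset.card_sdiff_add_card_inter o (lev v 2)
        rw [h6, card_of_mem_octads ho] at this
        omega)
      have hout : ∀ p, p = z1 ∨ p = z2 ↔ p ∈ o ∧ (v p).natAbs ≠ 2 := fun p => by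
        have : p ∈ o \ lev v 2 ↔ p = z1 ∨ p = z2 := by simp [hz']
        rw [← this, Finset.mem_sdiff, mem_lev]
      let base : GolayPt → ℤ := fun p => if p ∈ o then (if (v p).natAbs = 2 then v p else 2) else 0
      have hb2 : ∀ p, base p % 2 = 0 := fun p => by simp only [base]; split_ifs <;> omega
      have hbabs : ∀ p, (base p).natAbs = if p ∈ o then 2 else 0 := fun p => by
        simp only [base]; split_ifs <;> omega
      have hsum4 : ∀ y : GolayPt → ℤ, (∀ p, (y p).natAbs = if p ∈ o then 2 else 0) → (∑ p, y p) % 4 = 0 := fun y hy => by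
        rw [Finset.sum_int_mod, Finset.sum_congr rfl (g := fun p => if p ∈ o then (2 : ℤ) else 0) fun p _ => by
          have := hy p; split_ifs at this ⊢ <;> omega, Fintype.sum_ite_mem, Finset.sum_const, card_of_mem_octads ho]
        norm_num
      have hmem : ∀ y : GolayPt → ℤ, (∀ p, (y p).natAbs = if p ∈ o then 2 else 0) → (∑ p, y p) % 8 = 0 →
          y ∈ leechLattice ∧ sqNorm y = 32 := fun y hy hs => by
        refine ⟨mem_lattice.2 ⟨0, Or.inl rfl, fun p => ?_, by omega, ?_⟩, ?_⟩
        · have := hy p; split_ifs at this <;> omega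
        · convert code_wordOf ho.1 using 1
          funext p
          have := hy p
          by_cases hp : p ∈ o
          · rw [if_pos hp] at this
            simp only [wordOf, hp, if_true]
            exact (cast2_eq (b := 1) (show y p / 2 % 2 = 1 % 2 by omega)).trans Int.cast_one
          · rw [if_neg hp] at this
            simp only [wordOf, hp, if_false]
            exact (cast2_eq (b := 0) (show y p / 2 % 2 = 0 % 2 by omega)).trans Int.cast_zero
        · rw [sqNorm, Finset.sum_congr rfl (g := fun p => if p ∈ o then (4 : ℤ) else 0) fun p _ => by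
            have := hy p
            split_ifs at this ⊢
            · rcases Int.natAbs_eq_iff.1 this with e | e <;> rw [e] <;> rfl
            · rw [Int.natAbs_eq_zero.1 this]; rfl, Fintype.sum_ite_mem, Finset.sum_const, card_of_mem_octads ho]
          norm_num
      have hz1 := (hout z1).1 (Or.inl rfl)
      obtain ⟨y, hyabs, hy8, hysame⟩ : ∃ y : GolayPt → ℤ, (∀ p, (y p).natAbs = if p ∈ o then 2 else 0) ∧
          (∑ p, y p) % 8 = 0 ∧ ∀ p, (v p).natAbs = 2 → y p = base p := by
        have h4 := hsum4 base hbabs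
        by_cases h8 : (∑ p, base p) % 8 = 0
        · exact ⟨base, hbabs, h8, fun _ _ => rfl⟩
        · refine ⟨Function.update base z1 (-2), fun p => ?_, ?_, fun p hp => Function.update_of_ne ?_ _ _⟩
          · by_cases hp : p = z1
            · subst hp; simp [hz1.1]
            · rw [Function.update_of_ne hp]; exact hbabs p
          · rw [Finset.sum_update_of_mem (Finset.mem_univ z1)]
            have hs := Finset.sum_sdiff (f := base) (Finset.subset_univ ({z1} : Finset GolayPt))
            rw [Finset.sum_singleton, show base z1 = 2 by simp only [base]; rw [if_pos hz1.1, if_neg hz1.2]] at hs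
            omega
          · rintro rfl
            exact hz1.2 hp
      obtain ⟨hyL, hyn⟩ := hmem y hyabs hy8
      refine ⟨y, hyL, hyn, ?_, ?_⟩
      · rw [dotInt, Finset.sum_congr rfl (g := fun p => if p ∈ o ∩ lev v 2 then (4 : ℤ) else 0) fun p _ => ?_,
          Fintype.sum_ite_mem, Finset.sum_const, h6]
        · norm_num
        · simp only [Finset.mem_inter, mem_lev]
          by_cases h2 : (v p).natAbs = 2
          · rw [hysame p h2]
            simp only [base, h2, if_true, and_true]
            split_ifs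
            · rcases Int.natAbs_eq_iff.1 h2 with e | e <;> rw [e] <;> rfl
            · exact mul_zero _
          · rw [Int.natAbs_eq_zero.1 ((hval p).resolve_right h2)]
            simp [h2]
      · rw [dot_repPair, hysame none (by rw [vn]; rfl), hysame (some 0) (by rw [v0]; rfl)]
        simp [base, hn', h0', vn, v0]
  · obtain ⟨hv', hc⟩ := odd_counts hpar hn (by omega)
    simp only [List.mem_cons, List.not_mem_nil, or_false] at hv'
    have n7 := not_lev (show (lev v 7).card = 0 by omega)
    have := hv' none; have := hv' (some 0); have := n7 none; have := n7 (some 0)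
    rcases eq_or_ne (lev v 5).card 0 with h5 | h5
    · have n5 := not_lev h5
      have := n5 none; have := n5 (some 0)
      have h3 : ∀ p, p ∈ lev v 3 ↔ (v p).natAbs = 3 := fun p => mem_lev
      obtain ⟨a, ha, hva, hoth⟩ : ∃ a : GolayPt, (a = none ∨ a = some 0) ∧ v a = 3 ∧
          ∀ p, (p = none ∨ p = some 0) → p ≠ a → (v p).natAbs ≠ 3 := by
        rcases (show v none = 3 ∧ v (some 0) = 1 ∨ v none = 1 ∧ v (some 0) = 3 by omega) with ⟨r, r'⟩ | ⟨r, r'⟩
        · exact ⟨none, Or.inl rfl, r, fun p hp hne => by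
            rcases hp with rfl | rfl
            · exact absurd rfl hne
            · rw [r']; decide⟩
        · exact ⟨some 0, Or.inr rfl, r', fun p hp hne => by
            rcases hp with rfl | rfl
            · rw [r]; decide
            · exact absurd rfl hne⟩
      obtain ⟨q, hq, hqa⟩ := Finset.exists_mem_ne (s := lev v 3) (by omega) a
      rw [mem_lev] at hq
      refine pairCase hqa.symm ha (fun h => hoth q h hqa hq) ?_
      rw [hva, Int.abs_eq_natAbs, hq]; rfl
    · have h3 := not_lev (show (lev v 3).card = 0 by omega)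
      have := h3 none; have := h3 (some 0)
      have hone : (lev v 5).card = 1 := by omega
      obtain ⟨a, ha, hva⟩ : ∃ a : GolayPt, (a = none ∨ a = some 0) ∧ v a = 5 := by
        rcases (show v none = 5 ∨ v (some 0) = 5 by omega) with r | r
        · exact ⟨none, Or.inl rfl, r⟩
        · exact ⟨some 0, Or.inr rfl, r⟩
      obtain ⟨q, hq⟩ : ∃ q, q ∉ ({none, some 0} : Finset GolayPt) := ⟨some 1, by decide +kernel⟩
      simp only [Finset.mem_insert, Finset.mem_singleton] at hq
      have hqa : q ≠ a := fun e => hq (e ▸ ha)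
      refine pairCase hqa.symm ha hq ?_
      have h5q : (v q).natAbs ≠ 5 := fun h => by
        obtain ⟨z, hz⟩ := Finset.card_eq_one.1 hone
        have a1 : q ∈ lev v 5 := mem_lev.2 h
        have a2 : a ∈ lev v 5 := mem_lev.2 (by rw [hva]; rfl)
        rw [hz, Finset.mem_singleton] at a1 a2
        exact hqa (a1.trans a2.symm)
      have := hv' q; have := n7 q; have := h3 q
      rw [hva, Int.abs_eq_natAbs]
      omega

/-- The companion of the standard minimal vector orthogonal to it. -/
def repAnti : List ℤ := (List.range 24).map fun i => if i = 23 then 4 else if i = 0 then -4 else 0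

theorem anti_ok : inLeech (vecOf repAnti) = true ∧
    (∀ p, vecOf repAnti p = if p = none then 4 else if p = some 0 then -4 else 0) := by decide +kernel

theorem exists_b13 : ∃ b ∈ leechLattice, sqNorm b = 32 ∧ b none = 1 ∧ b (some 0) = 3 := by
  have h : ∃ m ∈ codeList, m.testBit 0 = true ∧ m.testBit 23 = false := by decide +kernel
  obtain ⟨m, hm, h0, h23⟩ := h
  obtain ⟨hc, hlt⟩ := mem_codeList.1 hm
  let r : List ℤ := (List.range 24).map fun i => if i = 0 then -3 else 1
  have hr : inLeech (vecOf r) = true ∧ (∀ p, (vecOf r p) ^ 2 = if p = some 0 then 9 else 1) := by decide +kernel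
  refine ⟨flip (toSet m) (vecOf r), flip_mem (toSet_mem hc hlt) (inLeech_spec hr.1), ?_, ?_, ?_⟩
  · rw [sqNorm_flip, sqNorm, Finset.sum_congr rfl fun p _ => hr.2 p]; decide +kernel
  · have hidx : (idx (none : GolayPt)).val = 23 := rfl
    simp only [flip, mem_toSet, hidx, h23, Bool.false_eq_true, if_false]
    decide +kernel
  · have hidx : (idx (some 0 : GolayPt)).val = 0 := by decide +kernel
    simp only [flip, mem_toSet, hidx, h0, if_true]
    decide +kernel

/-- All chains of a minimal vector, an orthogonal one, and a summand form one orbit. -/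
theorem transitive_triple {x a b x' a' b' : leechLattice}
    (hx : sqNorm x.1 = 32) (ha : sqNorm a.1 = 32) (hb : sqNorm b.1 = 32)
    (hxa : dotInt x.1 a.1 = 0) (hxb : dotInt x.1 b.1 = 16) (hab : dotInt a.1 b.1 = -8)
    (hx' : sqNorm x'.1 = 32) (ha' : sqNorm a'.1 = 32) (hb' : sqNorm b'.1 = 32)
    (hxa' : dotInt x'.1 a'.1 = 0) (hxb' : dotInt x'.1 b'.1 = 16) (hab' : dotInt a'.1 b'.1 = -8) :
    ∃ g : Co0, g • x = x' ∧ g • a = a' ∧ g • b = b' := by
  obtain ⟨b0, hb0, hb0n, b0n, b00⟩ := exists_b13
  have hv32 : sqNorm vStd.1 = 32 := by show sqNorm (vecOf repPair) = 32; simp only [sqNorm, repPair_eq]; decide +kernel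
  let aStd : leechLattice := ⟨_, inLeech_spec anti_ok.1⟩
  have ha32 : sqNorm aStd.1 = 32 := by show sqNorm (vecOf repAnti) = 32; simp only [sqNorm, anti_ok.2]; decide +kernel
  have hdot : ∀ y : GolayPt → ℤ, dotInt (vecOf repAnti) y = 4 * y none - 4 * y (some 0) := fun y => by
    rw [dotInt, ← Finset.sum_subset (Finset.subset_univ ({none, some 0} : Finset GolayPt)) fun p _ hp => ?_]
    · rw [Finset.sum_pair (by simp), anti_ok.2, anti_ok.2, if_pos rfl, if_neg (by simp), if_pos rfl]; ring
    · simp only [Finset.mem_insert, Finset.mem_singleton, not_or] at hp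
      rw [anti_ok.2, if_neg hp.1, if_neg hp.2, zero_mul]
  have h0 : dotInt vStd.1 aStd.1 = 0 := by
    show dotInt (vecOf repPair) (vecOf repAnti) = 0
    rw [dot_repPair, anti_ok.2, anti_ok.2, if_pos rfl, if_neg (by simp), if_pos rfl]; rfl
  have key : ∀ {p q r : leechLattice}, sqNorm p.1 = 32 → sqNorm q.1 = 32 → sqNorm r.1 = 32 →
      dotInt p.1 q.1 = 0 → dotInt p.1 r.1 = 16 → dotInt q.1 r.1 = -8 →
      ∃ g : Co0, g • p = vStd ∧ g • q = aStd ∧ g • r = ⟨b0, hb0⟩ := by
    intro p q r hp hq hr hpq hpr hqr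
    obtain ⟨g, g1, g2⟩ := transitive_orth hp hq hpq hv32 ha32 h0
    set y := (g • r).1 with hy
    have d1 : dotInt (vecOf repPair) y = 16 := by rw [show vecOf repPair = vStd.1 from rfl, ← g1, hy, dot_smul, hpr]
    have d2 : dotInt (vecOf repAnti) y = -8 := by rw [show vecOf repAnti = aStd.1 from rfl, ← g2, hy, dot_smul, hqr]
    rw [dot_repPair] at d1
    rw [hdot] at d2
    have yn : y none = 1 := by omega
    have y0 : y (some 0) = 3 := by omega
    have hyn : sqNorm y = 32 := (norm_smul g r).trans hr
    have hodd : ∀ {z : GolayPt → ℤ}, z ∈ leechLattice → sqNorm z = 32 → z none = 1 → z (some 0) = 3 →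
        (∀ p, z p % 2 = 1) ∧ ∀ p, (z p).natAbs = if p = some 0 then 3 else 1 := by
      intro z hz hzn zn z0
      obtain ⟨m, hm, hpar, -, -⟩ := mem_lattice.1 hz
      have hm1 : m = 1 := by have := hpar none; omega
      subst hm1
      obtain ⟨hv', hc⟩ := odd_counts hpar hzn (by omega)
      simp only [List.mem_cons, List.not_mem_nil, or_false] at hv'
      refine ⟨hpar, fun p => ?_⟩
      split_ifs with hp
      · rw [hp, z0]; rfl
      · have := hv' p
        have := not_lev (show (lev z 5).card = 0 by omega) p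
        have := not_lev (show (lev z 7).card = 0 by omega) p
        by_contra hne
        obtain ⟨w, hw⟩ := Finset.card_eq_one.1 (show (lev z 3).card = 1 by omega)
        have a1 : p ∈ lev z 3 := mem_lev.2 (by omega)
        have a2 : (some 0 : GolayPt) ∈ lev z 3 := mem_lev.2 (by rw [z0]; rfl)
        rw [hw, Finset.mem_singleton] at a1 a2
        exact hp (a1.trans a2.symm)
    obtain ⟨ho, habs⟩ := hodd (g • r).2 hyn yn y0
    obtain ⟨ho', habs'⟩ := hodd hb0 hb0n b0n b00
    obtain ⟨-, -, -, -, hcy⟩ := mem_lattice.1 (g • r).2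
    obtain ⟨-, -, -, -, hcr⟩ := mem_lattice.1 hb0
    set c := symmDiff (support₂ (half y)) (support₂ (half b0)) with hcdef
    have hc : c ∈ supports (golayCode : Set (GolayPt → ZMod 2)) := by
      rw [mem_supports_iff, mask_symmDiff]
      exact inCode_xor (mem_supports_iff.1 (support_mem hcy)) (mem_supports_iff.1 (support_mem hcr))
    have hm : ∀ p, p ∈ c ↔ ¬ ((y p / 2) % 2 = 1 ↔ (b0 p / 2) % 2 = 1) := fun p => by
      rw [hcdef, Finset.mem_symmDiff, mem_support_half, mem_support_half]; tauto
    have hcn : (none : GolayPt) ∉ c := by rw [hm, yn, b0n]; simp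
    have hc0 : (some 0 : GolayPt) ∉ c := by rw [hm, y0, b00]; simp
    have happ : ∀ z : leechLattice, (mono (one_mem M24) hc • z).1 = flip c z.1 := fun z => funext fun p => by
      rw [show (mono (one_mem M24) hc • z).1 p = signedPerm 1 c z.1 p from rfl]
      simp [signedPerm, flip, perm_one_symm]
    have hzero : ∀ p ∈ c, vecOf repPair p = 0 ∧ vecOf repAnti p = 0 := fun p hp => by
      have h1 : p ≠ none := fun e => hcn (e ▸ hp)
      have h2 : p ≠ some 0 := fun e => hc0 (e ▸ hp)
      rw [repPair_eq, anti_ok.2, if_neg (not_or.2 ⟨h1, h2⟩), if_neg h1, if_neg h2]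
      exact ⟨rfl, rfl⟩
    refine ⟨mono (one_mem M24) hc * g, ?_, ?_, ?_⟩ <;> rw [mul_smul]
    · rw [g1]
      refine Subtype.ext ((happ _).trans (funext fun p => ?_))
      show flip c (vecOf repPair) p = vecOf repPair p
      by_cases hp : p ∈ c <;> simp [flip, hp]
      rw [(hzero p hp).1]; rfl
    · rw [g2]
      refine Subtype.ext ((happ _).trans (funext fun p => ?_))
      show flip c (vecOf repAnti) p = vecOf repAnti p
      by_cases hp : p ∈ c <;> simp [flip, hp]
      rw [(hzero p hp).2]; rfl
    · refine Subtype.ext ((happ _).trans (funext fun p => ?_))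
      show flip c y p = b0 p
      have hab2 : (y p).natAbs = (b0 p).natAbs := (habs p).trans (habs' p).symm
      have hyo : y p % 2 = 1 := ho p
      have hbo := ho' p
      by_cases hp : p ∈ c
      · simp only [flip, hp, if_true]; have := (hm p).1 hp; omega
      · simp only [flip, hp, if_false]; have := mt (hm p).2 hp; omega
  obtain ⟨g, g1, g2, g3⟩ := key hx ha hb hxa hxb hab
  obtain ⟨g', g1', g2', g3'⟩ := key hx' ha' hb' hxa' hxb' hab'
  refine ⟨g'⁻¹ * g, ?_, ?_, ?_⟩ <;> rw [mul_smul, inv_smul_eq_iff]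
  · exact g1.trans g1'.symm
  · exact g2.trans g2'.symm
  · exact g3.trans g3'.symm

theorem sum_pair48 {v w : leechLattice} (hv : sqNorm v.1 = 48) (hw : sqNorm w.1 = 48)
    (hvw : dotInt v.1 w.1 = -32) : sqNorm (v + w).1 = 32 ∧ dotInt v.1 (v + w).1 = 16 := by
  refine ⟨by rw [AddSubgroup.coe_add, sqNorm_add]; omega, ?_⟩
  have : dotInt v.1 (v + w).1 = dotInt v.1 v.1 + dotInt v.1 w.1 := by
    simp only [dotInt, AddSubgroup.coe_add, Pi.add_apply, mul_add, Finset.sum_add_distrib]
  rw [this, dot_self]
  omega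

theorem exists_chain {x v : leechLattice} (hx : sqNorm x.1 = 32) (hv : sqNorm v.1 = 48)
    (hd : dotInt x.1 v.1 = 16) : ∃ a b : leechLattice, sqNorm a.1 = 32 ∧ sqNorm b.1 = 32 ∧
      dotInt x.1 a.1 = 0 ∧ dotInt x.1 b.1 = 16 ∧ dotInt a.1 b.1 = -8 ∧ v = a + b := by
  obtain ⟨g, hg⟩ := transitive32 (v := x) (w := vStd) hx
    (show sqNorm (vecOf repPair) = 32 by simp only [sqNorm, repPair_eq]; decide +kernel)
  obtain ⟨b', hb', hbn, hvb, hxb⟩ := exists_summand16 (g • v).2 ((norm_smul g v).trans hv)
    (by rw [show vecOf repPair = vStd.1 from rfl, ← hg, dot_smul]; exact hd)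
  set b : leechLattice := g⁻¹ • ⟨b', hb'⟩ with hb
  have e : g • b = ⟨b', hb'⟩ := smul_inv_smul g _
  have nb : sqNorm b.1 = 32 := by rw [← norm_smul g, e]; exact hbn
  have dvb : dotInt v.1 b.1 = 24 := by rw [← dot_smul g, e]; exact hvb
  have dxb : dotInt x.1 b.1 = 16 := by rw [← dot_smul g, e, hg]; exact hxb
  refine ⟨v - b, b, by rw [AddSubgroup.coe_sub, sqNorm_sub]; omega, nb, ?_, dxb, ?_, (sub_add_cancel v b).symm⟩
  · have : dotInt x.1 (v - b).1 = dotInt x.1 v.1 - dotInt x.1 b.1 := by
      simp only [dotInt, AddSubgroup.coe_sub, Pi.sub_apply, mul_sub, Finset.sum_sub_distrib]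
    omega
  · have : dotInt (v - b).1 b.1 = dotInt v.1 b.1 - dotInt b.1 b.1 := by
      simp only [dotInt, AddSubgroup.coe_sub, Pi.sub_apply, sub_mul, Finset.sum_sub_distrib]
    rw [this, dot_self]
    omega

/-- All pairs of a minimal vector and a longer one of inner product sixteen form one orbit. -/
theorem transitive_dot48 {x v x' v' : leechLattice} (hx : sqNorm x.1 = 32) (hv : sqNorm v.1 = 48)
    (hd : dotInt x.1 v.1 = 16) (hx' : sqNorm x'.1 = 32) (hv' : sqNorm v'.1 = 48)
    (hd' : dotInt x'.1 v'.1 = 16) : ∃ g : Co0, g • x = x' ∧ g • v = v' := by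
  obtain ⟨a, b, ha, hb, h1, h2, h3, e⟩ := exists_chain hx hv hd
  obtain ⟨a', b', ha', hb', h1', h2', h3', e'⟩ := exists_chain hx' hv' hd'
  obtain ⟨g, g1, g2, g3⟩ := transitive_triple hx ha hb h1 h2 h3 hx' ha' hb' h1' h2' h3'
  exact ⟨g, g1, by rw [e, e', smul_add', g2, g3]⟩

theorem exchange48 {v w : leechLattice} (hv : sqNorm v.1 = 48) (hw : sqNorm w.1 = 48)
    (hvw : dotInt v.1 w.1 = -32) : ∃ g : Co0, g • v = w ∧ g • w = v := by
  obtain ⟨n1, d1⟩ := sum_pair48 hv hw hvw
  obtain ⟨n2, d2⟩ := sum_pair48 hw hv (by rw [dotInt_comm']; exact hvw)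
  obtain ⟨g, g1, g2⟩ := transitive_dot48 n1 hv (by rw [dotInt_comm']; exact d1) n2 hw (by rw [dotInt_comm']; exact d2)
  refine ⟨g, g2, ?_⟩
  rw [smul_add', g2, add_comm w v] at g1
  exact (add_right_injective w) (g1.trans (add_comm v w))

end CfsgLib.Leech
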