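/-
The fourth moment of the minimal vectors, the census at a longer vector, and the hundred common summands.
-/
import Cfsg.Agent.Leech.Triples
import Cfsg.Agent.Leech.Decomp
import Cfsg.Agent.Leech.Xi

set_option autoImplicit false

namespace CfsgLib.Leech

open Cfsg CfsgLib.Golay
open scoped Pointwise

/-- The minimal vectors as a finite set. -/
noncomputable def minF : Finset (GolayPt → ℤ) := ncard_32.2.toFinset

theorem mem_minF {x : GolayPt → ℤ} : x ∈ minF ↔ x ∈ leechLattice ∧ sqNorm x = 32 := ncard_32.2.mem_toFinset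

theorem card_minF : minF.card = 196560 := by
  rw [minF, ← Set.ncard_eq_toFinset_card _ ncard_32.2, ncard_32.1]

theorem sum_smul_minF (g : Co0) (F : (GolayPt → ℤ) → ℤ) :
    ∑ w ∈ minF, F w = ∑ w ∈ minF.attach, F (g • (⟨w.1, (mem_minF.1 w.2).1⟩ : leechLattice)).1 := by
  classical
  symm
  refine Finset.sum_bij (fun w _ => (g • (⟨w.1, (mem_minF.1 w.2).1⟩ : leechLattice)).1) (fun w _ => ?_)
    (fun a _ b _ h => ?_) (fun b hb => ?_) (fun _ _ => rfl)
  · exact mem_minF.2 ⟨Subtype.prop _, (norm_smul g _).trans (mem_minF.1 w.2).2⟩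
  · have e : (⟨a.1, (mem_minF.1 a.2).1⟩ : leechLattice) = ⟨b.1, (mem_minF.1 b.2).1⟩ :=
      MulAction.injective g (Subtype.ext h)
    exact Subtype.ext (congrArg (fun z : leechLattice => z.1) e)
  · obtain ⟨hbL, hbn⟩ := mem_minF.1 hb
    let w : leechLattice := g⁻¹ • ⟨b, hbL⟩
    exact ⟨⟨w.1, mem_minF.2 ⟨w.2, (norm_smul _ _).trans hbn⟩⟩, Finset.mem_attach _ _,
      congrArg Subtype.val (smul_inv_smul g _)⟩

/-- A sum over the minimal vectors of a function of the inner product is invariant. -/
theorem sum_dot_invariant (g : Co0) (v : leechLattice) (F : ℤ → ℤ) :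
    ∑ w ∈ minF, F (dotInt (g • v).1 w) = ∑ w ∈ minF, F (dotInt v.1 w) := by
  rw [sum_smul_minF g fun w => F (dotInt (g • v).1 w), ← Finset.sum_attach minF fun w => F (dotInt v.1 w)]
  exact Finset.sum_congr rfl fun w _ => by
    show F (dotInt (g • v).1 (g • (⟨w.1, _⟩ : leechLattice)).1) = _
    rw [dot_smul]

theorem quad_product_zero {i j k l : GolayPt} (hi : i ∉ ({j, k, l} : Finset GolayPt)) :
    ∑ w ∈ minF, w i * w j * w k * w l = 0 := by
  obtain ⟨c, hc, hodd⟩ : ∃ c ∈ supports (golayCode : Set (GolayPt → ZMod 2)),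
      ∀ w : GolayPt → ℤ, flip c w i * flip c w j * flip c w k * flip c w l = -(w i * w j * w k * w l) := by
    simp only [Finset.mem_insert, Finset.mem_singleton, not_or] at hi
    obtain ⟨hij, hik, hil⟩ := hi
    obtain ⟨p, hp, q, r, s, hq, hr, hs, hqr, hqs, hrs⟩ : ∃ p, p ∈ DodStab.D ∧ ∃ q r s, q ∉ DodStab.D ∧
        r ∉ DodStab.D ∧ s ∉ DodStab.D ∧ q ≠ r ∧ q ≠ s ∧ r ≠ s :=
      ⟨some 0, by decide +kernel, ptN 23, ptN 22, ptN 21, by decide +kernel, by decide +kernel, by decide +kernel,
        by decide +kernel, by decide +kernel, by decide +kernel⟩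
    obtain ⟨c, hc, h1, h2, h3, h4⟩ : ∃ c ∈ supports (golayCode : Set (GolayPt → ZMod 2)),
        i ∈ c ∧ j ∉ c ∧ k ∉ c ∧ l ∉ c := by
      have key : ∀ t : Finset GolayPt, t.card ≤ 3 → i ∉ t →
          ∃ c ∈ supports (golayCode : Set (GolayPt → ZMod 2)), i ∈ c ∧ Disjoint t c := by
        intro t ht hit
        let n := t.card
        let x : Fin (n + 1) → GolayPt := Fin.cons p (fun a => ![q, r, s] (Fin.castLE ht a))
        let y : Fin (n + 1) → GolayPt := Fin.cons i (fun a => ((t.equivFin).symm a).1)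
        have hout : ∀ a : Fin 3, ![q, r, s] a ∉ DodStab.D := fun a => by fin_cases a <;> assumption
        have hxi : Function.Injective x := Fin.cons_injective_iff.2 ⟨by
            rintro ⟨a, e⟩; exact hout _ (by rw [show ![q, r, s] (Fin.castLE ht a) = p from e]; exact hp),
          (inj3 hqr hqs hrs).comp (Fin.castLE_injective ht)⟩
        have hyi : Function.Injective y := Fin.cons_injective_iff.2 ⟨by
            rintro ⟨a, e⟩; exact hit (by rw [← show ((t.equivFin).symm a).1 = i from e]; exact Subtype.prop _),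
          Subtype.val_injective.comp t.equivFin.symm.injective⟩
        obtain ⟨σ, hσ, e⟩ := exists_map_tuple (n := n + 1) (by omega) x y hxi hyi
        have e0 : σ p = i := e 0
        refine ⟨σ • DodStab.D, (smul_mem_dodecads hσ DodStab.D_mem).1, e0 ▸ Finset.smul_mem_smul_finset (a := σ) hp,
          Finset.disjoint_left.2 fun u hu hu' => ?_⟩
        have he := e (Fin.succ (t.equivFin ⟨u, hu⟩))
        simp only [x, y, Fin.cons_succ, Equiv.symm_apply_apply] at he
        rw [← he] at hu'
        exact hout _ ((Finset.smul_mem_smul_finset_iff (a := σ)).1 hu')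
      obtain ⟨c, hc, hic, hd⟩ := key {j, k, l} Finset.card_le_three (by simp [hij, hik, hil])
      exact ⟨c, hc, hic, Finset.disjoint_left.1 hd (by simp), Finset.disjoint_left.1 hd (by simp),
        Finset.disjoint_left.1 hd (by simp)⟩
    exact ⟨c, hc, fun w => by simp [flip, h1, h2, h3, h4]⟩
  have h := Finset.sum_nbij' (s := minF) (t := minF) (f := fun w => w i * w j * w k * w l)
    (g := fun w => -(w i * w j * w k * w l)) (flip c) (flip c)
    (fun w hw => mem_minF.2 ⟨flip_mem hc (mem_minF.1 hw).1, (sqNorm_flip c w).trans (mem_minF.1 hw).2⟩)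
    (fun w hw => mem_minF.2 ⟨flip_mem hc (mem_minF.1 hw).1, (sqNorm_flip c w).trans (mem_minF.1 hw).2⟩)
    (fun w _ => flip_flip c w) (fun w _ => flip_flip c w) (fun w _ => by rw [hodd, neg_neg])
  rw [Finset.sum_neg_distrib] at h
  omega

theorem quartic_orbit {σ : Equiv.Perm GolayPt} (hσ : σ ∈ M24) (i j : GolayPt) :
    ∑ w ∈ minF, w (σ i) ^ 2 * w (σ j) ^ 2 = ∑ w ∈ minF, w i ^ 2 * w j ^ 2 := by
  refine Finset.sum_nbij' (fun w => fun p => w (σ p)) (fun w => fun p => w (σ.symm p)) (fun w hw => ?_)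
    (fun w hw => ?_) (fun w _ => by funext p; simp) (fun w _ => by funext p; simp) (fun w _ => rfl)
  · exact mem_minF.2 ⟨comp_mem hσ (mem_minF.1 hw).1, (Equiv.sum_comp σ fun p => w p ^ 2).trans (mem_minF.1 hw).2⟩
  · exact mem_minF.2 ⟨comp_mem (σ := σ⁻¹) (inv_mem hσ) (mem_minF.1 hw).1,
      (Equiv.sum_comp σ.symm fun p => w p ^ 2).trans (mem_minF.1 hw).2⟩

theorem pow4_sum (v w : GolayPt → ℤ) : dotInt v w ^ 4 =
    ∑ i, ∑ j, ∑ k, ∑ l, v i * v j * v k * v l * (w i * w j * w k * w l) := by
  rw [dotInt, show ∀ a : ℤ, a ^ 4 = a * (a * (a * a)) from fun a => by ring, Finset.sum_mul]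
  refine Finset.sum_congr rfl fun i _ => ?_
  rw [Finset.sum_mul, Finset.mul_sum]
  refine Finset.sum_congr rfl fun j _ => ?_
  rw [Finset.sum_mul, Finset.mul_sum, Finset.mul_sum]
  refine Finset.sum_congr rfl fun k _ => ?_
  rw [Finset.mul_sum, Finset.mul_sum, Finset.mul_sum]
  exact Finset.sum_congr rfl fun l _ => by ring

theorem fourth_general (v : GolayPt → ℤ) : ∃ A B : ℤ,
    (∀ i, ∑ w ∈ minF, w i ^ 4 = A) ∧ 24 * A + 552 * B = 201277440 ∧
    ∑ w ∈ minF, dotInt v w ^ 4 = (A - 3 * B) * ∑ i, v i ^ 4 + 3 * B * sqNorm v ^ 2 ∧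
    (∀ u : GolayPt → ℤ, ∑ w ∈ minF, dotInt u w ^ 4 = (A - 3 * B) * ∑ i, u i ^ 4 + 3 * B * sqNorm u ^ 2) := by
  set A := ∑ w ∈ minF, w none ^ 4
  set B := ∑ w ∈ minF, w none ^ 2 * w (some 0) ^ 2
  have hA : ∀ i, ∑ w ∈ minF, w i ^ 4 = A := fun i => by
    obtain ⟨σ, hσ, e⟩ := exists_map_tuple (n := 1) (by omega) (fun _ => none) (fun _ => i)
      (fun _ _ _ => Subsingleton.elim _ _) (fun _ _ _ => Subsingleton.elim _ _)
    have h := quartic_orbit hσ none none
    rw [e 0] at h
    simpa only [← pow_add, show (2 : ℕ) + 2 = 4 from rfl] using h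
  have hB : ∀ i j, i ≠ j → ∑ w ∈ minF, w i ^ 2 * w j ^ 2 = B := fun i j hij => by
    obtain ⟨σ, hσ, e⟩ := exists_map_tuple (n := 2) (by omega) ![none, some 0] ![i, j]
      (by intro a b h; fin_cases a <;> fin_cases b <;> simp_all)
      (by intro a b h; fin_cases a <;> fin_cases b <;> simp_all)
    have h := quartic_orbit hσ none (some 0)
    rwa [show σ none = i from e 0, show σ (some 0) = j from e 1] at h
  have hsum : 24 * A + 552 * B = 201277440 := by
    have e : ∀ i, ∑ j, ∑ w ∈ minF, w i ^ 2 * w j ^ 2 = A + 23 * B := fun i => by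
      rw [← Finset.add_sum_erase _ _ (Finset.mem_univ i),
        Finset.sum_congr rfl (g := fun _ => B) fun j hj => hB i j (Finset.ne_of_mem_erase hj).symm,
        Finset.sum_const, Finset.card_erase_of_mem (Finset.mem_univ i), Finset.card_univ, card_pt, ← hA i,
        Finset.sum_congr rfl fun w _ => show w i ^ 2 * w i ^ 2 = w i ^ 4 by ring]
      simp
    have t : ∑ i, ∑ j, ∑ w ∈ minF, w i ^ 2 * w j ^ 2 = 201277440 := by
      conv_lhs => arg 2; ext i; rw [Finset.sum_comm]
      rw [Finset.sum_comm,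
        Finset.sum_congr rfl (g := fun _ => (1024 : ℤ)) fun w hw => ?_, Finset.sum_const, card_minF]
      · norm_num
      · rw [← Finset.sum_mul_sum, show ∑ i, w i ^ 2 = 32 from (mem_minF.1 hw).2]
        norm_num
    rw [← t, Finset.sum_congr rfl fun i _ => e i, Finset.sum_const, Finset.card_univ, card_pt]
    simp
    ring
  clear_value A B
  have hgen : ∀ u : GolayPt → ℤ, ∑ w ∈ minF, dotInt u w ^ 4 = (A - 3 * B) * ∑ i, u i ^ 4 + 3 * B * sqNorm u ^ 2 := by
    intro u
    let T : GolayPt → GolayPt → GolayPt → GolayPt → ℤ := fun i j k l => ∑ w ∈ minF, w i * w j * w k * w l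
    have hT : ∀ i j k l, T i j k l =
        (if i = j ∧ j = k ∧ k = l then A - 3 * B else 0) +
          ((if i = j ∧ k = l then B else 0) + (if i = k ∧ j = l then B else 0) + (if i = l ∧ j = k then B else 0)) := by
      intro i j k l
      have z : ∀ a b c d : GolayPt, a ≠ b → a ≠ c → a ≠ d → T a b c d = 0 := fun a b c d h1 h2 h3 =>
        quad_product_zero (by simp [h1, h2, h3])
      have sq : ∀ a b, a ≠ b → T a a b b = B := fun a b h => by
        rw [← hB a b h]; exact Finset.sum_congr rfl fun w _ => by ring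
      have p1 : ∀ a b c d, T a b c d = T b a c d := fun a b c d => Finset.sum_congr rfl fun w _ => by ring
      have p2 : ∀ a b c d, T a b c d = T c b a d := fun a b c d => Finset.sum_congr rfl fun w _ => by ring
      have p3 : ∀ a b c d, T a b c d = T d b c a := fun a b c d => Finset.sum_congr rfl fun w _ => by ring
      by_cases hij : i = j
      · subst hij
        by_cases hkl : k = l
        · subst hkl
          by_cases hik : i = k
          · subst hik
            rw [show T i i i i = A from by rw [← hA i]; exact Finset.sum_congr rfl fun w _ => by ring]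
            simp; ring
          · rw [sq i k hik]; simp [hik]
        · by_cases hik : i = k
          · subst hik
            rw [p3, z l i i i (Ne.symm hkl) (Ne.symm hkl) (Ne.symm hkl)]
            simp [hkl]
          · by_cases hil : i = l
            · subst hil
              rw [p2, z k i i i (Ne.symm hik) (Ne.symm hik) (Ne.symm hik)]
              simp [hik, Ne.symm hik]
            · rw [p2, z k i i l (Ne.symm hik) (Ne.symm hik) hkl]
              simp [hik, hil, hkl]
      · by_cases hik : i = k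
        · subst hik
          by_cases hjl : j = l
          · subst hjl
            rw [show T i j i j = B from by rw [← hB i j hij]; exact Finset.sum_congr rfl fun w _ => by ring]
            simp [hij]
          · rw [p1, z j i i l (Ne.symm hij) (Ne.symm hij) hjl]
            simp [hij, hjl, Ne.symm hij]
        · by_cases hil : i = l
          · subst hil
            by_cases hjk : j = k
            · subst hjk
              rw [show T i j j i = B from by rw [← hB i j hij]; exact Finset.sum_congr rfl fun w _ => by ring]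
              simp [hij]
            · rw [p1, z j i k i (Ne.symm hij) hjk (Ne.symm hij)]
              simp [hij, hik, hjk]
          · rw [z i j k l hij hik hil]
            simp [hij, hik, hil]
    calc ∑ w ∈ minF, dotInt u w ^ 4 = ∑ i, ∑ j, ∑ k, ∑ l, u i * u j * u k * u l * T i j k l := by
          rw [Finset.sum_congr rfl fun w _ => pow4_sum u w, Finset.sum_comm]
          refine Finset.sum_congr rfl fun i _ => ?_
          rw [Finset.sum_comm]
          refine Finset.sum_congr rfl fun j _ => ?_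
          rw [Finset.sum_comm]
          refine Finset.sum_congr rfl fun k _ => ?_
          rw [Finset.sum_comm]
          exact Finset.sum_congr rfl fun l _ => (Finset.mul_sum _ _ _).symm
      _ = _ := by
          simp only [hT, mul_add, mul_ite, mul_zero, Finset.sum_add_distrib, ite_and, Finset.sum_ite_eq,
            Finset.sum_ite_eq', Finset.mem_univ, if_true, Finset.sum_ite_irrel, Finset.sum_const_zero]
          have e : sqNorm u ^ 2 = ∑ i, ∑ j, u i * u i * (u j * u j) := by
            rw [sqNorm, pow_two, Finset.sum_mul_sum]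
            exact Finset.sum_congr rfl fun i _ => Finset.sum_congr rfl fun j _ => by ring
          rw [e]
          simp only [Finset.mul_sum, ← Finset.sum_add_distrib]
          refine Finset.sum_congr rfl fun i _ => ?_
          congr 1
          · ring
          · exact Finset.sum_congr rfl fun j _ => by ring
  exact ⟨A, B, hA, hsum, hgen v, hgen⟩

/-- The fourth moment. -/
theorem fourth_moment (v : GolayPt → ℤ) :
    ∑ w ∈ minF, dotInt v w ^ 4 = 967680 * sqNorm v ^ 2 := by
  obtain ⟨A, B, -, hsum, hv, hgen⟩ := fourth_general v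
  have h1 := sum_dot_invariant xi (eight none) (fun d => d ^ 4)
  rw [hgen, hgen, norm_smul] at h1
  have e1 : ∑ i, (eight none).1 i ^ 4 = 4096 := by
    rw [Finset.sum_eq_single (none : GolayPt) (fun k _ hk => by simp [eight, hk]) (fun hk => absurd (Finset.mem_univ _) hk)]
    simp [eight]
  have e2 : ∑ i, (xi • eight none).1 i ^ 4 = 1024 := by
    have h : ∑ i, xiVal (Pi.single none 8) i ^ 4 = (1024 : ℤ) := by decide +kernel
    exact h
  rw [e1, e2] at h1
  have hA : A = 3 * B := by omega
  rw [hv, hA]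
  have : B = 322560 := by omega
  rw [this]
  ring

/-- The census of minimal vectors at a vector of sum of squares forty-eight. -/
theorem census48 {u : GolayPt → ℤ} (hu : u ∈ leechLattice) (hn : sqNorm u = 48) :
    (dotSet u 16).ncard = 11178 ∧ (dotSet u (-16)).ncard = 11178 := by
  classical
  let m : ℤ → ℕ := fun d => (minF.filter fun w => dotInt u w = d).card
  have hm : ∀ d, (dotSet u d).ncard = m d := fun d => by
    show _ = (minF.filter fun w => dotInt u w = d).card
    rw [← Set.ncard_coe_finset]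
    refine congrArg Set.ncard (Set.ext fun w => ?_)
    simp [dotSet, mem_minF, and_assoc]
  have hsym : ∀ d, m (-d) = m d := fun d => by
    refine Finset.card_nbij' (fun w => -w) (fun w => -w) ?_ ?_ (fun w _ => neg_neg w) (fun w _ => neg_neg w)
    all_goals
      intro w hw
      simp only [Finset.coe_filter, Set.mem_setOf_eq, mem_minF] at hw ⊢
      refine ⟨⟨neg_mem hw.1.1, (sqNorm_neg w).trans hw.1.2⟩, ?_⟩
      have : dotInt u (-w) = -dotInt u w := by simp [dotInt]
      omega
  have hval : ∀ w ∈ minF, dotInt u w ∈ ({24, -24, 16, -16, 8, -8, 0} : Finset ℤ) := fun w hw => by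
    obtain ⟨hwL, hwn⟩ := mem_minF.1 hw
    obtain ⟨k, hk⟩ := dot_dvd hu hwL
    have h1 := sqNorm_min (sub_mem hu hwL) (fun e => by
      rw [sub_eq_zero] at e; rw [e] at hn; omega)
    have h2 := sqNorm_min (add_mem hu hwL) (fun e => by
      rw [eq_neg_of_add_eq_zero_left e, sqNorm_neg] at hn; omega)
    rw [sqNorm_sub] at h1
    rw [sqNorm_add] at h2
    simp only [Finset.mem_insert, Finset.mem_singleton]
    omega
  have n24 : m 24 = 552 := by
    rw [← hm, ← summands_count hu hn]
    refine congrArg Set.ncard (Set.ext fun w => ?_)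
    simp only [dotSet, summands, Set.mem_setOf_eq, sqNorm_sub]
    exact ⟨fun ⟨a, b, c⟩ => ⟨a, b, by omega⟩, fun ⟨a, b, c⟩ => ⟨a, b, by omega⟩⟩
  have e2 : ∑ w ∈ minF, dotInt u w ^ 2 = 12579840 := by rw [minF, second_moment, hn]; norm_num
  have e4 : ∑ w ∈ minF, dotInt u w ^ 4 = 2229534720 := by rw [fourth_moment, hn]; norm_num
  rw [← Finset.sum_fiberwise_of_maps_to hval, Finset.sum_congr rfl (g := fun d : ℤ => (m d : ℤ) * d ^ 2)
    fun d _ => by
      rw [Finset.sum_congr rfl (g := fun _ => d ^ 2) fun w hw => by rw [(Finset.mem_filter.1 hw).2], Finset.sum_const,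
        nsmul_eq_mul]] at e2
  rw [← Finset.sum_fiberwise_of_maps_to hval, Finset.sum_congr rfl (g := fun d : ℤ => (m d : ℤ) * d ^ 4)
    fun d _ => by
      rw [Finset.sum_congr rfl (g := fun _ => d ^ 4) fun w hw => by rw [(Finset.mem_filter.1 hw).2], Finset.sum_const,
        nsmul_eq_mul]] at e4
  repeat rw [Finset.sum_insert (by decide)] at e2
  repeat rw [Finset.sum_insert (by decide)] at e4
  rw [Finset.sum_singleton] at e2 e4
  norm_num at e2 e4
  have a := hsym 24; have b := hsym 16; have c := hsym 8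
  rw [hm, hm]
  omega

/-- The common summands of a pair. -/
def hundred (v w : GolayPt → ℤ) : Set (GolayPt → ℤ) :=
  {x | x ∈ leechLattice ∧ sqNorm x = 32 ∧ dotInt v x = 24 ∧ dotInt w x = -24}

theorem hundred_spec {v w : leechLattice} {a : leechLattice} (hv : sqNorm v.1 = 48)
    (hvw : dotInt v.1 w.1 = -32) (ha : sqNorm a.1 = 32) (h1 : dotInt v.1 a.1 = 24) (h2 : dotInt w.1 a.1 = -24) :
    sqNorm (v - a).1 = 32 ∧ dotInt (v + w).1 a.1 = 0 ∧ dotInt (v + w).1 (v - a).1 = 16 ∧ dotInt a.1 (v - a).1 = -8 := by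
  simp only [AddSubgroup.coe_add, AddSubgroup.coe_sub]
  have e1 : dotInt (v.1 + w.1) a.1 = dotInt v.1 a.1 + dotInt w.1 a.1 := by
    simp only [dotInt, Pi.add_apply, add_mul, Finset.sum_add_distrib]
  have e2 : dotInt (v.1 + w.1) (v.1 - a.1) =
      dotInt v.1 v.1 + dotInt v.1 w.1 - dotInt v.1 a.1 - dotInt w.1 a.1 := by
    simp only [dotInt, Pi.add_apply, Pi.sub_apply, ← Finset.sum_add_distrib, ← Finset.sum_sub_distrib]
    exact Finset.sum_congr rfl fun i _ => by ring
  have e3 : dotInt a.1 (v.1 - a.1) = dotInt v.1 a.1 - dotInt a.1 a.1 := by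
    simp only [dotInt, Pi.sub_apply, ← Finset.sum_sub_distrib]
    exact Finset.sum_congr rfl fun i _ => by ring
  rw [dot_self] at e2 e3
  refine ⟨by rw [sqNorm_sub]; omega, by omega, by omega, by omega⟩

theorem hundred_transitive {v w a a' : leechLattice} (hv : sqNorm v.1 = 48) (hw : sqNorm w.1 = 48)
    (hvw : dotInt v.1 w.1 = -32) (ha : sqNorm a.1 = 32 ∧ dotInt v.1 a.1 = 24 ∧ dotInt w.1 a.1 = -24)
    (ha' : sqNorm a'.1 = 32 ∧ dotInt v.1 a'.1 = 24 ∧ dotInt w.1 a'.1 = -24) :
    ∃ g : Co0, g • v = v ∧ g • w = w ∧ g • a = a' := by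
  obtain ⟨n1, -⟩ := sum_pair48 hv hw hvw
  obtain ⟨p1, p2, p3, p4⟩ := hundred_spec hv hvw ha.1 ha.2.1 ha.2.2
  obtain ⟨q1, q2, q3, q4⟩ := hundred_spec hv hvw ha'.1 ha'.2.1 ha'.2.2
  obtain ⟨g, g1, g2, g3⟩ := transitive_triple n1 ha.1 p1 p2 p3 p4 n1 ha'.1 q1 q2 q3 q4
  have hv' : g • v = v := by
    have := congrArg₂ (· + ·) g3 g2
    simp only [← smul_add', sub_add_cancel] at this
    exact this
  exact ⟨g, hv', by rw [smul_add', hv'] at g1; exact add_left_cancel g1, g2⟩

theorem hundred_smul (g : Co0) (v w : leechLattice) :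
    (hundred v.1 w.1).ncard = (hundred (g • v).1 (g • w).1).ncard := by
  refine Set.ncard_congr (fun x hx => (g • (⟨x, hx.1⟩ : leechLattice)).1)
    (fun x hx => ⟨Subtype.prop _, (norm_smul g _).trans hx.2.1, (dot_smul g v ⟨x, hx.1⟩).trans hx.2.2.1,
      (dot_smul g w ⟨x, hx.1⟩).trans hx.2.2.2⟩)
    (fun a b ha hb h => congrArg Subtype.val (MulAction.injective g (Subtype.ext h : _ = g • (⟨b, hb.1⟩ : leechLattice))))
    fun b hb => ?_
  let x : leechLattice := g⁻¹ • ⟨b, hb.1⟩
  have e : g • x = ⟨b, hb.1⟩ := smul_inv_smul g _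
  refine ⟨x.1, ⟨x.2, (norm_smul _ _).trans hb.2.1, ?_, ?_⟩, congrArg Subtype.val e⟩
  · rw [← dot_smul g v x, e]; exact hb.2.2.1
  · rw [← dot_smul g w x, e]; exact hb.2.2.2

theorem hundred_count {v w : leechLattice} (hv : sqNorm v.1 = 48) (hw : sqNorm w.1 = 48)
    (hvw : dotInt v.1 w.1 = -32) : (hundred v.1 w.1).ncard = 100 := by
  classical
  obtain ⟨n1, d1⟩ := sum_pair48 hv hw hvw
  let X : Set ((GolayPt → ℤ) × (GolayPt → ℤ)) :=
    {p | p.1 ∈ {x : GolayPt → ℤ | x ∈ leechLattice ∧ sqNorm x = 48} ∧ p.2 ∈ dotSet p.1 16}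
  have hX := ncard_rel (X := {x : GolayPt → ℤ | x ∈ leechLattice ∧ sqNorm x = 48}) ncard_48.2 (fun u => dotSet u 16)
    11178 (fun u _ => dotSet_finite u _) fun u hu => (census48 hu.1 hu.2).1
  have hXfin : X.Finite := (ncard_48.2.prod ncard_32.2).subset fun p hp => ⟨hp.1, hp.2.1, hp.2.2.1⟩
  let R : (GolayPt → ℤ) × (GolayPt → ℤ) → Set (GolayPt → ℤ) := fun p => hundred p.1 (p.2 - p.1)
  have hR := ncard_rel (X := X) hXfin R (hundred v.1 w.1).ncard
    (fun p _ => ncard_32.2.subset fun x hx => ⟨hx.1, hx.2.1⟩) fun p hp => by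
      obtain ⟨⟨hu, hun⟩, hx, hxn, hdx⟩ := hp
      obtain ⟨g, g1, g2⟩ := transitive_dot48 (x := ⟨p.2, hx⟩) (v := ⟨p.1, hu⟩) hxn hun
        (by rw [dotInt_comm']; exact hdx) n1 hv (by rw [dotInt_comm']; exact d1)
      show (hundred (⟨p.1, hu⟩ : leechLattice).1 ((⟨p.2, hx⟩ : leechLattice) - ⟨p.1, hu⟩).1).ncard = _
      rw [hundred_smul g, smul_sub', g1, g2, add_sub_cancel_left]
  let Y : Set ((GolayPt → ℤ) × (GolayPt → ℤ)) := {p | p.1 ∈ minSet ∧ p.2 ∈ dotSet p.1 0}
  have hY := ncard_rel (X := minSet) ncard_32.2 (fun a => dotSet a 0) 93150 (fun a _ => dotSet_finite a _)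
    fun a ha => orth_count ha.1 ha.2
  let S : (GolayPt → ℤ) × (GolayPt → ℤ) → Set (GolayPt → ℤ) := fun p =>
    {b | b ∈ leechLattice ∧ sqNorm b = 32 ∧ dotInt p.1 b = 16 ∧ dotInt p.2 b = -8}
  have hS := ncard_rel (X := Y) ((ncard_32.2.prod ncard_32.2).subset fun p hp => ⟨hp.1, hp.2.1, hp.2.2.1⟩) S 1024
    (fun p _ => ncard_32.2.subset fun x hx => ⟨hx.1, hx.2.1⟩) fun p hp => fibre hp
  let f : ((GolayPt → ℤ) × (GolayPt → ℤ)) × (GolayPt → ℤ) → ((GolayPt → ℤ) × (GolayPt → ℤ)) × (GolayPt → ℤ) :=
    fun q => ((q.1.2 + q.2, q.1.1), q.1.2)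
  have hf : Function.Injective f := by
    rintro ⟨⟨a, b⟩, c⟩ ⟨⟨a', b'⟩, c'⟩ h
    simp only [f, Prod.mk.injEq] at h
    obtain ⟨⟨h1, rfl⟩, rfl⟩ := h
    rw [add_left_cancel h1]
  have e : f '' {q | q.1 ∈ Y ∧ q.2 ∈ S q.1} = {q | q.1 ∈ X ∧ q.2 ∈ R q.1} := by
    ext ⟨⟨u, x⟩, a⟩
    constructor
    · rintro ⟨⟨⟨x', a'⟩, b⟩, ⟨⟨⟨hx, hxn⟩, ha, han, hxa⟩, hb, hbn, hxb, hab⟩, he⟩
      simp only [f, Prod.mk.injEq] at he
      obtain ⟨⟨rfl, rfl⟩, rfl⟩ := he
      dsimp only at *
      have hun : sqNorm (a' + b) = 48 := by rw [sqNorm_add]; omega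
      have q1 : dotInt (a' + b) x' = 16 := by
        have : dotInt (a' + b) x' = dotInt x' a' + dotInt x' b := by
          simp only [dotInt, Pi.add_apply, ← Finset.sum_add_distrib]
          exact Finset.sum_congr rfl fun i _ => by ring
        omega
      have q2 : dotInt (a' + b) a' = 24 := by
        have : dotInt (a' + b) a' = dotInt a' a' + dotInt a' b := by
          simp only [dotInt, Pi.add_apply, ← Finset.sum_add_distrib]
          exact Finset.sum_congr rfl fun i _ => by ring
        rw [dot_self] at this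
        omega
      refine ⟨⟨⟨add_mem ha hb, hun⟩, hx, hxn, q1⟩, ha, han, q2, ?_⟩
      have : dotInt (x' - (a' + b)) a' = dotInt x' a' - dotInt (a' + b) a' := by
        simp only [dotInt, Pi.sub_apply, sub_mul, Finset.sum_sub_distrib]
      show dotInt (x' - (a' + b)) a' = -24
      omega
    · rintro ⟨⟨⟨hu, hun⟩, hx, hxn, hux⟩, ha, han, hua, hwa⟩
      dsimp only at *
      have hw48 : sqNorm (x - u) = 48 := by rw [sqNorm_sub, dotInt_comm']; omega
      have hxa : dotInt x a = 0 := by
        have : dotInt (x - u) a = dotInt x a - dotInt u a := by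
          simp only [dotInt, Pi.sub_apply, sub_mul, Finset.sum_sub_distrib]
        omega
      have hxua : dotInt x (u - a) = 16 := by
        have : dotInt x (u - a) = dotInt u x - dotInt x a := by
          simp only [dotInt, Pi.sub_apply, ← Finset.sum_sub_distrib]
          exact Finset.sum_congr rfl fun i _ => by ring
        omega
      have haua : dotInt a (u - a) = -8 := by
        have : dotInt a (u - a) = dotInt u a - dotInt a a := by
          simp only [dotInt, Pi.sub_apply, ← Finset.sum_sub_distrib]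
          exact Finset.sum_congr rfl fun i _ => by ring
        rw [dot_self] at this
        omega
      refine ⟨((x, a), u - a), ⟨⟨⟨hx, hxn⟩, ha, han, hxa⟩, sub_mem hu ha, by rw [sqNorm_sub]; omega, hxua, haua⟩, ?_⟩
      simp [f]
  rw [← Set.ncard_image_of_injective _ hf, e] at hS
  replace hS := hR.symm.trans hS
  have hXc : X.ncard = 16773120 * 11178 := by rw [show X.ncard = _ from hX, ncard_48.1]
  have hYc : Y.ncard = 196560 * 93150 := by rw [show Y.ncard = _ from hY, show minSet.ncard = 196560 from ncard_32.1]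
  rw [hXc, hYc] at hS
  omega
where
  fibre {p : (GolayPt → ℤ) × (GolayPt → ℤ)} (hp : p.1 ∈ minSet ∧ p.2 ∈ dotSet p.1 0) :
      {b : GolayPt → ℤ | b ∈ leechLattice ∧ sqNorm b = 32 ∧ dotInt p.1 b = 16 ∧ dotInt p.2 b = -8}.ncard = 1024 := by
    classical
    obtain ⟨⟨hx, hxn⟩, ha, han, hxa⟩ := hp
    let aStd : leechLattice := ⟨_, inLeech_spec anti_ok.1⟩
    have ha32 : sqNorm aStd.1 = 32 := by show sqNorm (vecOf repAnti) = 32; simp only [sqNorm, anti_ok.2]; decide +kernel
    have hv32 : sqNorm vStd.1 = 32 := by show sqNorm (vecOf repPair) = 32; simp only [sqNorm, repPair_eq]; decide +kernel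
    have hdot : ∀ y : GolayPt → ℤ, dotInt (vecOf repAnti) y = 4 * y none - 4 * y (some 0) := fun y => by
      rw [dotInt, ← Finset.sum_subset (Finset.subset_univ ({none, some 0} : Finset GolayPt)) fun q _ hq => ?_]
      · rw [Finset.sum_pair (by simp), anti_ok.2, anti_ok.2, if_pos rfl, if_neg (by simp), if_pos rfl]; ring
      · simp only [Finset.mem_insert, Finset.mem_singleton, not_or] at hq
        rw [anti_ok.2, if_neg hq.1, if_neg hq.2, zero_mul]
    have h0 : dotInt vStd.1 aStd.1 = 0 := by
      show dotInt (vecOf repPair) (vecOf repAnti) = 0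
      rw [dot_repPair, anti_ok.2, anti_ok.2, if_pos rfl, if_neg (by simp), if_pos rfl]; rfl
    obtain ⟨g, g1, g2⟩ := transitive_orth (v := (⟨p.1, hx⟩ : leechLattice)) (w := ⟨p.2, ha⟩) hxn han hxa hv32 ha32 h0
    let Z : Set (GolayPt → ℤ) := {b | b ∈ leechLattice ∧ sqNorm b = 32 ∧ b none = 1 ∧ b (some 0) = 3}
    have e1 : {b : GolayPt → ℤ | b ∈ leechLattice ∧ sqNorm b = 32 ∧ dotInt p.1 b = 16 ∧ dotInt p.2 b = -8}.ncard = Z.ncard := by
      refine Set.ncard_congr (fun b hb => (g • (⟨b, hb.1⟩ : leechLattice)).1) (fun b hb => ?_)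
        (fun a b ha' hb h => congrArg Subtype.val (MulAction.injective g (Subtype.ext h : _ = g • (⟨b, hb.1⟩ : leechLattice))))
        fun y hy => ?_
      · have d1 := (dot_smul g ⟨p.1, hx⟩ ⟨b, hb.1⟩).trans hb.2.2.1
        have d2 := (dot_smul g ⟨p.2, ha⟩ ⟨b, hb.1⟩).trans hb.2.2.2
        rw [g1, show vStd.1 = vecOf repPair from rfl, dot_repPair] at d1
        rw [g2, show aStd.1 = vecOf repAnti from rfl, hdot] at d2
        exact ⟨Subtype.prop _, (norm_smul g _).trans hb.2.1, by omega, by omega⟩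
      · obtain ⟨hyL, hyn, y1, y3⟩ := hy
        let b : leechLattice := g⁻¹ • ⟨y, hyL⟩
        have e : g • b = ⟨y, hyL⟩ := smul_inv_smul g _
        refine ⟨b.1, ⟨b.2, (norm_smul _ _).trans hyn, ?_, ?_⟩, congrArg Subtype.val e⟩
        · rw [← dot_smul g ⟨p.1, hx⟩ b, e, g1, show vStd.1 = vecOf repPair from rfl, dot_repPair]
          show 4 * y none + 4 * y (some 0) = 16
          omega
        · rw [← dot_smul g ⟨p.2, ha⟩ b, e, g2, show aStd.1 = vecOf repAnti from rfl, hdot]
          show 4 * y none - 4 * y (some 0) = -8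
          omega
    rw [e1]
    let base : GolayPt → ℤ := fun q => if q = some 0 then -3 else 1
    have hbase : base ∈ leechLattice := by
      have h : ∀ q, base q = vecOf ((List.range 24).map fun i => if i = 0 then -3 else 1) q := by decide +kernel
      rw [funext h]; exact inLeech_spec (by decide +kernel)
    let W : Finset ℕ := (codeList.filter fun m => m.testBit 0 && !m.testBit 23).toFinset
    have hW : W.card = 1024 := by
      show ((codeList.filter fun m => m.testBit 0 && !m.testBit 23).toFinset).card = _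
      rw [List.toFinset_card_of_nodup (codeList_nodup.filter _)]
      decide +kernel
    have hidx : (idx (none : GolayPt)).val = 23 ∧ (idx (some 0 : GolayPt)).val = 0 := by decide +kernel
    have hZ : Z = (fun m => flip (toSet m) base) '' ↑W := by
      ext b
      constructor
      · rintro ⟨hb, hbn, b1, b3⟩
        obtain ⟨m, hm, hpar, -, hc⟩ := mem_lattice.1 hb
        have hm1 : m = 1 := by have := hpar none; omega
        subst hm1
        obtain ⟨hv', hcnt⟩ := odd_counts hpar hbn (by omega)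
        simp only [List.mem_cons, List.not_mem_nil, or_false] at hv'
        have habs : ∀ q, (b q).natAbs = (base q).natAbs := fun q => by
          show _ = (if q = some 0 then (-3 : ℤ) else 1).natAbs
          by_cases hq : q = some 0
          · rw [hq, b3, if_pos rfl]; rfl
          · rw [if_neg hq]
            have := hv' q
            have := not_lev (show (lev b 5).card = 0 by omega) q
            have := not_lev (show (lev b 7).card = 0 by omega) q
            by_contra hne
            obtain ⟨z, hz⟩ := Finset.card_eq_one.1 (show (lev b 3).card = 1 by omega)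
            have a1 : q ∈ lev b 3 := mem_lev.2 (by simp at hne; omega)
            have a2 : (some 0 : GolayPt) ∈ lev b 3 := mem_lev.2 (by rw [b3]; rfl)
            rw [hz, Finset.mem_singleton] at a1 a2
            exact hq (a1.trans a2.symm)
        set c := support₂ (half b)
        have hc' : c ∈ supports (golayCode : Set (GolayPt → ZMod 2)) := support_mem hc
        have hmem : ∀ q, q ∈ c ↔ (b q / 2) % 2 = 1 := fun q => mem_support_half
        refine ⟨mask c, ?_, ?_⟩
        · rw [Finset.mem_coe, List.mem_toFinset, List.mem_filter]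
          refine ⟨mem_codeList.2 ⟨mem_supports_iff.1 hc', mask_lt c⟩, ?_⟩
          rw [← hidx.1, ← hidx.2, testBit_mask, testBit_mask]
          simp [hmem, b1, b3]
        · funext q
          show flip (toSet (mask c)) base q = b q
          rw [toSet_mask]
          have := habs q; have := hpar q
          have hb4 : base q % 4 = 1 := by simp only [base]; split_ifs <;> rfl
          by_cases hq : q ∈ c
          · simp only [flip, hq, if_true]; have := (hmem q).1 hq; omega
          · simp only [flip, hq, if_false]; have := mt (hmem q).2 hq; omega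
      · rintro ⟨m, hm, rfl⟩
        rw [Finset.mem_coe, List.mem_toFinset, List.mem_filter, mem_codeList] at hm
        obtain ⟨⟨hc, hlt⟩, hb⟩ := hm
        simp only [Bool.and_eq_true, Bool.not_eq_true'] at hb
        refine ⟨flip_mem (toSet_mem hc hlt) hbase, ?_, ?_, ?_⟩
        · rw [sqNorm_flip]; decide +kernel
        · simp only [flip, mem_toSet, hidx.1, hb.2, Bool.false_eq_true, if_false]; rfl
        · simp only [flip, mem_toSet, hidx.2, hb.1, if_true]; rfl
    rw [hZ, Set.InjOn.ncard_image, Set.ncard_coe_finset, hW]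
    intro m hm n hn h
    rw [Finset.mem_coe, List.mem_toFinset, List.mem_filter, mem_codeList] at hm hn
    refine eq_of_testBit_idx hm.1.2 hn.1.2 fun q => ?_
    have := congrFun h q
    have hne : base q ≠ 0 := by simp only [base]; split_ifs <;> omega
    simp only [flip, mem_toSet] at this
    cases e1 : m.testBit (idx q).val <;> cases e2 : n.testBit (idx q).val <;> simp [e1, e2] at this ⊢ <;> omega

end CfsgLib.Leech
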