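/-
The hundred points of the Higman-Sims configuration: suborbits of sizes one, twenty-two and seventy-seven.
-/
import Cfsg.Agent.Leech.Moments
import Cfsg.Agent.Leech.Co1

set_option autoImplicit false

namespace CfsgLib.Leech.HS

open Cfsg CfsgLib.Golay
open scoped Pointwise

/-- The standard odd summand. -/
def bList : List ℤ :=
  [3, 1, -1, 1, 1, 1, 1, 1, 1, 1, 1, 1, 1, -1, -1, -1, -1, -1, 1, 1, -1, 1, 1, 1]

theorem bList_ok : inLeech (vecOf bList) = true ∧ sqNorm (vecOf bList) = 32 ∧
    vecOf bList none = 1 ∧ vecOf bList (some 0) = 3 ∧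
    ∀ p, p ≠ some 0 → (vecOf bList p).natAbs = 1 := by decide +kernel

/-- The sum of the pair. -/
abbrev X0 : leechLattice := vStd

/-- The base point. -/
def A0 : leechLattice := ⟨_, inLeech_spec anti_ok.1⟩

/-- The other part of the first vector. -/
def B0 : leechLattice := ⟨_, inLeech_spec bList_ok.1⟩

/-- The first vector. -/
def V0 : leechLattice := A0 + B0

/-- The second vector. -/
def W0 : leechLattice := X0 - V0

/-- The sign of a coordinate of the odd summand. -/
def sgnB (p : GolayPt) : ℤ := if 0 ≤ vecOf bList p then 1 else -1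

theorem B0_val {p : GolayPt} (hp : p ≠ some 0) : vecOf bList p = sgnB p := by
  have := bList_ok.2.2.2.2 p hp
  unfold sgnB
  split_ifs <;> omega

theorem dot_A0 (y : GolayPt → ℤ) : dotInt (vecOf repAnti) y = 4 * y none - 4 * y (some 0) := by
  rw [dotInt, ← Finset.sum_subset (Finset.subset_univ ({none, some 0} : Finset GolayPt)) fun q _ hq => ?_]
  · rw [Finset.sum_pair (by simp), anti_ok.2, anti_ok.2, if_pos rfl, if_neg (by simp), if_pos rfl]; ring
  · simp only [Finset.mem_insert, Finset.mem_singleton, not_or] at hq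
    rw [anti_ok.2, if_neg hq.1, if_neg hq.2, zero_mul]

theorem norm_X0 : sqNorm X0.1 = 32 := by
  show sqNorm (vecOf repPair) = 32; simp only [sqNorm, repPair_eq]; decide +kernel

theorem norm_A0 : sqNorm A0.1 = 32 := by
  show sqNorm (vecOf repAnti) = 32; simp only [sqNorm, anti_ok.2]; decide +kernel

theorem dot_X0A0 : dotInt X0.1 A0.1 = 0 := by
  show dotInt (vecOf repPair) (vecOf repAnti) = 0
  rw [dot_repPair, anti_ok.2, anti_ok.2, if_pos rfl, if_neg (by simp), if_pos rfl]; rfl

theorem dot_X0B0 : dotInt X0.1 B0.1 = 16 := by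
  show dotInt (vecOf repPair) (vecOf bList) = 16
  rw [dot_repPair, bList_ok.2.2.1, bList_ok.2.2.2.1]; rfl

theorem dot_A0B0 : dotInt A0.1 B0.1 = -8 := by
  show dotInt (vecOf repAnti) (vecOf bList) = -8
  rw [dot_A0, bList_ok.2.2.1, bList_ok.2.2.2.1]; rfl

/-- Membership in the configuration, in coordinates. -/
def IsPoint (y : leechLattice) : Prop :=
  sqNorm y.1 = 32 ∧ dotInt V0.1 y.1 = 24 ∧ dotInt W0.1 y.1 = -24

theorem isPoint_iff {y : leechLattice} : IsPoint y ↔
    sqNorm y.1 = 32 ∧ y.1 none + y.1 (some 0) = 0 ∧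
      4 * y.1 none - 4 * y.1 (some 0) + dotInt (vecOf bList) y.1 = 24 := by
  have e1 : dotInt V0.1 y.1 = dotInt (vecOf repAnti) y.1 + dotInt (vecOf bList) y.1 := by
    show dotInt (vecOf repAnti + vecOf bList) y.1 = _
    simp only [dotInt, Pi.add_apply, add_mul, Finset.sum_add_distrib]
  have e2 : dotInt W0.1 y.1 = dotInt (vecOf repPair) y.1 - dotInt V0.1 y.1 := by
    show dotInt (vecOf repPair - V0.1) y.1 = _
    simp only [dotInt, Pi.sub_apply, sub_mul, Finset.sum_sub_distrib]
  rw [dot_A0] at e1
  rw [dot_repPair] at e2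
  unfold IsPoint
  constructor
  · rintro ⟨h1, h2, h3⟩; exact ⟨h1, by omega, by omega⟩
  · rintro ⟨h1, h2, h3⟩; exact ⟨h1, by omega, by omega⟩

theorem isPoint_A0 : IsPoint A0 := isPoint_iff.2 ⟨norm_A0, by
  show vecOf repAnti none + vecOf repAnti (some 0) = 0
  rw [anti_ok.2, anti_ok.2, if_pos rfl, if_neg (by simp), if_pos rfl]; rfl, by
  show 4 * vecOf repAnti none - 4 * vecOf repAnti (some 0) + dotInt (vecOf bList) (vecOf repAnti) = 24
  rw [dotInt_comm', dot_A0, anti_ok.2, anti_ok.2, if_pos rfl, if_neg (by simp), if_pos rfl,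
    bList_ok.2.2.1, bList_ok.2.2.2.1]; rfl⟩

/-- The points of inner product eight with the base point. -/
def oddVal (j p : GolayPt) : ℤ :=
  vecOf bList p - (if p = some 0 then 4 else 0) - (if p = j then 4 * sgnB j else 0)

/-- The points of inner product sixteen with the base point. -/
def octVal (o : Finset GolayPt) (p : GolayPt) : ℤ :=
  if p ∈ o then (if p = none then 2 else if p = some 0 then -2 else 2 * sgnB p) else 0

theorem sgnB_cases (p : GolayPt) : sgnB p = 1 ∨ sgnB p = -1 := by
  unfold sgnB; split_ifs <;> simp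

/-- The points outside the pair. -/
def rest : Finset GolayPt := Finset.univ \ {none, some 0}

theorem mem_rest {p : GolayPt} : p ∈ rest ↔ p ≠ none ∧ p ≠ some 0 := by simp [rest]

theorem sum_rest (f : GolayPt → ℤ) : ∑ p, f p = ∑ p ∈ rest, f p + (f none + f (some 0)) := by
  rw [rest, ← Finset.sum_sdiff (Finset.subset_univ ({none, some 0} : Finset GolayPt)), Finset.sum_pair (by simp)]

theorem classify {y : leechLattice} (h : IsPoint y) : y = A0 ∨
    (dotInt A0.1 y.1 = 8 ∧ ∃ j, j ≠ none ∧ j ≠ some 0 ∧ ∀ p, y.1 p = oddVal j p) ∨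
    (dotInt A0.1 y.1 = 16 ∧ ∃ o ∈ octads, (none : GolayPt) ∈ o ∧ some 0 ∈ o ∧ ∀ p, y.1 p = octVal o p) := by
  obtain ⟨hn, hsum, hd⟩ := isPoint_iff.1 h
  have hA : dotInt A0.1 y.1 = 4 * y.1 none - 4 * y.1 (some 0) := dot_A0 _
  have hnn : (none : GolayPt) ≠ some 0 := by simp
  have bn := bList_ok.2.2.1
  have b0 := bList_ok.2.2.2.1
  have hsplit : dotInt (vecOf bList) y.1 = y.1 none + 3 * y.1 (some 0) +
      ∑ p ∈ rest, sgnB p * y.1 p := by
    rw [dotInt, sum_rest,
      bn, b0, Finset.sum_congr rfl (g := fun p => sgnB p * y.1 p) fun p hp => ?_]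
    · ring
    · rw [B0_val (mem_rest.1 hp).2]
  have hterm : ∀ p, |sgnB p * y.1 p| = ((y.1 p).natAbs : ℤ) := fun p => by
    rw [abs_mul, Int.natCast_natAbs]
    rcases sgnB_cases p with e | e <;> simp [e]
  obtain ⟨m, hm, hpar, -, hcode⟩ := mem_lattice.1 y.2
  rcases hm with rfl | rfl
  · obtain ⟨hv, hc, hsupp, hcard, -⟩ := even_counts y.2 hpar (N := 8) (by omega) (by omega)
    simp only [List.mem_cons, List.not_mem_nil, or_false] at hv
    have n8 := not_lev (show (lev y.1 8).card = 0 by omega)
    have c6 : (lev y.1 6).card = 0 := by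
      rcases support_card_cases (mem_supports_iff.1 hsupp) with e | e | e | e | e <;> omega
    have n6 := not_lev c6
    have habs0 := hv none; have habs1 := hv (some 0)
    have := n6 none; have := n6 (some 0); have := n8 none; have := n8 (some 0)
    rcases support_card_cases (mem_supports_iff.1 hsupp) with e | e | e | e | e <;> try omega
    · -- four-four: only the base point
      have n2 := not_lev (show (lev y.1 2).card = 0 by omega)
      have hval : ∀ p, (y.1 p).natAbs = 0 ∨ (y.1 p).natAbs = 4 := fun p => by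
        have := hv p; have := n6 p; have := n8 p; have := n2 p; omega
      have hc4 : (lev y.1 4).card = 2 := by omega
      have := hval none; have := hval (some 0)
      rcases (show y.1 none = 0 ∨ y.1 none ≠ 0 by omega) with h0 | h0
      · exfalso
        have hb : ∑ p ∈ rest, sgnB p * y.1 p ≤ 8 := by
          refine le_trans (Finset.sum_le_sum fun p _ => le_abs_self _) ?_
          rw [Finset.sum_congr rfl fun p _ => hterm p]
          refine le_trans (Finset.sum_le_sum_of_subset_of_nonneg (Finset.subset_univ _) fun p _ _ => by positivity) ?_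
          rw [Finset.sum_congr rfl (g := fun p => if p ∈ lev y.1 4 then (4 : ℤ) else 0) fun p _ => by
              have := hval p; split_ifs with h <;> rw [mem_lev] at h <;> omega,
            Fintype.sum_ite_mem, Finset.sum_const, hc4]
          norm_num
        omega
      · left
        have hset : lev y.1 4 = {none, some 0} := by
          refine (Finset.eq_of_subset_of_card_le (fun p hp => ?_) (by rw [Finset.card_pair hnn]; omega)).symm
          simp only [Finset.mem_insert, Finset.mem_singleton] at hp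
          rw [mem_lev]
          rcases hp with rfl | rfl <;> omega
        have hzero : ∀ p ∈ rest, sgnB p * y.1 p = 0 := fun p hp => by
          have : p ∉ lev y.1 4 := by rw [hset]; simpa using mem_rest.1 hp
          rw [mem_lev] at this
          rw [Int.natAbs_eq_zero.1 ((hval p).resolve_right this), mul_zero]
        rw [Finset.sum_eq_zero hzero] at hsplit
        refine Subtype.ext (funext fun p => ?_)
        show y.1 p = vecOf repAnti p
        rw [anti_ok.2]
        split_ifs with a b
        · subst a; omega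
        · subst b; omega
        · have : p ∉ lev y.1 4 := by rw [hset]; simp [a, b]
          rw [mem_lev] at this
          exact Int.natAbs_eq_zero.1 ((hval p).resolve_right this)
    · -- octads
      rw [Finset.card_eq_zero.1 c6, Finset.union_empty] at hsupp e
      have hval : ∀ p, (y.1 p).natAbs = 0 ∨ (y.1 p).natAbs = 2 := fun p => by
        have := hv p; have := n6 p; have := n8 p
        have := not_lev (show (lev y.1 4).card = 0 by omega) p
        omega
      have := hval none; have := hval (some 0)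
      have habs : ∀ p, ((y.1 p).natAbs : ℤ) = if p ∈ lev y.1 2 then 2 else 0 := fun p => by
        have := hval p; split_ifs with h <;> rw [mem_lev] at h <;> omega
      have htot : ∑ p ∈ rest, ((y.1 p).natAbs : ℤ) =
          16 - (y.1 none).natAbs - (y.1 (some 0)).natAbs := by
        have h1 := (sum_rest fun p => ((y.1 p).natAbs : ℤ))
        rw [Finset.sum_congr rfl (g := fun p => if p ∈ lev y.1 2 then (2 : ℤ) else 0)
          (s₂ := (Finset.univ : Finset GolayPt)) fun p _ => habs p, Fintype.sum_ite_mem, Finset.sum_const, e] at h1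
        simp at h1 ⊢
        omega
      have hle : ∑ p ∈ rest, sgnB p * y.1 p ≤
          ∑ p ∈ rest, ((y.1 p).natAbs : ℤ) :=
        Finset.sum_le_sum fun p _ => (le_abs_self _).trans (hterm p).le
      have yn : y.1 none = 2 := by omega
      have y0 : y.1 (some 0) = -2 := by omega
      have heq : ∀ p ∈ rest, sgnB p * y.1 p = ((y.1 p).natAbs : ℤ) :=
        (Finset.sum_eq_sum_iff_of_le fun p _ => (le_abs_self _).trans (hterm p).le).1 (by omega)
      refine Or.inr (Or.inr ⟨by omega, lev y.1 2, mem_octads_of hsupp e, by rw [mem_lev, yn]; rfl,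
        by rw [mem_lev, y0]; rfl, fun p => ?_⟩)
      unfold octVal
      split_ifs with a b c
      · rw [b, yn]
      · rw [c, y0]
      · have := heq p (mem_rest.2 ⟨b, c⟩)
        rw [mem_lev] at a
        rw [a] at this
        rcases sgnB_cases p with e | e <;> rw [e] at this ⊢ <;> omega
      · rw [mem_lev] at a
        exact Int.natAbs_eq_zero.1 ((hval p).resolve_right a)
  · obtain ⟨hv, hc⟩ := odd_counts hpar hn (by omega)
    simp only [List.mem_cons, List.not_mem_nil, or_false] at hv
    have n5 := not_lev (show (lev y.1 5).card = 0 by omega)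
    have n7 := not_lev (show (lev y.1 7).card = 0 by omega)
    have hval : ∀ p, (y.1 p).natAbs = 1 ∨ (y.1 p).natAbs = 3 := fun p => by
      have := hv p; have := n5 p; have := n7 p; omega
    obtain ⟨j, hj⟩ := Finset.card_eq_one.1 (show (lev y.1 3).card = 1 by omega)
    have hj3 : ∀ p, (y.1 p).natAbs = 3 ↔ p = j := fun p => by rw [← mem_lev, hj, Finset.mem_singleton]
    have := hval none; have := hval (some 0)
    have hjn : j ≠ none ∧ j ≠ some 0 := by
      constructor
      · rintro rfl
        have h3 := (hj3 _).2 rfl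
        have := mt (hj3 (some 0)).1 hnn.symm
        omega
      · rintro rfl
        have h3 := (hj3 _).2 rfl
        have := mt (hj3 none).1 hnn
        omega
    have a0 := mt (hj3 none).1 hjn.1.symm
    have a1 := mt (hj3 (some 0)).1 hjn.2.symm
    have hjmem : j ∈ rest := mem_rest.2 hjn
    have hbound : ∀ p ∈ rest,
        sgnB p * y.1 p ≤ if p = j then (3 : ℤ) else 1 := fun p _ => by
      refine ((le_abs_self _).trans (hterm p).le).trans ?_
      split_ifs with hp
      · have := (hj3 p).2 hp; omega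
      · have := mt (hj3 p).1 hp; have := hval p; omega
    have hbsum : ∑ p ∈ rest, (if p = j then (3 : ℤ) else 1) = 24 := by
      rw [← Finset.add_sum_erase _ _ hjmem, Finset.sum_congr rfl (g := fun _ => (1 : ℤ))
        fun p hp => if_neg (Finset.ne_of_mem_erase hp), Finset.sum_const, Finset.card_erase_of_mem hjmem,
        rest, Finset.card_sdiff_of_subset (Finset.subset_univ _), Finset.card_univ, card_pt, Finset.card_pair hnn, if_pos rfl]
      norm_num
    have hle := Finset.sum_le_sum hbound
    rw [hbsum] at hle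
    have yn : y.1 none = 1 := by omega
    have y0 : y.1 (some 0) = -1 := by omega
    refine Or.inr (Or.inl ⟨by omega, j, hjn.1, hjn.2, ?_⟩)
    obtain ⟨-, -, -, -, hcb⟩ := mem_lattice.1 (inLeech_spec bList_ok.1)
    set c := symmDiff (support₂ (half y.1)) (support₂ (half (vecOf bList)))
    have hcc : c ∈ supports (golayCode : Set (GolayPt → ZMod 2)) :=
      symm_mem_code (support_mem hcode) (support_mem hcb)
    have hmem : ∀ p, p ∈ c ↔ ¬ ((y.1 p / 2) % 2 = 1 ↔ (vecOf bList p / 2) % 2 = 1) := fun p => by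
      rw [Finset.mem_symmDiff, mem_support_half, mem_support_half]; tauto
    have hsgn : ∀ p, p ≠ none → p ≠ some 0 → (p ∈ c ↔
        (if p = j then sgnB p * y.1 p = 3 else sgnB p * y.1 p = -1)) := fun p hp hp' => by
      rw [hmem, B0_val hp']
      rcases sgnB_cases p with e | e <;> rw [e] <;> split_ifs with hpj
      all_goals
        first
          | (have := (hj3 p).2 hpj; omega)
          | (have := mt (hj3 p).1 hpj; have := hval p; omega)
    have hcS : c ⊆ rest := fun p hp => by
      rw [mem_rest]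
      constructor <;> rintro rfl <;> rw [hmem] at hp <;> simp [yn, y0, bn, b0] at hp
    have hsumS : ∑ p ∈ rest, sgnB p * y.1 p = 18 := by omega
    have hdef : ∑ p ∈ rest, ((if p = j then (3 : ℤ) else 1) - sgnB p * y.1 p) = 6 := by
      rw [Finset.sum_sub_distrib, hbsum, hsumS]; rfl
    have hterm2 : ∀ p ∈ rest, (if p = j then (3 : ℤ) else 1) - sgnB p * y.1 p =
        (if p = j then (if p ∈ c then (0 : ℤ) else 6) else (if p ∈ c then 2 else 0)) := fun p hp => by
      have hp2 : p ≠ none ∧ p ≠ some 0 := by exact mem_rest.1 hp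
      have hs := hsgn p hp2.1 hp2.2
      by_cases hpj : p = j
      · rw [if_pos hpj] at hs ⊢
        rw [if_pos hpj]
        have := (hj3 p).2 hpj
        by_cases hpc : p ∈ c
        · rw [if_pos hpc]
          have := hs.1 hpc
          omega
        · rw [if_neg hpc]
          have := mt hs.2 hpc
          rcases sgnB_cases p with e | e <;> rw [e] at this ⊢ <;> omega
      · rw [if_neg hpj] at hs ⊢
        rw [if_neg hpj]
        have := mt (hj3 p).1 hpj
        have := hval p
        by_cases hpc : p ∈ c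
        · rw [if_pos hpc]
          have := hs.1 hpc
          omega
        · rw [if_neg hpc]
          have := mt hs.2 hpc
          rcases sgnB_cases p with e | e <;> rw [e] at this ⊢ <;> omega
    rw [Finset.sum_congr rfl hterm2] at hdef
    have hjc : j ∉ c := by
      intro hjc
      have hc3 : 2 * (((c.erase j).card : ℤ)) = 6 := by
        refine Eq.trans ?_ hdef
        rw [← Finset.add_sum_erase _ _ hjmem, if_pos rfl, if_pos hjc, zero_add,
          Finset.sum_congr rfl (g := fun p => if p ∈ c.erase j then (2 : ℤ) else 0) fun p hp => ?_,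
          Finset.sum_ite_mem, Finset.inter_eq_right.2 (Finset.erase_subset_erase _ hcS), Finset.sum_const, nsmul_eq_mul, mul_comm]
        rw [if_neg (Finset.ne_of_mem_erase hp)]
        simp [Finset.ne_of_mem_erase hp]
      have := Finset.card_erase_add_one hjc
      have h4 : c.card = 4 := by omega
      rcases support_card_cases (mem_supports_iff.1 hcc) with e | e | e | e | e <;> omega
    have hcemp : c = ∅ := by
      refine Finset.eq_empty_of_forall_notMem fun p hp => ?_
      have hpj : p ≠ j := fun e => hjc (e ▸ hp)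
      have hpS := hcS hp
      have h1 : (if p = j then (if p ∈ c then (0 : ℤ) else 6) else (if p ∈ c then 2 else 0)) +
          (if j = j then (if j ∈ c then (0 : ℤ) else 6) else (if j ∈ c then 2 else 0)) ≤ 6 := by
        refine le_trans ?_ hdef.le
        rw [← Finset.sum_pair (f := fun q => if q = j then (if q ∈ c then (0 : ℤ) else 6)
          else (if q ∈ c then 2 else 0)) hpj]
        refine Finset.sum_le_sum_of_subset_of_nonneg (fun q hq => ?_) fun q _ _ => by split_ifs <;> norm_num
        simp only [Finset.mem_insert, Finset.mem_singleton] at hq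
        rcases hq with rfl | rfl
        · exact hpS
        · exact hjmem
      rw [if_neg hpj, if_pos hp, if_pos rfl, if_neg hjc] at h1
      omega
    intro p
    unfold oddVal
    rcases eq_or_ne p none with rfl | hp
    · rw [if_neg (by simp), if_neg hjn.1.symm, yn, bn]; rfl
    rcases eq_or_ne p (some 0) with rfl | hp'
    · rw [if_pos rfl, if_neg hjn.2.symm, y0, b0]; rfl
    have hs := (hsgn p hp hp')
    have hnot : p ∉ c := by rw [hcemp]; simp
    rw [B0_val hp', if_neg hp']
    rcases sgnB_cases p with e | e <;> rw [e] at hs ⊢ <;> split_ifs at hs ⊢ with hpj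
    all_goals
      first
        | (subst hpj; rw [e]; have := (hj3 p).2 rfl; have := mt hs.2 hnot; omega)
        | (have := mt (hj3 p).1 hpj; have := hval p; have := mt hs.2 hnot; omega)

theorem odd_point {j : GolayPt} (hj : j ≠ none) (hj' : j ≠ some 0) :
    ∃ y : leechLattice, IsPoint y ∧ dotInt A0.1 y.1 = 8 ∧ ∀ p, y.1 p = oddVal j p := by
  obtain ⟨h1, -, h3⟩ := four_vec (p := (some 0 : GolayPt)) (q := j) hj'.symm (s := 4) (t := 4 * sgnB j)
    (Or.inl rfl) (by rcases sgnB_cases j with e | e <;> omega)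
  have hy : ∀ p, (vecOf bList - (Pi.single (some 0) 4 + Pi.single j (4 * sgnB j)) : GolayPt → ℤ) p = oddVal j p := fun p => by
    simp only [Pi.sub_apply, Pi.add_apply, oddVal, Pi.single_apply]
    ring
  refine ⟨⟨_, sub_mem (inLeech_spec bList_ok.1) h1⟩, ?_⟩
  have vn : oddVal j none = 1 := by simp [oddVal, bList_ok.2.2.1, hj.symm]
  have v0 : oddVal j (some 0) = -1 := by simp [oddVal, bList_ok.2.2.2.1, hj'.symm]
  have hd : dotInt (vecOf bList) (Pi.single (some 0) 4 + Pi.single j (4 * sgnB j) : GolayPt → ℤ) = 16 := by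
    rw [h3, bList_ok.2.2.2.1, B0_val hj']
    rcases sgnB_cases j with e | e <;> rw [e] <;> rfl
  refine ⟨isPoint_iff.2 ⟨?_, ?_, ?_⟩, ?_, hy⟩
  · show sqNorm (vecOf bList - _) = 32
    rw [sqNorm_sub, hd, bList_ok.2.1,
      (four_vec (p := (some 0 : GolayPt)) (q := j) hj'.symm (s := 4) (t := 4 * sgnB j)
        (Or.inl rfl) (by rcases sgnB_cases j with e | e <;> omega)).2.1]
    rfl
  · show (vecOf bList - _) none + (vecOf bList - _) (some 0) = 0
    rw [hy, hy, vn, v0]; rfl
  · show 4 * (vecOf bList - _) none - 4 * (vecOf bList - _) (some 0) + dotInt (vecOf bList) (vecOf bList - _) = 24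
    rw [hy, hy, vn, v0]
    have : ∀ z : GolayPt → ℤ, dotInt (vecOf bList) (vecOf bList - z) =
        dotInt (vecOf bList) (vecOf bList) - dotInt (vecOf bList) z := fun z => by
      simp only [dotInt, Pi.sub_apply, mul_sub, Finset.sum_sub_distrib]
    rw [this, dot_self, bList_ok.2.1, hd]
    rfl
  · show dotInt (vecOf repAnti) (vecOf bList - _) = 8
    rw [dot_A0, hy, hy, vn, v0]; rfl

/-! ### The monomial part -/

/-- The signs carried along a permutation fixing the pair. -/
theorem exists_lift {σ : Equiv.Perm GolayPt} (hσ : σ ∈ M24) (hn : σ none = none) (h0 : σ (some 0) = some 0) :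
    ∃ (c : Finset GolayPt) (hc : IsCodeSet c), none ∉ c ∧ some 0 ∉ c ∧
      (∀ p, p ≠ none → p ≠ some 0 → (p ∈ c ↔ sgnB (σ.symm p) ≠ sgnB p)) ∧
      mono hσ hc • X0 = X0 ∧ mono hσ hc • A0 = A0 ∧ mono hσ hc • B0 = B0 := by
  have sn : σ.symm none = none := by rw [Equiv.symm_apply_eq, hn]
  have s0 : σ.symm (some 0) = some 0 := by rw [Equiv.symm_apply_eq, h0]
  obtain ⟨-, -, -, -, hcb⟩ := mem_lattice.1 (inLeech_spec bList_ok.1)
  obtain ⟨-, -, -, -, hcc⟩ := mem_lattice.1 (comp_mem (σ := σ⁻¹) (inv_mem hσ) (inLeech_spec bList_ok.1))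
  let c := symmDiff (support₂ (half fun p => vecOf bList (σ.symm p))) (support₂ (half (vecOf bList)))
  have hc : IsCodeSet c := symm_mem_code (support_mem hcc) (support_mem hcb)
  have hm : ∀ p, p ∈ c ↔ ¬ ((vecOf bList (σ.symm p) / 2) % 2 = 1 ↔ (vecOf bList p / 2) % 2 = 1) := fun p => by
    rw [Finset.mem_symmDiff, mem_support_half, mem_support_half]; tauto
  have hcn : (none : GolayPt) ∉ c := by rw [hm, sn]; simp
  have hc0 : (some 0 : GolayPt) ∉ c := by rw [hm, s0]; simp
  have hsg : ∀ p, p ≠ none → p ≠ some 0 → (p ∈ c ↔ sgnB (σ.symm p) ≠ sgnB p) := fun p hp hp' => by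
    have q0 : σ.symm p ≠ some 0 := fun e => hp' (σ.symm.injective (e.trans s0.symm))
    rw [hm, B0_val hp', B0_val q0]
    rcases sgnB_cases p with e | e <;> rcases sgnB_cases (σ.symm p) with e' | e' <;> rw [e, e'] <;> decide
  refine ⟨c, hc, hcn, hc0, hsg, ?_, ?_, ?_⟩ <;> refine Subtype.ext (funext fun p => ?_)
  · show signedPerm σ c (vecOf repPair) p = vecOf repPair p
    rcases eq_or_ne p none with rfl | hp
    · simp [signedPerm, hcn, sn]
    rcases eq_or_ne p (some 0) with rfl | hp'
    · simp [signedPerm, hc0, s0]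
    have h1 : σ.symm p ≠ none := fun e => hp (σ.symm.injective (e.trans sn.symm))
    have h2 : σ.symm p ≠ some 0 := fun e => hp' (σ.symm.injective (e.trans s0.symm))
    simp [signedPerm, repPair_eq, hp, hp', h1, h2]
  · show signedPerm σ c (vecOf repAnti) p = vecOf repAnti p
    rcases eq_or_ne p none with rfl | hp
    · simp [signedPerm, hcn, sn]
    rcases eq_or_ne p (some 0) with rfl | hp'
    · simp [signedPerm, hc0, s0]
    have h1 : σ.symm p ≠ none := fun e => hp (σ.symm.injective (e.trans sn.symm))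
    have h2 : σ.symm p ≠ some 0 := fun e => hp' (σ.symm.injective (e.trans s0.symm))
    simp [signedPerm, anti_ok.2, hp, hp', h1, h2]
  · show signedPerm σ c (vecOf bList) p = vecOf bList p
    rcases eq_or_ne p none with rfl | hp
    · simp [signedPerm, hcn, sn]
    rcases eq_or_ne p (some 0) with rfl | hp'
    · simp [signedPerm, hc0, s0]
    have q0 : σ.symm p ≠ some 0 := fun e => hp' (σ.symm.injective (e.trans s0.symm))
    have := hsg p hp hp'
    simp only [signedPerm, B0_val hp', B0_val q0]
    rcases sgnB_cases p with e | e <;> rcases sgnB_cases (σ.symm p) with e' | e' <;> rw [e, e'] at this ⊢ <;>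
      simp_all

theorem lift_odd {σ : Equiv.Perm GolayPt} {hσ : σ ∈ M24} (hn : σ none = none) (h0 : σ (some 0) = some 0)
    {c : Finset GolayPt} {hc : IsCodeSet c} (hcn : none ∉ c) (hc0 : some 0 ∉ c)
    (hsg : ∀ p, p ≠ none → p ≠ some 0 → (p ∈ c ↔ sgnB (σ.symm p) ≠ sgnB p))
    {j : GolayPt} (hj : j ≠ none) (hj' : j ≠ some 0) {y : leechLattice} (hy : ∀ p, y.1 p = oddVal j p) (p : GolayPt) :
    (mono hσ hc • y).1 p = oddVal (σ j) p := by
  show signedPerm σ c y.1 p = _
  have sn : σ.symm none = none := by rw [Equiv.symm_apply_eq, hn]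
  have s0 : σ.symm (some 0) = some 0 := by rw [Equiv.symm_apply_eq, h0]
  have hjn : σ j ≠ none := fun e => hj (σ.injective (e.trans hn.symm))
  have hj0 : σ j ≠ some 0 := fun e => hj' (σ.injective (e.trans h0.symm))
  simp only [signedPerm, hy, oddVal]
  rcases eq_or_ne p none with rfl | hp
  · simp [hcn, sn, hj.symm, hjn.symm]
  rcases eq_or_ne p (some 0) with rfl | hp'
  · simp [hc0, s0, hj'.symm, hj0.symm]
  have q0 : σ.symm p ≠ some 0 := fun e => hp' (σ.symm.injective (e.trans s0.symm))
  have hiff : σ.symm p = j ↔ p = σ j := by rw [Equiv.symm_apply_eq]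
  have := hsg p hp hp'
  rw [B0_val hp', B0_val q0, if_neg hp', if_neg q0]
  by_cases hpj : p = σ j
  · rw [if_pos hpj, if_pos (hiff.2 hpj)]
    rw [hpj] at this ⊢
    rw [Equiv.symm_apply_apply] at this ⊢
    rcases sgnB_cases (σ j) with e | e <;> rcases sgnB_cases j with e' | e' <;> rw [e, e'] at this ⊢ <;> simp_all
  · rw [if_neg hpj, if_neg (mt hiff.1 hpj)]
    rcases sgnB_cases p with e | e <;> rcases sgnB_cases (σ.symm p) with e' | e' <;> rw [e, e'] at this ⊢ <;> simp_all

theorem lift_oct {σ : Equiv.Perm GolayPt} {hσ : σ ∈ M24} (hn : σ none = none) (h0 : σ (some 0) = some 0)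
    {c : Finset GolayPt} {hc : IsCodeSet c} (hcn : none ∉ c) (hc0 : some 0 ∉ c)
    (hsg : ∀ p, p ≠ none → p ≠ some 0 → (p ∈ c ↔ sgnB (σ.symm p) ≠ sgnB p))
    {o : Finset GolayPt} {y : leechLattice} (hy : ∀ p, y.1 p = octVal o p) (p : GolayPt) :
    (mono hσ hc • y).1 p = octVal (σ • o) p := by
  show signedPerm σ c y.1 p = _
  have sn : σ.symm none = none := by rw [Equiv.symm_apply_eq, hn]
  have s0 : σ.symm (some 0) = some 0 := by rw [Equiv.symm_apply_eq, h0]
  simp only [signedPerm, hy, octVal, mem_smul_iff]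
  rcases eq_or_ne p none with rfl | hp
  · simp [hcn, sn]
  rcases eq_or_ne p (some 0) with rfl | hp'
  · simp [hc0, s0]
  have qn : σ.symm p ≠ none := fun e => hp (σ.symm.injective (e.trans sn.symm))
  have q0 : σ.symm p ≠ some 0 := fun e => hp' (σ.symm.injective (e.trans s0.symm))
  have := hsg p hp hp'
  rw [if_neg hp, if_neg hp', if_neg qn, if_neg q0]
  by_cases ho : σ.symm p ∈ o
  · rw [if_pos ho]
    rcases sgnB_cases p with e | e <;> rcases sgnB_cases (σ.symm p) with e' | e' <;> rw [e, e'] at this ⊢ <;> simp_all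
  · rw [if_neg ho]
    split_ifs <;> rfl

/-- The two suborbits are single orbits of the monomial stabiliser. -/
theorem suborbit {y y' : leechLattice} (hy : IsPoint y) (hy' : IsPoint y') (hne : y ≠ A0) (hne' : y' ≠ A0)
    (hiff : dotInt A0.1 y.1 = 8 ↔ dotInt A0.1 y'.1 = 8) :
    ∃ g : Co0, g • X0 = X0 ∧ g • A0 = A0 ∧ g • B0 = B0 ∧ g • y = y' := by
  have hnn : (none : GolayPt) ≠ some 0 := by simp
  rcases (classify hy).resolve_left hne with ⟨d, j, hj, hj0, hv⟩ | ⟨d, o, ho, hon, ho0, hv⟩ <;>
    rcases (classify hy').resolve_left hne' with ⟨d', j', hj', hj0', hv'⟩ | ⟨d', o', ho', hon', ho0', hv'⟩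
  · obtain ⟨σ, hσ, e⟩ := exists_map_tuple (n := 3) (by omega) ![none, some 0, j] ![none, some 0, j']
      (inj3 hnn hj.symm hj0.symm) (inj3 hnn hj'.symm hj0'.symm)
    obtain ⟨c, hc, cn, c0, hsg, g1, g2, g3⟩ := exists_lift hσ (e 0) (e 1)
    refine ⟨_, g1, g2, g3, Subtype.ext (funext fun p => ?_)⟩
    rw [lift_odd (e 0) (e 1) cn c0 hsg hj hj0 hv, show σ j = j' from e 2, hv']
  · omega
  · omega
  · obtain ⟨g, hg, eg, e1, e0⟩ : ∃ g, g ∈ M24 ∧ g • o = o' ∧ g none = none ∧ g (some 0) = some 0 := by
      have key : ∀ {u : Finset GolayPt}, u ∈ octads → none ∈ u → some 0 ∈ u →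
          ∃ g, g ∈ M24 ∧ g • OctStab.O = u ∧ g none = none ∧ g (some 0) = some 0 := by
        intro u hu hun hu0
        obtain ⟨g, hg, eg⟩ := exists_map_octad OctStab.O_mem hu
        have hin : ∀ p ∈ u, g⁻¹ p ∈ OctStab.O := fun p hp => by
          rw [← eg, ← Finset.inv_smul_mem_iff] at hp; exact hp
        obtain ⟨τ, hτ, hO, hτs⟩ := OctStab.transPair (s := {none, some 0}) (t := {g⁻¹ none, g⁻¹ (some 0)})
          (by decide +kernel)
          (by simp only [Finset.insert_subset_iff, Finset.singleton_subset_iff]; exact ⟨hin _ hun, hin _ hu0⟩)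
          (Finset.card_pair hnn) (Finset.card_pair fun h => hnn (g⁻¹.injective h))
        have a1 : τ none ∈ ({g⁻¹ none, g⁻¹ (some 0)} : Finset GolayPt) :=
          hτs ▸ Finset.smul_mem_smul_finset (a := τ) (Finset.mem_insert_self _ _)
        have a2 : τ (some 0) ∈ ({g⁻¹ none, g⁻¹ (some 0)} : Finset GolayPt) :=
          hτs ▸ Finset.smul_mem_smul_finset (a := τ) (Finset.mem_insert_of_mem (Finset.mem_singleton_self _))
        simp only [Finset.mem_insert, Finset.mem_singleton] at a1 a2
        -- a swap inside the octad stabiliser corrects the order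
        obtain ⟨s, hs, hsO, hsn, hs0⟩ : ∃ s, s ∈ M24 ∧ s • OctStab.O = OctStab.O ∧ s none = some 0 ∧ s (some 0) = none := by
          obtain ⟨q, hq⟩ : ∃ q : Fin 3 → GolayPt, Function.Injective ![none, some 0, q 0, q 1, q 2] ∧
              (∀ i, q i ∈ OctStab.O) ∧ Function.Injective ![some 0, none, q 0, q 1, q 2] :=
            ⟨![ptN 2, ptN 4, ptN 5], by decide +kernel, by decide +kernel, by decide +kernel⟩
          obtain ⟨s, hs, e⟩ := exists_map_tuple (n := 5) le_rfl ![none, some 0, q 0, q 1, q 2]
            ![some 0, none, q 0, q 1, q 2] hq.1 hq.2.2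
          refine ⟨s, hs, octad_unique (smul_mem_octads hs OctStab.O_mem) OctStab.O_mem
            (s := Finset.univ.image ![some 0, none, q 0, q 1, q 2]) ?_ ?_ ?_, e 0, e 1⟩
          · rw [Finset.card_image_of_injective _ hq.2.2, Finset.card_univ, Fintype.card_fin]
          · intro p hp
            obtain ⟨i, -, rfl⟩ := Finset.mem_image.1 hp
            rw [← e i]
            refine Finset.smul_mem_smul_finset (a := s) ?_
            fin_cases i
            exacts [show (none : GolayPt) ∈ _ by decide +kernel, show (some 0 : GolayPt) ∈ _ by decide +kernel, hq.2.1 0, hq.2.1 1, hq.2.1 2]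
          · intro p hp
            obtain ⟨i, -, rfl⟩ := Finset.mem_image.1 hp
            fin_cases i
            exacts [show (some 0 : GolayPt) ∈ _ by decide +kernel, show (none : GolayPt) ∈ _ by decide +kernel, hq.2.1 0, hq.2.1 1, hq.2.1 2]
        rcases a1 with a1 | a1 <;> rcases a2 with a2 | a2
        · exact absurd (τ.injective (a1.trans a2.symm)) hnn
        · exact ⟨g * τ, mul_mem hg hτ, by rw [mul_smul, hO, eg], by simp [a1], by simp [a2]⟩
        · exact ⟨g * τ * s, mul_mem (mul_mem hg hτ) hs, by rw [mul_smul, mul_smul, hsO, hO, eg],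
            by simp [hsn, a2], by simp [hs0, a1]⟩
        · exact absurd (τ.injective (a1.trans a2.symm)) hnn
      obtain ⟨g, hg, eg, gn, g0⟩ := key ho hon ho0
      obtain ⟨g', hg', eg', gn', g0'⟩ := key ho' hon' ho0'
      refine ⟨g' * g⁻¹, mul_mem hg' (inv_mem hg), by rw [← eg, mul_smul, inv_smul_smul, eg'], ?_, ?_⟩
      · rw [Equiv.Perm.mul_apply, Equiv.Perm.inv_eq_iff_eq.2 gn.symm, gn']
      · rw [Equiv.Perm.mul_apply, Equiv.Perm.inv_eq_iff_eq.2 g0.symm, g0']
    obtain ⟨c, hc, cn, c0, hsg, g1, g2, g3⟩ := exists_lift hg e1 e0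
    refine ⟨_, g1, g2, g3, Subtype.ext (funext fun p => ?_)⟩
    rw [lift_oct e1 e0 cn c0 hsg hv, eg, hv']

theorem ncard_points : {y : leechLattice | IsPoint y}.ncard = 100 := by
  rw [← Set.ncard_image_of_injective _ Subtype.val_injective]
  refine (congrArg Set.ncard (Set.ext fun x => ?_)).trans
    (hundred_count (v := V0) (w := W0) ?_ ?_ ?_)
  · constructor
    · rintro ⟨y, hy, rfl⟩; exact ⟨y.2, hy⟩
    · intro h; exact ⟨⟨x, h.1⟩, h.2, rfl⟩
  all_goals (simp only [V0, W0, X0, vStd, A0, B0, AddSubgroup.coe_add, AddSubgroup.coe_sub]; decide +kernel)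

theorem ncard_eight : {y : leechLattice | IsPoint y ∧ dotInt A0.1 y.1 = 8}.ncard = 22 := by
  let S : Finset GolayPt := Finset.univ \ {none, some 0}
  have hex : ∀ j ∈ S, ∃ y : leechLattice, IsPoint y ∧ dotInt A0.1 y.1 = 8 ∧ ∀ p, y.1 p = oddVal j p := fun j hj => by
    simp only [S, Finset.mem_sdiff, Finset.mem_univ, true_and, Finset.mem_insert, Finset.mem_singleton, not_or] at hj
    exact odd_point hj.1 hj.2
  choose f hf1 hf2 hf3 using hex
  refine (Set.ncard_congr (s := (S : Set GolayPt)) (t := {y : leechLattice | IsPoint y ∧ dotInt A0.1 y.1 = 8})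
    (fun j hj => f j hj) (fun j hj => ⟨hf1 j hj, hf2 j hj⟩) ?_ ?_).symm.trans ?_
  rotate_left 2
  · rw [Set.ncard_coe_finset]
    decide +kernel
  · intro i j hi hj h
    have e : oddVal i i = oddVal j i := by rw [← hf3 i hi, ← hf3 j hj, h]
    simp only [oddVal, if_true] at e
    by_contra hne
    rw [if_neg hne] at e
    rcases sgnB_cases i with r | r <;> omega
  · rintro y ⟨hy, hd⟩
    have hne : y ≠ A0 := fun e => by rw [e, dot_self, norm_A0] at hd; omega
    rcases (classify hy).resolve_left hne with ⟨-, j, hj, hj0, hv⟩ | ⟨d, -⟩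
    · have hjS : j ∈ S := by simp [S, hj, hj0]
      exact ⟨j, hjS, Subtype.ext (funext fun p => by rw [hf3 j hjS, hv])⟩
    · omega

theorem ncard_other : {y : leechLattice | IsPoint y ∧ y ≠ A0 ∧ dotInt A0.1 y.1 ≠ 8}.ncard = 77 := by
  have hfin : {y : leechLattice | IsPoint y}.Finite := Set.finite_of_ncard_ne_zero (by rw [ncard_points]; omega)
  have e : {y : leechLattice | IsPoint y ∧ y ≠ A0 ∧ dotInt A0.1 y.1 ≠ 8} =
      {y : leechLattice | IsPoint y} \ insert A0 {y : leechLattice | IsPoint y ∧ dotInt A0.1 y.1 = 8} := by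
    ext y
    simp only [Set.mem_sdiff, Set.mem_ofPred_eq, Set.mem_insert_iff, not_or, not_and]
    tauto
  have hsub : insert A0 {y : leechLattice | IsPoint y ∧ dotInt A0.1 y.1 = 8} ⊆ {y : leechLattice | IsPoint y} :=
    Set.insert_subset isPoint_A0 fun y hy => hy.1
  rw [e, Set.ncard_sdiff hsub (hfin.subset hsub),
    Set.ncard_insert_of_notMem (fun h => by have := h.2; rw [dot_self, norm_A0] at this; omega)
      (hfin.subset fun y hy => hy.1), ncard_points, ncard_eight]

end CfsgLib.Leech.HS
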