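/-
The Higman-Sims group: transitivity on the hundred points, order and simplicity.
-/
import Cfsg.Agent.Leech.HSPoints
import Cfsg.Agent.Golay.Simple

set_option autoImplicit false

namespace CfsgLib.Leech.HS

open Cfsg CfsgLib.Golay MulAction
open scoped Pointwise

/-- The joint stabiliser of the standard pair. -/
def H : Subgroup Co0 := stabilizer Co0 V0 ⊓ stabilizer Co0 W0

theorem mem_H {g : Co0} : g ∈ H ↔ g • V0 = V0 ∧ g • W0 = W0 := Iff.rfl

theorem mem_H_of_fix {g : Co0} (hX : g • X0 = X0) (hA : g • A0 = A0) (hB : g • B0 = B0) : g ∈ H := by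
  have hV : g • V0 = V0 := by rw [V0, smul_add', hA, hB]
  exact mem_H.2 ⟨hV, by rw [W0, smul_sub', hX, hV]⟩

theorem point_smul {g : Co0} (hg : g ∈ H) {y : leechLattice} (hy : IsPoint y) : IsPoint (g • y) := by
  obtain ⟨hV, hW⟩ := mem_H.1 hg
  refine ⟨(norm_smul g y).trans hy.1, ?_, ?_⟩
  · rw [← hV, dot_smul]; exact hy.2.1
  · rw [← hW, dot_smul]; exact hy.2.2

theorem dot_sub_right (x y z : leechLattice) : dotInt x.1 (y - z).1 = dotInt x.1 y.1 - dotInt x.1 z.1 := by
  simp only [dotInt, AddSubgroup.coe_sub, Pi.sub_apply, mul_sub, Finset.sum_sub_distrib]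

theorem dot_add_right (x y z : leechLattice) : dotInt x.1 (y + z).1 = dotInt x.1 y.1 + dotInt x.1 z.1 := by
  simp only [dotInt, AddSubgroup.coe_add, Pi.add_apply, mul_add, Finset.sum_add_distrib]

/-- A chain through any point of a configuration. -/
theorem exists_map_point {v w x : leechLattice} (hv : sqNorm v.1 = 48) (hw : sqNorm w.1 = 48)
    (hvw : dotInt v.1 w.1 = -32) (hx : sqNorm x.1 = 32) (hxv : dotInt v.1 x.1 = 24) (hxw : dotInt w.1 x.1 = -24) :
    ∃ g : Co0, g • v = V0 ∧ g • w = W0 ∧ g • x = A0 := by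
  obtain ⟨n1, d1⟩ := sum_pair48 hv hw hvw
  have e1 : dotInt (v + w).1 x.1 = 0 := by
    rw [dotInt_comm', dot_add_right, dotInt_comm', hxv, dotInt_comm', hxw]; rfl
  have e2 : sqNorm (v - x).1 = 32 := by rw [AddSubgroup.coe_sub, sqNorm_sub]; omega
  have e3 : dotInt (v + w).1 (v - x).1 = 16 := by
    rw [dot_sub_right, e1, dotInt_comm', d1]; rfl
  have e4 : dotInt x.1 (v - x).1 = -8 := by
    rw [dot_sub_right, dotInt_comm', hxv, dot_self, hx]; rfl
  obtain ⟨g, g1, g2, g3⟩ := transitive_triple n1 hx e2 e1 e3 e4 norm_X0 norm_A0 bList_ok.2.1 dot_X0A0 dot_X0B0 dot_A0B0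
  have gv : g • v = V0 := by
    rw [← add_sub_cancel x v, smul_add', g2, g3]; rfl
  refine ⟨g, gv, ?_, g2⟩
  rw [← add_sub_cancel_left v w, smul_sub', g1, gv]; rfl

theorem exists_map_pair {v w : leechLattice} (hv : sqNorm v.1 = 48) (hw : sqNorm w.1 = 48)
    (hvw : dotInt v.1 w.1 = -32) : ∃ g : Co0, g • v = V0 ∧ g • w = W0 := by
  obtain ⟨n1, d1⟩ := sum_pair48 hv hw hvw
  obtain ⟨a, b, ha, hb, h1, h2, h3, e⟩ := exists_chain n1 hv (by rw [dotInt_comm']; exact d1)
  obtain ⟨g, g1, g2, g3⟩ := transitive_triple n1 ha hb h1 h2 h3 norm_X0 norm_A0 bList_ok.2.1 dot_X0A0 dot_X0B0 dot_A0B0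
  have gv : g • v = V0 := by rw [e, smul_add', g2, g3]; rfl
  refine ⟨g, gv, ?_⟩
  rw [← add_sub_cancel_left v w, smul_sub', g1, gv]; rfl

theorem norm_V0 : sqNorm V0.1 = 48 := by
  show sqNorm (A0.1 + B0.1) = 48
  rw [sqNorm_add, norm_A0, dot_A0B0, show sqNorm B0.1 = 32 from bList_ok.2.1]; rfl

theorem norm_W0 : sqNorm W0.1 = 48 := by
  show sqNorm (X0.1 - V0.1) = 48
  rw [sqNorm_sub, norm_X0, norm_V0]
  have : dotInt X0.1 V0.1 = 16 := by
    show dotInt X0.1 (A0 + B0).1 = 16
    rw [dot_add_right, dot_X0A0, dot_X0B0]; rfl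
  rw [this]; rfl

theorem dot_V0W0 : dotInt V0.1 W0.1 = -32 := by
  show dotInt V0.1 (X0 - V0).1 = -32
  rw [dot_sub_right, dot_self, norm_V0]
  have : dotInt V0.1 X0.1 = 16 := by
    rw [dotInt_comm']
    show dotInt X0.1 (A0 + B0).1 = 16
    rw [dot_add_right, dot_X0A0, dot_X0B0]; rfl
  rw [this]; rfl

/-- Transitivity on the hundred points. -/
theorem orbit_A0 : orbit H A0 = {y : leechLattice | IsPoint y} := by
  ext y
  constructor
  · rintro ⟨⟨g, hg⟩, rfl⟩
    exact point_smul hg isPoint_A0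
  · intro hy
    obtain ⟨g, g1, g2, g3⟩ := exists_map_point norm_V0 norm_W0 dot_V0W0 hy.1 hy.2.1 hy.2.2
    refine ⟨⟨g⁻¹, mem_H.2 ⟨?_, ?_⟩⟩, ?_⟩
    · rw [inv_smul_eq_iff, g1]
    · rw [inv_smul_eq_iff, g2]
    · show g⁻¹ • A0 = y
      rw [inv_smul_eq_iff, g3]

/-! ### The point stabiliser -/

theorem mono_eight {σ : Equiv.Perm GolayPt} (hσ : σ ∈ M24) {c : Finset GolayPt} (hc : IsCodeSet c) (i p : GolayPt) :
    (mono hσ hc • eight i).1 p = if p = σ i then (if p ∈ c then -8 else 8) else 0 := by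
  show signedPerm σ c (Pi.single i 8) p = _
  simp only [signedPerm, Pi.single_apply, Equiv.symm_apply_eq]
  split_ifs <;> rfl

theorem mono_fix_eight {σ : Equiv.Perm GolayPt} {hσ : σ ∈ M24} {c : Finset GolayPt} {hc : IsCodeSet c} {i : GolayPt}
    (h : mono hσ hc • eight i = eight i) : σ i = i ∧ i ∉ c := by
  have e := congrArg (fun v : leechLattice => v.1 i) h
  simp only [mono_eight] at e
  rw [show (eight i).1 i = 8 from Pi.single_eq_same _ _] at e
  by_cases h1 : i = σ i
  · rw [if_pos h1] at e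
    exact ⟨h1.symm, fun hc' => by rw [if_pos hc'] at e; omega⟩
  · rw [if_neg h1] at e; omega

theorem mono_perm_inj {σ τ : Equiv.Perm GolayPt} {hσ : σ ∈ M24} {hτ : τ ∈ M24} {c d : Finset GolayPt}
    {hc : IsCodeSet c} {hd : IsCodeSet d} (h : mono hσ hc = mono hτ hd) : σ = τ := by
  refine Equiv.ext fun i => ?_
  by_contra hne
  have e := mono_eight hσ hc i (σ i)
  rw [h, mono_eight, if_pos rfl, if_neg hne] at e
  split_ifs at e <;> omega

theorem B0_ne (p : GolayPt) : vecOf bList p ≠ 0 := by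
  rcases eq_or_ne p (some 0) with rfl | hp
  · rw [bList_ok.2.2.2.1]; norm_num
  · have := bList_ok.2.2.2.2 p hp; omega

theorem signs_unique {σ τ : Equiv.Perm GolayPt} {hσ : σ ∈ M24} {hτ : τ ∈ M24} {c d : Finset GolayPt}
    {hc : IsCodeSet c} {hd : IsCodeSet d} (e : σ = τ) (h : mono hσ hc • B0 = B0) (h' : mono hτ hd • B0 = B0) :
    mono hσ hc = mono hτ hd := by
  refine mono_congr e (Finset.ext fun p => ?_)
  have h1 : signedPerm σ c (vecOf bList) p = signedPerm τ d (vecOf bList) p :=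
    congrArg (fun v : leechLattice => v.1 p) (h.trans h'.symm)
  have := B0_ne (τ.symm p)
  subst e
  by_cases p1 : p ∈ c <;> by_cases p2 : p ∈ d <;> simp [signedPerm, p1, p2] at h1 ⊢ <;> omega

theorem eight_none : eight none = X0 + A0 := Subtype.ext (funext fun p => by
  show (Pi.single none 8 : GolayPt → ℤ) p = vecOf repPair p + vecOf repAnti p
  rw [Pi.single_apply, repPair_eq, anti_ok.2]
  rcases eq_or_ne p none with rfl | hp
  · simp
  · by_cases h : p = some 0 <;> simp [hp, h])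

theorem eight_zero : eight (some 0) = X0 - A0 := Subtype.ext (funext fun p => by
  show (Pi.single (some 0) 8 : GolayPt → ℤ) p = vecOf repPair p - vecOf repAnti p
  rw [Pi.single_apply, repPair_eq, anti_ok.2]
  rcases eq_or_ne p none with rfl | hp
  · simp
  · by_cases h : p = some 0 <;> simp [hp, h])

theorem fix_of_mem {g : Co0} (hg : g ∈ H) (hA : g • A0 = A0) : g • X0 = X0 ∧ g • B0 = B0 := by
  obtain ⟨hV, hW⟩ := mem_H.1 hg
  refine ⟨?_, ?_⟩
  · rw [show X0 = W0 + V0 from (sub_add_cancel X0 V0).symm, smul_add', hV, hW]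
  · rw [show B0 = V0 - A0 from (add_sub_cancel_left A0 B0).symm, smul_sub', hV, hA]

/-- The signed permutation over a permutation fixing the pair. -/
theorem exists_lifted (σ : fixGroup [2 ^ 23, 2 ^ 0]) : ∃ h : stabilizer H A0,
    ∃ (c : Finset GolayPt) (hc : IsCodeSet c), (h.1.1 : Co0) = mono (Simple.mem_K22.1 σ.2).1 hc := by
  obtain ⟨hσ, hn, h0⟩ := Simple.mem_K22.1 σ.2
  obtain ⟨c, hc, -, -, -, g1, g2, g3⟩ := exists_lift hσ hn h0
  exact ⟨⟨⟨_, mem_H_of_fix g1 g2 g3⟩, g2⟩, c, hc, rfl⟩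

/-- The embedding of the permutation group. -/
noncomputable def liftHom : fixGroup [2 ^ 23, 2 ^ 0] →* stabilizer H A0 :=
  MonoidHom.mk' (fun σ => (exists_lifted σ).choose) fun σ τ => by
    obtain ⟨c, hc, e1⟩ := (exists_lifted σ).choose_spec
    obtain ⟨d, hd, e2⟩ := (exists_lifted τ).choose_spec
    obtain ⟨b, hb, e3⟩ := (exists_lifted (σ * τ)).choose_spec
    have hB : ∀ h : stabilizer H A0, (h.1.1 : Co0) • B0 = B0 := fun h => (fix_of_mem h.1.2 h.2).2
    refine Subtype.ext (Subtype.ext ?_)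
    show _ = ((exists_lifted σ).choose.1.1 : Co0) * ((exists_lifted τ).choose.1.1 : Co0)
    rw [e1, e2, e3, mono_mul]
    refine signs_unique rfl ?_ ?_
    · rw [← e3]; exact hB _
    · rw [← mono_mul (Simple.mem_K22.1 σ.2).1 (Simple.mem_K22.1 τ.2).1 hc hd, ← e1, ← e2, mul_smul, hB, hB]

theorem liftHom_bijective : Function.Bijective liftHom := by
  constructor
  · intro σ τ h
    obtain ⟨c, hc, e1⟩ := (exists_lifted σ).choose_spec
    obtain ⟨d, hd, e2⟩ := (exists_lifted τ).choose_spec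
    have h' : ((exists_lifted σ).choose.1.1 : Co0) = (exists_lifted τ).choose.1.1 :=
      congrArg (fun h : stabilizer H A0 => (h.1.1 : Co0)) h
    rw [e1, e2] at h'
    exact Subtype.ext (mono_perm_inj h')
  · rintro ⟨⟨g, hg⟩, hA⟩
    obtain ⟨hX, hB⟩ := fix_of_mem hg hA
    have hn : g • eight none = eight none := by rw [eight_none, smul_add', hX, show g • A0 = A0 from hA]
    have h0 : g • eight (some 0) = eight (some 0) := by rw [eight_zero, smul_sub', hX, show g • A0 = A0 from hA]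
    obtain ⟨σ, hσ, c, hc, rfl⟩ := exists_mono (mem_crossStab_of_eight (i := none) (by rw [hn]; exact eight_mem_cross none))
    let s : fixGroup [2 ^ 23, 2 ^ 0] := ⟨σ, Simple.mem_K22.2 ⟨hσ, (mono_fix_eight hn).1, (mono_fix_eight h0).1⟩⟩
    obtain ⟨d, hd, e⟩ := (exists_lifted s).choose_spec
    refine ⟨s, Subtype.ext (Subtype.ext (e.trans (signs_unique rfl ?_ hB)))⟩
    rw [← e]
    exact (fix_of_mem (exists_lifted s).choose.1.2 (exists_lifted s).choose.2).2

theorem card_stab : Nat.card (stabilizer H A0) = 443520 := by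
  obtain ⟨e⟩ := Simple.equiv_K22 none (some 0) (by decide)
  rw [← Nat.card_congr (MulEquiv.ofBijective liftHom liftHom_bijective).toEquiv, ← Nat.card_congr e.toEquiv]
  exact Cfsg.Agent.S0378.result none (some 0) (by decide)

theorem simple_stab : IsSimpleGroup (stabilizer H A0) := by
  haveI := Simple.simple_K22
  exact (MulEquiv.ofBijective liftHom liftHom_bijective).symm.isSimpleGroup

theorem card_H : Nat.card H = 44352000 := by
  rw [← Subgroup.card_mul_index (stabilizer H A0), index_stabilizer, orbit_A0, ncard_points, card_stab]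

theorem finite_H : Finite H := Nat.finite_of_card_ne_zero (by rw [card_H]; omega)

/-! ### Simplicity -/

theorem finite_points : {y : leechLattice | IsPoint y}.Finite :=
  Set.finite_of_ncard_ne_zero (by rw [ncard_points]; omega)

theorem invariant_ncard {T : Set leechLattice} (hT : ∀ y ∈ T, IsPoint y ∧ y ≠ A0)
    (hinv : ∀ g : Co0, g ∈ H → g • A0 = A0 → ∀ y ∈ T, g • y ∈ T) :
    T.ncard = 0 ∨ T.ncard = 22 ∨ T.ncard = 77 ∨ T.ncard = 99 := by
  let P : Set leechLattice := {y | IsPoint y ∧ dotInt A0.1 y.1 = 8}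
  let Q : Set leechLattice := {y | IsPoint y ∧ y ≠ A0 ∧ dotInt A0.1 y.1 ≠ 8}
  have hfull : ∀ y ∈ T, ∀ z, IsPoint z → z ≠ A0 →
      (dotInt A0.1 y.1 = 8 ↔ dotInt A0.1 z.1 = 8) → z ∈ T := fun y hy z hz hz' hiff => by
    obtain ⟨g, g1, g2, g3, e⟩ := suborbit (hT y hy).1 hz (hT y hy).2 hz' hiff
    exact e ▸ hinv g (mem_H_of_fix g1 g2 g3) g2 y hy
  have hPne : ∀ y ∈ P, y ≠ A0 := fun y hy e => by
    have := hy.2; rw [e, dot_self, norm_A0] at this; omega
  by_cases h1 : ∃ y ∈ T, dotInt A0.1 y.1 = 8 <;> by_cases h2 : ∃ y ∈ T, dotInt A0.1 y.1 ≠ 8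
  · obtain ⟨y, hy, e⟩ := h1
    obtain ⟨y', hy', e'⟩ := h2
    have hT' : T = {z : leechLattice | IsPoint z} \ {A0} := by
      ext z
      refine ⟨fun hz => ⟨(hT z hz).1, (hT z hz).2⟩, fun ⟨hz, hz'⟩ => ?_⟩
      by_cases hd : dotInt A0.1 z.1 = 8
      · exact hfull y hy z hz hz' (iff_of_true e hd)
      · exact hfull y' hy' z hz hz' (iff_of_false e' hd)
    right; right; right
    rw [hT', Set.ncard_sdiff_singleton_of_mem (show A0 ∈ {z : leechLattice | IsPoint z} from isPoint_A0), ncard_points]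
  · obtain ⟨y, hy, e⟩ := h1
    push Not at h2
    have hT' : T = P := by
      ext z
      exact ⟨fun hz => ⟨(hT z hz).1, h2 z hz⟩, fun hz => hfull y hy z hz.1 (hPne z hz) (iff_of_true e hz.2)⟩
    right; left
    rw [hT']; exact ncard_eight
  · obtain ⟨y', hy', e'⟩ := h2
    push Not at h1
    have hT' : T = Q := by
      ext z
      exact ⟨fun hz => ⟨(hT z hz).1, (hT z hz).2, h1 z hz⟩, fun hz => hfull y' hy' z hz.1 hz.2.1 (iff_of_false e' hz.2.2)⟩
    right; right; left
    rw [hT']; exact ncard_other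
  · left
    push Not at h1 h2
    rw [Set.ncard_eq_zero (finite_points.subset fun y hy => (hT y hy).1)]
    exact Set.eq_empty_of_forall_notMem fun y hy => h1 y hy (h2 y hy)

theorem isSimpleGroup_H : IsSimpleGroup H := by
  haveI := finite_H
  haveI := simple_stab
  haveI : Nontrivial H := Finite.one_lt_card_iff_nontrivial.1 (by rw [card_H]; omega)
  refine ⟨fun N hN => or_iff_not_imp_left.2 fun hne => ?_⟩
  haveI := hN
  set L := stabilizer H A0 with hL
  let O : Set leechLattice := orbit N A0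
  have hOpt : ∀ y ∈ O, IsPoint y := by
    rintro _ ⟨n, rfl⟩
    exact point_smul n.1.2 isPoint_A0
  have hidx : (stabilizer N A0).index = O.ncard := index_stabilizer _ _
  have hcardN : Nat.card (stabilizer N A0) * O.ncard = Nat.card N := by
    rw [← hidx]; exact Subgroup.card_mul_index _
  have hOT : (O \ {A0}).ncard = 0 ∨ (O \ {A0}).ncard = 22 ∨ (O \ {A0}).ncard = 77 ∨ (O \ {A0}).ncard = 99 := by
    refine invariant_ncard (fun y hy => ⟨hOpt y hy.1, hy.2⟩) fun g hg hA y hy => ⟨?_, fun e => hy.2 ?_⟩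
    · obtain ⟨n, rfl⟩ := hy.1
      refine ⟨⟨⟨g, hg⟩ * n.1 * (⟨g, hg⟩ : H)⁻¹, hN.conj_mem _ n.2 _⟩, ?_⟩
      show (g * n.1.1 * g⁻¹) • A0 = g • (n.1.1 • A0)
      rw [mul_smul, mul_smul, inv_smul_eq_iff.2 hA.symm]
    · exact smul_left_cancel g ((Set.mem_singleton_iff.1 e).trans hA.symm)
  have hOsize : O.ncard = (O \ {A0}).ncard + 1 :=
    (Set.ncard_sdiff_singleton_add_one (mem_orbit_self A0) (finite_points.subset hOpt)).symm
  have hO1 : O.ncard ≠ 1 := by
    intro h1
    -- then all of `N` fixes every point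
    obtain ⟨a, ha⟩ := Set.ncard_eq_one.1 h1
    have hfixA : ∀ n : H, n ∈ N → n • A0 = A0 := fun n hn => by
      have m1 : n • A0 ∈ O := ⟨⟨n, hn⟩, rfl⟩
      have m2 : A0 ∈ O := mem_orbit_self A0
      rw [ha, Set.mem_singleton_iff] at m1 m2
      exact m1.trans m2.symm
    have hle : N ≤ L := fun n hn => mem_stabilizer_iff.2 (hfixA n hn)
    have hfix : ∀ n : H, n ∈ N → ∀ y, IsPoint y → n • y = y := fun n hn y hy => by
      obtain ⟨h, rfl⟩ : y ∈ orbit H A0 := by rw [orbit_A0]; exact hy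
      have := hfixA _ (hN.conj_mem n hn h⁻¹)
      rw [inv_inv, mul_smul, mul_smul, inv_smul_eq_iff] at this
      exact this
    rcases (show IsSimpleGroup L from inferInstance).eq_bot_or_eq_top_of_normal (N.subgroupOf L) Subgroup.normal_subgroupOf with h | h
    · exact hne ((Subgroup.eq_bot_iff_forall _).2 fun n hn => by
        have : (⟨n, hle hn⟩ : L) ∈ N.subgroupOf L := hn
        rw [h, Subgroup.mem_bot] at this
        exact congrArg Subtype.val this)
    · obtain ⟨y, hy, z, hz, hyz⟩ := (Set.one_lt_ncard (finite_points.subset fun y hy => hy.1)).1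
        (show 1 < {y : leechLattice | IsPoint y ∧ dotInt A0.1 y.1 = 8}.ncard by rw [ncard_eight]; omega)
      have hne' : ∀ {u : leechLattice}, dotInt A0.1 u.1 = 8 → u ≠ A0 := fun hu e => by
        rw [e, dot_self, norm_A0] at hu; omega
      obtain ⟨g, g1, g2, g3, e⟩ := suborbit hy.1 hz.1 (hne' hy.2) (hne' hz.2) (iff_of_true hy.2 hz.2)
      have hgN : (⟨g, mem_H_of_fix g1 g2 g3⟩ : H) ∈ N := by
        have : (⟨⟨g, mem_H_of_fix g1 g2 g3⟩, g2⟩ : L) ∈ N.subgroupOf L := h ▸ Subgroup.mem_top _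
        exact this
      exact hyz ((hfix _ hgN y hy.1).symm.trans e)
  rcases (show IsSimpleGroup L from inferInstance).eq_bot_or_eq_top_of_normal (N.subgroupOf L) Subgroup.normal_subgroupOf with h | h
  · -- regular: impossible
    exfalso
    have hbot : stabilizer N A0 = ⊥ := (Subgroup.eq_bot_iff_forall _).2 fun n hn => by
      have : (⟨n.1, hn⟩ : L) ∈ N.subgroupOf L := n.2
      rw [h, Subgroup.mem_bot] at this
      exact Subtype.ext (congrArg (fun z : L => (z : H)) this)
    rw [hbot, Subgroup.card_bot, one_mul] at hcardN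
    have hdvd : Nat.card N ∣ 44352000 := card_H ▸ Subgroup.card_subgroup_dvd_card N
    have h100 : Nat.card N = 100 := by
      rw [← hcardN] at hdvd ⊢
      rcases hOT with e | e | e | e <;> rw [hOsize, e] at hO1 hdvd ⊢ <;> first | omega | norm_num at hdvd
    haveI : Fact (Nat.Prime 5) := ⟨by norm_num⟩
    obtain ⟨P⟩ : Nonempty (Sylow 5 N) := inferInstance
    have hP : Nat.card P = 25 := by
      rw [Sylow.card_eq_multiplicity P, h100]
      have hf : (100 : ℕ).factorization 5 = 2 := by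
        rw [Nat.factorization_def _ (by norm_num), show (100 : ℕ) = 5 ^ 2 * 4 by norm_num,
          padicValNat.mul (by norm_num) (by norm_num), padicValNat.prime_pow,
          padicValNat.eq_zero_of_not_dvd (by norm_num)]
      rw [hf]; norm_num
    have hS : Nat.card (Sylow 5 N) = 1 := by
      have hd := P.card_dvd_index
      have hi : (P : Subgroup N).index = 4 := by
        have := Subgroup.card_mul_index (P : Subgroup N)
        rw [h100, show Nat.card (P : Subgroup N) = 25 from hP] at this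
        omega
      rw [hi] at hd
      have hm := card_sylow_modEq_one 5 N
      have := Nat.le_of_dvd (by norm_num) hd
      have : Nat.card (Sylow 5 N) ≠ 0 := Nat.card_pos.ne'
      unfold Nat.ModEq at hm
      omega
    have hmem : ∀ n : N, n ^ 25 = 1 ↔ n ∈ (P : Subgroup N) := fun n => by
      constructor
      · intro hn
        have hp : IsPGroup 5 (Subgroup.zpowers n) := by
          rintro ⟨x, k, rfl⟩
          refine ⟨2, Subtype.ext ?_⟩
          show (n ^ k) ^ (5 ^ 2) = 1
          rw [← zpow_natCast (n ^ k), ← zpow_mul, mul_comm, zpow_mul, zpow_natCast, show 5 ^ 2 = 25 from rfl, hn, one_zpow]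
        obtain ⟨Q, hQ⟩ := hp.exists_le_sylow
        haveI := (Nat.card_eq_one_iff_unique.1 hS).1
        rw [Subsingleton.elim P Q]
        exact hQ (Subgroup.mem_zpowers n)
      · intro hn
        have := pow_card_eq_one' (x := (⟨n, hn⟩ : (P : Subgroup N)))
        rw [show Nat.card (P : Subgroup N) = 25 from hP] at this
        exact congrArg Subtype.val this
    let f : N → leechLattice := fun n => n • A0
    have hf : Function.Injective f := fun a b hab => by
      have : b⁻¹ * a ∈ stabilizer N A0 := by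
        rw [mem_stabilizer_iff, mul_smul, inv_smul_eq_iff]; exact hab
      rw [hbot, Subgroup.mem_bot, inv_mul_eq_one] at this
      exact this.symm
    let T : Set leechLattice := f '' {n : N | n ^ 25 = 1 ∧ n ≠ 1}
    have hTc : T.ncard = 24 := by
      rw [Set.ncard_image_of_injective _ hf,
        show {n : N | n ^ 25 = 1 ∧ n ≠ 1} = ((P : Subgroup N) : Set N) \ {1} from Set.ext fun n => by
          simp only [Set.mem_sdiff, Set.mem_singleton_iff, Set.mem_ofPred_eq, hmem n, SetLike.mem_coe],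
        Set.ncard_sdiff_singleton_of_mem (one_mem _), ← Nat.card_coe_set_eq]
      exact (congrArg (· - 1) hP).trans rfl
    have hTinv := invariant_ncard (T := T) ?_ ?_
    · omega
    · rintro _ ⟨n, ⟨-, hn⟩, rfl⟩
      exact ⟨hOpt _ ⟨n, rfl⟩, fun e => hn (hf (e.trans (one_smul N A0).symm))⟩
    · rintro g hg hA _ ⟨n, ⟨h25, hn⟩, rfl⟩
      let c : N ≃* N := MulAut.conjNormal (⟨g, hg⟩ : H)
      refine ⟨c n, ⟨by rw [← map_pow, h25, map_one], fun e => hn (c.injective (e.trans (map_one c).symm))⟩, ?_⟩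
      show (((c n : N) : H) : Co0) • A0 = g • ((n : H) : Co0) • A0
      rw [show ((c n : N) : H) = ⟨g, hg⟩ * n * (⟨g, hg⟩ : H)⁻¹ from MulAut.conjNormal_apply _ _]
      show (g * n.1.1 * g⁻¹) • A0 = _
      rw [mul_smul, mul_smul, inv_smul_eq_iff.2 hA.symm]
  · rw [Subgroup.subgroupOf_eq_top] at h
    have hst : Nat.card (stabilizer N A0) = 443520 := by
      rw [← card_stab]
      exact Nat.card_congr
        { toFun := fun x => ⟨x.1.1, x.2⟩
          invFun := fun x => ⟨⟨x.1, h x.2⟩, x.2⟩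
          left_inv := fun x => rfl
          right_inv := fun x => rfl }
    rw [hst] at hcardN
    refine Subgroup.eq_top_of_card_eq N ?_
    have hdvd : Nat.card N ∣ 44352000 := card_H ▸ Subgroup.card_subgroup_dvd_card N
    rw [card_H, ← hcardN]
    rw [← hcardN] at hdvd
    rcases hOT with e | e | e | e <;> rw [hOsize, e] at hO1 hdvd ⊢ <;> first | omega | norm_num at hdvd

/-! ### Transport -/

theorem equiv_H {v w : leechLattice} {g : Co0} (hv : g • v = V0) (hw : g • w = W0) :
    Nonempty (↥(stabilizer Co0 v ⊓ stabilizer Co0 w) ≃* H) := by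
  have e : (stabilizer Co0 v ⊓ stabilizer Co0 w).map (MulAut.conj g).toMonoidHom = H := by
    ext x
    rw [Subgroup.mem_map_equiv, MulAut.conj_symm_apply, Subgroup.mem_inf, mem_stabilizer_iff, mem_stabilizer_iff,
      mem_H, mul_smul, mul_smul, inv_smul_eq_iff, mul_smul, mul_smul, inv_smul_eq_iff, hv, hw]
  exact ⟨((stabilizer Co0 v ⊓ stabilizer Co0 w).equivMapOfInjective _ (MulAut.conj g).injective).trans
    (MulEquiv.subgroupCongr e)⟩

theorem isHS {v w : leechLattice} (hv : sqNorm v.1 = 48) (hw : sqNorm w.1 = 48) (hvw : dotInt v.1 w.1 = -32) :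
    IsHS ↥(stabilizer Co0 v ⊓ stabilizer Co0 w) := by
  obtain ⟨g, gv, gw⟩ := exists_map_pair hv hw hvw
  obtain ⟨e⟩ := equiv_H gv gw
  haveI := isSimpleGroup_H
  exact ⟨e.isSimpleGroup, (Nat.card_congr e.toEquiv).trans card_H⟩

end CfsgLib.Leech.HS
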