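/-
Matrices and certificates for the multiplier of the second Conway group.
-/
import Cfsg.Agent.SchurCert.Gen

set_option autoImplicit false
set_option maxRecDepth 100000

namespace CfsgLib.Leech.Co2Mult

open CfsgLib.M23Coh (Step)

def p2Mats : List (List ℕ) :=
  [[9619703812117222042969618126894569257939173921257144769177958128267671479055038301129717653507438136058628800520, 4809888602596411592251961864670007025873776061092905673969426218569707395620320208916062104667857879659549556744, 4809888602596411592251961864670007025873776061092905673969426218569707395620320209549887404929546532997577572360, 4809888602596411592251961864670007025873776276772479011174544575905828091777365598013217485140011681078107963400, 4809888602596411592251961864670007025873776061092905673969426218569707395620320208916062104815431832249225445384, 4809888602596411592251961864670007025873776061092905673969426218569707395620361747290930383436460076219859730440, 4809888602596411592251961864670007025873776061092905673969426218569707395620320208916062104815431832283585708040, 4809888602596411592251961864670007025873776061092905673969426218569707395620320208916071776221988749282623619080, 4809888602596411592251961864670007025859641284574678599332759838563764047493700337741057153150458982638885011464,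 4809888602596411592251961864670007952210489959622469062537306288072970221780197534040574420476103895554263089160, 4809888602596411591991221259699192806831415012976505269354838264180467555538894231398701298445724733857751105544, 4809888603716283963340863969948728166157998200153728422586750986019701946102216144506142577505870578885029527560, 4809888602596411592251961864670007025873776061089614664854783806485397457255205507906096633084164672522528751624, 4809888602596411592251961864670007025873776061092905623752612335476261284934004823254730775996588276536949866504, 4809888602596411592251961864670007025873776061092905673969426218569707395620320208916062104815434084049039654920, 4809888602596411592251961864670007025873776061092905673969426218569707392898061273548554397108434972795080278024, 4809888602596411592251961864670007025873776061092905673969426218569885801581908453901194390561613019141273813000, 4809815210640699909963590318401357359091670571013252288973466615726847014088285377402203864221732308227256221704, 4809888602596394504355674497389347865700126704675988852333247365347547819287457631158255859691031648552530477064, 4809888602596411592251961864670007025873776061092905673969426206877694296973096863286583443085167675001765625864,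 4809888602596411592251957886084115747580638818034920499402705414920501016838580685204246959539455731982221705224, 4809888602596411592251961864670007025873776061092905673970192466340140340049499382429637259407241201810317770760, 4809888602596411592251961864609298622991722027626672489381191252737132181899940848876942967011091073336563204104, 4809888602596411592251961864670007025873776061092905673969426218569707395620320208916062104815431832249225969680],
   [4809888602596411592251961864670007025873776061092905673969426218569707395620320208916062104815431832249225969680, 4809888602596411592251961864670007025873776061092905673969426218569885801581908453901194390561613019141273813000, 4809888602596411592251961864670007025873776061092905673969426218569707395620320208282236804701317131500874366984, 4809888603716283963340863969948728166157998200153728422586750986019701946102216144506142577505870578885029527560, 4809888602596411592251961864670007025873776061092905623752612335476261284934004823254730775996588276536949866504, 4809888602596411592251961864670006099537062162563342285401546149066444569460442883791549789154759768944188850184, 4809888602596411592251961864670007025873776061092905673969426218569707395620320208916062104815431832214866231304,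 4809888602596411592251961864670007025873776061089614664854783806485397457255205507906096633084164672522528751624, 4809888602596411592251961864670007025873776061092905673969426218569707392898061273548554397108434972795080278024, 4809888602596411592251961864670007025873776061092905673969426218569707395620320208916071776221988749282623619080, 4809888602596411592251961864670007025873776061092905673969426218569707395620320208916062104815429580449412284424, 4809888602596394504355674497389347865700126704675988852333247365347547819287457631158255859691031648552530477064, 4809888602596411592251961864670007025873776061092905673969426218569707395620361747290930383436460076219859730440, 4809888602596411592251961864670007025873776061092905673969426218569707395620320208916062104667857879659549556744, 4809888602596411592251961864670007025873776061092905673969426230261720494267543554545540766545695989496686313480, 4809888602596411592251961864670007025887910837611132748606092598575650743746940080091067056480404681859566927880, 4809888602596411592251961864670007025873776061092905673969426218569707395620320208916062104815431832249226493960, 4809961994552123274540333410938656692655881551172559058965385821412567777152355040429920345409131356271195717640,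 4809888602596411592251961864670007025873776061092905673968659970799274451191141035402486950223622462688134168584, 4809888602596411592251965843255898304166913304150890848536147022218913774402059732627877250091407932516230234120, 4809888602596411592512702469640821244916137109209306078584014172958947235701746186433422911185138930640700833800, 4809888602596411592251961864670007025873775845413332336764307861233586699463274819818906724490851983420343975944, 4809888602596411592251961864609298622991722027626672489381191252737132181899940848876942967011091073336563204104, 9619703812117222042969618126894569257939173921257144769177958128267671479055038301129717653507438136058628800520],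
   [4809888602596411592251961864670007025873776061092905673969426218569707395620320208916062104815431832249225969680, 4809888602596411592251961864670007025873776276772479011174544575905828091777365598013217485140011681078107963400, 4809888602596411592251961864670007025873776061092905673969426218569707395620320208916062104815431832214866231304, 4809888602596411592251961864670007025873776061092905673970192466340140340049499382429637259407241201810317770760, 4809888602596411592251961864670007025873776061092905673969426218569707395620320208916062104815429580449412284424, 4809888602596394504355674497389347865700126704675988852333247365347547819287457631158255859691031648552530477064, 4809888602596411592251961864670007025873776061092905673969426218569707395620320208282236804701317131500874366984, 4809888602596411592251957886084115747580638818034920499402705414920501016838580685204246959539455731982221705224, 4809888602596411592251961864670007025887910837611132748606092598575650743746940080091067056480404681859566927880, 4809888602596411592251961864670007025873776061092905673969426218569707395620278670541193826194403588278592208904, 4809888602596411592251961864670007952210489959622469062537306288072970221780197534040574420476103895554263089160,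 4809888602596411592251961864670007025873776061092905724186240101663153506306635594577393433634275387961502072840, 4809888602596411592251961864670007025873776061092905673969426218569707395620320208916062104667857879659549556744, 4809888602596411592251961864670007025873776061092905673969426218569707395620320208916062104815431832249225445384, 4809888603716283963340863969948728166157998200153728422586750986019701946102216144506142577505870578885029527560, 4809888602596411592251961864670007025873776061092905673969426218569707392898061273548554397108434972795080278024, 4809888602596411592251961864670007025873776061092905673969426218569707395620320208916071776221988749282623619080, 4809961994552123274540333410938656692655881551172559058965385821412567777152355040429920345409131356271195717640, 4809888602596411592512702469640821244916137109209306078584014172958947235701746186433422911185138930640700833800, 4809888602596411592251961864670007025873776061092905673969426218569885801581908453901194390561613019141273813000, 4809888602596411592251961864670007025873776061092905673969426206877694296973096863286583443085167675001765625864, 4809888602596411592251961864670007025873776061089614664854783806485397457255205507906096633084164672522528751624,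 4809888602596411592251961864609298622991722027626672489381191252737132181899940848876942967011091073336563204104, 9619703812117222042969618126894569257939173921257144769177958128267671479055038301129717653507438136058628800520],
   [4809888602596411592251961864670007025873776061092905673969426218569707395620320208916062104815431832249225969680, 4809888602596411592251961864670007025873776061092905673969426218569707395620320208916062104815431832249225445384, 4809888602596411592251961864670007025873776061092905673969426218569707395620320208916062104815431832283585708040, 4809888602596411592251961864670007025873776061092905673969426218569707395620320208916062104815434084049039654920, 4809888602596411592251961864670007025873776061092905673969426218569707395620320208916062104963005784838902382600, 4809888602596411592251961864670007025873776061092905673969426218569707395620320208916052433408874915215828320264, 4809888602596411592251961864670007025873776061092905673969426218569707395620320208282236804701317131500874366984, 4809888602596411592251961864670007025873776061092905673969426218569707395620278670541193826194403588278592208904, 4809888602596411592251961864670007025873776061092905673969426218569707398342579144283569812522428691703371661320,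 4809888602596411592251961864670007025873776061092905673969426218569885801581908453901194390561613019141273813000, 4809888602596411592251961864670007025873776061092905673969426206877694296973096863286583443085167675001765625864, 4809888602596411592251961864670007025873776061092905673968659970799274451191141035402486950223622462688134168584, 4809888602596411592251961864670007025873776061092905623752612335476261284934004823254730775996588276536949866504, 4809888602596411592251961864670007025873776061089614664854783806485397457255205507906096633084164672522528751624, 4809888602596411592251961864670007025873775845413332336764307861233586699463274819818906724490851983420343975944, 4809888602596411592251961864670007025859641284574678599332759838563764047493700337741057153150458982638885011464, 4809888602596411592251961864670006099537062162563342285401546149066444569460442883791549789154759768944188850184, 4809888602596411592251961864609298622991722027626672489381191252737132181899940848876942967011091073336563204104, 4809888602596411592251957886084115747580638818034920499402705414920501016838580685204246959539455731982221705224, 4809888602596411591991221259699192806831415012976505269354838264180467555538894231398701298445724733857751105544,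 4809888602596394504355674497389347865700126704675988852333247365347547819287457631158255859691031648552530477064, 4809888603716283963340863969948728166157998200153728422586750986019701946102216144506142577505870578885029527560, 4809815210640699909963590318401357359091670571013252288973466615726847014088285377402203864221732308227256221704, 9619703812117222042969618126894569257939173921257144769177958128267671479055038301129717653507438136058628800520],
   [4809888602596411592251961864670007025873776061092905673969426218569707395620320208916062104815431832249225969680, 4809888602596411592251961864670007025873776061092905673969426218569885801581908453901194390561613019141273813000, 4809888602596411592251961864670007025873776061092905673969426218569707395620320208916062104815431832283585708040, 4809888602596411592251961864670007025873776061092905673969426206877694296973096863286583443085167675001765625864, 4809888602596411592251961864670007025873776061092905673969426218569707395620320208916062104815429580449412284424, 4809888602596428680148249231950666186047425417509822495605605071791866971953182786673868349939832015945921462280, 4809888602596411592251961864670007025873776061092905673969426218569707395620320209549887404929546532997577572360,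 4809888602596411592251961864670007025873776061096196683084068630654017333985434909926027576546698991975923187720, 4809815210640699909963590318401357359091670571013252288973466615726847014088285377402203864221732308227256221704, 4809888602596411591991221259699192806831415012976505269354838264180467555538894231398701298445724733857751105544, 4809888602596411592251961864670007952210489959622469062537306288072970221780197534040574420476103895554263089160, 4809888602596411592251961864670007025873776061092905623752612335476261284934004823254730775996588276536949866504, 4809888602596411592251961864670007025873776061092905673969426218569707395620320208916071776221988749282623619080, 4809888603716283963340863969948728166157998200153728422586750986019701946102216144506142577505870578885029527560, 4809888602596411592251961864670007025873776061092905673969426218569707395620320208916062104815431832249225445384, 4809888602596411592251961864730715428755830094559138858557661184402282609340699568955181242619772591161888735240, 4809888602596411592251961864670007025873776061092905673969426218569707395620320208916062104963005784838902382600, 4809888602596411592251961864670007025887910837611132748606092598575650743746940080091067056480404681859566927880,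 4809888602596411592251961864670007025873776061092905673969426218569707395620361747290930383436460076219859730440, 4809888602596411592251961864670007025873776276772479011174544575905828091777365598013217485140011681078107963400, 4809888602596411592251961864670007025873776061092905673968659970799274451191141035402486950223622462688134168584, 4809888602596411592251965843255898304166913304150890848536147022218913774402059732627877250091407932516230234120, 4809888602596411592251961864670007025873776061092905673969426218569707392898061273548554397108434972795080278024, 9619703812117222042969618126894569257939173921257144769177958128267671479055038301129717653507438136058628800520],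
   [4809888602596411592251961864670007025873776061092905673969426218569707395620320208916062104815431832249225969680, 4809888602596411592251961864670007025873776061092905673969426218569707395620320208916062104963005784838902382600, 4809888602596411592251961864670007025873776061092905673969426218569707395620320208916062104815431832283585708040, 4809888602596411592251961864670007025873776061089614664854783806485397457255205507906096633084164672522528751624, 4809888602596411592251961864670007025873776061092905673969426218569707395620278670541193826194403588278592208904, 4809888602596411592251961864670007025873776061092905673969426218569707395620320208916062104815431832249226493960, 4809888602596411592251961864670007025873776061092905673969426218569707395620320209549887404929546532997577572360, 4809888602596411592251961864670007025873776061092905673969426218569707395620320208916052433408874915215828320264, 4809888602596411592251961864670007025887910837611132748606092598575650743746940080091067056480404681859566927880, 4809888602596411592251961864670007025873776061092905673969426218569707395620320208916062104815429580449412284424, 4809888603716283963340863969948728166157998200153728422586750986019701946102216144506142577505870578885029527560,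 4809888602596411591991221259699192806831415012976505269354838264180467555538894231398701298445724733857751105544, 4809888602596411592251961864670007025873775845413332336764307861233586699463274819818906724490851983420343975944, 4809888602596394504355674497389347865700126704675988852333247365347547819287457631158255859691031648552530477064, 4809888602596411592251961864670007952210489959622469062537306288072970221780197534040574420476103895554263089160, 4809888602596411592251961864670007025873776061092905673969426218569707398342579144283569812522428691703371661320, 4809888602596411592251957886084115747580638818034920499402705414920501016838580685204246959539455731982221705224, 4809815210640699909963590318401357359091670571013252288973466615726847014088285377402203864221732308227256221704, 4809888602596411592251961864670007025873776061092905724186240101663153506306635594577393433634275387961502072840, 4809888602596411592251961864670007025873776061092905673969426230261720494267543554545540766545695989496686313480, 4809888602596411592251961864670007025873776061092905673969426218569528989658731963930929819069250645357178126344, 4809888602596411592251961864670007025873776061092905673968659970799274451191141035402486950223622462688134168584,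 4809888602596411592251961864609298622991722027626672489381191252737132181899940848876942967011091073336563204104, 9619703812117222042969618126894569257939173921257144769177958128267671479055038301129717653507438136058628800520],
   [4809888602596411592251961864670007025873776061092905673969426218569707395620320208916062104815431832249225969680, 4809888602596411592251961864670007025873776061092905673969426218569707395620320208916052433408874915215828320264, 4809888602596411592251961864670007025873776061092905673969426218569707395620320208916062104815431832283585708040, 4809888602596411592251961864670007025873776276772479011174544575905828091777365598013217485140011681078107963400, 4809888602596411592251961864670007025873776061092905673969426218569707395620278670541193826194403588278592208904, 4809888602596411592251961864670007025873776061092905673969426218569707395620320208916062104815431832249225445384, 4809888602596411592251961864670007025873776061092905673969426218569707395620320209549887404929546532997577572360, 4809888602596411592251961864670007025873776061092905673969426218569707395620320208916062104963005784838902382600, 4809888602596411592251961864670007025873776061092905673969426218569707392898061273548554397108434972795080278024,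 4809888602596411592251961864670007952210489959622469062537306288072970221780197534040574420476103895554263089160, 4809888601476539221163059759391285885589553922032082925352101451119712845138424273325981632124993085613422411784, 4809888602596411591991221259699192806831415012976505269354838264180467555538894231398701298445724733857751105544, 4809888602596411592251961864670007025873776061089614664854783806485397457255205507906096633084164672522528751624, 4809888602596411592251961864670007025873776061092905623752612335476261284934004823254730775996588276536949866504, 4809888602596411592251961864670007025873776061092905673969426218569707395620320208916062104815429580449412284424, 4809888602596411592251961864670007025887910837611132748606092598575650743746940080091067056480404681859566927880, 4809888602596411592251961864670007025873776061092905673969426218569528989658731963930929819069250645357178126344, 4809888602596411592251961864609298622991722027626672489381191252737132181899940848876942967011091073336563204104, 4809888602596428680148249231950666186047425417509822495605605071791866971953182786673868349939832015945921462280, 4809888602596411592251961864670007025873776061092905673968659970799274451191141035402486950223622462688134168584,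 4809888602596411592251965843255898304166913304150890848536147022218913774402059732627877250091407932516230234120, 4809888602596411592251961864670007025873776061092905673969426230261720494267543554545540766545695989496686313480, 4809961994552123274540333410938656692655881551172559058965385821412567777152355040429920345409131356271195717640, 9619703812117222042969618126894569257939173921257144769177958128267671479055038301129717653507438136058628800520],
   [4809888602596411592251961864670007025873776061092905673969426218569707395620320208916062104815431832249225969680, 4809888602596411592251961864670007025873776061092905673969426218569528989658731963930929819069250645357178126344, 4809888602596411592251961864670007025873776061092905673969426218569707395620320208916062104815431832283585708040, 4809888602596411592251961864670007025873776061092905673968659970799274451191141035402486950223622462688134168584, 4809888602596411592251961864670007025873776061092905724186240101663153506306635594577393433634275387961502072840, 4809888602596411592251961864670007952210489959622469062537306288072970221780197534040574420476103895554263089160, 4809888602596411592251961864670007025873776061092905673969426218569707395620320209549887404929546532997577572360,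 4809888602596411592251961864670007025873776061096196683084068630654017333985434909926027576546698991975923187720, 4809888602596411592251961864670007025873776061092905673969426218569707398342579144283569812522428691703371661320, 4809888602596411592251961864670007025873776061092905673969426218569707395620320208916062104815431832249226493960, 4809888602596428680148249231950666186047425417509822495605605071791866971953182786673868349939832015945921462280, 4809888602596411592251961864670007025873776061092905673969426218569707395620320208916062104815434084049039654920, 4809888602596411592251961864670007025873776061092905673969426218569707395620320208916062104963005784838902382600, 4809888602596411592251961864670007025873776061092905673969426218569707395620361747290930383436460076219859730440, 4809888602596411591991221259699192806831415012976505269354838264180467555538894231398701298445724733857751105544, 4809888602596411592251961864670007025859641284574678599332759838563764047493700337741057153150458982638885011464, 4809888602596411592251961864670007025873776061092905673969426218569707395620320208916052433408874915215828320264, 4809888602596411592251961864609298622991722027626672489381191252737132181899940848876942967011091073336563204104,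 4809888601476539221163059759391285885589553922032082925352101451119712845138424273325981632124993085613422411784, 4809888602596411592251961864670007025873776276772479011174544575905828091777365598013217485140011681078107963400, 4809888602596411592251961864670007025873776061092905673969426230261720494267543554545540766545695989496686313480, 4809888602596411592251957886084115747580638818034920499402705414920501016838580685204246959539455731982221705224, 4809961994552123274540333410938656692655881551172559058965385821412567777152355040429920345409131356271195717640, 9619703812117222042969618126894569257939173921257144769177958128267671479055038301129717653507438136058628800520],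
   [4809888602596411592251961864670007025873776061092905673969426218569707395620320208916062104815431832249225969680, 4809888602596411592251961864670007025873776061092905673969426206877694296973096863286583443085167675001765625864, 4809888602596411592251961864670007025873776061092905673969426218569707395620320208916062104815431832283585708040, 4809888602596411592251961864670007025873776061089614664854783806485397457255205507906096633084164672522528751624, 4809888602596411592512702469640821244916137109209306078584014172958947235701746186433422911185138930640700833800, 4809888603716283963340863969948728166157998200153728422586750986019701946102216144506142577505870578885029527560, 4809888602596411592251961864670007025873776061092905673969426218569707395620320209549887404929546532997577572360, 4809888602596411592251961864670007025873776061092905673968659970799274451191141035402486950223622462688134168584, 4809888602596411592251961864670007025873776061092905673969426218569707398342579144283569812522428691703371661320, 4809888602596428680148249231950666186047425417509822495605605071791866971953182786673868349939832015945921462280, 4809888602596411592251961864670007025873776061092905673969426218569707395620320208916062104815431832249225445384,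 4809888602596411592251961864670007025873776061092905673969426218569707395620278670541193826194403588278592208904, 4809888602596411592251961864670007025873776276772479011174544575905828091777365598013217485140011681078107963400, 4809888602596411592251961864670007025873776061092905673969426218569707395620320208916062104815429580449412284424, 4809888602596411592251961864670007025873776061092905623752612335476261284934004823254730775996588276536949866504, 4809888602596411592251961864670007025887910837611132748606092598575650743746940080091067056480404681859566927880, 4809888602596411592251957886084115747580638818034920499402705414920501016838580685204246959539455731982221705224, 4809888602596411592251961864609298622991722027626672489381191252737132181899940848876942967011091073336563204104, 4809888602596411592251961864670007952210489959622469062537306288072970221780197534040574420476103895554263089160, 4809888602596411592251961864670007025873776061092905673969426218569707395620320208916062104667857879659549556744, 4809888602596411592251961864670007025873776061092905673969426218569885801581908453901194390561613019141273813000, 4809888602596411592251961864670007025873776061092905673969426218569707395620320208916052433408874915215828320264,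 4809815210640699909963590318401357359091670571013252288973466615726847014088285377402203864221732308227256221704, 9619703812117222042969618126894569257939173921257144769177958128267671479055038301129717653507438136058628800520],
   [4809888602596411592251961864670007025873776061092905673969426218569707395620320208916062104815431832249225969680, 4809888602596411592251961864670007025873776061092905673969426218569707395620361747290930383436460076219859730440, 4809888602596411592251961864670007025873776061092905673969426218569707395620320208916062104815431832283585708040, 4809888602596428680148249231950666186047425417509822495605605071791866971953182786673868349939832015945921462280, 4809888602596411592251961864670007025873776061092905673969426218569707395620320208916052433408874915215828320264, 4809888602596411592251961864670007025873776061092905673969426218569707395620320208916062104667857879659549556744, 4809888602596411592251961864670007025873776061092905673969426218569707395620320209549887404929546532997577572360, 4809888602596411592251961864670007025873776061092905673969426218569707395620320208916062104815431832249226493960, 4809888602596411592251961864670007025873776061092905673969426218569707398342579144283569812522428691703371661320,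 4809888602596411592251961864670007025873776061096196683084068630654017333985434909926027576546698991975923187720, 4809888602596411592251961864670007025873776061092905673970192466340140340049499382429637259407241201810317770760, 4809888602596411592251961864670007025873776061092905673969426230261720494267543554545540766545695989496686313480, 4809888602596411592251961864670006099537062162563342285401546149066444569460442883791549789154759768944188850184, 4809888602596411592251961864670007025873776061092905673969426218569885801581908453901194390561613019141273813000, 4809888602596411592251957886084115747580638818034920499402705414920501016838580685204246959539455731982221705224, 4809888602596411592251961864670007025887910837611132748606092598575650743746940080091067056480404681859566927880, 4809888602596411592251961864670007025873776061092905623752612335476261284934004823254730775996588276536949866504, 4809888602596411592251961864730715428755830094559138858557661184402282609340699568955181242619772591161888735240, 4809888602596411592251961864670007025873775845413332336764307861233586699463274819818906724490851983420343975944, 4809888601476539221163059759391285885589553922032082925352101451119712845138424273325981632124993085613422411784,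 4809888602596411592251961864670007025873776061092905673969426218569707395620320208916062104815434084049039654920, 4809888602596411591991221259699192806831415012976505269354838264180467555538894231398701298445724733857751105544, 4809961994552123274540333410938656692655881551172559058965385821412567777152355040429920345409131356271195717640, 9619703812117222042969618126894569257939173921257144769177958128267671479055038301129717653507438136058628800520],
   [4809888602596411592251961864670007025873776061092905673969426218569707395620320208916062104815431832249225969680, 4809888602596411592251961864670007025873776061092905673968659970799274451191141035402486950223622462688134168584, 4809888602596411592251961864670007025873776061092905673969426218569707395620320208916062104815431832283585708040, 4809888602596411592251961864670007025873776061092905673969426218569528989658731963930929819069250645357178126344, 4809888603716283963340863969948728166157998200153728422586750986019701946102216144506142577505870578885029527560, 4809888602596411592512702469640821244916137109209306078584014172958947235701746186433422911185138930640700833800, 4809888602596411592251961864670007025873776061092905673969426218569707395620320209549887404929546532997577572360,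 4809888602596411592251961864670007025873776061092905673969426206877694296973096863286583443085167675001765625864, 4809888602596411592251961864670007025873776061092905673969426218569707398342579144283569812522428691703371661320, 4809888602596411592251961864670007025873776061092905673969426218569707395620320208916062104815429580449412284424, 4809888602596411592251961864670007025873776061092905673969426218569707395620278670541193826194403588278592208904, 4809888602596411592251961864670007025873776061092905673969426218569707395620320208916062104815431832249225445384, 4809888602596411592251965843255898304166913304150890848536147022218913774402059732627877250091407932516230234120, 4809888602596394504355674497389347865700126704675988852333247365347547819287457631158255859691031648552530477064, 4809888602596411592251961864670007952210489959622469062537306288072970221780197534040574420476103895554263089160, 4809888602596411592251961864670007025887910837611132748606092598575650743746940080091067056480404681859566927880, 4809888602596411592251961864670007025873776276772479011174544575905828091777365598013217485140011681078107963400, 4809888602596411592251961864730715428755830094559138858557661184402282609340699568955181242619772591161888735240,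 4809888602596411592251961864670007025873776061092905724186240101663153506306635594577393433634275387961502072840, 4809888602596411592251961864670007025873776061092905673969426218569707395620320208916071776221988749282623619080, 4809888602596411592251961864670007025873776061089614664854783806485397457255205507906096633084164672522528751624, 4809888602596411592251961864670007025873776061092905673969426218569707395620320208916062104963005784838902382600, 4809961994552123274540333410938656692655881551172559058965385821412567777152355040429920345409131356271195717640, 9619703812117222042969618126894569257939173921257144769177958128267671479055038301129717653507438136058628800520],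
   [4809888602596411592251961864670007025873776061092905673969426218569707395620320208916062104815431832249225969680, 4809888603716283963340863969948728166157998200153728422586750986019701946102216144506142577505870578885029527560, 4809888602596411592251961864670007025873776061092905673969426218569707395620320208916062104815431832283585708040, 4809888602596411592251961864670007025873776061092905724186240101663153506306635594577393433634275387961502072840, 4809888602596411592251961864670007025873776061092905673968659970799274451191141035402486950223622462688134168584, 4809888602596411592251961864670007025873776061092905673969426206877694296973096863286583443085167675001765625864, 4809888602596411592251961864670007025873776061092905673969426218569707395620320209549887404929546532997577572360, 4809888602596411592512702469640821244916137109209306078584014172958947235701746186433422911185138930640700833800, 4809888602596411592251961864670007025873776061092905673969426218569707398342579144283569812522428691703371661320, 4809888602596411592251957886084115747580638818034920499402705414920501016838580685204246959539455731982221705224, 4809888602596411592251961864670007025873776061092905673969426218569707395620320208916052433408874915215828320264,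 4809888602596411592251961864670007025873776061092905673969426218569707395620320208916062104667857879659549556744, 4809888602596411592251961864670007025873776061092905673969426218569707395620320208916062104815434084049039654920, 4809888602596411592251961864670007025873775845413332336764307861233586699463274819818906724490851983420343975944, 4809888602596411592251961864670007025873776061089614664854783806485397457255205507906096633084164672522528751624, 4809888602596411592251961864670007025887910837611132748606092598575650743746940080091067056480404681859566927880, 4809888602596428680148249231950666186047425417509822495605605071791866971953182786673868349939832015945921462280, 4809888602596411592251961864730715428755830094559138858557661184402282609340699568955181242619772591161888735240, 4809888602596411592251961864670007025873776061092905673969426218569528989658731963930929819069250645357178126344, 4809888602596411592251961864670007025873776061092905673969426218569707395620361747290930383436460076219859730440, 4809888602596411592251961864670007952210489959622469062537306288072970221780197534040574420476103895554263089160, 4809888602596411592251961864670007025873776061092905673969426218569707395620320208916062104815431832249226493960,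 4809961994552123274540333410938656692655881551172559058965385821412567777152355040429920345409131356271195717640, 9619703812117222042969618126894569257939173921257144769177958128267671479055038301129717653507438136058628800520],
   [4809888602596411592251961864670007025873776061092905673969426218569707395620320208916062104815431832249225969680, 4809888602596411592251961864670007025873776061092905673969426218569885801581908453901194390561613019141273813000, 4809888602596411592251961864670007025873776061092905673969426218569707395620320208916062104815431832283585708040, 4809888602596411592251961864670007025873776061092905673970192466340140340049499382429637259407241201810317770760, 4809888602596411592251961864670007025873776061092905724186240101663153506306635594577393433634275387961502072840, 4809888602596411592251961864670006099537062162563342285401546149066444569460442883791549789154759768944188850184, 4809888602596411592251961864670007025873776061092905673969426218569707395620320209549887404929546532997577572360, 4809888602596411592251961864670007025873776061089614664854783806485397457255205507906096633084164672522528751624, 4809888602596411592251961864670007025873776061092905673969426218569707398342579144283569812522428691703371661320,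 4809888602596411592251961864670007025873776061092905673969426218569707395620320208916062104815431832249225445384, 4809888602596428680148249231950666186047425417509822495605605071791866971953182786673868349939832015945921462280, 4809888602596411592251961864670007025873776061092905673969426218569707395620320208916062104815429580449412284424, 4809888602596411592251961864670007025873776061092905673969426218569707395620320208916062104667857879659549556744, 4809888602596411592251961864670007025873776061092905673969426218569707395620361747290930383436460076219859730440, 4809888602596411591991221259699192806831415012976505269354838264180467555538894231398701298445724733857751105544, 4809888602596411592251961864670007025887910837611132748606092598575650743746940080091067056480404681859566927880, 4809888602596411592251961864670007025873776061092905673969426218569707395620320208916071776221988749282623619080, 4809888602596411592251961864730715428755830094559138858557661184402282609340699568955181242619772591161888735240, 4809888603716283963340863969948728166157998200153728422586750986019701946102216144506142577505870578885029527560, 4809888602596411592251961864670007025873776276772479011174544575905828091777365598013217485140011681078107963400,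 4809888602596411592251961864670007025873776061092905673969426206877694296973096863286583443085167675001765625864, 4809888602596411592251957886084115747580638818034920499402705414920501016838580685204246959539455731982221705224, 4809961994552123274540333410938656692655881551172559058965385821412567777152355040429920345409131356271195717640, 9619703812117222042969618126894569257939173921257144769177958128267671479055038301129717653507438136058628800520],
   [4809888602596411592251961864670007025873776061092905673969426218569707395620320208916062104815431832249225969680, 4809888602596411592251961864670007025873776061092905673969426218569707395620320208916062104815431832249225445384, 4809888602596411592251961864670007025873776061092905673969426218569707395620320208916062104815431832283585708040, 4809888602596411592251961864670007025873776061092905673969426218569707395620320208916062104815429580449412284424, 4809888602596411592251961864670007025873776061092905673969426218569707395620320208916062104963005784838902382600, 4809888602596411592251961864670007025873776061092905673969426218569707395620320208916052433408874915215828320264, 4809888602596411592251961864670007025873776061092905673969426218569707395620320209549887404929546532997577572360,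 4809888602596411592251961864670007025873776061092905673969426218569707395620361747290930383436460076219859730440, 4809888602596411592251961864670007025873776061092905673969426218569707398342579144283569812522428691703371661320, 4809888602596411592251961864670007025873776061092905673969426218569528989658731963930929819069250645357178126344, 4809888602596411592251961864670007025873776061092905673969426230261720494267543554545540766545695989496686313480, 4809888602596411592251961864670007025873776061092905673968659970799274451191141035402486950223622462688134168584, 4809888602596411592251961864670007025873776061092905724186240101663153506306635594577393433634275387961502072840, 4809888602596411592251961864670007025873776061096196683084068630654017333985434909926027576546698991975923187720, 4809888602596411592251961864670007025873775845413332336764307861233586699463274819818906724490851983420343975944, 4809888602596411592251961864670007025887910837611132748606092598575650743746940080091067056480404681859566927880, 4809888602596411592251961864670006099537062162563342285401546149066444569460442883791549789154759768944188850184, 4809888602596411592251961864730715428755830094559138858557661184402282609340699568955181242619772591161888735240,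 4809888602596411592251965843255898304166913304150890848536147022218913774402059732627877250091407932516230234120, 4809888602596411591991221259699192806831415012976505269354838264180467555538894231398701298445724733857751105544, 4809888602596428680148249231950666186047425417509822495605605071791866971953182786673868349939832015945921462280, 4809888603716283963340863969948728166157998200153728422586750986019701946102216144506142577505870578885029527560, 4809961994552123274540333410938656692655881551172559058965385821412567777152355040429920345409131356271195717640, 9619703812117222042969618126894569257939173921257144769177958128267671479055038301129717653507438136058628800520],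
   [4809888602596411592251961864670007025873776061092905673969426218569707395620320208916062104815431832249225969680, 4809888602596411592251961864670007025873776061092905673969426218569707395620320208916062104815431832249225445384, 4809888602596411592251961864670007025873776061092905673969426218569707395620320208916062104815431832283585708040, 4809888602596411592251961864670007025873776061092905673969426218569707395620320208916062104815429580449412284424, 4809888602596411592251961864670007025873776061092905673969426218569707395620320208916062104963005784838902382600, 4809888602596411592251961864670007025873776061092905673969426218569707395620320208916071776221988749282623619080, 4809888602596411592251961864670007025873776061092905673969426218569707395620320209549887404929546532997577572360, 4809888602596411592251961864670007025873776061092905673969426218569707395620278670541193826194403588278592208904, 4809888602596411592251961864670007025873776061092905673969426218569707398342579144283569812522428691703371661320, 4809888602596411592251961864670007025873776061092905673969426218569528989658731963930929819069250645357178126344, 4809888602596411592251961864670007025873776061092905673969426206877694296973096863286583443085167675001765625864,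 4809888602596411592251961864670007025873776061092905673968659970799274451191141035402486950223622462688134168584, 4809888602596411592251961864670007025873776061092905724186240101663153506306635594577393433634275387961502072840, 4809888602596411592251961864670007025873776061089614664854783806485397457255205507906096633084164672522528751624, 4809888602596411592251961864670007025873776276772479011174544575905828091777365598013217485140011681078107963400, 4809888602596411592251961864670007025887910837611132748606092598575650743746940080091067056480404681859566927880, 4809888602596411592251961864670007952210489959622469062537306288072970221780197534040574420476103895554263089160, 4809888602596411592251961864730715428755830094559138858557661184402282609340699568955181242619772591161888735240, 4809888602596411592251965843255898304166913304150890848536147022218913774402059732627877250091407932516230234120, 4809888602596411592512702469640821244916137109209306078584014172958947235701746186433422911185138930640700833800, 4809888602596394504355674497389347865700126704675988852333247365347547819287457631158255859691031648552530477064, 4809888603716283963340863969948728166157998200153728422586750986019701946102216144506142577505870578885029527560,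 4809961994552123274540333410938656692655881551172559058965385821412567777152355040429920345409131356271195717640, 9619703812117222042969618126894569257939173921257144769177958128267671479055038301129717653507438136058628800520],
   [4809888602596411592251961864670007025873776061092905673969426218569707395620320208916062104815431832249225969680, 4809888602596411592251961864670007025873776061092905673969426218569707395620320208916062104815431832249226493960, 4809888602596411592251961864670007025873776061092905673969426218569707395620320208916062104815431832283585708040, 4809888602596411592251961864670007025873776061092905673969426218569707395620320208916062104815434084049039654920, 4809888602596411592251961864670007025873776061092905673969426218569707395620320208916062104667857879659549556744, 4809888602596411592251961864670007025873776061092905673969426218569707395620320208916071776221988749282623619080, 4809888602596411592251961864670007025873776061092905673969426218569707395620320209549887404929546532997577572360, 4809888602596411592251961864670007025873776061092905673969426218569707395620278670541193826194403588278592208904, 4809888602596411592251961864670007025873776061092905673969426218569707398342579144283569812522428691703371661320,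 4809888602596411592251961864670007025873776061092905673969426218569528989658731963930929819069250645357178126344, 4809888602596411592251961864670007025873776061092905673969426230261720494267543554545540766545695989496686313480, 4809888602596411592251961864670007025873776061092905673968659970799274451191141035402486950223622462688134168584, 4809888602596411592251961864670007025873776061092905724186240101663153506306635594577393433634275387961502072840, 4809888602596411592251961864670007025873776061096196683084068630654017333985434909926027576546698991975923187720, 4809888602596411592251961864670007025873776276772479011174544575905828091777365598013217485140011681078107963400, 4809888602596411592251961864670007025887910837611132748606092598575650743746940080091067056480404681859566927880, 4809888602596411592251961864670006099537062162563342285401546149066444569460442883791549789154759768944188850184, 4809888602596411592251961864730715428755830094559138858557661184402282609340699568955181242619772591161888735240, 4809888602596411592251957886084115747580638818034920499402705414920501016838580685204246959539455731982221705224, 4809888602596411591991221259699192806831415012976505269354838264180467555538894231398701298445724733857751105544,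 4809888602596394504355674497389347865700126704675988852333247365347547819287457631158255859691031648552530477064, 4809888603716283963340863969948728166157998200153728422586750986019701946102216144506142577505870578885029527560, 4809961994552123274540333410938656692655881551172559058965385821412567777152355040429920345409131356271195717640, 9619703812117222042969618126894569257939173921257144769177958128267671479055038301129717653507438136058628800520],
   [4809888602596411592251961864670007025873776061092905673969426218569707395620320208916062104815431832249225969680, 4809888602596411592251961864670007025873776061092905673969426218569707395620320208916062104815431832249225445384, 4809888602596411592251961864670007025873776061092905673969426218569707395620320208916062104815431832283585708040, 4809888602596411592251961864670007025873776061092905673969426218569707395620320208916062104815429580449412284424, 4809888602596411592251961864670007025873776061092905673969426218569707395620320208916062104667857879659549556744, 4809888602596411592251961864670007025873776061092905673969426218569707395620320208916071776221988749282623619080, 4809888602596411592251961864670007025873776061092905673969426218569707395620320209549887404929546532997577572360,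 4809888602596411592251961864670007025873776061092905673969426218569707395620361747290930383436460076219859730440, 4809888602596411592251961864670007025873776061092905673969426218569707398342579144283569812522428691703371661320, 4809888602596411592251961864670007025873776061092905673969426218569528989658731963930929819069250645357178126344, 4809888602596411592251961864670007025873776061092905673969426230261720494267543554545540766545695989496686313480, 4809888602596411592251961864670007025873776061092905673968659970799274451191141035402486950223622462688134168584, 4809888602596411592251961864670007025873776061092905623752612335476261284934004823254730775996588276536949866504, 4809888602596411592251961864670007025873776061096196683084068630654017333985434909926027576546698991975923187720, 4809888602596411592251961864670007025873776276772479011174544575905828091777365598013217485140011681078107963400, 4809888602596411592251961864670007025887910837611132748606092598575650743746940080091067056480404681859566927880, 4809888602596411592251961864670007952210489959622469062537306288072970221780197534040574420476103895554263089160, 4809888602596411592251961864730715428755830094559138858557661184402282609340699568955181242619772591161888735240,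 4809888602596411592251957886084115747580638818034920499402705414920501016838580685204246959539455731982221705224, 4809888602596411592512702469640821244916137109209306078584014172958947235701746186433422911185138930640700833800, 4809888602596428680148249231950666186047425417509822495605605071791866971953182786673868349939832015945921462280, 4809888601476539221163059759391285885589553922032082925352101451119712845138424273325981632124993085613422411784, 4809961994552123274540333410938656692655881551172559058965385821412567777152355040429920345409131356271195717640, 9619703812117222042969618126894569257939173921257144769177958128267671479055038301129717653507438136058628800520],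
   [4809888602596411592251961864670007025873776061092905673969426218569707395620320208916062104815431832249225969680, 4809888602596411592251961864670007025873776061092905673969426218569707395620320208916062104815431832249226493960, 4809888602596411592251961864670007025873776061092905673969426218569707395620320208916062104815431832283585708040, 4809888602596411592251961864670007025873776061092905673969426218569707395620320208916062104815429580449412284424, 4809888602596411592251961864670007025873776061092905673969426218569707395620320208916062104667857879659549556744, 4809888602596411592251961864670007025873776061092905673969426218569707395620320208916071776221988749282623619080, 4809888602596411592251961864670007025873776061092905673969426218569707395620320209549887404929546532997577572360, 4809888602596411592251961864670007025873776061092905673969426218569707395620278670541193826194403588278592208904, 4809888602596411592251961864670007025873776061092905673969426218569707398342579144283569812522428691703371661320, 4809888602596411592251961864670007025873776061092905673969426218569528989658731963930929819069250645357178126344, 4809888602596411592251961864670007025873776061092905673969426206877694296973096863286583443085167675001765625864,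 4809888602596411592251961864670007025873776061092905673970192466340140340049499382429637259407241201810317770760, 4809888602596411592251961864670007025873776061092905724186240101663153506306635594577393433634275387961502072840, 4809888602596411592251961864670007025873776061096196683084068630654017333985434909926027576546698991975923187720, 4809888602596411592251961864670007025873775845413332336764307861233586699463274819818906724490851983420343975944, 4809888602596411592251961864670007025887910837611132748606092598575650743746940080091067056480404681859566927880, 4809888602596411592251961864670006099537062162563342285401546149066444569460442883791549789154759768944188850184, 4809888602596411592251961864730715428755830094559138858557661184402282609340699568955181242619772591161888735240, 4809888602596411592251965843255898304166913304150890848536147022218913774402059732627877250091407932516230234120, 4809888602596411592512702469640821244916137109209306078584014172958947235701746186433422911185138930640700833800, 4809888602596428680148249231950666186047425417509822495605605071791866971953182786673868349939832015945921462280, 4809888601476539221163059759391285885589553922032082925352101451119712845138424273325981632124993085613422411784,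 4809961994552123274540333410938656692655881551172559058965385821412567777152355040429920345409131356271195717640, 9619703812117222042969618126894569257939173921257144769177958128267671479055038301129717653507438136058628800520],
   [9619703812117222042969618126894569257939173921257144769177958128267671479055038301129717653507438136058628800520, 4809888602596411592251961864670006099537062162563342285401546149066444569460442883791549789154759768944188850184, 4809888602596411592251961864670007025887910837611132748606092598575650743746940080091067056480404681859566927880, 4809888603716283963340863969948728166157998200153728422586750986019701946102216144506142577505870578885029527560, 4809888602596411592251961864670007025873776061092905623752612335476261284934004823254730775996588276536949866504, 4809888602596411592251965843255898304166913304150890848536147022218913774402059732627877250091407932516230234120, 4809888602596411592251961864670007025873776061092905673969426218569707395620320209549887404929546532997577572360, 4809888602596411592251961864670007025873776276772479011174544575905828091777365598013217485140011681078107963400, 4809815210640699909963590318401357359091670571013252288973466615726847014088285377402203864221732308227256221704,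 4809888602596411592251961864670007025873776061092905673969426218569707395620320208916062104815429580449412284424, 4809888602596411592251961864670007025873776061092905673969426206877694296973096863286583443085167675001765625864, 4809888602596411592251961864670007025873776061092905673969426218569707395620361747290930383436460076219859730440, 4809888602596394504355674497389347865700126704675988852333247365347547819287457631158255859691031648552530477064, 4809888602596411592251961864670007025873776061092905673969426218569528989658731963930929819069250645357178126344, 4809888602596411592251961864670007025873776061092905673969426218569707395620320208916052433408874915215828320264, 4809888602596411592251961864609298622991722027626672489381191252737132181899940848876942967011091073336563204104, 4809888602596411592251961864670007025873776061089614664854783806485397457255205507906096633084164672522528751624, 4809888602596411592251961864670007025873776061092905673969426218569707395620320208916062104815431832283585708040, 4809888602596411591991221259699192806831415012976505269354838264180467555538894231398701298445724733857751105544, 4809888602596411592251961864670007025873776061092905673970192466340140340049499382429637259407241201810317770760,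 4809888602596411592251961864670007025873776061092905673969426218569707395620320208916062104963005784838902382600, 4809888602596411592251961864670007025873776061092905673969426218569707395620320208916062104815431832249225445384, 4809888602596411592251961864670007025873776061092905673969426218569707398342579144283569812522428691703371661320, 4809888602596411592251961864670007025873776061092905673969426218569707395620320208916062104815431832249225969680],
   [7214832903334672658754975768886258773856500719481735321777554491923832021243506990760259430556114366708580876300, 4809888602596403048303818181029677445786951382886092767708657998000693373655652148049575575245773600918296068104, 4809888602596411592251961864670007025880843449352019211287759408572679068322500677136723376851477177718679273480, 4809888602596411592251961864670007025873776061092905673969809336608917318511277353670676211935690316420724555784, 4809888602596420136200105548310336605960600739299718580230194439138543011623400024797416348638906624888294342664, 4809888602596403048303818181029677445786951382882801758594015585916383435290537447039610103514508692991412535304, 4809888602596411592251961864670007025866708672833792136651093028566735722918139741329226132893501187562484006920,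 4809888602596420136200105548310336605960600739303009589344836851222852949988514725807381820370176036414805245960, 7214759511378960976466604222617609107074395229402081936781594889080971639711472159246401189962414842686611128324, 4809888602036475406837881114516053565252845515620694501968057812039330040420085229879697435878000573315524591624, 4809888602596411592251959875377061849895564280988908087259039731281952215887708722243167335436068111497663348744, 4809888602596411592251959875377060923558850382459344748907973544872135500414146782779986348594239603904902332424, 4809888602036475406577140509545239346210484467504294097353469857650090200338659252362346300914850391957447376904, 4809888603156347777666042614823960486494706606565116845970794625100084750820555187952417102198732221559853285384, 4809888602596411592251961864670007025873776061092905673969043088838484374082139718531969335964909190830266515464, 7214832903334672658754975768946967176738554752947968506365789457756407234963886350799378568360455125621243641860, 4809888603156347777926783219794774705537067654681517250585382579489324590901981165469787579974996236984725798920, 4809888602596411592251961864670007025880843449352019211287759408572679071044759611870405784444359336424473362440,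 4809888602596411592251961864670007025873776061092905673969043088838484374082098180157101057343880946859633278984, 4809888602596411592251963853962953128188701524046893312042574418024604705355763631616313809530887767476943716360, 4809888602596411592251961864670007025873776061092905673969809336608917318511318892045544490556718560391358840840, 4809888602596411592251963853962952201851987625517329873257880465427895768509570920830470165051372148459630493704, 4809888602596411592251961864670007025866708672833792136651093028566735720195880805327893125072389627359986712584, 7214759511378960976466604222678317509956449262868315121369829854913546853431851519285520327766755601599273893900],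
   [7214796207356816817610789995812642343354569396167255351186142846337948718261178870629951923896091788415429246988, 4809888602596411592121589572891654277206026915504067379821450633508329317006180107796491393126956653056637534216, 4809851906618555751107776091535682192482723316053078981471446417148277203493173325792291780722140990902523920392, 4809888602596411592251961864670006562705419111828123979685486189664082531863993219168545277924013729615368945672, 4809888602596411592121593551477545555499164158562052554388171437157535695787919631508306538402932753323642322952, 4809888602596411592382334156448359774541525206678452959002759391546775535869345609025667344772639851715116662792, 4809925298574267433396147637804331859264828806132732366467406019991137587747467092673657729022837374378639360008, 4809888602596411592121593551477545555499164158565343563502813849241845634153034332518272010134199913050339016712, 7214796207356816817610789995751933940472515362701022166597907880505373504540799510590832786091751029502766481412, 4809888602596403048303818181029677445786951382884447288260126857390567135011636199624607388255279744520863350792, 4809888603156347777796412917309367596015887022783530379675529423626733525763518835467656654560937752613393793032,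 4809888602036475406707510812030646455731664883722707631058204656176738975281664438252444460491527249948223995912, 4809888602596403048303818181029677445786951382884447238042546726526688079896141640449700904844626819247495446536, 4809888602596420136200105548310336605960600739301364059679491827519280600658183391721082304560836372505282740232, 4809888602596411592251961864670006562705419111828123979685486177972069433216769873539066616193751824167722287112, 2404980997836006366893133733527371708407117502536783071389375970807409421106081418377177237399744725693363650572, 4809888602596403048303818181029677445786951382884447238043312974297121024325320813963285730842993105841984897032, 4809851906618555751107776091535682192482723316053078981471446417148277206215432260525974188315023149608318009352, 4809888602596411592251961864670007489042133010357687368253366247475332259376647198663578931854421635672945721352, 4809888602036475406707510812030646455731664883722707631058204656176560569320034654892443896124317819085542391816, 4809888602596411592251961864670006562705419111828123979685486177972069433216769873539066616046175619778232188936, 4809888602036475406707510812030646455731665099402280968263323013512859671438668288974731562195078854806472228872,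 4809851906618555751107776091535682192482723316053078981471446417148277206215432261159799488429137850322309873672, 7214796207356816817610789995751933940458380586182795091961241500499430156414179639415827834426778179892425523212],
   [4809888602596411592251961864670007025873776061092905673969426218569707395620320208916062104815431832249225969680, 4809888602596411592251961864670007025873776061092905673969426218569707395620320208916062104815431832249225445384, 4809888602596411592251961864670007025873776061092905673969426218569707395620320209549887404929546532997577572360, 4809888602596411592251961864670007025873776061092905673969426218569707392898061273548554397108434972795080278024, 4809888602596411592251961864670006099537062162563342285401546149066444569460442883791549789154759768944188850184, 4809888602596411592251961864670007025873776061096196683084068630654017333985434909926027576546698991975923187720, 4809888602596411592251961864670007025873776061092905673969426218569707395620320208916052433408874915215828320264, 4809961994552123274540333410938656692655881551172559058965385821412567777152355040429920345409131356271195717640, 4809888602596411592251961864670007025873776061092905673969426218569707395620320208916062104667857879659549556744,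 4809888602596411591991221259699192806831415012976505269354838264180467555538894231398701298445724733857751105544, 4809888602596411592251961864670007025873776061092905673969426218569707395620361747290930383436460076219859730440, 4809888602596411592251961864730715428755830094559138858557661184402282609340699568955181242619772591161888735240, 4809888602596411592251961864670007025873776061092905623752612335476261284934004823254730775996588276536949866504, 4809888602596411592251961864670007025887910837611132748606092598575650743746940080091067056480404681859566927880, 4809888602596411592251961864670007025873776061092905673969426218569707395620320208916062104815429580449412284424, 4809888602596411592251961864670007025873776061092905673969426218569707395620320208916062104815431832214866231304, 4809888602596411592251961864670007025873776276772479011174544575905828091777365598013217485140011681078107963400, 4809888602596411592251961864670007025873776061092905673969426206877694296973096863286583443085167675001765625864, 4809888602596411592251961864670007025873776061092905673969426218569528989658731963930929819069250645357178126344, 4809888602596428680148249231950666186047425417509822495605605071791866971953182786673868349939832015945921462280,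 4809888601476539221163059759391285885589553922032082925352101451119712845138424273325981632124993085613422411784, 4809888602596411592251965843255898304166913304150890848536147022218913774402059732627877250091407932516230234120, 4809888602596411592251961864670007025873776061092905673970192466340140340049499382429637259407241201810317770760, 9619703812117222042969618126894569257939173921257144769177958128267671479055038301129717653507438136058628800520]]

def p2Inv : List (List ℕ) :=
  [[9619703812117222042969618126894569257939173921257144769177958128267671479055038301129717653507438136058628800520, 4809888602596411592251961864670007025873776061092905673969426218569707395620320208916062104667857879659549556744, 4809888602596411592251961864670007025873776061092905673969426218569707395620320209549887404929546532997577572360, 4809888602596411592251961864670007025873776276772479011174544575905828091777365598013217485140011681078107963400, 4809888602596411592251961864670007025873776061092905673969426218569707395620320208916062104815431832249225445384, 4809888602596411592251961864670007025873776061092905673969426218569707395620361747290930383436460076219859730440, 4809888602596411592251961864670007025873776061092905673969426218569707395620320208916062104815431832283585708040,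 4809888602596411592251961864670007025873776061092905673969426218569707395620320208916071776221988749282623619080, 4809888602596411592251961864670007025859641284574678599332759838563764047493700337741057153150458982638885011464, 4809888602596411592251961864670007952210489959622469062537306288072970221780197534040574420476103895554263089160, 4809888602596411591991221259699192806831415012976505269354838264180467555538894231398701298445724733857751105544, 4809888603716283963340863969948728166157998200153728422586750986019701946102216144506142577505870578885029527560, 4809888602596411592251961864670007025873776061089614664854783806485397457255205507906096633084164672522528751624, 4809888602596411592251961864670007025873776061092905623752612335476261284934004823254730775996588276536949866504, 4809888602596411592251961864670007025873776061092905673969426218569707395620320208916062104815434084049039654920, 4809888602596411592251961864670007025873776061092905673969426218569707392898061273548554397108434972795080278024, 4809888602596411592251961864670007025873776061092905673969426218569885801581908453901194390561613019141273813000, 4809815210640699909963590318401357359091670571013252288973466615726847014088285377402203864221732308227256221704,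 4809888602596394504355674497389347865700126704675988852333247365347547819287457631158255859691031648552530477064, 4809888602596411592251961864670007025873776061092905673969426206877694296973096863286583443085167675001765625864, 4809888602596411592251957886084115747580638818034920499402705414920501016838580685204246959539455731982221705224, 4809888602596411592251961864670007025873776061092905673970192466340140340049499382429637259407241201810317770760, 4809888602596411592251961864609298622991722027626672489381191252737132181899940848876942967011091073336563204104, 4809888602596411592251961864670007025873776061092905673969426218569707395620320208916062104815431832249225969680],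
   [4809888602596411592251961864670007025873776061092905673969426218569707395620320208916062104815431832249225969680, 4809888602596411592251961864670007952210489959622469062537306288072970221780197534040574420476103895554263089160, 4809888602596411592251961864670007025873776061092905673969426218569707395620320208282236804701317131500874366984, 4809888602596411592251961864670007025873776061092905673969426206877694296973096863286583443085167675001765625864, 4809888602596411592251961864670007025873776061089614664854783806485397457255205507906096633084164672522528751624, 4809888602596411592251961864670007025873776061092905673969426218569885801581908453901194390561613019141273813000, 4809888602596411592251961864670007025873776061092905673969426218569707395620320208916062104815431832214866231304, 4809888602596411592251961864670007025873776061092905724186240101663153506306635594577393433634275387961502072840, 4809888602596411592251961864670007025873776061092905673969426218569707392898061273548554397108434972795080278024, 4809888602596411592251961864670007025873776061092905673969426218569707395620320208916062104815431832249226493960, 4809888602596411592251961864670007025873776276772479011174544575905828091777365598013217485140011681078107963400,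 4809888602596411592251957886084115747580638818034920499402705414920501016838580685204246959539455731982221705224, 4809888602596411592251961864670007025873776061092905673969426218569707395620320208916062104667857879659549556744, 4809888602596411592251961864670007025873776061092905673969426218569707395620278670541193826194403588278592208904, 4809888601476539221163059759391285885589553922032082925352101451119712845138424273325981632124993085613422411784, 4809888602596411592251961864670007025887910837611132748606092598575650743746940080091067056480404681859566927880, 4809888602596411592251961864670007025873776061092905673969426218569707395620320208916052433408874915215828320264, 4809815210640699909963590318401357359091670571013252288973466615726847014088285377402203864221732308227256221704, 4809888602596411592512702469640821244916137109209306078584014172958947235701746186433422911185138930640700833800, 4809888602596428680148249231950666186047425417509822495605605071791866971953182786673868349939832015945921462280, 4809888602596411592251961864670007025873776061092905673968659970799274451191141035402486950223622462688134168584, 4809888602596411592251961864670007025873776061092905673969426218569707395620320208916062104815434084049039654920,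 4809888602596411592251961864730715428755830094559138858557661184402282609340699568955181242619772591161888735240, 9619703812117222042969618126894569257939173921257144769177958128267671479055038301129717653507438136058628800520],
   [4809888602596411592251961864670007025873776061092905673969426218569707395620320208916062104815431832249225969680, 4809888602596411592251961864670007025873776061089614664854783806485397457255205507906096633084164672522528751624, 4809888602596411592251961864670007025873776061092905673969426218569707395620320208916062104815431832214866231304, 4809888602596411592251961864670007025873776061092905673969426218569707395620320208916062104667857879659549556744, 4809888602596411592251961864670007025873776061092905623752612335476261284934004823254730775996588276536949866504, 4809888602596411592251961864670007952210489959622469062537306288072970221780197534040574420476103895554263089160, 4809888602596411592251961864670007025873776061092905673969426218569707395620320208282236804701317131500874366984, 4809888602596411592251961864670007025873776061092905673969426218569528989658731963930929819069250645357178126344, 4809888602596411592251961864670007025859641284574678599332759838563764047493700337741057153150458982638885011464,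 4809888602596411592512702469640821244916137109209306078584014172958947235701746186433422911185138930640700833800, 4809888602596394504355674497389347865700126704675988852333247365347547819287457631158255859691031648552530477064, 4809888602596411592251961864670007025873776061092905673969426218569707395620320208916062104815434084049039654920, 4809888602596411592251961864670007025873776061092905673970192466340140340049499382429637259407241201810317770760, 4809888601476539221163059759391285885589553922032082925352101451119712845138424273325981632124993085613422411784, 4809888602596411592251961864670007025873776061092905673969426218569707395620320208916062104815431832249226493960, 4809888602596411592251961864670007025873776061092905673969426218569707398342579144283569812522428691703371661320, 4809888602596411592251961864670007025873776061092905673969426230261720494267543554545540766545695989496686313480, 4809815210640699909963590318401357359091670571013252288973466615726847014088285377402203864221732308227256221704, 4809888602596411592251961864670007025873776061092905673969426218569707395620278670541193826194403588278592208904, 4809888602596411592251965843255898304166913304150890848536147022218913774402059732627877250091407932516230234120,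 4809888602596411592251961864670007025873776061092905673969426218569707395620320208916052433408874915215828320264, 4809888602596411592251961864670007025873776276772479011174544575905828091777365598013217485140011681078107963400, 4809888602596411592251961864730715428755830094559138858557661184402282609340699568955181242619772591161888735240, 9619703812117222042969618126894569257939173921257144769177958128267671479055038301129717653507438136058628800520],
   [4809888602596411592251961864670007025873776061092905673969426218569707395620320208916062104815431832249225969680, 4809888602596411592251961864670007025873776061092905673969426218569707395620320208916062104815431832249225445384, 4809888602596411592251961864670007025873776061092905673969426218569707395620320208916062104815431832283585708040, 4809888602596411592251961864670007025873776061092905673969426218569707395620320208916062104815434084049039654920, 4809888602596411592251961864670007025873776061092905673969426218569707395620320208916062104963005784838902382600, 4809888602596411592251961864670007025873776061092905673969426218569707395620320208916052433408874915215828320264, 4809888602596411592251961864670007025873776061092905673969426218569707395620320208282236804701317131500874366984,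 4809888602596411592251961864670007025873776061092905673969426218569707395620278670541193826194403588278592208904, 4809888602596411592251961864670007025873776061092905673969426218569707398342579144283569812522428691703371661320, 4809888602596411592251961864670007025873776061092905673969426218569885801581908453901194390561613019141273813000, 4809888602596411592251961864670007025873776061092905673969426206877694296973096863286583443085167675001765625864, 4809888602596411592251961864670007025873776061092905673968659970799274451191141035402486950223622462688134168584, 4809888602596411592251961864670007025873776061092905623752612335476261284934004823254730775996588276536949866504, 4809888602596411592251961864670007025873776061089614664854783806485397457255205507906096633084164672522528751624, 4809888602596411592251961864670007025873775845413332336764307861233586699463274819818906724490851983420343975944, 4809888602596411592251961864670007025859641284574678599332759838563764047493700337741057153150458982638885011464, 4809888602596411592251961864670006099537062162563342285401546149066444569460442883791549789154759768944188850184, 4809888602596411592251961864609298622991722027626672489381191252737132181899940848876942967011091073336563204104,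 4809888602596411592251957886084115747580638818034920499402705414920501016838580685204246959539455731982221705224, 4809888602596411591991221259699192806831415012976505269354838264180467555538894231398701298445724733857751105544, 4809888602596394504355674497389347865700126704675988852333247365347547819287457631158255859691031648552530477064, 4809888603716283963340863969948728166157998200153728422586750986019701946102216144506142577505870578885029527560, 4809815210640699909963590318401357359091670571013252288973466615726847014088285377402203864221732308227256221704, 9619703812117222042969618126894569257939173921257144769177958128267671479055038301129717653507438136058628800520],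
   [4809888602596411592251961864670007025873776061092905673969426218569707395620320208916062104815431832249225969680, 4809888602596411592251961864670007025873775845413332336764307861233586699463274819818906724490851983420343975944, 4809888602596411592251961864670007025873776061092905673969426218569707395620320208916062104815431832283585708040, 4809888602596411592251961864670007025873776061092905673969426218569707395620320208916062104667857879659549556744, 4809888602596411592251961864670007952210489959622469062537306288072970221780197534040574420476103895554263089160, 4809888602596411592251961864670007025873776061092905724186240101663153506306635594577393433634275387961502072840, 4809888602596411592251961864670007025873776061092905673969426218569707395620320209549887404929546532997577572360, 4809888602596411592251965843255898304166913304150890848536147022218913774402059732627877250091407932516230234120, 4809815210640699909963590318401357359091670571013252288973466615726847014088285377402203864221732308227256221704, 4809888602596411592251961864670007025873776061092905673969426218569707395620320208916062104815431832249226493960, 4809888602596411592251961864670007025873776061092905673969426218569707395620320208916062104815429580449412284424,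 4809888602596394504355674497389347865700126704675988852333247365347547819287457631158255859691031648552530477064, 4809888602596411592251961864670007025873776061092905673968659970799274451191141035402486950223622462688134168584, 4809888602596411592251961864670007025873776061092905673969426218569707395620361747290930383436460076219859730440, 4809888602596411592512702469640821244916137109209306078584014172958947235701746186433422911185138930640700833800, 4809888602596411592251961864730715428755830094559138858557661184402282609340699568955181242619772591161888735240, 4809888602596411592251961864670007025873776061092905673969426230261720494267543554545540766545695989496686313480, 4809888602596411592251961864670007025887910837611132748606092598575650743746940080091067056480404681859566927880, 4809888603716283963340863969948728166157998200153728422586750986019701946102216144506142577505870578885029527560, 4809888602596411592251961864670007025873776061092905673969426218569528989658731963930929819069250645357178126344, 4809888602596411592251961864670007025873776061092905673969426218569707395620320208916071776221988749282623619080, 4809888602596411592251961864670007025873776061096196683084068630654017333985434909926027576546698991975923187720,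 4809888602596411592251961864670007025873776061092905673969426218569707392898061273548554397108434972795080278024, 9619703812117222042969618126894569257939173921257144769177958128267671479055038301129717653507438136058628800520],
   [4809888602596411592251961864670007025873776061092905673969426218569707395620320208916062104815431832249225969680, 4809888602596411592251961864670007025873776061092905673969426218569707395620320208916071776221988749282623619080, 4809888602596411592251961864670007025873776061092905673969426218569707395620320208916062104815431832283585708040, 4809888602596411592251961864670007025873776061092905673969426218569528989658731963930929819069250645357178126344, 4809888602596411592251961864670007025873776061092905673969426218569707395620320208916062104815431832249226493960, 4809888602596411592251961864670007025873776061092905673969426218569707395620278670541193826194403588278592208904, 4809888602596411592251961864670007025873776061092905673969426218569707395620320209549887404929546532997577572360, 4809888602596411592251961864670007025873776061092905673969426218569707395620320208916062104667857879659549556744, 4809888602596411592251961864670007025887910837611132748606092598575650743746940080091067056480404681859566927880,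 4809888602596394504355674497389347865700126704675988852333247365347547819287457631158255859691031648552530477064, 4809888602596411592512702469640821244916137109209306078584014172958947235701746186433422911185138930640700833800, 4809888601476539221163059759391285885589553922032082925352101451119712845138424273325981632124993085613422411784, 4809888602596411592251965843255898304166913304150890848536147022218913774402059732627877250091407932516230234120, 4809888602596411592251961864670007025873776061092905673969426218569707395620320208916062104815429580449412284424, 4809888602596411592251961864670007025873776061092905623752612335476261284934004823254730775996588276536949866504, 4809888602596411592251961864670007025873776061092905673969426218569707398342579144283569812522428691703371661320, 4809888602596411592251961864670007025873776276772479011174544575905828091777365598013217485140011681078107963400, 4809815210640699909963590318401357359091670571013252288973466615726847014088285377402203864221732308227256221704, 4809888602596411592251961864670006099537062162563342285401546149066444569460442883791549789154759768944188850184, 4809888602596411592251961864670007025873776061092905673968659970799274451191141035402486950223622462688134168584,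 4809888602596411592251961864670007025873776061089614664854783806485397457255205507906096633084164672522528751624, 4809888602596411592251961864670007025873776061092905673969426230261720494267543554545540766545695989496686313480, 4809888602596411592251961864609298622991722027626672489381191252737132181899940848876942967011091073336563204104, 9619703812117222042969618126894569257939173921257144769177958128267671479055038301129717653507438136058628800520],
   [4809888602596411592251961864670007025873776061092905673969426218569707395620320208916062104815431832249225969680, 4809888602596411592251961864670007025873776061092905673969426218569707395620320208916052433408874915215828320264, 4809888602596411592251961864670007025873776061092905673969426218569707395620320208916062104815431832283585708040, 4809888602596411592251961864670007025873775845413332336764307861233586699463274819818906724490851983420343975944, 4809888602596411592251961864670007025873776061092905673969426218569707395620361747290930383436460076219859730440, 4809888602596411592251961864670007025873776061092905673969426218569707395620320208916062104815431832249225445384, 4809888602596411592251961864670007025873776061092905673969426218569707395620320209549887404929546532997577572360,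 4809888602596411592251961864670007025873776061092905673969426218569707395620320208916062104667857879659549556744, 4809888602596411592251961864670007025873776061092905673969426218569707392898061273548554397108434972795080278024, 4809888602596411592251961864670006099537062162563342285401546149066444569460442883791549789154759768944188850184, 4809888603716283963340863969948728166157998200153728422586750986019701946102216144506142577505870578885029527560, 4809888602596411591991221259699192806831415012976505269354838264180467555538894231398701298445724733857751105544, 4809888602596411592251961864670007025873776061089614664854783806485397457255205507906096633084164672522528751624, 4809888602596411592251961864670007025873776061092905623752612335476261284934004823254730775996588276536949866504, 4809888602596411592251961864670007025873776061092905673969426218569707395620320208916062104815434084049039654920, 4809888602596411592251961864670007025887910837611132748606092598575650743746940080091067056480404681859566927880, 4809888602596411592251961864670007025873776061092905673969426218569885801581908453901194390561613019141273813000, 4809888602596411592251961864609298622991722027626672489381191252737132181899940848876942967011091073336563204104,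 4809888602596428680148249231950666186047425417509822495605605071791866971953182786673868349939832015945921462280, 4809888602596411592251961864670007025873776061092905673968659970799274451191141035402486950223622462688134168584, 4809888602596411592251965843255898304166913304150890848536147022218913774402059732627877250091407932516230234120, 4809888602596411592251961864670007025873776061092905673969426206877694296973096863286583443085167675001765625864, 4809961994552123274540333410938656692655881551172559058965385821412567777152355040429920345409131356271195717640, 9619703812117222042969618126894569257939173921257144769177958128267671479055038301129717653507438136058628800520],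
   [4809888602596411592251961864670007025873776061092905673969426218569707395620320208916062104815431832249225969680, 4809888602596411592251961864670007025873776061092905673969426218569885801581908453901194390561613019141273813000, 4809888602596411592251961864670007025873776061092905673969426218569707395620320208916062104815431832283585708040, 4809888602596411592251961864670007025873776061092905673970192466340140340049499382429637259407241201810317770760, 4809888602596411592251961864670007025873776061092905724186240101663153506306635594577393433634275387961502072840, 4809888602596411592251961864670006099537062162563342285401546149066444569460442883791549789154759768944188850184, 4809888602596411592251961864670007025873776061092905673969426218569707395620320209549887404929546532997577572360, 4809888602596411592251961864670007025873776061096196683084068630654017333985434909926027576546698991975923187720, 4809888602596411592251961864670007025873776061092905673969426218569707398342579144283569812522428691703371661320, 4809888602596411592251961864670007025873776061092905673969426218569707395620320208916062104815431832249225445384, 4809888602596428680148249231950666186047425417509822495605605071791866971953182786673868349939832015945921462280,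 4809888602596411592251961864670007025873776061092905673969426218569707395620320208916062104815429580449412284424, 4809888602596411592251961864670007025873776061092905673969426218569707395620320208916062104963005784838902382600, 4809888602596411592251961864670007025873776061092905673969426218569707395620361747290930383436460076219859730440, 4809888602596411592512702469640821244916137109209306078584014172958947235701746186433422911185138930640700833800, 4809888602596411592251961864670007025859641284574678599332759838563764047493700337741057153150458982638885011464, 4809888602596411592251961864670007025873776061092905673969426218569707395620320208916071776221988749282623619080, 4809888602596411592251961864609298622991722027626672489381191252737132181899940848876942967011091073336563204104, 4809888601476539221163059759391285885589553922032082925352101451119712845138424273325981632124993085613422411784, 4809888602596411592251961864670007025873775845413332336764307861233586699463274819818906724490851983420343975944, 4809888602596411592251961864670007025873776061092905673969426230261720494267543554545540766545695989496686313480, 4809888602596411592251957886084115747580638818034920499402705414920501016838580685204246959539455731982221705224,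 4809961994552123274540333410938656692655881551172559058965385821412567777152355040429920345409131356271195717640, 9619703812117222042969618126894569257939173921257144769177958128267671479055038301129717653507438136058628800520],
   [4809888602596411592251961864670007025873776061092905673969426218569707395620320208916062104815431832249225969680, 4809888602596411592251961864670007025873776061092905673969426206877694296973096863286583443085167675001765625864, 4809888602596411592251961864670007025873776061092905673969426218569707395620320208916062104815431832283585708040, 4809888602596411592251961864670007025873776061089614664854783806485397457255205507906096633084164672522528751624, 4809888602596411591991221259699192806831415012976505269354838264180467555538894231398701298445724733857751105544, 4809888601476539221163059759391285885589553922032082925352101451119712845138424273325981632124993085613422411784, 4809888602596411592251961864670007025873776061092905673969426218569707395620320209549887404929546532997577572360, 4809888602596411592251961864670007025873776061092905673968659970799274451191141035402486950223622462688134168584, 4809888602596411592251961864670007025873776061092905673969426218569707398342579144283569812522428691703371661320,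 4809888602596428680148249231950666186047425417509822495605605071791866971953182786673868349939832015945921462280, 4809888602596411592251961864670007025873776061092905673969426218569707395620320208916062104815431832249225445384, 4809888602596411592251961864670007025873776061092905673969426218569707395620278670541193826194403588278592208904, 4809888602596411592251961864670007025873775845413332336764307861233586699463274819818906724490851983420343975944, 4809888602596411592251961864670007025873776061092905673969426218569707395620320208916062104815429580449412284424, 4809888602596411592251961864670007025873776061092905724186240101663153506306635594577393433634275387961502072840, 4809888602596411592251961864670007025887910837611132748606092598575650743746940080091067056480404681859566927880, 4809888602596411592251965843255898304166913304150890848536147022218913774402059732627877250091407932516230234120, 4809888602596411592251961864609298622991722027626672489381191252737132181899940848876942967011091073336563204104, 4809888602596411592251961864670006099537062162563342285401546149066444569460442883791549789154759768944188850184, 4809888602596411592251961864670007025873776061092905673969426218569707395620320208916062104963005784838902382600,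 4809888602596411592251961864670007025873776061092905673969426218569885801581908453901194390561613019141273813000, 4809888602596411592251961864670007025873776061092905673969426218569707395620320208916071776221988749282623619080, 4809815210640699909963590318401357359091670571013252288973466615726847014088285377402203864221732308227256221704, 9619703812117222042969618126894569257939173921257144769177958128267671479055038301129717653507438136058628800520],
   [4809888602596411592251961864670007025873776061092905673969426218569707395620320208916062104815431832249225969680, 4809888602596411592251961864670007025873776061092905673969426218569707395620361747290930383436460076219859730440, 4809888602596411592251961864670007025873776061092905673969426218569707395620320208916062104815431832283585708040, 4809888602596428680148249231950666186047425417509822495605605071791866971953182786673868349939832015945921462280, 4809888602596411592251961864670007025873776061092905673969426218569707395620320208916052433408874915215828320264, 4809888602596411592251961864670007025873776061092905673969426218569707395620320208916062104667857879659549556744, 4809888602596411592251961864670007025873776061092905673969426218569707395620320209549887404929546532997577572360,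 4809888602596411592251961864670007025873776061092905673969426218569707395620320208916062104815431832249226493960, 4809888602596411592251961864670007025873776061092905673969426218569707398342579144283569812522428691703371661320, 4809888602596411592251961864670007025873776061096196683084068630654017333985434909926027576546698991975923187720, 4809888602596411592251961864670007025873776061092905673970192466340140340049499382429637259407241201810317770760, 4809888602596411592251961864670007025873776061092905673969426230261720494267543554545540766545695989496686313480, 4809888602596411592251961864670006099537062162563342285401546149066444569460442883791549789154759768944188850184, 4809888602596411592251961864670007025873776061092905673969426218569885801581908453901194390561613019141273813000, 4809888602596411592251957886084115747580638818034920499402705414920501016838580685204246959539455731982221705224, 4809888602596411592251961864670007025887910837611132748606092598575650743746940080091067056480404681859566927880, 4809888602596411592251961864670007025873776061092905623752612335476261284934004823254730775996588276536949866504, 4809888602596411592251961864730715428755830094559138858557661184402282609340699568955181242619772591161888735240,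 4809888602596411592251961864670007025873775845413332336764307861233586699463274819818906724490851983420343975944, 4809888601476539221163059759391285885589553922032082925352101451119712845138424273325981632124993085613422411784, 4809888602596411592251961864670007025873776061092905673969426218569707395620320208916062104815434084049039654920, 4809888602596411591991221259699192806831415012976505269354838264180467555538894231398701298445724733857751105544, 4809961994552123274540333410938656692655881551172559058965385821412567777152355040429920345409131356271195717640, 9619703812117222042969618126894569257939173921257144769177958128267671479055038301129717653507438136058628800520],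
   [4809888602596411592251961864670007025873776061092905673969426218569707395620320208916062104815431832249225969680, 4809888602596411592251961864670007025873776061092905673968659970799274451191141035402486950223622462688134168584, 4809888602596411592251961864670007025873776061092905673969426218569707395620320208916062104815431832283585708040, 4809888602596411592251961864670007025873776061092905673969426218569528989658731963930929819069250645357178126344, 4809888603716283963340863969948728166157998200153728422586750986019701946102216144506142577505870578885029527560, 4809888602596411592512702469640821244916137109209306078584014172958947235701746186433422911185138930640700833800, 4809888602596411592251961864670007025873776061092905673969426218569707395620320209549887404929546532997577572360, 4809888602596411592251961864670007025873776061092905673969426206877694296973096863286583443085167675001765625864, 4809888602596411592251961864670007025873776061092905673969426218569707398342579144283569812522428691703371661320, 4809888602596411592251961864670007025873776061092905673969426218569707395620320208916062104815429580449412284424, 4809888602596411592251961864670007025873776061092905673969426218569707395620278670541193826194403588278592208904,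 4809888602596411592251961864670007025873776061092905673969426218569707395620320208916062104815431832249225445384, 4809888602596411592251965843255898304166913304150890848536147022218913774402059732627877250091407932516230234120, 4809888602596394504355674497389347865700126704675988852333247365347547819287457631158255859691031648552530477064, 4809888602596411592251961864670007952210489959622469062537306288072970221780197534040574420476103895554263089160, 4809888602596411592251961864670007025887910837611132748606092598575650743746940080091067056480404681859566927880, 4809888602596411592251961864670007025873776276772479011174544575905828091777365598013217485140011681078107963400, 4809888602596411592251961864730715428755830094559138858557661184402282609340699568955181242619772591161888735240, 4809888602596411592251961864670007025873776061092905724186240101663153506306635594577393433634275387961502072840, 4809888602596411592251961864670007025873776061092905673969426218569707395620320208916071776221988749282623619080, 4809888602596411592251961864670007025873776061089614664854783806485397457255205507906096633084164672522528751624, 4809888602596411592251961864670007025873776061092905673969426218569707395620320208916062104963005784838902382600,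 4809961994552123274540333410938656692655881551172559058965385821412567777152355040429920345409131356271195717640, 9619703812117222042969618126894569257939173921257144769177958128267671479055038301129717653507438136058628800520],
   [4809888602596411592251961864670007025873776061092905673969426218569707395620320208916062104815431832249225969680, 4809888603716283963340863969948728166157998200153728422586750986019701946102216144506142577505870578885029527560, 4809888602596411592251961864670007025873776061092905673969426218569707395620320208916062104815431832283585708040, 4809888602596411592251961864670007025873776061092905724186240101663153506306635594577393433634275387961502072840, 4809888602596411592251961864670007025873776061092905673968659970799274451191141035402486950223622462688134168584, 4809888602596411592251961864670007025873776061092905673969426206877694296973096863286583443085167675001765625864, 4809888602596411592251961864670007025873776061092905673969426218569707395620320209549887404929546532997577572360, 4809888602596411592512702469640821244916137109209306078584014172958947235701746186433422911185138930640700833800, 4809888602596411592251961864670007025873776061092905673969426218569707398342579144283569812522428691703371661320,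 4809888602596411592251957886084115747580638818034920499402705414920501016838580685204246959539455731982221705224, 4809888602596411592251961864670007025873776061092905673969426218569707395620320208916052433408874915215828320264, 4809888602596411592251961864670007025873776061092905673969426218569707395620320208916062104667857879659549556744, 4809888602596411592251961864670007025873776061092905673969426218569707395620320208916062104815434084049039654920, 4809888602596411592251961864670007025873775845413332336764307861233586699463274819818906724490851983420343975944, 4809888602596411592251961864670007025873776061089614664854783806485397457255205507906096633084164672522528751624, 4809888602596411592251961864670007025887910837611132748606092598575650743746940080091067056480404681859566927880, 4809888602596428680148249231950666186047425417509822495605605071791866971953182786673868349939832015945921462280, 4809888602596411592251961864730715428755830094559138858557661184402282609340699568955181242619772591161888735240, 4809888602596411592251961864670007025873776061092905673969426218569528989658731963930929819069250645357178126344, 4809888602596411592251961864670007025873776061092905673969426218569707395620361747290930383436460076219859730440,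 4809888602596411592251961864670007952210489959622469062537306288072970221780197534040574420476103895554263089160, 4809888602596411592251961864670007025873776061092905673969426218569707395620320208916062104815431832249226493960, 4809961994552123274540333410938656692655881551172559058965385821412567777152355040429920345409131356271195717640, 9619703812117222042969618126894569257939173921257144769177958128267671479055038301129717653507438136058628800520],
   [4809888602596411592251961864670007025873776061092905673969426218569707395620320208916062104815431832249225969680, 4809888602596411592251961864670007025873776061092905673969426218569528989658731963930929819069250645357178126344, 4809888602596411592251961864670007025873776061092905673969426218569707395620320208916062104815431832283585708040, 4809888602596411592251961864670007025873776061092905673968659970799274451191141035402486950223622462688134168584, 4809888602596411592251961864670007025873776061092905623752612335476261284934004823254730775996588276536949866504, 4809888602596411592251961864670007952210489959622469062537306288072970221780197534040574420476103895554263089160, 4809888602596411592251961864670007025873776061092905673969426218569707395620320209549887404929546532997577572360,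 4809888602596411592251961864670007025873776061096196683084068630654017333985434909926027576546698991975923187720, 4809888602596411592251961864670007025873776061092905673969426218569707398342579144283569812522428691703371661320, 4809888602596411592251961864670007025873776061092905673969426218569707395620320208916062104815431832249226493960, 4809888602596394504355674497389347865700126704675988852333247365347547819287457631158255859691031648552530477064, 4809888602596411592251961864670007025873776061092905673969426218569707395620320208916062104815434084049039654920, 4809888602596411592251961864670007025873776061092905673969426218569707395620320208916062104963005784838902382600, 4809888602596411592251961864670007025873776061092905673969426218569707395620278670541193826194403588278592208904, 4809888602596411592512702469640821244916137109209306078584014172958947235701746186433422911185138930640700833800, 4809888602596411592251961864670007025887910837611132748606092598575650743746940080091067056480404681859566927880, 4809888602596411592251961864670007025873776061092905673969426218569707395620320208916052433408874915215828320264, 4809888602596411592251961864730715428755830094559138858557661184402282609340699568955181242619772591161888735240,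 4809888601476539221163059759391285885589553922032082925352101451119712845138424273325981632124993085613422411784, 4809888602596411592251961864670007025873775845413332336764307861233586699463274819818906724490851983420343975944, 4809888602596411592251961864670007025873776061092905673969426230261720494267543554545540766545695989496686313480, 4809888602596411592251965843255898304166913304150890848536147022218913774402059732627877250091407932516230234120, 4809961994552123274540333410938656692655881551172559058965385821412567777152355040429920345409131356271195717640, 9619703812117222042969618126894569257939173921257144769177958128267671479055038301129717653507438136058628800520],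
   [4809888602596411592251961864670007025873776061092905673969426218569707395620320208916062104815431832249225969680, 4809888602596411592251961864670007025873776061092905673969426218569707395620320208916062104815431832249225445384, 4809888602596411592251961864670007025873776061092905673969426218569707395620320208916062104815431832283585708040, 4809888602596411592251961864670007025873776061092905673969426218569707395620320208916062104815429580449412284424, 4809888602596411592251961864670007025873776061092905673969426218569707395620320208916062104963005784838902382600, 4809888602596411592251961864670007025873776061092905673969426218569707395620320208916052433408874915215828320264, 4809888602596411592251961864670007025873776061092905673969426218569707395620320209549887404929546532997577572360, 4809888602596411592251961864670007025873776061092905673969426218569707395620361747290930383436460076219859730440, 4809888602596411592251961864670007025873776061092905673969426218569707398342579144283569812522428691703371661320, 4809888602596411592251961864670007025873776061092905673969426218569528989658731963930929819069250645357178126344, 4809888602596411592251961864670007025873776061092905673969426230261720494267543554545540766545695989496686313480,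 4809888602596411592251961864670007025873776061092905673968659970799274451191141035402486950223622462688134168584, 4809888602596411592251961864670007025873776061092905724186240101663153506306635594577393433634275387961502072840, 4809888602596411592251961864670007025873776061096196683084068630654017333985434909926027576546698991975923187720, 4809888602596411592251961864670007025873775845413332336764307861233586699463274819818906724490851983420343975944, 4809888602596411592251961864670007025887910837611132748606092598575650743746940080091067056480404681859566927880, 4809888602596411592251961864670006099537062162563342285401546149066444569460442883791549789154759768944188850184, 4809888602596411592251961864730715428755830094559138858557661184402282609340699568955181242619772591161888735240, 4809888602596411592251965843255898304166913304150890848536147022218913774402059732627877250091407932516230234120, 4809888602596411591991221259699192806831415012976505269354838264180467555538894231398701298445724733857751105544, 4809888602596428680148249231950666186047425417509822495605605071791866971953182786673868349939832015945921462280, 4809888603716283963340863969948728166157998200153728422586750986019701946102216144506142577505870578885029527560,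 4809961994552123274540333410938656692655881551172559058965385821412567777152355040429920345409131356271195717640, 9619703812117222042969618126894569257939173921257144769177958128267671479055038301129717653507438136058628800520],
   [4809888602596411592251961864670007025873776061092905673969426218569707395620320208916062104815431832249225969680, 4809888602596411592251961864670007025873776061092905673969426218569707395620320208916062104815431832249225445384, 4809888602596411592251961864670007025873776061092905673969426218569707395620320208916062104815431832283585708040, 4809888602596411592251961864670007025873776061092905673969426218569707395620320208916062104815429580449412284424, 4809888602596411592251961864670007025873776061092905673969426218569707395620320208916062104963005784838902382600, 4809888602596411592251961864670007025873776061092905673969426218569707395620320208916071776221988749282623619080, 4809888602596411592251961864670007025873776061092905673969426218569707395620320209549887404929546532997577572360, 4809888602596411592251961864670007025873776061092905673969426218569707395620278670541193826194403588278592208904, 4809888602596411592251961864670007025873776061092905673969426218569707398342579144283569812522428691703371661320,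 4809888602596411592251961864670007025873776061092905673969426218569528989658731963930929819069250645357178126344, 4809888602596411592251961864670007025873776061092905673969426206877694296973096863286583443085167675001765625864, 4809888602596411592251961864670007025873776061092905673968659970799274451191141035402486950223622462688134168584, 4809888602596411592251961864670007025873776061092905724186240101663153506306635594577393433634275387961502072840, 4809888602596411592251961864670007025873776061089614664854783806485397457255205507906096633084164672522528751624, 4809888602596411592251961864670007025873776276772479011174544575905828091777365598013217485140011681078107963400, 4809888602596411592251961864670007025887910837611132748606092598575650743746940080091067056480404681859566927880, 4809888602596411592251961864670007952210489959622469062537306288072970221780197534040574420476103895554263089160, 4809888602596411592251961864730715428755830094559138858557661184402282609340699568955181242619772591161888735240, 4809888602596411592251965843255898304166913304150890848536147022218913774402059732627877250091407932516230234120, 4809888602596411592512702469640821244916137109209306078584014172958947235701746186433422911185138930640700833800,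 4809888602596394504355674497389347865700126704675988852333247365347547819287457631158255859691031648552530477064, 4809888603716283963340863969948728166157998200153728422586750986019701946102216144506142577505870578885029527560, 4809961994552123274540333410938656692655881551172559058965385821412567777152355040429920345409131356271195717640, 9619703812117222042969618126894569257939173921257144769177958128267671479055038301129717653507438136058628800520],
   [4809888602596411592251961864670007025873776061092905673969426218569707395620320208916062104815431832249225969680, 4809888602596411592251961864670007025873776061092905673969426218569707395620320208916062104815431832249226493960, 4809888602596411592251961864670007025873776061092905673969426218569707395620320208916062104815431832283585708040, 4809888602596411592251961864670007025873776061092905673969426218569707395620320208916062104815434084049039654920, 4809888602596411592251961864670007025873776061092905673969426218569707395620320208916062104667857879659549556744, 4809888602596411592251961864670007025873776061092905673969426218569707395620320208916071776221988749282623619080, 4809888602596411592251961864670007025873776061092905673969426218569707395620320209549887404929546532997577572360,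 4809888602596411592251961864670007025873776061092905673969426218569707395620278670541193826194403588278592208904, 4809888602596411592251961864670007025873776061092905673969426218569707398342579144283569812522428691703371661320, 4809888602596411592251961864670007025873776061092905673969426218569528989658731963930929819069250645357178126344, 4809888602596411592251961864670007025873776061092905673969426230261720494267543554545540766545695989496686313480, 4809888602596411592251961864670007025873776061092905673968659970799274451191141035402486950223622462688134168584, 4809888602596411592251961864670007025873776061092905724186240101663153506306635594577393433634275387961502072840, 4809888602596411592251961864670007025873776061096196683084068630654017333985434909926027576546698991975923187720, 4809888602596411592251961864670007025873776276772479011174544575905828091777365598013217485140011681078107963400, 4809888602596411592251961864670007025887910837611132748606092598575650743746940080091067056480404681859566927880, 4809888602596411592251961864670006099537062162563342285401546149066444569460442883791549789154759768944188850184, 4809888602596411592251961864730715428755830094559138858557661184402282609340699568955181242619772591161888735240,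 4809888602596411592251957886084115747580638818034920499402705414920501016838580685204246959539455731982221705224, 4809888602596411591991221259699192806831415012976505269354838264180467555538894231398701298445724733857751105544, 4809888602596394504355674497389347865700126704675988852333247365347547819287457631158255859691031648552530477064, 4809888603716283963340863969948728166157998200153728422586750986019701946102216144506142577505870578885029527560, 4809961994552123274540333410938656692655881551172559058965385821412567777152355040429920345409131356271195717640, 9619703812117222042969618126894569257939173921257144769177958128267671479055038301129717653507438136058628800520],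
   [4809888602596411592251961864670007025873776061092905673969426218569707395620320208916062104815431832249225969680, 4809888602596411592251961864670007025873776061092905673969426218569707395620320208916062104815431832249225445384, 4809888602596411592251961864670007025873776061092905673969426218569707395620320208916062104815431832283585708040, 4809888602596411592251961864670007025873776061092905673969426218569707395620320208916062104815429580449412284424, 4809888602596411592251961864670007025873776061092905673969426218569707395620320208916062104667857879659549556744, 4809888602596411592251961864670007025873776061092905673969426218569707395620320208916071776221988749282623619080, 4809888602596411592251961864670007025873776061092905673969426218569707395620320209549887404929546532997577572360, 4809888602596411592251961864670007025873776061092905673969426218569707395620361747290930383436460076219859730440, 4809888602596411592251961864670007025873776061092905673969426218569707398342579144283569812522428691703371661320, 4809888602596411592251961864670007025873776061092905673969426218569528989658731963930929819069250645357178126344, 4809888602596411592251961864670007025873776061092905673969426230261720494267543554545540766545695989496686313480,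 4809888602596411592251961864670007025873776061092905673968659970799274451191141035402486950223622462688134168584, 4809888602596411592251961864670007025873776061092905623752612335476261284934004823254730775996588276536949866504, 4809888602596411592251961864670007025873776061096196683084068630654017333985434909926027576546698991975923187720, 4809888602596411592251961864670007025873776276772479011174544575905828091777365598013217485140011681078107963400, 4809888602596411592251961864670007025887910837611132748606092598575650743746940080091067056480404681859566927880, 4809888602596411592251961864670007952210489959622469062537306288072970221780197534040574420476103895554263089160, 4809888602596411592251961864730715428755830094559138858557661184402282609340699568955181242619772591161888735240, 4809888602596411592251957886084115747580638818034920499402705414920501016838580685204246959539455731982221705224, 4809888602596411592512702469640821244916137109209306078584014172958947235701746186433422911185138930640700833800, 4809888602596428680148249231950666186047425417509822495605605071791866971953182786673868349939832015945921462280, 4809888601476539221163059759391285885589553922032082925352101451119712845138424273325981632124993085613422411784,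 4809961994552123274540333410938656692655881551172559058965385821412567777152355040429920345409131356271195717640, 9619703812117222042969618126894569257939173921257144769177958128267671479055038301129717653507438136058628800520],
   [4809888602596411592251961864670007025873776061092905673969426218569707395620320208916062104815431832249225969680, 4809888602596411592251961864670007025873776061092905673969426218569707395620320208916062104815431832249226493960, 4809888602596411592251961864670007025873776061092905673969426218569707395620320208916062104815431832283585708040, 4809888602596411592251961864670007025873776061092905673969426218569707395620320208916062104815429580449412284424, 4809888602596411592251961864670007025873776061092905673969426218569707395620320208916062104667857879659549556744, 4809888602596411592251961864670007025873776061092905673969426218569707395620320208916071776221988749282623619080, 4809888602596411592251961864670007025873776061092905673969426218569707395620320209549887404929546532997577572360, 4809888602596411592251961864670007025873776061092905673969426218569707395620278670541193826194403588278592208904, 4809888602596411592251961864670007025873776061092905673969426218569707398342579144283569812522428691703371661320,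 4809888602596411592251961864670007025873776061092905673969426218569528989658731963930929819069250645357178126344, 4809888602596411592251961864670007025873776061092905673969426206877694296973096863286583443085167675001765625864, 4809888602596411592251961864670007025873776061092905673970192466340140340049499382429637259407241201810317770760, 4809888602596411592251961864670007025873776061092905724186240101663153506306635594577393433634275387961502072840, 4809888602596411592251961864670007025873776061096196683084068630654017333985434909926027576546698991975923187720, 4809888602596411592251961864670007025873775845413332336764307861233586699463274819818906724490851983420343975944, 4809888602596411592251961864670007025887910837611132748606092598575650743746940080091067056480404681859566927880, 4809888602596411592251961864670006099537062162563342285401546149066444569460442883791549789154759768944188850184, 4809888602596411592251961864730715428755830094559138858557661184402282609340699568955181242619772591161888735240, 4809888602596411592251965843255898304166913304150890848536147022218913774402059732627877250091407932516230234120, 4809888602596411592512702469640821244916137109209306078584014172958947235701746186433422911185138930640700833800,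 4809888602596428680148249231950666186047425417509822495605605071791866971953182786673868349939832015945921462280, 4809888601476539221163059759391285885589553922032082925352101451119712845138424273325981632124993085613422411784, 4809961994552123274540333410938656692655881551172559058965385821412567777152355040429920345409131356271195717640, 9619703812117222042969618126894569257939173921257144769177958128267671479055038301129717653507438136058628800520],
   [9619703812117222042969618126894569257939173921257144769177958128267671479055038301129717653507438136058628800520, 4809888601476539221163059759391285885589553922032082925352101451119712845138424273325981632124993085613422411784, 4809888602596411592251961864730715428755830094559138858557661184402282609340699568955181242619772591161888735240, 4809888602596411592251961864670007025873776061092905673969426218569528989658731963930929819069250645357178126344, 4809888602596428680148249231950666186047425417509822495605605071791866971953182786673868349939832015945921462280, 4809888602596411592251961864670007025873775845413332336764307861233586699463274819818906724490851983420343975944, 4809888602596411592251961864670007025873776061092905673969426218569707395620320209549887404929546532997577572360,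 4809888602596411592251961864670007025873776061092905673970192466340140340049499382429637259407241201810317770760, 4809961994552123274540333410938656692655881551172559058965385821412567777152355040429920345409131356271195717640, 4809888602596411592251961864670007025873776061089614664854783806485397457255205507906096633084164672522528751624, 4809888602596411592251961864670007025873776061092905673969426206877694296973096863286583443085167675001765625864, 4809888602596411592512702469640821244916137109209306078584014172958947235701746186433422911185138930640700833800, 4809888602596411592251961864670007025873776061092905673969426218569707395620320208916062104667857879659549556744, 4809888602596411592251961864670006099537062162563342285401546149066444569460442883791549789154759768944188850184, 4809888602596411592251961864670007025873776061092905673969426218569707395620361747290930383436460076219859730440, 4809888602596411592251961864670007025873776061092905673969426218569707395620320208916062104815431832283585708040, 4809888602596411592251961864670007025873776061092905673969426218569707395620320208916062104815431832249225445384, 4809888602596411592251961864670007025859641284574678599332759838563764047493700337741057153150458982638885011464,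 4809888602596411592251961864670007025873776061092905673969426218569707395620320208916071776221988749282623619080, 4809888602596411592251957886084115747580638818034920499402705414920501016838580685204246959539455731982221705224, 4809888602596411592251961864670007025873776061092905623752612335476261284934004823254730775996588276536949866504, 4809888602596411592251961864670007025873776061092905673969426218569707395620320208916062104815434084049039654920, 4809888602596411592251961864670007025873776061092905673969426218569707392898061273548554397108434972795080278024, 4809888602596411592251961864670007025873776061092905673969426218569707395620320208916062104815431832249225969680],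
   [7214796207356816817610789995782288141899407602915911684255358983415717761913239851751633549475450129621684060172, 4809888602596420136200107537603282245107169252990570003468316868337330025099098565102295109853328923916728008712, 4809925298574267433396147637834686060705855822865848958761523502907425193246527305009463444071509324107897896968, 4809888602596411592251961864670007025873776061092905673969426218569707395620340978103501079755437436456403206152, 4809888602596411592251961864670006562705419111826478450019758036229108755033872380525591403836949849431196827656, 4809888602596411592251961864670007489042133010356041888804451988825817691880065091311435048316465468448510050312, 4809851906618555751107776091505327991041696299319962389177328934231989597994113113456486065673469041173265383432, 4809888602596420136200103559017390966814032225612158166106714422024244342474404430487635344901932672478605737992, 4809851906618555751107776091566036393923750332786195573765563900064564811714492473495605203477809800051568410632, 4809888602596411592251961864670007025873776061092905673969426218569707395620299439728623129727852275452371795976, 4809888602596403048303816191736731806640382653515668007265417211465964069984496463632673719452952639953028251656,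 4809888602596420136200103559017390966814032009932584828901596064688123646317359041390479964577355075449537429512, 4809888602036475406837881114516053565252845515620694501968440930078539963311063143821750518085838614283877351432, 4809888602596411592251961864670007025873776061092905673969426218569707395620340978103491408348880519423006081032, 4809888602036475406577140509545239346210484467504294097353086727918867178800457992790814557124322146331310686216, 4809851906618555751107776091566036393923750332786195573765563900064564811714492472861779903363695099337576546312, 4809888602036475406837881114516053565252845515620694501967674694000120117529107315937654025224293401970245894152, 7214796207356816817610789995782288141913542379434138758892025363421661110039859722926638501140422979232025018372, 4809888603156347777926783219794774705537067654681517250584999449758101569363779905898255836184467991358589108232, 4809888602596411592251961864670007489042133010356041838587638105732549987155337950635236005243803099628281790472, 4809888602596411592251961864670007025873776061092905673969426218569707395620340978103491408496454472012681969672, 4809888602596411592251961864670007489042133010359332847702280517816681519558864406660069191228889072462931165192,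 2404980997836006366893133733557725909848144519269899663683493453723697026605141630712982952448416675422622187532, 7214796207356816817610789995782288141913542379434138758892025363421661112762118658294146208847419838686170710028],
   [7214796207356816817610789995782288141913542379434138758892025363421661110039859722926638501140422979232025018380, 4809888602596411592251961864670007025873776061092905673969426218569707395620299439728623129875426228042048208904, 4809851906618555751107776091566036393923750332786195573765563900064564811714492473495605203477809800085928149000, 4809888602596403048303816191736731806640382869195241344470535568802084766141541852729829099777532488781910245384, 4809888602596403048303820170322623084933520112253226519037256372451291144923281376441644245053510840848728195080, 4809888602596411592251961864670007489042133010356041838587638105732371581193749705650103719497621912736233947144, 4809925298574267433396147637773977657823801789399615774173288537074849979526147944970344306267168565195235131400, 4809888602036475406577140509545239346210484467504294097353852975689300123229637166304389711716131515892402487304, 4809925298574267433396147637834686060705855822865848958761523502907425193246527305009463444071509324073538158600,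 4809888603156347777666042614823960486494706606565116845971177754831307772358756447523948846136834419775666389000, 4809888602596403048303816191736731806640382653515668007265417211465964069984496463632673719452954891752841936904, 4809888602596411592251961864670007489042133010359332847702280517816859925520452651645201476975070259354979008520, 4809888602596411592251961864670006562705419111826478450019758036229287160995460625510723689583131036323244670984, 4809888602596411592251961864670007025873776061092905673969426218569707395620340978103491408348880519423005556744, 4809888603156347777666042614823960486494706606565116845970411495368861729282353928380895029814760892967114244104, 2404980997836006366893133733557725909848144519269899663683493453723697029327400566080490660155413534876767879180, 4809888602596403048303820170322623084933519896573653181832138015115170448766235987344488864728928740220032516104, 2404980997836006366893133733557725909834009742751672589046827073717753678478521759537978000783443825812281229324, 4809888602596411592251961864670007025873776061092905673969426218569707395620340978103501079903011389046079619080, 4809888602596411592251961864670007025873776061092905673969426218569707395620299439728632801134409192485769445384,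 4809888602596411592251961864670006562705419111829769459134400448313418693398987081535556875568217009157894045704, 4809888602036475406577140509545239346210484467504294097353086739610880277447681338420293218854586303578771030024, 4809851906618555751107776091505327991041696299319962389177328934231989597994113113456486065673469041138905645064, 7214796207356816817610789995782288141899407602915911684255358983415717764635498787119141257182446989075829751820],
   [4809888602596411592251961864670007025873776061092905673969426218569707395620320208916062104815431832249225969680, 4809888602596411592251961864670007025873776061092905673969426218569707395620320208916062104815431832249225445384, 4809888602596411592251961864670007025859641284574678599332759838563764047493700337741057153150458982638885011464, 4809888602596411592251961864670007025873775845413332336764307861233586699463274819818906724490851983420343975944, 4809888602596411592251961864670007025873776061092905673969426218569707392898061273548554397108434972795080278024, 4809888602596411592251961864670007025873776061092905673969426218569707395620320208282236804701317131500874366984, 4809888602596411592251961864670007025873776061092905673969426218569707395620320208916062104815431832283585708040,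 4809888602596411592251961864670007025873776061092905673969426230261720494267543554545540766545695989496686313480, 4809888602596411592251961864670007025873776061092905673969426218569707395620320208916062104815429580449412284424, 4809888602596411592251957886084115747580638818034920499402705414920501016838580685204246959539455731982221705224, 4809888602596411592251961864609298622991722027626672489381191252737132181899940848876942967011091073336563204104, 4809961994552123274540333410938656692655881551172559058965385821412567777152355040429920345409131356271195717640, 4809888602596411592251961864670007025873776061092905623752612335476261284934004823254730775996588276536949866504, 4809888602596411592251961864670007025873776061092905673969426218569707395620320208916071776221988749282623619080, 4809888602596411592251961864670007952210489959622469062537306288072970221780197534040574420476103895554263089160, 4809888602596411592251961864670007025873776061096196683084068630654017333985434909926027576546698991975923187720, 4809888602596411592251961864670007025873776061092905673969426218569707395620320208916062104667857879659549556744, 4809888602596411592251961864670007025873776061092905673970192466340140340049499382429637259407241201810317770760,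 4809888603716283963340863969948728166157998200153728422586750986019701946102216144506142577505870578885029527560, 4809888602596411592251961864670007025873776061092905673969426218569528989658731963930929819069250645357178126344, 4809888602596411592512702469640821244916137109209306078584014172958947235701746186433422911185138930640700833800, 4809888602596394504355674497389347865700126704675988852333247365347547819287457631158255859691031648552530477064, 4809888602596411592251961864670007025873776061092905673969426218569707395620361747290930383436460076219859730440, 9619703812117222042969618126894569257939173921257144769177958128267671479055038301129717653507438136058628800520]]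

def p2Wit : List (List ℕ) :=
  [[4809888602596411592251961864670007025873776061092905673969426218569707395620320208916062104815431832266405838852, 4809888602596411592251961864670007025873776061092905673969426218569707395620320208599149454758374481875050168324, 4809888602596411592251961864670007025873776061092905673969426218569707395620320209232974754872489182623401771012, 4809888602596411592251961864670007025873776061092905673969426218569707395620320208916062104815431832232046100484],
   [4809888602596411592251961864670007025873776061092905673969426218569707395620320208916062104815431832266405838852, 4809888602596411592251961864670007025873776061092905673969426218569707395620320208916062104815431832232046100484],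
   [4809888602596411592251961864670007025873776061092905673969426218569707395620320208916062104815431832266405838852],
   [2404980997836006366893133733557725909841077131010786126365160263720725353902961163126146980526486030718700355592],
   [2404980997836006366893133733557725909841077131010786126365160263720725355264090630492988184322927110071597400072, 2404980997836006366893133733557725909841077131010786126365160263720725352541831695125480476615930250617451708424, 2404980997836006366893133733557725909848144519269899663683493453723697027966271098396736806301915105149695033352, 2404980997836006366893133733557725909834009742751672589046827073717753679839651227221731854636942255539354075144],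
   [2404980997836006366893133733557725909841077131010786126365160263720725355264090630492988184322927110071597400072, 2404980997836006366893133733557725909841077131010786126365160263720725352541831695125480476615930250617451708424],
   [2404980997836006366893133733557725909841077131010786126365160263720725355264090630492988184322927110071597400072],
   [2404980997836006366893133733557725909848144519269899663683493453723697027966271098396736806301915105149695033352],
   [4809925298574267433396147637804331859264828806132732366467406019991137586386337624672991225112281594260210843652],
   [4809888602596411592251961864670007025873776061092905673969426218569707395620320208916066940518710290765924794372, 4809888602596411592251961864670006562705419111828123979685486183818075982540381546353805946985095800596707409924, 4809888602596411592382332167155414135394956585151105876276720195764327315661033197674742508000285381444963401732, 4809888602596411592251961864670007025873776061092905673969426218569707395620340978103496244125945954234542850052, 4809888602596411592251961864670007489042133010357687368253366253321338808700258871478318262645767863901744529412, 4809888602596411592251961864670007025873775953253119005366867039901647047541797514367484414653141907834784972804,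 4809888602596411592251961864670007025873776061094551178526747424611862364802877559421044840681065412112574578692, 4809888602596411592121591562184599916352595537034705471662132241375087475579607220157381701630578283053488537604, 4809888602596411592251961864670007025873776168932692342571985397237767743698842903464639794977721756663666966532, 4809888602596411592251961864670007025873776061092905673969426224415713944943931881730801435680563910872956141572, 4809888602596411592251961864670007025873776061092905673969426218569707395620299439728627965504917710263909089284, 4809888602596411592251961864670007025873776061092905673969426212723700846296708536101322773950299753625495797764, 4809888602596411592251961864670007025873776061092905673969426218569707395620320208916057269112153373732527144964, 4809888602596411592251961864670007025873776061091260169412105012527552426437762858411079368949798252385877360644, 4809888602596420136200105548310336605960600739301364084787515645180787183786751497794965227377631924097573715972, 4809888602596403048303818181029677445786951382884447263151336791958627607453888920037158982253231740400878223364],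
   [4809888602596411592251961864670007025873776061092905673969426218569707395620320208916066940518710290765924794372, 4809888602596411592251961864670007025873776061092905673969426212723700846296708536101322773950299753625495797764, 4809888602596420136200105548310336605960600739301364084787515645180787183786751497794965227377631924097573715972, 4809888602596411592251961864670007025873776061092905673969426224415713944943931881730801435680563910872956141572, 4809888602596411592251961864670007489042133010357687368253366253321338808700258871478318262645767863901744529412, 4809888602596403048303818181029677445786951382884447263151336791958627607453888920037158982253231740400878223364, 4809888602596411592251961864670007025873776061092905673969426218569707395620320208916057269112153373732527144964, 4809888602596411592251961864670006562705419111828123979685486183818075982540381546353805946985095800596707409924],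
   [4809888602596411592251961864670007025873776061092905673969426218569707395620320208916066940518710290765924794372, 4809888602596411592251961864670006562705419111828123979685486183818075982540381546353805946985095800596707409924, 4809888602596411592251961864670007489042133010357687368253366253321338808700258871478318262645767863901744529412, 4809888602596411592251961864670007025873776061092905673969426218569707395620320208916057269112153373732527144964],
   [4809888602596411592251961864670007025873776061092905673969426218569707395620320208916066940518710290765924794372, 4809888602596411592251961864670007025873776061092905673969426218569707395620320208916057269112153373732527144964],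
   [4809888602596411592251961864670007025873776061092905673969426218569707395620320208916066940518710290765924794372],
   [2404980997836006366893133733557725909841077131012431630922481469762880323085518513314217066335062260207873163272],
   [4809888602596411592382332167155414135394956585151105876276720195764327315661033197674742508000285381444963401732],
   [4809888602596411592251961864670007025873776061092905673969809342454923867834909795672849682111336517029771870212],
   [3607434799936240886865507424036889737543427629186183545507634001898146820894792451679864259434641220048079290374]]

def p2Rows : List ℕ :=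
  [730750818665451459101842416358141509827966271488, 316912650057057350374175801344, 1496577676626844588260855678305125482551622175293440, 11417981541647679050942167834166721640860221440, 356811923342653610942487802310561640256372736, 93536104789177786765035829293842113257979682750464, 332306998946228968225951765070086144, 374144419156711147060143317175368453031918731001856, 713623846352979940529142984724747568191373312, 1496669020479177769672960999003518579816403419791360, 5709687669111293606206316868994000806828048384, 22817710804108129226940657696768, 5798193751617962016799286750888573991554908160, 5887396732412084509365429623979167437578829824, 65334879083100487046556046954376888057856, 7136238464194433685593491435369803159305191424, 5887396732495166329704387778953261365659172864, 6422614617841453745064348450645055591113818112, 2244872223931038370814382028654024968075588057169920, 54445843341630456215728059516560305291264, 1683649886248756969350522943070406440298430760747008, 2854506274447661232147402766886428089348259840, 1683655595195971650224167052890972288527709960667136, 5709056105702902342310586782174510975167758336, 5720141143423104855610952365500389124669964288, 5720141143423107371105112193393107719690387456,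 89202980794122492566142873090593446023921664, 44601491414752698206497879966675500242305024, 89202980835663402735621950577640410064093184, 1683649886292312447742972469023163849754611252461568, 373938939045104454796622409821982940492061474816, 2163172285254392075392951691239447109641961472, 5847433884128603606290989951068622086233779077120, 23385453532099438628538159744348706526595079208960, 1964258200572754789733967383429483101938152439283712, 105228117887825010110685114996200943499625529081856, 11692013098647223366070344590410463256381799530496, 6066499592288108114831587416649242145330298880, 841824943799498368663942797516625508209632848379904, 187072215153541875779316739167707808042432245792768, 5842796603144490946836212040932300441639714816, 7147388836798881152817992296299445862761758720, 2163172284932469670163792378270556337230315520, 935361772665997157395223110263117905484181346975744, 23389913596750114637203271548609099802668668289024, 1964258200627180030021383239724427460598213581471744, 7877738241380942783203817508341708889075482624, 7136238464215183858268665101374765651235700736, 736638226286982372922917986049171866119548436480, 1031825870521575580665260758716059526298966744367104, 10704358376877124401737498141041807163637366784,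 189156369016106398856998966487586243904425426944, 2806085998521891165391332901447023964030483466027008, 1964258914240157390154519518385610670174407743242240, 1777552080039169496621422392862526738967094389374976, 2865722152399481088861674458541939677395419136, 26404321874937033610187297059212392006043041792, 3066493511213214332916945334753741841110916972918341632, 4326388125654849316480143441439228536165498880, 1683657022585561770903999214996045079255374018641920, 6422614617966076475573012356697374226204590080, 5898814757510539789851875454956279784066672230400, 1516453396548249398930668584464249429161934848, 473530144664177479413717909310883974345080960974848, 1496583474866195081852185239862006091670349559103488, 1777187061430152961254734947303831984811123985612800, 1783038420158319090125696698772886446607545766248448, 5798261127879711366706224904394904644924473344, 982130705940021802938631231974062163494260132806656, 6601028746704960260536699857238142506391044096, 1683656308950487761390590965730720795657562061012992, 2899994662062153686094166689766855394338194109497344, 2244867273351398822512197979318613539087718161580032, 2905465971468873182446939109906165023481802577149952, 1414740721188389513915210592409702130496787078709248,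 2715475929623224873619360173764445529541236049838080, 2619021816904192135359148459692207068876510716755968, 1591576007827572567668994512802786038660069234573312, 6065808394903455268024428162989370490662944768, 2525476279063132567853343723745664004831302041731072, 1683747206657300509392524641331831960556988004302848, 1496577676676525813811031677049670718879920853876736, 1426431312633596113011891147777422078964312467046400, 1964268729377394926410458715456618215140044889391104, 100433630677504665679714300613255221620589634002449386700800, 2619468733224319218134726107222019055770484437155840, 187078632193037550863407656923822579940705297235968, 304001796299256005067829906920016003338622644256768, 374199424010085764602101711750016046547889756831744, 2619015929530598592541985816109368308788136150827008, 1645504557322053718144614703176057386355231849629918258844925952, 5853856447044897552662129820697073801892315791360, 99770368924687604050248342212665991400735989825536, 777528148202713475370267140104028661112078371651584, 2361790392476439113238483027394802184160543005212672, 1872184534120411674171079788174851111481207594942464, 3066277210219741978400065932923390257414366321935646720, 1005563615384743431558420455471519006023776540295168,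 1040589232760444053187816190929531192974045266051072, 191463527391146137999178758783244239452203919605760, 1578431053899388785017504614921066921369852358688768, 46786985744618684679032192719479784243848523284480, 469146676753254445707710511451859885319828872888320, 329028418544117387157180602705094964464556500320256, 1126089871688903284385962294270276309873222314098688, 2923028340710981679920898852132247689412985093095424, 473560115450488922309826894645160736079661705986048, 843470927681808428132192768302231872541011661029376, 495451396710156283751417129174049967958548423901184, 2724249221194371457638627826372515401292416211222528, 210831624255009618444173962302711933806440894955520, 701528100732381181356777949366752737131334549372928, 23385631894845179235813649823455345975499016896512, 2344253446126050003187843927077186817628249943703552, 2925930738219068426620510491263865734141571862888448, 2671630456790846584048228576090691767076477699358720, 581710634471758247542156501273602395714110302978048, 1847480727856244697487902330029791821907442423300096, 2713377719368652676282032408830292842659686631079936, 200867256289845579590037796313450925155601701401485939572736, 1677859041262538552413732869781292602447197431136256,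 1684387684113208672830585727424889146900427621531648, 2063831833544255813061519523324830953564258263105536, 401734512096574975752052454705703184573631248080781558415360, 32910091146425482242977587608691567367027677747165456496154640384, 1800579521548431845108605882691678716212738021392384, 602601768064481134434932256154482119023750968713275471036416, 9196231389911159277260177123646199846365954469913427968, 36201100261067830756133745351421630317709627687709531740607348736, 4936513671965239491631281845513822482017556003930327770097254400, 29970977862510238259655810987264802849081113182208, 1778747401396928546670840767451841346964113074421760, 2246520395421565164319611413254640161079275691180032, 514640914698510613467289540169338598501061012488192, 1052753709449679826660753180720543696277082185138176, 21456812688719488500131250013161004055894469910640721920, 1408896261795842244944678209713103903610385752653824, 1543484532004275037920869632908292453831560952545280, 2638017614141060745312727012188287770358895391801344, 76625101506230572895417280477845130884073611058885951488, 64367060507920552335913349587994678196505587477808939008, 1172902899438643353471218568786523918087429833097216, 6277101850864282599349458284727461302562613473857591312384,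 16455045573213511539654874739021392295146910570202308175714058240, 1010613381835051241920988674076229280979453083662268418228224, 1719117751192310810453630461724155670202136955715584, 26959946667150641013204425314607656587795186266980538713632100319232, 2661397565381209200127762123430824609618042155958272, 13479973333575320867407271005300324395507565755247159005527764107264, 33717386594416036508779660218257453444189641289718824960, 1449812478737680153803400591093328871422861464567808, 102844034835221441087181307022717030161535725388808734885543936, 2651013465261218136944684524429831585552528729702400, 80879840001451921536794625491866205625723957805966356707973256986624, 13479973333575320532360787318568528285035440595224563424115304693760, 31385509446414297577722042003795183615544615869298449055744, 1109335785397757973084293116460878284987345810751488, 1104769907798664746750499752711265300017829225455317034205184, 28179265544125905272115754545826907985277990851628393826151825408, 2015438784598446319690493196807531862118230938091520, 2736816357569854259389178244175711796876072952091378284756992, 2637287777634059472678765500657717518729359919153152, 43103305321242914180270273663237022229718602269709041664, 1625007932018097594725192288235240229244078592753664,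 16476750656112096048596382763123125640093132725810102272, 67399866667876599909231443621186556917775349305762955153707186520064, 476089396461536523130859701445152164757392860446720, 27584976142430253375399114539100544417914804942931100192, 269599466671506399167848456058703705599867648899365426525172934914048, 1426845565709374985043449791578499477080974002520104, 37846604818390197581120199372109490472294201613142943037143416833, 33715057551547276388489052617263784330585518657633517824, 2948009758176800147472414935085328326082398704959536, 2309973441250107467690416522632278098732195986388311601053748, 121319760002177881823707490079168819432811850974905578769092624515072, 134799733335753200978480287445390665953282425408501456018743258644480, 26959946667150642048489128862357637073126923062870641188002427572224, 1591989436509107484362210473968649876530428382675232, 37846604818390483688396941377067332542504788576955272697275270145, 277353488849979153390950775196168658090514169495552, 1167159970437521313534881924235183932321589428228096, 3013008835568084943843872888611549850551440607119679363743807, 1684996666696916554651224961147728149862063251570047035628857863168, 1342314480108897565143691996258381758602224279739597032,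 124689753335571709177183498987982339484472747178404821619770935847936]

def p2Rels_0 : List (List ℕ × List ℕ) :=
  [([0, 0], []),
   ([1, 0], [0, 1, 6, 7, 8, 9, 11, 12, 13, 16]),
   ([1, 1], [8, 11, 13, 15]),
   ([2, 0], [0, 2, 6, 7, 8, 11, 12, 13, 17]),
   ([2, 1], [1, 2, 6, 7, 9, 11, 12, 15, 16, 17]),
   ([2, 2], [6, 7, 8, 12, 13, 17]),
   ([3, 0], [0, 2, 3, 5, 6, 8, 10, 11, 12, 13]),
   ([3, 1], [1, 2, 3, 5, 7, 8, 9, 13, 14, 17]),
   ([3, 2], [2, 3, 6, 7, 9, 10, 11, 12, 13, 16]),
   ([3, 3], []),
   ([4, 0], [0, 4, 6, 7, 8, 9, 12, 16, 17]),
   ([4, 1], [1, 4, 5, 9, 14, 15, 16]),
   ([4, 2], [2, 4, 9]),
   ([4, 3], [3, 4, 6, 8, 11, 13, 15, 17]),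
   ([4, 4], [9, 11, 15]),
   ([5, 0], [0, 5, 9, 13, 14, 16]),
   ([5, 1], [1, 5, 6, 7, 8, 9, 12, 13, 14, 15, 16]),
   ([5, 2], [2, 5, 6, 7, 8, 9, 12, 13, 14, 16, 17]),
   ([5, 3], [3, 5, 6, 7, 9, 10, 11, 12, 13, 15, 17]),
   ([5, 4], [4, 5, 13, 14, 15]),
   ([5, 5], [9, 13, 17]),
   ([6, 0], [0, 7, 8, 11, 12, 15]),
   ([6, 1], [1, 6, 8, 9, 10, 13, 14]),
   ([6, 2], [2, 7, 8, 9, 11, 12, 15, 16, 17]),
   ([6, 3], [3, 6, 17]),
   ([6, 4], [4, 7, 8, 12, 13, 16, 17]),
   ([6, 5], [5, 7, 8, 9, 11, 12, 16]),
   ([6, 6], [17]),
   ([7, 0], [0, 6, 8, 9, 11, 12, 14, 15, 16]),
   ([7, 1], [1, 7, 8, 11, 13, 15, 17]),
   ([7, 2], [2, 6, 8, 12, 15, 16, 17]),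
   ([7, 3], [3, 7, 16]),
   ([7, 4], [4, 7, 9, 11, 15, 17]),
   ([7, 5], [5, 6, 8, 12, 14, 15, 16, 17]),
   ([7, 6], [6, 7, 13, 14, 15, 17]),
   ([7, 7], [13]),
   ([8, 0], [0, 8, 13, 15]),
   ([8, 1], [1, 8, 9, 13, 14, 17]),
   ([8, 2], [2, 8, 9, 14, 15, 16]),
   ([8, 3], [3, 8, 13, 14, 17]),
   ([8, 4], [4, 6, 7, 12, 13, 15]),
   ([8, 5], [5, 8, 9, 15, 17]),
   ([8, 6], [6, 8, 16]),
   ([8, 7], [7, 8, 14, 16, 17]),
   ([8, 8], [13, 16]),
   ([9, 0], [0, 9]),
   ([9, 1], [1, 9, 15, 16]),
   ([9, 2], [2, 9, 13, 15, 16, 17]),
   ([9, 3], [3, 9, 13, 14, 17]),
   ([9, 4], [4, 9]),
   ([9, 5], [5, 9]),
   ([9, 6], [6, 9, 13, 15, 16, 17]),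
   ([9, 7], [7, 9, 15, 16]),
   ([9, 8], [8, 9, 14, 16, 17]),
   ([9, 9], []),
   ([10, 0], [0, 10, 14, 16, 17]),
   ([10, 1], [1, 9, 10, 13, 15, 17]),
   ([10, 2], [2, 9, 10, 14, 15]),
   ([10, 3], [3, 10]),
   ([10, 4], [4, 10, 11, 13, 14]),
   ([10, 5], [5, 9, 10, 13, 17]),
   ([10, 6], [6, 10, 13]),
   ([10, 7], [7, 10, 16]),
   ([10, 8], [8, 10, 13, 14, 17]),
   ([10, 9], [9, 10]),
   ([10, 10], []),
   ([11, 0], [0, 11]),
   ([11, 1], [1, 9, 11, 13, 14, 17]),
   ([11, 2], [2, 11]),
   ([11, 3], [3, 11, 16]),
   ([11, 4], [4, 11, 13, 17]),
   ([11, 5], [5, 11, 13, 15, 16, 17]),
   ([11, 6], [6, 11, 13, 14, 15]),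
   ([11, 7], [7, 11, 13, 17]),
   ([11, 8], [8, 11, 14, 15, 17]),
   ([11, 9], [9, 11, 13, 14, 16]),
   ([11, 10], [10, 11]),
   ([11, 11], []),
   ([12, 0], [0, 9, 12, 14, 15, 16]),
   ([12, 1], [1, 9, 10, 11, 12, 13, 14, 15, 16]),
   ([12, 2], [2, 11, 12, 14, 15, 16, 17]),
   ([12, 3], [3, 12, 16]),
   ([12, 4], [4, 9, 11, 12, 13, 16, 17]),
   ([12, 5], [5, 11, 12, 16]),
   ([12, 6], [6, 12, 13, 16]),
   ([12, 7], [7, 12, 14, 16]),
   ([12, 8], [8, 12, 13, 15, 17]),
   ([12, 9], [9, 12, 13, 14, 16]),
   ([12, 10], [10, 12, 13, 14, 16]),
   ([12, 11], [11, 12]),
   ([12, 12], [13, 14, 16]),
   ([13, 0], [0, 17]),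
   ([13, 1], [1, 13, 15, 17]),
   ([13, 2], [2, 14, 15]),
   ([13, 3], [3, 13]),
   ([13, 4], [4, 15, 16, 17]),
   ([13, 5], [5, 13, 15, 16]),
   ([13, 6], [6, 13]),
   ([13, 7], [7, 13]),
   ([13, 8], [8, 14, 16]),
   ([13, 9], [9, 14, 16]),
   ([13, 10], [10, 13]),
   ([13, 11], [11, 14, 16]),
   ([13, 12], [12, 13]),
   ([13, 13], []),
   ([14, 0], [0, 13, 16]),
   ([14, 1], [1, 16, 17]),
   ([14, 2], [2, 13, 14, 17]),
   ([14, 3], [3, 14]),
   ([14, 4], [4, 13, 15]),
   ([14, 5], [5, 13, 14, 17]),
   ([14, 6], [6, 13, 16]),
   ([14, 7], [7, 14]),
   ([14, 8], [8, 14]),
   ([14, 9], [9, 14]),
   ([14, 10], [10, 14]),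
   ([14, 11], [11, 13, 16]),
   ([14, 12], [12, 14]),
   ([14, 13], [13, 14]),
   ([14, 14], []),
   ([15, 0], [0, 13, 15, 17]),
   ([15, 1], [1, 13, 14, 16, 17]),
   ([15, 2], [2, 13, 16, 17]),
   ([15, 3], [3, 15]),
   ([15, 4], [4, 13, 15, 17]),
   ([15, 5], [5, 14, 17]),
   ([15, 6], [6, 15]),
   ([15, 7], [7, 13, 14, 15, 16]),
   ([15, 8], [8, 15]),
   ([15, 9], [9, 13, 14, 15, 16]),
   ([15, 10], [10, 13, 14, 15, 16]),
   ([15, 11], [11, 15]),
   ([15, 12], [12, 13, 14, 15, 16]),
   ([15, 13], [13, 15]),
   ([15, 14], [14, 15]),
   ([15, 15], []),
   ([16, 0], [0, 14, 17]),
   ([16, 1], [1, 14, 15]),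
   ([16, 2], [2, 14, 15, 16, 17]),
   ([16, 3], [3, 16]),
   ([16, 4], [4, 14, 17]),
   ([16, 5], [5, 13, 15, 17]),
   ([16, 6], [6, 13, 14]),
   ([16, 7], [7, 16]),
   ([16, 8], [8, 13, 14]),
   ([16, 9], [9, 13, 14]),
   ([16, 10], [10, 16]),
   ([16, 11], [11, 16]),
   ([16, 12], [12, 16]),
   ([16, 13], [13, 16]),
   ([16, 14], [14, 16]),
   ([16, 15], [15, 16]),
   ([16, 16], []),
   ([17, 0], [0, 13]),
   ([17, 1], [1, 13, 14, 15, 16]),
   ([17, 2], [2, 15, 16, 17]),
   ([17, 3], [3, 17]),
   ([17, 4], [4, 14, 15]),
   ([17, 5], [5, 15, 16, 17]),
   ([17, 6], [6, 17]),
   ([17, 7], [7, 13, 14, 16, 17]),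
   ([17, 8], [8, 13, 14, 16, 17]),
   ([17, 9], [9, 13, 14, 16, 17]),
   ([17, 10], [10, 17]),
   ([17, 11], [11, 13, 14, 16, 17]),
   ([17, 12], [12, 13, 14, 16, 17]),
   ([17, 13], [13, 17]),
   ([17, 14], [14, 17]),
   ([17, 15], [15, 17]),
   ([17, 16], [16, 17]),
   ([17, 17], []),
   ([18, 0, 1, 2, 3, 5, 6, 9, 10, 11, 14, 16], [0, 1, 5, 6, 8, 13, 14, 16, 17, 18]),
   ([18, 2, 5, 7, 8, 11, 12, 14, 17], [3, 12, 13, 14, 17, 18]),
   ([18, 3, 6, 9, 10, 11, 12, 15, 16], [3, 6, 7, 10, 12, 13, 18]),
   ([18, 6, 8, 10, 13, 15, 16], [6, 8, 9, 11, 13, 14, 15, 18]),
   ([18, 7, 8, 9, 11, 12, 13, 14, 15, 16], [6, 10, 11, 16, 18]),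
   ([18, 8, 10, 11, 12, 13, 16, 17], [2, 3, 5, 6, 9, 11, 18]),
   ([18, 9, 17], [10, 14, 15, 16, 18]),
   ([18, 10, 13, 14, 15, 16, 17], [10, 11, 12, 14, 17, 18]),
   ([18, 11, 14, 15, 17], [9, 10, 11, 12, 16, 17, 18]),
   ([18, 12, 14, 16, 17], [9, 11, 15, 17, 18]),
   ([18, 13, 14, 16], [13, 14, 16, 18]),
   ([18, 14, 16, 17], [13, 14, 17, 18]),
   ([18, 15, 16], [14, 17, 18]),
   ([18, 16, 17], [13, 14, 18]),
   ([18, 17], [13, 14, 15, 16, 18]),
   ([19, 0, 5, 6, 7, 10, 13, 14, 17], [5, 8, 9, 12, 14, 15, 16, 19]),
   ([19, 1, 2, 5, 6, 7, 8, 9, 10, 14, 15, 17], [0, 6, 7, 9, 14, 15, 17, 19]),
   ([19, 2, 5, 7, 8, 9, 11, 14, 16, 17], [0, 2, 5, 7, 8, 10, 15, 19]),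
   ([19, 5, 15], [1, 2, 5, 8, 9, 13, 19]),
   ([19, 6, 7, 9, 10], [0, 1, 2, 6, 7, 8, 10, 13, 15, 19]),
   ([19, 8, 9, 12, 13, 14, 15], [1, 2, 6, 7, 8, 11, 13, 15, 16, 17, 19]),
   ([19, 9, 13, 16], [15, 16, 19]),
   ([19, 10, 13, 14, 15, 16, 17], [11, 13, 19]),
   ([19, 11, 14, 16, 17], [11, 13, 17, 19]),
   ([19, 12, 15, 16], [9, 11, 12, 14, 15, 19]),
   ([19, 13, 14, 16], [13, 14, 16, 19]),
   ([19, 14, 16, 17], [13, 17, 19]),
   ([19, 15, 16], [9, 13, 15, 19]),
   ([19, 16, 17], [9, 13, 15, 16, 17, 19]),
   ([19, 17], [9, 10, 15, 19]),
   ([20, 0, 5, 6, 7, 10, 13, 14, 17], [4, 7, 10, 12, 13, 15, 20]),
   ([20, 1, 5, 6, 13], [2, 4, 5, 13, 14, 15, 17, 20]),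
   ([20, 2, 5, 7, 8, 9, 11, 14, 16, 17], [0, 2, 4, 7, 8, 9, 11, 12, 13, 14, 15, 16, 17, 20]),
   ([20, 5, 8], [0, 5, 6, 7, 10, 13, 15, 20]),
   ([20, 6, 7, 8, 9, 15, 16, 17], [0, 4, 5, 6, 14, 15, 17, 20]),
   ([20, 9, 13, 16], [9, 11, 14, 20]),
   ([20, 10, 13, 14, 15, 16, 17], [12, 13, 14, 15, 16, 17, 20]),
   ([20, 11, 14, 16, 17], [11, 13, 15, 16, 17, 20]),
   ([20, 12, 15, 16], [9, 10, 12, 13, 14, 17, 20]),
   ([20, 13, 14, 16], [13, 14, 16, 20]),
   ([20, 14, 16, 17], [13, 15, 16, 17, 20]),
   ([20, 15, 16, 17], [11, 12, 14, 16, 20]),
   ([20, 16, 17], [9, 11, 14, 15, 16, 17, 20]),
   ([20, 17], [9, 12, 15, 20]),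
   ([21, 0, 1, 2, 3, 6, 7, 9, 10, 14, 15], [0, 1, 3, 4, 5, 7, 8, 12, 13, 14, 15, 21]),
   ([21, 2, 5, 7, 8, 9, 14, 16, 17], [2, 5, 6, 9, 11, 12, 14, 16, 17, 21]),
   ([21, 3, 6, 9, 10, 11, 12, 15, 16], [2, 3, 4, 6, 8, 16, 21]),
   ([21, 6, 11, 12, 14, 15, 16], [4, 8, 10, 12, 16, 21]),
   ([21, 7, 13, 14, 17], [2, 3, 4, 8, 9, 10, 11, 14, 15, 17, 21]),
   ([21, 8, 16], [5, 6, 9, 13, 14, 15, 17, 21]),
   ([21, 9, 10, 13, 14], [5, 7, 8, 9, 11, 12, 13, 14, 15, 17, 21]),
   ([21, 12, 13, 15, 16], [4, 5, 6, 7, 8, 9, 10, 11, 13, 14, 17, 21]),
   ([21, 13, 14, 16], [6, 7, 8, 11, 12, 14, 15, 16, 17, 21]),
   ([21, 14], [6, 7, 8, 11, 12, 15, 21]),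
   ([21, 15, 16, 17], [15, 16, 21]),
   ([21, 16, 17], [8, 9, 10, 15, 16, 21]),
   ([21, 17], [6, 8, 11, 13, 14, 21])]

def p2Rels : List (List ℕ × List ℕ) :=
  p2Rels_0

def p2Eqs_0 : List (List ℕ × List Step × List Step) :=
  [([6, 6, 6], [(27, false, 0), (159, false, 0)], [(27, false, 1)]),
   ([7, 7, 7], [(35, false, 0), (98, false, 0)], [(35, false, 1)]),
   ([13, 13, 0], [(104, false, 0)], [(91, false, 1), (91, false, 0), (170, false, 1)]),
   ([13, 0, 0], [(91, false, 0), (153, false, 1), (0, false, 0)], [(0, false, 1)]),
   ([12, 12, 12], [(90, false, 0), (148, false, 2), (117, false, 1), (103, false, 0)], [(90, false, 1)]),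
   ([13, 6, 6], [(97, false, 0), (97, false, 1), (27, false, 0), (166, false, 0)], [(27, false, 1)]),
   ([14, 7, 7], [(112, false, 0), (112, false, 1), (35, false, 0)], [(35, false, 1), (118, false, 0)]),
   ([15, 6, 6], [(126, false, 0), (126, false, 1), (27, false, 0), (168, false, 0)], [(27, false, 1)]),
   ([16, 7, 7], [(143, false, 0), (143, false, 1), (35, false, 0)], [(35, false, 1), (149, false, 0)]),
   ([6, 3, 3], [(24, false, 0), (156, false, 2), (24, false, 1), (9, false, 0), (170, false, 1)], [(9, false, 1)])]

def p2Eqs_1 : List (List ℕ × List Step × List Step) :=
  [([7, 3, 3], [(31, false, 0), (139, false, 2), (31, false, 1), (9, false, 0), (152, false, 1)], [(9, false, 1)]),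
   ([10, 10, 6], [(65, false, 0)], [(61, false, 1), (61, false, 0), (101, false, 2), (65, false, 1), (104, false, 1)]),
   ([10, 10, 7], [(65, false, 0)], [(62, false, 1), (62, false, 0), (146, false, 2), (65, false, 1), (152, false, 1)]),
   ([11, 11, 3], [(77, false, 0)], [(69, false, 1), (69, false, 0), (147, false, 2), (77, false, 1), (152, false, 1)]),
   ([13, 13, 2], [(104, false, 0)], [(93, false, 1), (93, false, 0), (134, false, 2), (119, false, 1), (135, false, 1)]),
   ([13, 13, 8], [(104, false, 0)], [(99, false, 1), (99, false, 0), (150, false, 2), (119, false, 1), (152, false, 1)]),
   ([13, 11, 11], [(102, false, 0), (147, false, 2), (116, false, 1), (77, false, 0), (152, false, 1)], [(77, false, 1)]),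
   ([14, 14, 0], [(119, false, 0)], [(105, false, 1), (105, false, 0), (149, false, 2), (104, false, 1), (152, false, 1)]),
   ([14, 14, 1], [(119, false, 0)], [(106, false, 1), (106, false, 0), (169, false, 2), (152, false, 1), (170, false, 1)]),
   ([14, 14, 4], [(119, false, 0)], [(109, false, 1), (109, false, 0), (133, false, 2), (104, false, 1), (135, false, 1)])]

def p2Eqs_2 : List (List ℕ × List Step × List Step) :=
  [([15, 15, 5], [(135, false, 0)], [(125, false, 1), (125, false, 0), (167, false, 2), (119, false, 1), (170, false, 1)]),
   ([15, 8, 8], [(128, false, 0), (128, false, 1), (44, false, 0), (151, false, 1)], [(44, false, 1), (133, false, 0)]),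
   ([16, 16, 0], [(152, false, 0)], [(136, false, 1), (136, false, 0), (167, false, 2), (119, false, 1), (170, false, 1)]),
   ([16, 16, 1], [(152, false, 0)], [(137, false, 1), (137, false, 0), (134, false, 2), (119, false, 1), (135, false, 1)]),
   ([7, 7, 3], [(35, false, 0), (94, false, 0)], [(31, false, 1), (31, false, 0), (143, false, 2), (35, false, 1), (152, false, 2)]),
   ([10, 7, 7], [(62, false, 0), (143, false, 2), (62, false, 1), (35, false, 0), (101, false, 0), (152, false, 2)], [(35, false, 1)]),
   ([11, 10, 3], [(76, false, 0), (69, false, 1), (58, false, 0)], [(58, false, 1), (69, false, 0), (146, false, 2), (76, false, 1)]),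
   ([13, 9, 9], [(100, false, 0), (145, false, 2), (114, false, 1), (54, false, 0), (118, false, 0), (119, false, 1)], [(54, false, 1)]),
   ([13, 10, 9], [(101, false, 0), (100, false, 1), (64, false, 0)], [(64, false, 1), (100, false, 0), (146, false, 2), (115, false, 1)]),
   ([14, 0, 0], [(105, false, 0), (136, false, 2), (91, false, 1), (0, false, 0), (167, false, 0), (170, false, 1)], [(0, false, 1)])]

def p2Eqs_3 : List (List ℕ × List Step × List Step) :=
  [([5, 5, 5], [(20, false, 0), (158, false, 2), (96, false, 1), (50, false, 0), (151, false, 4), (135, false, 3), (152, false, 3)], [(20, false, 1)]),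
   ([8, 8, 8], [(44, false, 0), (144, false, 1), (99, false, 0), (149, false, 2), (118, false, 1), (150, false, 3), (119, false, 2)], [(44, false, 1)]),
   ([13, 9, 0], [(100, false, 0), (136, false, 2), (105, false, 1), (45, false, 0), (150, false, 3)], [(45, false, 1), (91, false, 0), (162, false, 1)]),
   ([13, 11, 0], [(102, false, 0), (136, false, 2), (105, false, 1), (66, false, 0), (150, false, 3)], [(66, false, 1), (91, false, 0), (164, false, 1)]),
   ([4, 4, 4], [(14, false, 0), (124, false, 2), (70, false, 1), (49, false, 0), (166, false, 4), (104, false, 3), (168, false, 3), (170, false, 4)], [(14, false, 1)]),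
   ([10, 6, 3], [(61, false, 0), (94, false, 2), (58, false, 1), (24, false, 0), (163, false, 2), (166, false, 3)], [(24, false, 1), (58, false, 0), (61, false, 1)]),
   ([10, 6, 6], [(61, false, 0), (97, false, 2), (61, false, 1), (27, false, 0), (163, false, 0), (166, false, 1), (166, false, 2), (104, false, 1)], [(27, false, 1)]),
   ([12, 12, 3], [(90, false, 0), (139, false, 2), (108, false, 1), (94, false, 0)], [(81, false, 1), (81, false, 0), (148, false, 2), (90, false, 1), (152, false, 3)]),
   ([14, 6, 3], [(111, false, 0), (139, false, 2), (94, false, 1), (24, false, 0), (166, false, 2), (169, false, 3)], [(24, false, 1), (108, false, 0), (111, false, 1)]),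
   ([14, 6, 6], [(111, false, 0), (142, false, 2), (97, false, 1), (27, false, 0), (166, false, 0), (166, false, 1), (104, false, 0), (167, false, 0)], [(27, false, 1)])]

def p2Eqs_4 : List (List ℕ × List Step × List Step) :=
  [([10, 9, 7], [(64, false, 0), (62, false, 1), (52, false, 0), (146, false, 3), (130, false, 2), (152, false, 6)], [(52, false, 1), (62, false, 0), (145, false, 2), (64, false, 1)]),
   ([12, 7, 7], [(85, false, 0), (143, false, 3), (112, false, 2), (85, false, 1), (35, false, 0), (103, false, 0), (150, false, 3), (119, false, 2), (152, false, 2)], [(35, false, 1)]),
   ([16, 8, 8], [(144, false, 0), (113, false, 2), (99, false, 1), (44, false, 0), (150, false, 1), (152, false, 2), (119, false, 1)], [(44, false, 1), (149, false, 0), (152, false, 1)]),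
   ([13, 11, 7], [(102, false, 0), (143, false, 2), (112, false, 1), (73, false, 0), (167, false, 3), (169, false, 4)], [(73, false, 1), (98, false, 0), (102, false, 1), (149, false, 3), (118, false, 2)]),
   ([15, 11, 2], [(131, false, 0), (122, false, 1), (68, false, 0)], [(68, false, 1), (122, false, 0), (164, false, 3), (147, false, 2), (102, false, 1), (152, false, 3), (118, false, 2), (119, false, 3)]),
   ([8, 0, 0], [(36, false, 0), (120, false, 3), (91, false, 2), (36, false, 1), (0, false, 0), (166, false, 3), (133, false, 2), (104, false, 1), (168, false, 2), (135, false, 1), (170, false, 1)], [(0, false, 1)]),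
   ([8, 8, 6], [(44, false, 0), (142, false, 1), (97, false, 0), (104, false, 1)], [(42, false, 1), (42, false, 0), (144, false, 2), (44, false, 1), (149, false, 2), (104, false, 1), (150, false, 1), (152, false, 2)]),
   ([10, 9, 4], [(64, false, 0), (59, false, 1), (49, false, 0)], [(49, false, 1), (59, false, 0), (114, false, 4), (100, false, 3), (75, false, 2), (64, false, 1), (150, false, 6), (119, false, 5), (152, false, 5)]),
   ([17, 6, 0], [(159, false, 0), (153, false, 1), (21, false, 0), (133, false, 5)], [(21, false, 1), (153, false, 0), (98, false, 1), (99, false, 2), (147, false, 4), (116, false, 3), (152, false, 5), (103, false, 4)]),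
   ([8, 6, 6], [(42, false, 0), (142, false, 2), (42, false, 1), (27, false, 0), (161, false, 0), (169, false, 4), (152, false, 3), (166, false, 3), (118, false, 2), (104, false, 1), (167, false, 2), (119, false, 1)], [(27, false, 1)])]

def p2Eqs_5 : List (List ℕ × List Step × List Step) :=
  [([14, 9, 4], [(114, false, 0), (109, false, 1), (49, false, 0)], [(49, false, 1), (109, false, 0), (129, false, 2), (100, false, 1), (149, false, 3), (118, false, 2), (150, false, 4), (119, false, 3), (151, false, 3), (152, false, 4)]),
   ([16, 4, 4], [(140, false, 0), (157, false, 2), (109, false, 1), (14, false, 0), (133, false, 2), (135, false, 3)], [(14, false, 1), (145, false, 0), (116, false, 2), (102, false, 1), (149, false, 3), (118, false, 2), (152, false, 4)]),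
   ([13, 11, 2], [(102, false, 0), (138, false, 2), (107, false, 1), (68, false, 0), (167, false, 4), (119, false, 3), (168, false, 3), (169, false, 4), (170, false, 5)], [(68, false, 1), (93, false, 0), (131, false, 2), (116, false, 1), (151, false, 3)]),
   ([14, 4, 4], [(109, false, 0), (124, false, 2), (95, false, 1), (14, false, 0), (135, false, 2), (166, false, 3), (149, false, 2), (168, false, 4), (151, false, 3), (170, false, 5)], [(14, false, 1), (114, false, 0), (116, false, 1), (151, false, 3)]),
   ([15, 5, 5], [(125, false, 0), (158, false, 2), (110, false, 1), (20, false, 0), (166, false, 2), (104, false, 1), (167, false, 1), (170, false, 2)], [(20, false, 1), (129, false, 0), (149, false, 4), (133, false, 3), (118, false, 2), (104, false, 1)]),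
   ([9, 7, 7], [(52, false, 0), (143, false, 3), (127, false, 2), (52, false, 1), (35, false, 0), (100, false, 0), (151, false, 2), (152, false, 3), (133, false, 2), (118, false, 1), (134, false, 3), (119, false, 2), (135, false, 2), (152, false, 2)], [(35, false, 1)]),
   ([14, 1, 1], [(106, false, 0), (154, false, 2), (137, false, 1), (2, false, 0), (134, false, 3), (135, false, 4), (118, false, 3), (104, false, 2), (119, false, 2)], [(2, false, 1), (113, false, 0), (116, false, 1), (149, false, 3), (104, false, 2), (151, false, 2)]),
   ([18, 9, 17, 9, 17], [(177, false, 0), (177, false, 4), (146, false, 3), (130, false, 2), (115, false, 1), (65, false, 0), (118, false, 0), (119, false, 1), (152, false, 2), (134, false, 1), (135, false, 2)], [(162, false, 2), (54, false, 1), (170, false, 4), (181, false, 0)]),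
   ([19, 9, 13, 16, 9, 13, 16], [(192, false, 0), (192, false, 2), (151, false, 1), (135, false, 0), (152, false, 0)], [(145, false, 3), (100, false, 2), (54, false, 1), (149, false, 2), (118, false, 1), (150, false, 3), (119, false, 2), (149, false, 2), (104, false, 1), (152, false, 1)]),
   ([8, 8, 0], [(44, false, 0), (136, false, 1), (91, false, 0), (167, false, 1), (170, false, 2)], [(36, false, 1), (36, false, 0), (128, false, 3), (99, false, 2), (44, false, 1), (150, false, 2), (152, false, 3), (133, false, 3), (118, false, 2), (104, false, 1), (135, false, 2)])]

def p2Eqs_6 : List (List ℕ × List Step × List Step) :=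
  [([10, 10, 4], [(65, false, 0)], [(59, false, 1), (59, false, 0), (115, false, 4), (101, false, 3), (76, false, 2), (65, false, 1), (116, false, 3), (102, false, 2), (77, false, 1), (149, false, 2), (118, false, 1), (152, false, 3), (118, false, 2), (104, false, 1), (119, false, 1)]),
   ([11, 4, 2], [(70, false, 0), (155, false, 3), (93, false, 2), (68, false, 1), (12, false, 0), (135, false, 5)], [(12, false, 1), (68, false, 0), (70, false, 1), (162, false, 4), (100, false, 3), (75, false, 2), (150, false, 6), (119, false, 5), (152, false, 5), (104, false, 4)]),
   ([11, 10, 2], [(76, false, 0), (68, false, 1), (57, false, 0), (131, false, 4), (116, false, 3), (151, false, 5)], [(57, false, 1), (68, false, 0), (75, false, 1), (146, false, 5), (115, false, 4), (101, false, 3), (76, false, 2), (150, false, 6), (119, false, 5), (151, false, 5)]),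
   ([16, 9, 4], [(145, false, 0), (109, false, 2), (95, false, 1), (49, false, 0), (166, false, 4), (149, false, 3), (133, false, 2), (168, false, 5), (151, false, 4), (135, false, 3)], [(49, false, 1), (140, false, 0), (162, false, 2), (114, false, 1), (118, false, 2), (119, false, 3)]),
   ([19, 17, 17], [(200, false, 0), (200, false, 3), (129, false, 2), (64, false, 1), (54, false, 0), (146, false, 4), (130, false, 3), (115, false, 2), (101, false, 1), (65, false, 0), (118, false, 1), (104, false, 0), (119, false, 0), (152, false, 1), (135, false, 0)], [(170, false, 1)]),
   ([13, 2, 2], [(93, false, 0), (122, false, 2), (107, false, 1), (5, false, 0), (166, false, 5), (104, false, 4), (167, false, 4), (170, false, 5), (118, false, 4)], [(5, false, 1), (97, false, 0), (98, false, 1), (99, false, 2), (148, false, 4), (117, false, 3), (149, false, 5), (118, false, 4)]),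
   ([9, 9, 3], [(54, false, 0)], [(48, false, 1), (48, false, 0), (162, false, 4), (114, false, 3), (100, false, 2), (54, false, 1), (150, false, 2), (119, false, 1), (149, false, 1), (150, false, 2), (152, false, 3), (166, false, 3), (118, false, 2), (104, false, 1), (167, false, 2), (119, false, 1), (170, false, 1)]),
   ([10, 10, 2], [(65, false, 0)], [(57, false, 1), (57, false, 0), (129, false, 4), (114, false, 3), (64, false, 2), (54, false, 1), (118, false, 2), (119, false, 3), (146, false, 4), (130, false, 3), (101, false, 2), (65, false, 1), (104, false, 1), (152, false, 3), (134, false, 2), (119, false, 1), (135, false, 1)]),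
   ([12, 11, 7], [(89, false, 0), (85, false, 1), (73, false, 0), (165, false, 3), (103, false, 2), (104, false, 3), (167, false, 5), (150, false, 4), (119, false, 3), (169, false, 4), (152, false, 3)], [(73, false, 1), (85, false, 0), (147, false, 3), (116, false, 2), (89, false, 1), (152, false, 4), (104, false, 3)]),
   ([13, 12, 5], [(103, false, 0), (96, false, 1), (83, false, 0), (149, false, 3), (151, false, 4), (152, false, 5)], [(83, false, 1), (96, false, 0), (147, false, 3), (131, false, 2), (102, false, 1), (151, false, 3), (152, false, 4), (132, false, 3), (117, false, 2), (118, false, 3), (119, false, 4), (152, false, 5)])]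

def p2Eqs_7 : List (List ℕ × List Step × List Step) :=
  [([12, 0, 0], [(78, false, 0), (136, false, 5), (120, false, 4), (105, false, 3), (78, false, 2), (45, false, 1), (0, false, 0), (54, false, 0), (149, false, 3), (133, false, 2), (118, false, 1), (152, false, 4), (133, false, 3), (118, false, 2), (104, false, 1), (135, false, 2), (167, false, 2), (119, false, 1), (170, false, 1)], [(0, false, 1)]),
   ([16, 5, 5], [(141, false, 0), (158, false, 3), (125, false, 2), (96, false, 1), (20, false, 0), (166, false, 2), (104, false, 1), (168, false, 1), (169, false, 2), (167, false, 3), (150, false, 2), (134, false, 1), (170, false, 4), (151, false, 3), (135, false, 2), (152, false, 2)], [(20, false, 1), (145, false, 0), (118, false, 2), (104, false, 1)]),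
   ([16, 9, 1], [(145, false, 0), (106, false, 2), (92, false, 1), (46, false, 0), (149, false, 3), (133, false, 2), (151, false, 4), (135, false, 3), (169, false, 4), (152, false, 3), (170, false, 3)], [(46, false, 1), (137, false, 0), (129, false, 2), (114, false, 1), (118, false, 2), (119, false, 3), (151, false, 4), (135, false, 3), (152, false, 3)]),
   ([17, 5, 5], [(158, false, 0), (158, false, 3), (141, false, 2), (125, false, 1), (20, false, 0), (167, false, 2), (170, false, 3), (118, false, 2), (104, false, 1), (168, false, 3), (135, false, 2), (169, false, 2), (170, false, 3)], [(20, false, 1), (162, false, 0), (166, false, 4), (149, false, 3), (118, false, 2), (104, false, 1), (170, false, 3)]),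
   ([19, 17, 10, 13, 14, 15, 16, 17], [(200, false, 0), (193, false, 3), (131, false, 2), (133, false, 3)], [(163, false, 1), (166, false, 2), (167, false, 3), (168, false, 4), (169, false, 5), (170, false, 6), (170, true, 6), (193, false, 0), (200, false, 2), (100, false, 1), (75, false, 0), (150, false, 4), (119, false, 3), (152, false, 3), (101, false, 2), (76, false, 1)]),
   ([11, 8, 8], [(74, false, 0), (161, false, 4), (128, false, 3), (113, false, 2), (74, false, 1), (44, false, 0), (147, false, 1), (102, false, 0), (152, false, 2), (119, false, 1), (167, false, 2), (134, false, 1), (168, false, 3), (135, false, 2), (166, false, 2), (118, false, 1), (167, false, 3), (119, false, 2), (169, false, 2), (170, false, 3)], [(44, false, 1)]),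
   ([20, 15, 16, 17, 15, 16, 17], [(212, false, 0), (212, false, 4), (147, false, 3), (116, false, 2), (89, false, 1), (77, false, 0), (152, false, 2), (103, false, 1), (90, false, 0), (149, false, 2), (118, false, 1), (104, false, 0), (150, false, 1), (119, false, 0), (152, false, 0)], [(168, false, 3), (151, false, 2), (135, false, 1), (169, false, 2), (152, false, 1), (170, false, 1)]),
   ([8, 7, 7], [(43, false, 0), (160, false, 4), (143, false, 3), (112, false, 2), (43, false, 1), (35, false, 0), (99, false, 0), (150, false, 2), (119, false, 1), (152, false, 1), (167, false, 1), (169, false, 2), (166, false, 3), (149, false, 2), (118, false, 1), (167, false, 4), (150, false, 3), (119, false, 2), (169, false, 3), (152, false, 2), (170, false, 2)], [(35, false, 1)]),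
   ([14, 8, 4], [(113, false, 0), (109, false, 1), (40, false, 0), (133, false, 5), (104, false, 4), (135, false, 4)], [(40, false, 1), (109, false, 0), (126, false, 2), (97, false, 1), (127, false, 3), (98, false, 2), (104, false, 3), (148, false, 5), (132, false, 4), (117, false, 3), (118, false, 4), (119, false, 5), (152, false, 6), (133, false, 5), (104, false, 4), (135, false, 4)]),
   ([16, 1, 1], [(137, false, 0), (121, false, 2), (106, false, 1), (2, false, 0), (166, false, 5), (149, false, 4), (133, false, 3), (104, false, 2), (167, false, 4), (150, false, 3), (134, false, 2), (169, false, 5), (152, false, 4), (170, false, 4)], [(2, false, 1), (144, false, 0), (116, false, 2), (102, false, 1), (149, false, 3), (118, false, 2), (152, false, 4), (118, false, 3), (104, false, 2)])]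

def p2Eqs_8 : List (List ℕ × List Step × List Step) :=
  [([17, 3, 0], [(156, false, 0), (153, false, 1), (6, false, 0), (104, false, 9)], [(6, false, 1), (153, false, 0), (93, false, 1), (123, false, 3), (108, false, 2), (125, false, 4), (110, false, 3), (167, false, 6), (119, false, 5), (170, false, 5), (97, false, 4), (99, false, 5), (146, false, 7), (115, false, 6), (147, false, 8), (116, false, 7), (152, false, 9), (103, false, 8), (104, false, 9)]),
   ([20, 17, 17], [(214, false, 0), (214, false, 3), (129, false, 2), (87, false, 1), (54, false, 0), (149, false, 3), (118, false, 2), (104, false, 1), (150, false, 2), (119, false, 1), (151, false, 1), (152, false, 2), (132, false, 1), (90, false, 0), (149, false, 2), (118, false, 1), (104, false, 0), (150, false, 1), (119, false, 0), (151, false, 0), (152, false, 1), (135, false, 0)], [(170, false, 1)]),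
   ([11, 6, 3], [(72, false, 0), (123, false, 4), (108, false, 3), (94, false, 2), (69, false, 1), (24, false, 0), (164, false, 2), (169, false, 6), (152, false, 5), (166, false, 5), (118, false, 4), (104, false, 3), (167, false, 4), (119, false, 3), (168, false, 3)], [(24, false, 1), (69, false, 0), (142, false, 2), (72, false, 1), (133, false, 5), (118, false, 4), (104, false, 3), (134, false, 4), (119, false, 3)]),
   ([12, 12, 5], [(90, false, 0), (141, false, 2), (110, false, 1), (96, false, 0), (149, false, 3), (133, false, 2), (104, false, 1), (150, false, 2), (134, false, 1), (166, false, 4), (149, false, 3), (133, false, 2), (118, false, 1), (168, false, 5), (151, false, 4), (135, false, 3), (170, false, 4)], [(83, false, 1), (83, false, 0), (147, false, 3), (89, false, 2), (77, false, 1), (148, false, 2), (90, false, 1), (152, false, 3)]),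
   ([19, 10, 13, 14, 15, 16, 17, 10, 13, 14, 15, 16, 17], [(193, false, 0), (193, false, 2), (102, false, 1), (77, false, 0), (149, false, 1), (118, false, 0)], [(163, false, 6), (146, false, 5), (130, false, 4), (115, false, 3), (101, false, 2), (65, false, 1), (118, false, 2), (104, false, 1), (119, false, 1), (152, false, 2), (166, false, 2), (133, false, 1), (167, false, 3), (134, false, 2), (168, false, 4), (135, false, 3), (169, false, 3), (170, false, 4), (196, false, 0)]),
   ([14, 3, 0], [(108, false, 0), (105, false, 1), (6, false, 0), (104, false, 9)], [(6, false, 1), (105, false, 0), (138, false, 2), (93, false, 1), (134, false, 3), (119, false, 2), (135, false, 2), (156, false, 3), (139, false, 2), (158, false, 4), (141, false, 3), (168, false, 6), (135, false, 5), (169, false, 5), (170, false, 6), (142, false, 5), (97, false, 4), (104, false, 5), (113, false, 5), (115, false, 6), (116, false, 7), (148, false, 9), (103, false, 8), (149, false, 10), (104, false, 9)]),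
   ([5, 4, 4], [(19, false, 0), (124, false, 4), (109, false, 3), (95, false, 2), (19, false, 1), (14, false, 0), (125, false, 2), (71, false, 1), (50, false, 0), (167, false, 6), (150, false, 5), (134, false, 4), (170, false, 7), (149, false, 6), (133, false, 5), (118, false, 4), (104, false, 3), (150, false, 5), (134, false, 4), (119, false, 3), (151, false, 4), (135, false, 3), (151, false, 3), (152, false, 4), (166, false, 4), (133, false, 3), (168, false, 5), (135, false, 4), (166, false, 4), (104, false, 3), (168, false, 3), (170, false, 4)], [(14, false, 1)]),
   ([9, 1, 1], [(46, false, 0), (137, false, 3), (121, false, 2), (46, false, 1), (2, false, 0), (129, false, 3), (100, false, 2), (75, false, 1), (150, false, 5), (119, false, 4), (152, false, 4), (104, false, 3), (151, false, 5), (135, false, 4), (152, false, 4), (118, false, 3), (119, false, 4), (167, false, 5), (150, false, 4), (168, false, 6), (151, false, 5)], [(2, false, 1), (53, false, 0), (164, false, 4), (147, false, 3), (116, false, 2), (152, false, 4), (104, false, 3), (166, false, 5), (149, false, 4), (118, false, 3), (168, false, 6), (151, false, 5)]),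
   ([13, 2, 1], [(93, false, 0), (121, false, 2), (106, false, 1), (4, false, 0), (169, false, 9), (152, false, 8), (170, false, 8), (133, false, 7), (134, false, 8)], [(4, false, 1), (92, false, 0), (155, false, 3), (122, false, 2), (93, false, 1), (133, false, 3), (118, false, 2), (168, false, 6), (151, false, 5), (135, false, 4), (169, false, 5), (152, false, 4), (170, false, 4), (111, false, 3), (97, false, 2), (104, false, 3), (143, false, 3), (145, false, 4), (116, false, 6), (102, false, 5), (149, false, 7), (118, false, 6), (152, false, 8), (117, false, 7), (103, false, 6)]),
   ([10, 4, 4], [(59, false, 0), (109, false, 4), (95, false, 3), (70, false, 2), (59, false, 1), (14, false, 0), (130, false, 2), (76, false, 1), (147, false, 6), (131, false, 5), (116, false, 4), (102, false, 3), (77, false, 2), (149, false, 3), (118, false, 2), (152, false, 4), (149, false, 5), (133, false, 4), (118, false, 3), (104, false, 2), (150, false, 4), (134, false, 3), (119, false, 2), (147, false, 3), (131, false, 2), (149, false, 4), (133, false, 3), (168, false, 6), (151, false, 5), (135, false, 4), (169, false, 5), (152, false, 4), (170, false, 4), (104, false, 3)], [(14, false, 1), (64, false, 0)])]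

def p2Eqs_9 : List (List ℕ × List Step × List Step) :=
  [([20, 17, 9, 13, 16], [(214, false, 0), (206, false, 3), (129, false, 2), (87, false, 1), (54, false, 0), (149, false, 3), (118, false, 2), (104, false, 1), (150, false, 2), (119, false, 1), (151, false, 1), (152, false, 2), (131, false, 1), (89, false, 0), (134, false, 2)], [(162, false, 1), (166, false, 5), (149, false, 4), (118, false, 3), (104, false, 2), (169, false, 4), (152, false, 3), (152, true, 3), (150, true, 2), (104, true, 2), (149, true, 3), (206, false, 0), (210, false, 3), (214, false, 6), (118, false, 2), (119, false, 3), (145, false, 3), (100, false, 2), (75, false, 1), (54, false, 0), (150, false, 3), (119, false, 2), (152, false, 2), (104, false, 1), (117, false, 1)]),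
   ([10, 4, 2], [(59, false, 0), (107, false, 4), (93, false, 3), (68, false, 2), (57, false, 1), (12, false, 0), (54, false, 2), (131, false, 4), (116, false, 3), (151, false, 5), (150, false, 6), (134, false, 5), (151, false, 7), (135, false, 6), (149, false, 6), (118, false, 5), (104, false, 4), (150, false, 5), (119, false, 4)], [(12, false, 1), (57, false, 0), (124, false, 4), (109, false, 3), (59, false, 2), (49, false, 1), (118, false, 6), (104, false, 5), (133, false, 6), (118, false, 5), (135, false, 7), (162, false, 7), (114, false, 6), (100, false, 5), (75, false, 4), (64, false, 3), (54, false, 2), (150, false, 6), (119, false, 5), (152, false, 5), (118, false, 5), (104, false, 4), (119, false, 4)]),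
   ([16, 4, 1], [(140, false, 0), (154, false, 2), (106, false, 1), (11, false, 0), (152, false, 6), (166, false, 6), (133, false, 5), (118, false, 4), (167, false, 7), (134, false, 6), (119, false, 5), (168, false, 6), (135, false, 5), (169, false, 5)], [(11, false, 1), (137, false, 0), (124, false, 2), (109, false, 1), (133, false, 3), (104, false, 2), (135, false, 2), (158, false, 2), (162, false, 5), (145, false, 4), (129, false, 3), (149, false, 7), (133, false, 6), (118, false, 5), (104, false, 4), (150, false, 6), (134, false, 5), (119, false, 4), (149, false, 5), (133, false, 4), (150, false, 6), (134, false, 5), (152, false, 7), (167, false, 7), (134, false, 6), (119, false, 5), (168, false, 6), (135, false, 5), (169, false, 5)]),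
   ([1, 1, 1], [(2, false, 0), (121, false, 3), (92, false, 2), (67, false, 1), (37, false, 0), (162, false, 5), (114, false, 4), (100, false, 3), (54, false, 2), (150, false, 3), (119, false, 2), (149, false, 2), (150, false, 3), (152, false, 4), (164, false, 4), (116, false, 3), (102, false, 2), (149, false, 4), (118, false, 3), (152, false, 5), (118, false, 4), (104, false, 3), (119, false, 3), (166, false, 4), (149, false, 3), (167, false, 5), (150, false, 4), (170, false, 6), (149, false, 5), (118, false, 4), (104, false, 3), (151, false, 4), (166, false, 6), (149, false, 5), (133, false, 4), (118, false, 3), (167, false, 7), (150, false, 6), (134, false, 5), (119, false, 4), (169, false, 6), (152, false, 5), (170, false, 5)], [(2, false, 1)]),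
   ([4, 4, 2], [(14, false, 0), (122, false, 2), (68, false, 1), (47, false, 0), (164, false, 5), (147, false, 4), (131, false, 3), (102, false, 2), (151, false, 4), (152, false, 5), (133, false, 4), (118, false, 3), (134, false, 5), (119, false, 4), (166, false, 6), (149, false, 5), (133, false, 4), (104, false, 3), (169, false, 5), (152, false, 4), (170, false, 4)], [(12, false, 1), (12, false, 0), (49, false, 2), (14, false, 1), (129, false, 3), (75, false, 2), (54, false, 1), (149, false, 4), (118, false, 3), (104, false, 2), (150, false, 3), (119, false, 2), (151, false, 2), (152, false, 3), (129, false, 2), (75, false, 1), (149, false, 5), (118, false, 4), (104, false, 3), (150, false, 4), (119, false, 3), (151, false, 3), (152, false, 4)]),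
   ([7, 7, 4], [(35, false, 0), (95, false, 0)], [(32, false, 1), (32, false, 0), (160, false, 5), (127, false, 4), (73, false, 3), (52, false, 2), (35, false, 1), (100, false, 1), (151, false, 3), (152, false, 4), (131, false, 3), (116, false, 2), (151, false, 4), (149, false, 5), (133, false, 4), (104, false, 3), (166, false, 5), (149, false, 4), (133, false, 3), (167, false, 6), (150, false, 5), (134, false, 4), (168, false, 7), (151, false, 6), (135, false, 5), (169, false, 6), (152, false, 5), (166, false, 5), (118, false, 4), (104, false, 3), (167, false, 4), (119, false, 3), (169, false, 3), (170, false, 4), (145, false, 3), (75, false, 2), (54, false, 1), (149, false, 4), (118, false, 3), (104, false, 2), (150, false, 3), (119, false, 2), (147, false, 2), (77, false, 1), (151, false, 1)]),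
   ([18, 10, 13, 14, 15, 16, 17, 10, 13, 14, 15, 16, 17], [(178, false, 0), (178, false, 5), (163, false, 4), (115, false, 3), (88, false, 2), (76, false, 1), (65, false, 0), (150, false, 4), (119, false, 3), (164, false, 4), (147, false, 3), (102, false, 2), (89, false, 1), (77, false, 0), (152, false, 2), (118, false, 1), (119, false, 2), (165, false, 3), (148, false, 2), (103, false, 1), (90, false, 0), (149, false, 2), (118, false, 1), (104, false, 0), (152, false, 1), (118, false, 0), (119, false, 1), (167, false, 2), (150, false, 1), (170, false, 3)], [(163, false, 6), (146, false, 5), (130, false, 4), (115, false, 3), (101, false, 2), (65, false, 1), (118, false, 2), (104, false, 1), (119, false, 1), (152, false, 2), (166, false, 2), (133, false, 1), (167, false, 3), (134, false, 2), (168, false, 4), (135, false, 3), (169, false, 3), (170, false, 4), (181, false, 0)]),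
   ([11, 7, 2], [(73, false, 0), (155, false, 3), (93, false, 2), (68, false, 1), (30, false, 0), (164, false, 6), (147, false, 5), (131, false, 4), (89, false, 3), (149, false, 6), (133, false, 5), (150, false, 7), (134, false, 6), (152, false, 8), (167, false, 8), (134, false, 7), (119, false, 6), (168, false, 7), (135, false, 6), (168, false, 6), (169, false, 7), (170, false, 8)], [(30, false, 1), (68, false, 0), (72, false, 1), (128, false, 5), (113, false, 4), (99, false, 3), (74, false, 2), (167, false, 6), (134, false, 5), (119, false, 4), (169, false, 5), (167, false, 6), (150, false, 5), (134, false, 4), (168, false, 7), (151, false, 6), (135, false, 5), (165, false, 6), (148, false, 5), (117, false, 4), (149, false, 6), (118, false, 5), (150, false, 7), (119, false, 6), (152, false, 6), (168, false, 6), (169, false, 7), (170, false, 8)]),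
   ([21, 16, 17, 16, 17], [(226, false, 0), (226, false, 5), (144, false, 4), (128, false, 3), (63, false, 2), (53, false, 1), (44, false, 0), (145, false, 1), (100, false, 0), (149, false, 2), (118, false, 1), (150, false, 3), (119, false, 2), (150, false, 2), (152, false, 3), (163, false, 3), (115, false, 2), (101, false, 1), (166, false, 4), (118, false, 3), (104, false, 2), (167, false, 3), (119, false, 2), (170, false, 2), (133, false, 2), (134, false, 3), (129, false, 4), (114, false, 3), (100, false, 2), (64, false, 1), (54, false, 0), (150, false, 2), (119, false, 1), (149, false, 1), (150, false, 2), (151, false, 3), (152, false, 4), (130, false, 3), (115, false, 2), (101, false, 1), (65, false, 0), (118, false, 1), (104, false, 0), (119, false, 0), (151, false, 1), (135, false, 0), (152, false, 0)], [(169, false, 2), (152, false, 1), (170, false, 1)]),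
   ([10, 6, 0], [(61, false, 0), (91, false, 2), (55, false, 1), (21, false, 0), (130, false, 5), (88, false, 4), (76, false, 3), (149, false, 8), (118, false, 7), (104, false, 6), (150, false, 7), (119, false, 6), (151, false, 6), (152, false, 7), (134, false, 6), (170, false, 9)], [(21, false, 1), (55, false, 0), (160, false, 4), (143, false, 3), (112, false, 2), (62, false, 1), (150, false, 3), (152, false, 4), (118, false, 3), (119, false, 4), (161, false, 5), (144, false, 4), (99, false, 3), (63, false, 2), (167, false, 6), (119, false, 5), (169, false, 5), (166, false, 6), (149, false, 5), (104, false, 4), (167, false, 5), (150, false, 4), (166, false, 6), (149, false, 5), (118, false, 4), (167, false, 7), (150, false, 6), (119, false, 5), (169, false, 6), (152, false, 5), (170, false, 5), (102, false, 4), (148, false, 6), (117, false, 5), (151, false, 7)])]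

def p2Eqs_10 : List (List ℕ × List Step × List Step) :=
  [([11, 3, 0], [(69, false, 0), (136, false, 2), (66, false, 1), (6, false, 0), (102, false, 9), (89, false, 8), (77, false, 7), (150, false, 9), (119, false, 8)], [(6, false, 1), (66, false, 0), (68, false, 1), (69, false, 2), (141, false, 4), (71, false, 3), (166, false, 8), (149, false, 7), (133, false, 6), (104, false, 5), (168, false, 7), (151, false, 6), (135, false, 5), (170, false, 6), (142, false, 5), (72, false, 4), (133, false, 8), (118, false, 7), (104, false, 6), (134, false, 7), (119, false, 6), (128, false, 6), (74, false, 5), (168, false, 9), (135, false, 8), (163, false, 8), (115, false, 7), (76, false, 6), (164, false, 9), (116, false, 8), (77, false, 7), (149, false, 8), (104, false, 7), (150, false, 7), (152, false, 8), (165, false, 8), (117, false, 7), (118, false, 8), (119, false, 9), (166, false, 10), (149, false, 9), (104, false, 8)]),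
   ([12, 8, 0], [(86, false, 0), (153, false, 4), (120, false, 3), (91, false, 2), (78, false, 1), (36, false, 0), (129, false, 3), (100, false, 2), (149, false, 4), (118, false, 3), (150, false, 5), (119, false, 4), (151, false, 4), (152, false, 5), (132, false, 4), (103, false, 3), (104, false, 4), (150, false, 6), (134, false, 5), (119, false, 4), (151, false, 5), (135, false, 4), (152, false, 4), (166, false, 4), (168, false, 5), (170, false, 6), (133, false, 5), (104, false, 4)], [(36, false, 1), (78, false, 0), (144, false, 5), (128, false, 4), (113, false, 3), (86, false, 2), (53, false, 1), (165, false, 5), (148, false, 4), (117, false, 3), (149, false, 5), (118, false, 4), (150, false, 6), (119, false, 5), (152, false, 5), (166, false, 5), (104, false, 4), (168, false, 4), (170, false, 5), (134, false, 4), (135, false, 5), (118, false, 4), (119, false, 5), (104, false, 4)]),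
   ([8, 8, 4], [(44, false, 0), (140, false, 1), (95, false, 0), (167, false, 3), (150, false, 2), (134, false, 1), (170, false, 4)], [(40, false, 1), (40, false, 0), (126, false, 5), (97, false, 4), (84, false, 3), (34, false, 2), (27, false, 1), (160, false, 1), (166, false, 5), (149, false, 4), (118, false, 3), (104, false, 2), (167, false, 4), (150, false, 3), (119, false, 2), (168, false, 3), (151, false, 2), (170, false, 4), (148, false, 3), (132, false, 2), (152, false, 6), (133, false, 5), (118, false, 4), (104, false, 3), (149, false, 5), (133, false, 4), (118, false, 3), (151, false, 6), (135, false, 5), (143, false, 5), (112, false, 4), (98, false, 3), (85, false, 2), (35, false, 1), (103, false, 1), (149, false, 4), (118, false, 3), (104, false, 2), (150, false, 3), (119, false, 2), (152, false, 2), (90, false, 1), (149, false, 3), (118, false, 2), (104, false, 1), (151, false, 2)]),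
   ([9, 8, 4], [(53, false, 0), (157, false, 4), (140, false, 3), (109, false, 2), (49, false, 1), (40, false, 0), (129, false, 5), (100, false, 4), (87, false, 3), (150, false, 7), (119, false, 6), (152, false, 6), (104, false, 5), (149, false, 7), (133, false, 6), (118, false, 5), (151, false, 8), (135, false, 7), (150, false, 7), (119, false, 6), (167, false, 7), (150, false, 6), (168, false, 8), (151, false, 7)], [(40, false, 1), (49, false, 0), (51, false, 1), (160, false, 6), (143, false, 5), (127, false, 4), (98, false, 3), (52, false, 2), (149, false, 5), (133, false, 4), (149, false, 6), (133, false, 5), (104, false, 4), (150, false, 5), (134, false, 4), (151, false, 6), (135, false, 5), (152, false, 5), (149, false, 5), (118, false, 4), (150, false, 6), (119, false, 5), (152, false, 5), (165, false, 5), (103, false, 4), (104, false, 5), (166, false, 7), (149, false, 6), (118, false, 5), (168, false, 8), (151, false, 7)]),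
   ([7, 7, 2], [(35, false, 0), (93, false, 0)], [(30, false, 1), (30, false, 0), (159, false, 6), (142, false, 5), (126, false, 4), (84, false, 3), (42, false, 2), (27, false, 1), (161, false, 1), (169, false, 5), (152, false, 4), (165, false, 4), (117, false, 3), (103, false, 2), (118, false, 4), (104, false, 3), (119, false, 3), (166, false, 4), (149, false, 3), (169, false, 5), (152, false, 4), (168, false, 4), (166, false, 5), (133, false, 4), (104, false, 3), (167, false, 4), (134, false, 3), (170, false, 5), (128, false, 4), (113, false, 3), (86, false, 2), (44, false, 1), (148, false, 2), (103, false, 1), (149, false, 3), (104, false, 2), (151, false, 2), (167, false, 4), (150, false, 3), (134, false, 2), (168, false, 5), (151, false, 4), (135, false, 3), (165, false, 4), (148, false, 3), (117, false, 2), (90, false, 1), (150, false, 3), (119, false, 2), (152, false, 2), (104, false, 1), (168, false, 3), (151, false, 2), (169, false, 4), (152, false, 3), (170, false, 3)]),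
   ([10, 1, 1], [(56, false, 0), (154, false, 5), (121, false, 4), (92, false, 3), (56, false, 2), (46, false, 1), (2, false, 0), (129, false, 3), (100, false, 2), (75, false, 1), (150, false, 5), (119, false, 4), (152, false, 4), (104, false, 3), (151, false, 5), (135, false, 4), (152, false, 4), (114, false, 3), (75, false, 2), (54, false, 1), (150, false, 4), (119, false, 3), (146, false, 3), (101, false, 2), (76, false, 1), (149, false, 4), (104, false, 3), (151, false, 3), (166, false, 5), (149, false, 4), (133, false, 3), (168, false, 6), (151, false, 5), (135, false, 4), (170, false, 5), (149, false, 4), (104, false, 3), (150, false, 3), (152, false, 4), (166, false, 4), (118, false, 3), (167, false, 5), (119, false, 4), (168, false, 4), (169, false, 5)], [(2, false, 1), (63, false, 0), (164, false, 4), (116, false, 3), (102, false, 2), (149, false, 4), (118, false, 3), (152, false, 5), (118, false, 4), (104, false, 3), (119, false, 3), (166, false, 4), (149, false, 3), (168, false, 5), (151, false, 4)]),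
   ([8, 1, 1], [(37, false, 0), (154, false, 5), (106, false, 4), (92, false, 3), (46, false, 2), (37, false, 1), (2, false, 0), (128, false, 3), (99, false, 2), (74, false, 1), (44, false, 0), (147, false, 1), (102, false, 0), (152, false, 2), (119, false, 1), (167, false, 2), (134, false, 1), (169, false, 3), (168, false, 4), (151, false, 3), (135, false, 2), (162, false, 3), (145, false, 2), (114, false, 1), (75, false, 0), (150, false, 4), (119, false, 3), (149, false, 3), (104, false, 2), (150, false, 2), (149, false, 3), (118, false, 2), (150, false, 4), (119, false, 3), (152, false, 3), (166, false, 3), (104, false, 2), (167, false, 2), (170, false, 3), (114, false, 2), (75, false, 1), (54, false, 0), (150, false, 3), (119, false, 2), (151, false, 2), (152, false, 3), (133, false, 2), (104, false, 1), (135, false, 1), (169, false, 1), (170, false, 2), (149, false, 1), (150, false, 2), (151, false, 3), (152, false, 4)], [(2, false, 1), (44, false, 0), (147, false, 1), (102, false, 0), (152, false, 2), (118, false, 1)]),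
   ([6, 6, 4], [(27, false, 0), (157, false, 0)], [(25, false, 1), (25, false, 0), (160, false, 6), (143, false, 5), (98, false, 4), (85, false, 3), (43, false, 2), (35, false, 1), (99, false, 1), (150, false, 3), (119, false, 2), (152, false, 2), (165, false, 2), (167, false, 6), (150, false, 5), (119, false, 4), (169, false, 5), (152, false, 4), (166, false, 4), (104, false, 3), (169, false, 3), (166, false, 4), (149, false, 3), (167, false, 5), (150, false, 4), (169, false, 6), (152, false, 5), (170, false, 5), (113, false, 4), (99, false, 3), (86, false, 2), (44, false, 1), (148, false, 2), (103, false, 1), (149, false, 3), (104, false, 2), (151, false, 2), (167, false, 4), (150, false, 3), (134, false, 2), (169, false, 5), (152, false, 4), (167, false, 4), (134, false, 3), (119, false, 2), (165, false, 3), (132, false, 2), (90, false, 1), (149, false, 3), (118, false, 2), (104, false, 1), (150, false, 2), (119, false, 1), (151, false, 1), (152, false, 2), (133, false, 1), (134, false, 2), (166, false, 5), (149, false, 4), (133, false, 3), (118, false, 2), (104, false, 1), (169, false, 4), (152, false, 3), (170, false, 3)]),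
   ([7, 7, 1], [(35, false, 0), (92, false, 0)], [(29, false, 1), (29, false, 0), (160, false, 6), (127, false, 5), (98, false, 4), (73, false, 3), (43, false, 2), (35, false, 1), (99, false, 1), (150, false, 3), (119, false, 2), (152, false, 2), (164, false, 2), (166, false, 6), (149, false, 5), (118, false, 4), (104, false, 3), (170, false, 5), (149, false, 4), (118, false, 3), (149, false, 5), (118, false, 4), (104, false, 3), (150, false, 4), (119, false, 3), (151, false, 3), (152, false, 4), (133, false, 3), (134, false, 4), (161, false, 7), (144, false, 6), (128, false, 5), (113, false, 4), (99, false, 3), (74, false, 2), (44, false, 1), (147, false, 2), (102, false, 1), (152, false, 3), (119, false, 2), (167, false, 3), (134, false, 2), (169, false, 4), (167, false, 5), (150, false, 4), (134, false, 3), (119, false, 2), (168, false, 4), (151, false, 3), (135, false, 2), (166, false, 3), (149, false, 2), (167, false, 4), (150, false, 3), (166, false, 5), (149, false, 4), (118, false, 3), (104, false, 2), (167, false, 4), (150, false, 3), (119, false, 2), (169, false, 3), (152, false, 2), (170, false, 2), (77, false, 1)]),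
   ([10, 4, 3], [(59, false, 0), (108, false, 4), (94, false, 3), (69, false, 2), (58, false, 1), (13, false, 0), (163, false, 7), (130, false, 6), (101, false, 5), (76, false, 4), (104, false, 6), (164, false, 9), (147, false, 8), (131, false, 7), (116, false, 6), (77, false, 5), (151, false, 6), (152, false, 7), (133, false, 6), (104, false, 5), (134, false, 5), (169, false, 8), (152, false, 7), (166, false, 7), (133, false, 6), (118, false, 5), (167, false, 8), (134, false, 7), (119, false, 6)], [(13, false, 1), (58, false, 0), (59, false, 1), (111, false, 5), (97, false, 4), (72, false, 3), (61, false, 2), (102, false, 4), (149, false, 6), (118, false, 5), (150, false, 7), (119, false, 6), (151, false, 6), (149, false, 7), (133, false, 6), (104, false, 5), (149, false, 6), (133, false, 5), (152, false, 7), (128, false, 6), (99, false, 5), (74, false, 4), (63, false, 3), (164, false, 7), (116, false, 6), (102, false, 5), (149, false, 7), (118, false, 6), (152, false, 8), (118, false, 7), (104, false, 6), (119, false, 6), (167, false, 7), (150, false, 6), (168, false, 8), (151, false, 7), (170, false, 9), (150, false, 8), (134, false, 7), (119, false, 6), (152, false, 7), (135, false, 6), (77, false, 5)])]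

def p2Eqs_11 : List (List ℕ × List Step × List Step) :=
  [([12, 8, 5], [(86, false, 0), (158, false, 4), (125, false, 3), (96, false, 2), (83, false, 1), (41, false, 0), (164, false, 4), (131, false, 3), (133, false, 4), (134, false, 5), (165, false, 8), (148, false, 7), (132, false, 6), (117, false, 5), (103, false, 4), (118, false, 6), (104, false, 5), (119, false, 5), (152, false, 6), (133, false, 5), (134, false, 6), (169, false, 9), (152, false, 8), (166, false, 8), (133, false, 7), (118, false, 6), (104, false, 5), (168, false, 7), (135, false, 6), (169, false, 6), (167, false, 7), (150, false, 6), (119, false, 5), (170, false, 6), (151, false, 5), (152, false, 6)], [(41, false, 1), (83, false, 0), (144, false, 3), (86, false, 2), (74, false, 1), (165, false, 5), (132, false, 4), (117, false, 3), (118, false, 4), (119, false, 5), (149, false, 6), (133, false, 5), (104, false, 4), (150, false, 5), (134, false, 4), (152, false, 6), (166, false, 6), (133, false, 5), (118, false, 4), (168, false, 7), (135, false, 6), (170, false, 6), (118, false, 5), (104, false, 4), (119, false, 4), (87, false, 3), (75, false, 2), (148, false, 6), (117, false, 5), (103, false, 4), (149, false, 7), (118, false, 6), (104,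 false, 5), (150, false, 6), (119, false, 5), (152, false, 5)]),
   ([7, 0, 0], [(28, false, 0), (136, false, 8), (120, false, 7), (105, false, 6), (78, false, 5), (66, false, 4), (45, false, 3), (36, false, 2), (21, false, 1), (0, false, 0), (128, false, 4), (86, false, 3), (74, false, 2), (44, false, 1), (147, false, 2), (102, false, 1), (152, false, 3), (119, false, 2), (165, false, 3), (132, false, 2), (149, false, 6), (133, false, 5), (118, false, 4), (104, false, 3), (150, false, 5), (134, false, 4), (119, false, 3), (152, false, 4), (166, false, 4), (133, false, 3), (168, false, 5), (135, false, 4), (170, false, 4), (133, false, 4), (104, false, 3), (135, false, 3), (87, false, 2), (75, false, 1), (148, false, 5), (117, false, 4), (103, false, 3), (149, false, 6), (118, false, 5), (104, false, 4), (150, false, 5), (119, false, 4), (152, false, 4), (89, false, 3), (77, false, 2), (87, false, 2), (54, false, 1), (148, false, 4), (117, false, 3), (103, false, 2), (90, false, 1), (149, false, 3), (118, false, 2), (104, false, 1), (150, false, 2), (119, false, 1), (152, false, 1), (149, false, 3), (133, false, 2), (118, false, 1), (152, false, 4), (133, false, 3), (118, false, 2), (104, false, 1), (135, false,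 2), (167, false, 2), (119, false, 1), (170, false, 1)], [(0, false, 1)]),
   ([21, 17, 17], [(227, false, 0), (227, false, 5), (111, false, 4), (97, false, 3), (72, false, 2), (42, false, 1), (27, false, 0), (161, false, 0), (169, false, 4), (152, false, 3), (164, false, 3), (116, false, 2), (102, false, 1), (149, false, 3), (118, false, 2), (152, false, 4), (118, false, 3), (104, false, 2), (119, false, 2), (166, false, 3), (149, false, 2), (167, false, 4), (150, false, 3), (168, false, 5), (151, false, 4), (166, false, 6), (149, false, 5), (133, false, 4), (118, false, 3), (104, false, 2), (166, false, 5), (149, false, 4), (133, false, 3), (118, false, 2), (169, false, 6), (152, false, 5), (161, false, 5), (128, false, 4), (113, false, 3), (99, false, 2), (74, false, 1), (44, false, 0), (147, false, 1), (102, false, 0), (152, false, 2), (119, false, 1), (167, false, 2), (134, false, 1), (169, false, 3), (167, false, 4), (150, false, 3), (134, false, 2), (119, false, 1), (168, false, 3), (151, false, 2), (135, false, 1), (166, false, 2), (149, false, 1), (167, false, 3), (150, false, 2), (169, false, 4), (152, false, 3), (170, false, 3), (116, false, 2), (102, false, 1), (77, false, 0), (149, false, 1), (118,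 false, 0), (152, false, 2), (118, false, 1), (104, false, 0), (119, false, 0)], [(170, false, 1)]),
   ([12, 5, 0], [(83, false, 0), (136, false, 3), (78, false, 2), (66, false, 1), (15, false, 0), (147, false, 5), (116, false, 4), (102, false, 3), (149, false, 5), (118, false, 4), (152, false, 6), (145, false, 6), (114, false, 5), (100, false, 4), (75, false, 3), (54, false, 2), (150, false, 5), (119, false, 4), (152, false, 4), (118, false, 4), (104, false, 3), (119, false, 3), (150, false, 6), (134, false, 5), (119, false, 4)], [(15, false, 1), (78, false, 0), (141, false, 5), (125, false, 4), (110, false, 3), (83, false, 2), (50, false, 1), (149, false, 5), (150, false, 6), (167, false, 8), (150, false, 7), (119, false, 6), (170, false, 7), (149, false, 6), (104, false, 5), (151, false, 5), (162, false, 7), (145, false, 6), (129, false, 5), (87, false, 4), (75, false, 3), (54, false, 2), (148, false, 5), (117, false, 4), (103, false, 3), (149, false, 6), (118, false, 5), (104, false, 4), (150, false, 5), (119, false, 4), (152, false, 4), (149, false, 7), (133, false, 6), (118, false, 5), (104, false, 4), (150, false, 6), (134, false, 5), (119, false, 4), (149, false, 5), (133, false, 4), (150, false, 6),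 (134, false, 5), (152, false, 7), (166, false, 7), (133, false, 6), (118, false, 5), (104, false, 4), (167, false, 6), (134, false, 5), (119, false, 4), (169, false, 5)]),
   ([8, 6, 0], [(42, false, 0), (136, false, 2), (36, false, 1), (21, false, 0), (128, false, 5), (86, false, 4), (74, false, 3), (44, false, 2), (147, false, 3), (102, false, 2), (152, false, 4), (119, false, 3), (165, false, 4), (132, false, 3), (149, false, 7), (133, false, 6), (118, false, 5), (104, false, 4), (150, false, 6), (134, false, 5), (119, false, 4), (152, false, 5), (166, false, 5), (133, false, 4), (168, false, 6), (135, false, 5), (170, false, 5), (133, false, 5), (104, false, 4), (135, false, 4)], [(21, false, 1), (36, false, 0), (127, false, 3), (98, false, 2), (43, false, 1), (166, false, 5), (149, false, 4), (118, false, 3), (166, false, 6), (149, false, 5), (118, false, 4), (104, false, 3), (167, false, 5), (150, false, 4), (119, false, 3), (168, false, 4), (151, false, 3), (169, false, 5), (152, false, 4), (161, false, 4), (128, false, 3), (44, false, 2), (151, false, 3), (149, false, 4), (133, false, 3), (104, false, 2), (150, false, 3), (134, false, 2), (152, false, 4), (164, false, 4), (131, false, 3), (116, false,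 2), (151, false, 4), (149, false, 5), (133, false, 4), (104, false, 3), (150, false, 4), (134, false, 3), (152, false, 5), (165, false, 5), (132, false, 4), (117, false, 3), (118, false, 4), (119, false, 5), (149, false, 6), (133, false, 5), (104, false, 4), (150, false, 5), (134, false, 4), (152, false, 6), (168, false, 6), (135, false, 5)]),
   ([10, 2, 2], [(57, false, 0), (122, false, 4), (107, false, 3), (57, false, 2), (47, false, 1), (5, false, 0), (162, false, 5), (100, false, 4), (87, false, 3), (150, false, 7), (119, false, 6), (152, false, 6), (104, false, 5), (166, false, 7), (149, false, 6), (118, false, 5), (168, false, 8), (151, false, 7), (169, false, 9), (152, false, 8), (170, false, 8), (129, false, 7), (114, false, 6), (100, false, 5), (87, false, 4), (54, false, 3), (150, false, 6), (119, false, 5), (152, false, 5), (118, false, 5), (104, false, 4), (119, false, 4), (146, false, 5), (130, false, 4), (88, false, 3), (149, false, 7), (118, false, 6), (104, false, 5), (150, false, 6), (119, false, 5), (151, false, 5), (152, false, 6), (150, false, 6), (134, false, 5), (151, false, 7), (135, false, 6), (149, false, 6), (118, false, 5), (150, false, 7), (119, false, 6), (166, false, 7), (149, false,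 6), (104, false, 5), (169, false, 6), (152, false, 5), (170, false, 5)], [(5, false, 1), (61, false, 0), (98, false, 2), (62, false, 1), (149, false, 3), (144, false, 4), (99, false, 3), (63, false, 2), (167, false, 6), (119, false, 5), (169, false, 5), (166, false, 6), (149, false, 5), (104, false, 4), (167, false, 5), (150, false, 4), (165, false, 6), (148, false, 5), (117, false, 4), (149, false, 6), (118, false, 5), (150, false, 7), (119, false, 6), (152, false, 6), (166, false, 6), (104, false, 5), (170, false, 5)]),
   ([6, 6, 1], [(27, false, 0), (154, false, 0)], [(22, false, 1), (22, false, 0), (111, false, 6), (97, false, 5), (61, false, 4), (51, false, 3), (42, false, 2), (27, false, 1), (161, false, 1), (169, false, 5), (152, false, 4), (162, false, 4), (114, false, 3), (100, false, 2), (150, false, 4), (119, false, 3), (149, false, 3), (150, false, 4), (152, false, 5), (166, false, 5), (118, false, 4), (104, false, 3), (168, false, 4), (169, false, 5), (170, false, 6), (146, false, 5), (130, false, 4), (115, false, 3), (118, false, 4), (119, false, 5), (152, false, 6), (133, false, 5), (104, false, 4), (133, false, 4), (133, false, 5), (104, false, 4), (144, false, 5), (128, false, 4), (63, false,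 3), (53, false, 2), (44, false, 1), (145, false, 2), (100, false, 1), (149, false, 3), (118, false, 2), (150, false, 4), (119, false, 3), (150, false, 3), (152, false, 4), (163, false, 4), (115, false, 3), (101, false, 2), (166, false, 5), (118, false, 4), (104, false, 3), (167, false, 4), (119, false, 3), (170, false, 3), (133, false, 3), (134, false, 4), (129, false, 5), (114, false, 4), (100, false, 3), (64, false, 2), (54, false, 1), (150, false, 3), (119, false, 2), (149, false, 2), (150, false, 3), (151, false, 4), (152, false, 5), (130, false, 4), (115, false, 3), (101, false, 2), (65, false, 1), (118, false, 2), (104, false, 1), (119, false, 1), (149, false, 2), (133, false, 1), (150, false, 3), (134, false, 2)]),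
   ([10, 3, 0], [(58, false, 0), (55, false, 1), (6, false, 0), (101, false, 9), (88, false, 8), (76, false, 7), (65, false, 6), (149, false, 10), (118, false, 9), (104, false, 8), (150, false, 9), (119, false, 8), (152, false, 8)], [(6, false, 1), (55, false, 0), (155, false, 4), (138, false, 3), (107, false, 2), (57, false, 1), (133, false, 5), (118, false, 4), (134, false, 6), (119, false, 5), (167, false, 6), (134, false, 5), (168, false, 7), (135, false, 6), (169, false, 6), (170, false, 7), (151, false, 6), (152, false, 7), (156, false, 7), (123, false, 6), (108, false, 5), (94, false, 4), (58, false, 3), (48, false, 2), (163, false, 6), (115, false, 5), (101, false, 4), (166, false, 7), (118, false, 6), (104, false, 5), (167, false, 6), (119, false, 5), (168, false, 5), (170, false, 6), (125, false, 5), (60, false, 4), (50, false, 3), (54, false, 4), (167, false, 6), (170, false, 7), (111, false, 6), (97, false, 5), (61, false, 4), (104, false, 6), (144, false, 7), (99, false, 6), (63, false, 5), (167, false, 9), (119, false, 8), (169, false, 8), (166, false, 9), (149, false, 8), (104, false, 7), (167, false, 8), (150, false, 7), (163, false, 9), (146, false, 8), (115, false, 7), (65, false, 6), (164,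 false, 8), (147, false, 7), (116, false, 6), (152, false, 8), (104, false, 7), (165, false, 9), (148, false, 8), (117, false, 7), (149, false, 9), (118, false, 8), (150, false, 10), (119, false, 9), (152, false, 9), (166, false, 9), (104, false, 8)]),
   ([4, 3, 3], [(13, false, 0), (156, false, 7), (123, false, 6), (94, false, 5), (69, false, 4), (39, false, 3), (24, false, 2), (13, false, 1), (9, false, 0), (159, false, 6), (126, false, 5), (97, false, 4), (72, false, 3), (42, false, 2), (27, false, 1), (161, false, 1), (169, false, 5), (152, false, 4), (164, false, 4), (116, false, 3), (102, false, 2), (149, false, 4), (118, false, 3), (152, false, 5), (118, false, 4), (104, false, 3), (119, false, 3), (166, false, 4), (149, false, 3), (167, false, 5), (150, false, 4), (168, false, 6), (151, false, 5), (166, false, 7), (149, false, 6), (133, false, 5), (118, false, 4), (104, false, 3), (168, false, 6), (151, false, 5), (135, false, 4), (170, false, 5), (161, false, 5), (144, false, 4), (113, false, 3), (74, false, 2), (44, false, 1), (147, false, 2), (102, false, 1), (152, false, 3), (119, false, 2), (167, false, 3), (134, false, 2), (166, false, 4), (133, false, 3), (118, false, 2), (167, false, 5), (134,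 false, 4), (119, false, 3), (166, false, 4), (133, false, 3), (104, false, 2), (167, false, 3), (134, false, 2), (169, false, 4), (170, false, 5), (149, false, 4), (133, false, 3), (118, false, 2), (150, false, 5), (134, false, 4), (119, false, 3), (164, false, 5), (147, false, 4), (131, false, 3), (102, false, 2), (77, false, 1), (151, false, 2), (152, false, 3), (133, false, 2), (118, false, 1), (134, false, 3), (119, false, 2), (169, false, 4), (152, false, 3), (166, false, 3), (133, false, 2), (104, false, 1), (168, false, 2), (135, false, 1), (170, false, 1)], [(9, false, 1)]),
   ([19, 9, 13, 16, 5, 15], [(192, false, 0), (189, false, 2), (137, false, 1), (121, false, 0), (167, false, 4), (150, false, 3), (119, false, 2), (168, false, 3), (151, false, 2), (155, false, 4), (138, false, 3), (122, false, 2), (93, false, 1), (133, false, 3), (118, false, 2), (167, false, 6), (150, false, 5), (134, false, 4), (119, false, 3), (168, false, 5), (151, false, 4), (135, false, 3), (169, false, 4), (152, false, 3), (170, false, 3), (158, false, 5), (141, false, 4), (125, false, 3), (96, false, 2), (150, false, 5), (134, false, 4), (166, false, 7), (149, false, 6), (133, false, 5), (118, false, 4), (104, false, 3),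 (168, false, 6), (151, false, 5), (135, false, 4), (170, false, 5), (151, false, 4), (152, false, 5), (161, false, 5), (128, false, 4), (113, false, 3), (133, false, 5), (118, false, 4), (134, false, 6), (119, false, 5), (162, false, 7), (145, false, 6), (129, false, 5), (100, false, 4), (149, false, 6), (118, false, 5), (150, false, 7), (119, false, 6), (151, false, 6), (152, false, 7), (133, false, 6), (104, false, 5), (134, false, 5), (133, false, 6), (118, false, 5), (134, false, 7), (119, false, 6), (166, false, 8), (149, false, 7), (133, false, 6), (104, false, 5)], [(141, false, 3), (96, false, 2), (50, false, 1), (149, false, 5), (133, false, 4), (104, false, 3), (151, false, 4), (135, false, 3), (168, false, 4), (151, false, 3), (119, true, 3), (134, true, 4), (152, true, 5), (104, true, 3), (118, true, 4), (133, true, 5), (149, true, 6), (129, true, 2), (189, false, 0), (192, false, 6), (197, false, 8), (149, false, 7), (133, false, 6), (104, false, 5)])]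

def p2Eqs_12 : List (List ℕ × List Step × List Step) :=
  [([18, 9, 17, 2, 5, 7, 8, 11, 12, 14, 17], [(177, false, 0), (172, false, 4), (139, false, 3), (123, false, 2), (108, false, 1), (58, false, 0), (148, false, 4), (132, false, 3), (117, false, 2), (118, false, 3), (119, false, 4), (152, false, 5), (133, false, 4), (104, false, 3), (134, false, 3)], [(155, false, 2), (47, false, 1), (168, false, 6), (151, false, 5), (135, false, 4), (169, false, 5), (152, false, 4), (170, false, 4), (96, false, 3), (50, false, 2), (143, false, 6), (127, false, 5), (98, false, 4), (52, false, 3), (149, false, 6), (133, false, 5), (149, false, 7), (133, false, 6), (104, false, 5), (150, false, 6), (134, false, 5), (151, false, 7), (135, false, 6), (152, false, 6), (144, false, 6), (113, false, 5), (53, false, 4), (167, false, 8), (150, false, 7), (119, false, 6), (166, false, 7), (149, false, 6), (167, false, 8), (150, false, 7), (164, false, 9), (147, false, 8), (116, false, 7), (102, false, 6), (149, false, 8), (118, false, 7), (152, false, 9), (149, false, 9), (118, false, 8), (104, false, 7), (150, false, 8), (119, false, 7), (152, false, 7), (165, false, 7), (167, false, 11), (150, false, 10), (119, false, 9), (170,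 false, 10), (170, true, 10), (119, true, 9), (118, true, 8), (152, true, 8), (119, true, 8), (150, true, 9), (104, true, 8), (118, true, 9), (149, true, 10), (103, true, 7), (117, true, 8), (148, true, 9), (75, true, 5), (87, true, 6), (114, true, 7), (162, true, 8), (172, false, 0), (177, false, 5), (163, false, 4), (115, false, 3), (101, false, 2), (88, false, 1), (149, false, 5), (118, false, 4), (104, false, 3), (150, false, 4), (119, false, 3), (167, false, 4), (150, false, 3), (168, false, 5), (151, false, 4), (169, false, 6), (152, false, 5)]),
   ([10, 3, 2], [(58, false, 0), (57, false, 1), (8, false, 0), (145, false, 9), (100, false, 8), (87, false, 7), (75, false, 6), (64, false, 5), (54, false, 4), (148, false, 8), (117, false, 7), (103, false, 6), (149, false, 9), (118, false, 8), (104, false, 7), (150, false, 8), (119, false, 7), (152, false, 7), (149, false, 8), (118, false, 7), (150, false, 9), (119, false, 8), (146, false, 8), (101, false, 7), (88, false, 6), (76, false, 5), (65, false, 4), (149, false, 8), (118, false, 7), (104, false, 6), (152, false, 7), (119, false, 6)], [(8, false, 1), (57, false, 0), (123, false, 4), (108, false, 3), (58, false, 2), (48, false, 1), (163, false, 5), (115,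 false, 4), (101, false, 3), (167, false, 6), (119, false, 5), (168, false, 5), (159, false, 6), (126, false, 5), (97, false, 4), (61, false, 3), (51, false, 2), (163, false, 7), (146, false, 6), (130, false, 5), (101, false, 4), (104, false, 5), (152, false, 7), (166, false, 7), (133, false, 6), (118, false, 5), (166, false, 8), (133, false, 7), (118, false, 6), (104, false, 5), (168, false, 7), (135, false, 6), (170, false, 6), (112, false, 5), (62, false, 4), (52, false, 3), (146, false, 6), (130, false, 5), (152, false, 9), (150, false, 9), (134, false, 8), (119, false, 7), (145, false, 8), (129, false, 7), (100, false, 6), (64, false, 5), (54, false, 4), (149, false, 6), (118, false, 5), (150, false, 7), (119, false, 6), (151, false, 6), (152, false, 7), (133, false, 6), (104, false, 5), (134, false, 5), (130, false, 6), (115, false, 5), (65, false, 4), (118, false, 4), (119, false, 5), (147, false, 6), (131, false, 5), (102, false, 4), (151, false, 6), (152, false, 7), (132, false, 6), (117, false, 5), (118, false, 6), (119, false, 7), (149, false, 8), (133, false, 7), (104, false, 6), (152, false, 7)]),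
   ([10, 4, 1], [(59, false, 0), (106, false, 4), (92, false, 3), (67, false, 2), (56, false, 1), (11, false, 0), (145, false, 6), (129, false, 5), (114, false, 4), (54, false, 3), (118, false, 3), (119, false, 4), (149, false, 5), (133, false, 4), (104, false, 3), (150, false, 4), (134, false, 3), (146, false, 5), (130, false, 4), (115, false, 3), (118, false, 4), (119, false, 5), (152, false, 6), (133, false, 5), (104, false, 4), (135, false, 4), (162, false, 4), (64, false, 3), (164, false, 8), (147, false, 7), (116, false, 6), (102, false, 5), (149, false, 7), (118, false, 6), (152, false, 8), (149, false, 8), (118, false, 7), (104, false, 6), (150, false, 7), (119, false, 6), (152, false, 6), (166, false, 6), (167, false, 7), (170, false, 8), (118, false, 7), (104, false, 6), (169, false, 8), (170, false, 9)], [(11, false, 1), (56, false, 0), (157, false, 5), (124, false, 4), (95, false, 3), (59, false, 2), (49, false, 1), (166, false, 9), (149, false, 8), (133, false, 7), (118, false, 6), (104, false, 5), (168, false, 8), (151, false, 7), (135, false, 6), (170, false, 7), (150, false, 6), (119, false, 5), (151, false, 5), (141, false, 6), (125, false, 5), (71, false, 4), (60, false, 3), (50, false, 2),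 (54, false, 3), (164, false, 5), (102, false, 4), (149, false, 6), (118, false, 5), (150, false, 7), (119, false, 6), (152, false, 6), (166, false, 6), (104, false, 5), (168, false, 5), (169, false, 6), (170, false, 7), (150, false, 6), (134, false, 5), (166, false, 8), (149, false, 7), (133, false, 6), (118, false, 5), (168, false, 9), (151, false, 8), (135, false, 7), (170, false, 8), (145, false, 7), (114, false, 6), (100, false, 5), (75, false, 4), (64, false, 3), (150, false, 8), (119, false, 7), (152, false, 7), (118, false, 7), (104, false, 6), (119, false, 6)]),
   ([19, 17, 5, 15], [(200, false, 0), (189, false, 3), (121, false, 2), (56, false, 1), (46, false, 0), (145, false, 3), (129, false, 2), (54, false, 1), (149, false, 4), (133, false, 3), (118, false, 2), (104, false, 1), (150, false, 3), (134, false, 2), (119, false, 1), (146, false, 2), (130, false, 1), (152, false, 5), (133, false, 4), (118, false, 3), (104, false, 2), (135, false, 3), (166, false, 3), (118, false, 2), (167, false, 4), (119, false, 3), (169, false, 3), (170, false, 4), (138, false, 3), (93, false, 2), (57, false, 1), (134, false, 5), (119, false, 4), (135, false, 4), (158, false, 7), (141, false, 6), (125, false, 5), (110,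 false, 4), (60, false, 3), (50, false, 2), (54, false, 3), (166, false, 5), (104, false, 4), (167, false, 4), (170, false, 5), (119, false, 4), (166, false, 4), (168, false, 5), (170, false, 6), (135, false, 5), (161, false, 6), (144, false, 5), (99, false, 4), (63, false, 3), (167, false, 7), (119, false, 6), (169, false, 6), (166, false, 7), (149, false, 6), (104, false, 5), (167, false, 6), (150, false, 5), (166, false, 7), (149, false, 6), (118, false, 5), (167, false, 8), (150, false, 7), (119, false, 6), (169, false, 7), (152, false, 6), (170, false, 6), (100, false, 5), (64, false, 4), (149, false, 7), (118, false, 6)], [(158, false, 1), (168, false, 4), (151, false, 3), (135, false, 2), (135, true, 2), (189, false, 0), (198, false, 6), (200, false, 9), (100, false, 5), (54, false, 4), (149, false, 5), (118, false, 4), (151, false, 6), (145, false, 7), (129, false, 6), (114, false, 5), (100, false, 4), (150, false, 6), (119, false, 5), (149, false, 5), (150, false, 6), (151, false, 7), (152, false, 8), (133, false, 7), (118, false, 6), (104, false, 5), (134, false, 6), (119, false, 5), (130, false, 5), (151, false, 9), (135, false, 8)]),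
   ([20, 17, 5, 8], [(214, false, 0), (204, false, 3), (120, false, 2), (78, false, 1), (45, false, 0), (54, false, 1), (149, false, 4), (133, false, 3), (118, false, 2), (151, false, 5), (135, false, 4), (158, false, 5), (141, false, 4), (110, false, 3), (96, false, 2), (83, false, 1), (149, false, 4), (151, false, 5), (152, false, 6), (133, false, 5), (104, false, 4), (134, false, 4), (166, false, 6), (133, false, 5), (118, false, 4), (168, false, 7), (135, false, 6), (170, false, 6), (159, false, 8), (142, false, 7), (126, false, 6), (111, false, 5), (97, false, 4), (84, false, 3), (72, false, 2), (132, false, 6), (117, false, 5), (103, false, 4), (118, false, 6), (104, false, 5), (119, false, 5), (149, false, 6), (133, false, 5), (152, false, 7), (133, false, 6), (104, false, 5), (133, false, 5), (151, false, 7), (135, false, 6), (149, false, 6), (104, false, 5), (150, false, 5), (160, false, 7), (143, false, 6), (112, false, 5), (85, false, 4), (73, false, 3), (165, false, 6), (103, false, 5), (104, false, 6), (167, false, 8), (150, false, 7), (119, false, 6), (169, false, 7), (152, false, 6), (167, false, 6), (169, false, 7), (166, false, 8), (149, false, 7), (118, false, 6), (167, false, 9), (150, false,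 8), (119, false, 7), (169, false, 8), (152, false, 7), (170, false, 7), (101, false, 6), (88, false, 5), (76, false, 4), (149, false, 9), (118, false, 8), (104, false, 7), (149, false, 8), (118, false, 7), (151, false, 9)], [(158, false, 1), (161, false, 4), (144, false, 3), (128, false, 2), (133, false, 3), (134, false, 4), (133, false, 5), (118, false, 4), (104, false, 3), (134, false, 4), (119, false, 3), (204, false, 0), (212, false, 7), (131, false, 6), (102, false, 5), (151, false, 7), (148, false, 8), (132, false, 7), (117, false, 6), (118, false, 7), (119, false, 8), (152, false, 9), (134, false, 8)]),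
   ([4, 4, 1], [(14, false, 0), (121, false, 2), (67, false, 1), (46, false, 0), (145, false, 3), (129, false, 2), (54, false, 1), (149, false, 4), (133, false, 3), (118, false, 2), (104, false, 1), (150, false, 3), (134, false, 2), (119, false, 1), (147, false, 2), (131, false, 1), (149, false, 3), (133, false, 2), (150, false, 4), (134, false, 3), (166, false, 6), (149, false, 5), (133, false, 4), (118, false, 3), (104, false, 2), (167, false, 5), (150, false, 4), (134, false, 3), (119, false, 2), (169, false, 4), (152, false, 3), (170, false, 3)], [(11, false, 1), (11, false, 0), (140, false, 6), (124, false, 5), (109, false, 4), (49, false, 3), (19, false, 2), (14, false, 1), (125, false, 3), (71, false, 2), (50, false, 1), (167, false, 7), (150, false, 6), (134, false, 5), (170, false, 8), (149, false, 7), (133, false, 6), (118, false, 5), (104, false, 4), (150, false, 6), (134, false, 5), (119, false, 4), (151, false, 5), (135, false, 4), (145, false, 4), (75, false, 3), (54, false, 2), (149, false, 5), (118, false, 4), (104, false, 3), (150, false, 4), (119, false, 3), (149, false, 3), (151, false, 4), (149, false, 5), (133, false, 4), (104, false, 3), (151, false, 4), (135, false, 3), (167, false, 4),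 (150, false, 3), (170, false, 5), (141, false, 4), (110, false, 3), (71, false, 2), (20, false, 1), (164, false, 3), (102, false, 2), (149, false, 4), (118, false, 3), (150, false, 5), (119, false, 4), (152, false, 4), (166, false, 4), (104, false, 3), (168, false, 3), (169, false, 4), (170, false, 5), (149, false, 4), (133, false, 3), (150, false, 5), (134, false, 4), (166, false, 7), (149, false, 6), (133, false, 5), (118, false, 4), (104, false, 3), (168, false, 6), (151, false, 5), (135, false, 4), (170, false, 5), (145, false, 4), (114, false, 3), (75, false, 2), (54, false, 1), (150, false, 4), (119, false, 3), (149, false, 3), (104, false, 2), (150, false, 2), (150, false, 3), (119, false, 2), (151, false, 2), (152, false, 3)]),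
   ([19, 17, 0, 5, 6, 7, 10, 13, 14, 17], [(200, false, 0), (186, false, 3), (125, false, 2), (60, false, 1), (50, false, 0), (54, false, 1), (167, false, 3), (170, false, 4), (113, false, 3), (99, false, 2), (63, false, 1), (167, false, 5), (119, false, 4), (169, false, 4), (167, false, 5), (150, false, 4), (162, false, 6), (145, false, 5), (114, false, 4), (100, false, 3), (64, false, 2), (150, false, 5), (119, false, 4), (149, false, 4), (150, false, 5), (149, false, 6), (118, false, 5), (104, false, 4), (150, false, 5), (119, false, 4), (152, false, 4), (165, false, 4), (167, false, 8), (150, false, 7), (119, false, 6), (168, false, 7), (151, false, 6), (169, false, 8), (152, false, 7)], [(153, false, 1), (96, false, 2), (142, false, 5), (126, false, 4), (97, false, 3), (133, false, 5), (104, false, 4), (134, false, 4), (127, false, 5), (112, false, 4), (118, false, 5), (119, false, 6), (146, false, 7), (130, false, 6), (101, false, 5), (104, false, 6), (152, false, 8), (133, false, 7), (118, false, 6), (134, false, 8), (119, false, 7), (152, true, 8), (151, true, 7), (170, true, 8), (169, true, 7), (119, true, 7), (167, true, 8), (186, false, 0), (197, false, 7), (198, false, 9), (200, false, 12), (149,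 false, 6), (133, false, 5), (118, false, 4), (162, false, 8), (145, false, 7), (129, false, 6), (114, false, 5), (100, false, 4), (87, false, 3), (54, false, 2), (150, false, 5), (119, false, 4), (152, false, 4), (118, false, 4), (104, false, 3), (119, false, 3), (149, false, 4), (133, false, 3), (150, false, 5), (134, false, 4), (149, false, 6), (133, false, 5), (118, false, 4), (104, false, 3), (150, false, 5), (134, false, 4), (119, false, 3), (152, false, 4), (166, false, 4), (133, false, 3), (168, false, 5), (135, false, 4), (162, false, 4), (100, false, 3), (87, false, 2), (150, false, 6), (119, false, 5), (152, false, 5), (104, false, 4), (163, false, 6), (146, false, 5), (115, false, 4), (88, false, 3), (150, false, 7), (119, false, 6), (152, false, 6), (168, false, 6)]),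
   ([18, 15, 16, 0, 1, 2, 3, 5, 6, 9, 10, 11, 14, 16], [(183, false, 0), (171, false, 2), (153, false, 1), (105, false, 0), (149, false, 2), (104, false, 1), (137, false, 1), (125, false, 3), (110, false, 2), (167, false, 5), (119, false, 4), (170, false, 4), (97, false, 3), (99, false, 4), (149, false, 6), (118, false, 5), (150, false, 7), (119, false, 6), (152, false, 6)], [(136, false, 2), (120, false, 1), (167, false, 4), (134, false, 3), (170, false, 5), (121, false, 4), (106, false, 3), (92, false, 2), (169, false, 5), (170, false, 6), (149, false, 5), (133, false, 4), (104, false, 3), (150, false, 4), (134, false, 3), (152, false, 5), (155, false, 5), (122, false, 4), (107, false, 3), (166, false, 6), (118, false, 5), (104, false, 4), (169, false, 5), (170, false, 6), (151, false, 5), (152, false, 6), (156, false, 6), (123, false, 5), (108, false, 4), (158, false, 7), (125, false, 6), (110, false, 5), (167, false, 8), (119, false, 7), (170, false, 7), (159, false, 9), (142, false, 8), (126, false, 7), (97, false, 6), (133, false, 8), (104, false, 7), (134, false, 7), (162, false, 9), (129, false, 8), (114, false, 7), (118, false, 8), (119, false, 9), (149, false, 10), (133, false, 9), (104, false, 8),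 (150, false, 9), (134, false, 8), (152, false, 10), (163, false, 10), (130, false, 9), (115, false, 8), (118, false, 9), (119, false, 10), (164, false, 12), (147, false, 11), (131, false, 10), (102, false, 9), (151, false, 11), (152, false, 12), (133, false, 11), (118, false, 10), (134, false, 12), (119, false, 11), (167, false, 13), (150, false, 12), (134, false, 11), (169, false, 14), (152, false, 13), (152, true, 13), (169, true, 14), (151, true, 12), (168, true, 13), (152, true, 11), (119, true, 11), (150, true, 12), (118, true, 10), (149, true, 11), (171, false, 0), (181, false, 9), (182, false, 12), (183, false, 15), (166, false, 8), (149, false, 7), (118, false, 6), (104, false, 5), (167, false, 7), (150, false, 6), (119, false, 5), (169, false, 6), (152, false, 5), (166, false, 5), (167, false, 6), (170, false, 7), (119, false, 6)]),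
   ([20, 17, 0, 5, 6, 7, 10, 13, 14, 17], [(214, false, 0), (201, false, 3), (124, false, 2), (82, false, 1), (49, false, 0), (54, false, 1), (166, false, 5), (149, false, 4), (104, false, 3), (168, false, 4), (151, false, 3), (170, false, 5), (143, false, 4), (127, false, 3), (85, false, 2), (73, false, 1), (165, false, 4), (103, false, 3), (104, false, 4), (167, false, 6), (150, false, 5), (119, false, 4), (169, false, 5), (152, false, 4), (166, false, 4), (167, false, 5), (168, false, 6), (169, false, 7), (169, false, 8), (152, false, 7), (163, false, 7), (130, false, 6), (115, false, 5), (101, false, 4), (88, false, 3), (76, false, 2), (149, false, 7), (118, false, 6), (104, false, 5), (150, false, 6), (119, false, 5), (149, false, 5), (150, false, 6), (151, false, 7), (152, false, 8), (165, false, 8), (132, false, 7), (117, false, 6), (103, false, 5), (90, false, 4), (149, false, 6), (118, false, 5), (104, false, 4), (150, false, 5), (119, false, 4), (149, false, 4), (150, false, 5), (151, false, 6), (152, false, 7), (133, false, 6), (118, false, 5), (104, false, 4), (134, false, 5), (119, false, 4), (166, false, 6), (149, false, 5), (133, false, 4), (168, false, 7), (151, false, 6), (135, false, 5)], [(153,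 false, 1), (96, false, 2), (142, false, 5), (126, false, 4), (97, false, 3), (133, false, 5), (104, false, 4), (134, false, 4), (127, false, 5), (112, false, 4), (118, false, 5), (119, false, 6), (146, false, 7), (130, false, 6), (101, false, 5), (104, false, 6), (152, false, 8), (133, false, 7), (118, false, 6), (134, false, 8), (119, false, 7), (152, true, 8), (151, true, 7), (170, true, 8), (169, true, 7), (119, true, 7), (167, true, 8), (201, false, 0), (211, false, 6), (212, false, 10), (133, false, 5), (104, false, 4), (135, false, 4), (164, false, 5), (147, false, 4), (89, false, 3), (149, false, 5), (150, false, 6), (152, false, 7), (165, false, 7), (117, false, 6), (103, false, 5), (90, false, 4), (149, false, 6), (118, false, 5), (104, false, 4), (150, false, 5), (119, false, 4), (149, false, 4), (150, false, 5), (152, false, 6), (167, false, 6), (119, false, 5), (169, false, 5)]),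
   ([20, 16, 17, 0, 5, 6, 7, 10, 13, 14, 17], [(213, false, 0), (201, false, 6), (157, false, 5), (140, false, 4), (124, false, 3), (109, false, 2), (70, false, 1), (49, false, 0), (166, false, 4), (104, false, 3), (168, false, 3), (166, false, 4), (133, false, 3), (168, false, 5), (135, false, 4), (170, false, 4), (167, false, 5), (119, false, 4), (168, false, 4), (160, false, 5), (127, false, 4), (98, false, 3), (73, false, 2), (52, false, 1), (147, false, 4), (131, false, 3), (149, false, 5), (133, false, 4), (166, false, 7), (149, false, 6), (133, false, 5), (104, false, 4), (166, false, 6), (149, false, 5), (133, false, 4), (167, false, 7), (150, false, 6), (134, false, 5), (168, false, 8), (151, false, 7), (135, false, 6), (169, false, 7), (152, false, 6), (166, false, 6), (118, false, 5), (104, false, 4), (167, false, 5), (119, false, 4), (169, false, 4), (170, false, 5), (146, false, 4), (76, false, 3), (148, false, 5), (149, false, 6), (151, false, 7)], [(153, false, 2), (136, false, 1), (166, false, 3), (118, false, 2), (158, false, 4), (110, false, 3), (96, false, 2), (149, false, 5), (133, false, 4), (104, false, 3), (150, false, 4), (134, false, 3), (168, false, 6), (151, false, 5), (135, false,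 4), (169, false, 5), (152, false, 4), (170, false, 4), (111, false, 3), (143, false, 5), (98, false, 4), (146, false, 6), (101, false, 5), (149, false, 7), (104, false, 6), (150, false, 6), (170, true, 7), (152, true, 7), (169, true, 8), (150, true, 6), (167, true, 7), (169, true, 6), (119, true, 6), (167, true, 7), (104, true, 6), (118, true, 7), (166, true, 8), (201, false, 0), (210, false, 6), (211, false, 9), (213, false, 13), (133, false, 5), (104, false, 4), (134, false, 4), (149, false, 6), (133, false, 5), (118, false, 4), (151, false, 7), (135, false, 6), (152, false, 6), (162, false, 6), (114, false, 5), (100, false, 4), (87, false, 3), (64, false, 2), (150, false, 7), (119, false, 6), (152, false, 6), (118, false, 6), (104, false, 5), (119, false, 5), (164, false, 6), (147, false, 5), (89, false, 4), (149, false, 6), (150, false, 7), (152, false, 8), (167, false, 8), (119, false, 7), (168, false, 7), (169, false, 8), (170, false, 9)])]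

def p2Eqs_13 : List (List ℕ × List Step × List Step) :=
  [([6, 5, 5], [(26, false, 0), (141, false, 6), (83, false, 5), (71, false, 4), (50, false, 3), (41, false, 2), (33, false, 1), (20, false, 0), (159, false, 2), (97, false, 1), (51, false, 0), (166, false, 5), (149, false, 4), (133, false, 3), (104, false, 2), (170, false, 4), (144, false, 3), (128, false, 2), (53, false, 1), (168, false, 5), (151, false, 4), (166, false, 6), (149, false, 5), (133, false, 4), (118, false, 3), (167, false, 7), (150, false, 6), (134, false, 5), (119, false, 4), (165, false, 6), (148, false, 5), (132, false, 4), (103, false, 3), (104, false, 4), (152, false, 6), (133, false, 5), (118, false, 4), (134, false, 6), (119, false, 5), (167, false, 7), (150, false, 6), (134, false, 5), (168, false, 8), (151, false, 7), (135, false, 6), (169, false, 7), (152, false, 6), (170, false, 6), (113, false, 5), (99, false, 4), (86, false, 3), (53, false, 2), (44, false, 1), (145, false, 2), (100, false, 1), (149, false, 3), (118, false, 2), (150, false, 4), (119, false, 3), (150, false, 3), (152, false, 4), (165, false, 4), (117, false, 3), (103, false, 2), (118, false, 4), (104, false, 3), (119, false, 3), (166, false, 4), (149, false,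 3), (168, false, 5), (151, false, 4), (170, false, 6), (150, false, 5), (134, false, 4), (152, false, 6), (134, false, 5), (119, false, 4), (129, false, 4), (100, false, 3), (87, false, 2), (54, false, 1), (150, false, 4), (119, false, 3), (152, false, 3), (104, false, 2), (151, false, 4), (135, false, 3), (162, false, 4), (145, false, 3), (114, false, 2), (87, false, 1), (150, false, 5), (119, false, 4), (149, false, 4), (104, false, 3), (150, false, 3), (149, false, 4), (118, false, 3), (150, false, 5), (119, false, 4), (152, false, 4), (164, false, 4), (102, false, 3), (89, false, 2), (149, false, 5), (118, false, 4), (150, false, 6), (119, false, 5), (152, false, 5), (166, false, 5), (104, false, 4), (168, false, 4), (169, false, 5), (170, false, 6), (147, false, 5), (131, false, 4), (89, false, 3), (77, false, 2), (148, false, 4), (132, false, 3), (90, false, 2), (149, false, 4), (118, false, 3), (104, false, 2), (150, false, 3), (119, false, 2), (151, false, 2), (152, false, 3), (152, false, 3), (133, false, 2), (135, false, 3)], [(20, false, 1)]),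
   ([7, 4, 3], [(32, false, 0), (156, false, 5), (123, false, 4), (69, false, 3), (48, false, 2), (31, false, 1), (13, false, 0), (160, false, 7), (127, false, 6), (98, false, 5), (73, false, 4), (43, false, 3), (164, false, 7), (147, false, 6), (116, false, 5), (152, false, 7), (104, false, 6), (166, false, 8), (149, false, 7), (118, false, 6), (170, false, 9), (149, false, 8), (118, false, 7), (104, false, 6), (149, false, 7), (118, false, 6), (150, false, 8), (119, false, 7), (151, false, 7), (152, false, 8), (133, false, 7), (104, false, 6), (134, false, 6), (169, false, 9), (152, false, 8), (162, false, 8), (129, false, 7), (114, false, 6), (75, false, 5), (150, false, 9), (119, false, 8), (149, false, 8), (104, false, 7), (150, false, 7), (151, false, 8), (152, false, 9), (133, false, 8), (118, false, 7), (134, false, 9), (119, false, 8), (166, false, 10), (149, false, 9), (133, false, 8), (104, false, 7), (167, false, 9), (150, false, 8), (134, false, 7), (170, false, 10), (147, false, 9), (131, false, 8), (116, false, 7), (77, false, 6), (151, false, 7), (152, false, 8), (151, false, 8), (135, false, 7)], [(13, false, 1), (31, false, 0), (140, false, 2), (32, false, 1), (167, false, 6), (134, false, 5),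 (170, false, 7), (126, false, 6), (111, false, 5), (72, false, 4), (51, false, 3), (34, false, 2), (162, false, 7), (129, false, 6), (114, false, 5), (100, false, 4), (150, false, 6), (119, false, 5), (149, false, 5), (150, false, 6), (151, false, 7), (152, false, 8), (133, false, 7), (118, false, 6), (104, false, 5), (134, false, 6), (119, false, 5), (166, false, 7), (149, false, 6), (133, false, 5), (168, false, 8), (151, false, 7), (135, false, 6), (169, false, 7), (152, false, 6), (170, false, 6), (102, false, 5), (149, false, 7), (118, false, 6), (150, false, 8), (119, false, 7), (151, false, 7), (149, false, 8), (133, false, 7), (104, false, 6), (152, false, 7), (135, false, 6), (74, false, 5), (53, false, 4), (164, false, 8), (147, false, 7), (116, false, 6), (152, false, 8), (104, false, 7), (167, false, 9), (150, false, 8), (119, false, 7), (168, false, 8), (151, false, 7), (170, false, 9), (147, false, 8), (131, false, 7), (77, false, 6), (149, false, 7), (133, false, 6), (151, false, 8), (135, false, 7)]),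
   ([6, 4, 4], [(25, false, 0), (157, false, 6), (140, false, 5), (95, false, 4), (82, false, 3), (40, false, 2), (32, false, 1), (14, false, 0), (127, false, 2), (73, false, 1), (52, false, 0), (147, false, 3), (131, false, 2), (149, false, 4), (133, false, 3), (166, false, 6), (149, false, 5), (133, false, 4), (104, false, 3), (167, false, 5), (150, false, 4), (134, false, 3), (168, false, 6), (151, false, 5), (135, false, 4), (169, false, 5), (152, false, 4), (162, false, 4), (114, false, 3), (75, false, 2), (54, false, 1), (150, false, 4), (119, false, 3), (149, false, 3), (104, false, 2), (150, false, 2), (152, false, 3), (164, false, 3), (116, false, 2), (77, false, 1), (149, false, 2), (104, false, 1), (150, false, 1), (152, false, 2), (168, false, 2), (170, false, 3), (126, false, 2), (111, false, 1), (34, false, 0), (166, false, 5), (133, false, 4), (118, false, 3), (104, false, 2), (169, false, 4), (168, false, 5), (151, false, 4), (135, false, 3), (160, false, 4), (143, false, 3), (112, false, 2), (35, false, 1), (149, false, 3), (118, false, 2), (104, false, 1), (150, false, 2), (119, false, 1), (152, false, 1), (165, false, 1), (166, false, 5), (149, false, 4), (118, false, 3), (104, false, 2), (168,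 false, 4), (151, false, 3), (162, false, 5), (145, false, 4), (129, false, 3), (114, false, 2), (87, false, 1), (150, false, 5), (119, false, 4), (149, false, 4), (104, false, 3), (150, false, 3), (151, false, 4), (152, false, 5), (133, false, 4), (118, false, 3), (134, false, 5), (119, false, 4), (133, false, 4), (104, false, 3), (134, false, 3), (164, false, 6), (147, false, 5), (131, false, 4), (116, false, 3), (89, false, 2), (151, false, 5), (152, false, 6), (133, false, 5), (104, false, 4), (134, false, 4), (165, false, 7), (148, false, 6), (132, false, 5), (117, false, 4), (90, false, 3), (150, false, 5), (119, false, 4), (149, false, 4), (104, false, 3), (150, false, 3), (151, false, 4), (152, false, 5), (149, false, 5), (133, false, 4), (118, false, 3), (150, false, 6), (134, false, 5), (119, false, 4), (152, false, 5), (166, false, 5), (133, false, 4), (104, false, 3), (169, false, 4), (170, false, 5), (151, false, 4), (135, false, 3), (152, false, 3), (167, false, 3), (170, false, 4), (119, false, 3)], [(14, false, 1)]),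
   ([8, 4, 3], [(40, false, 0), (123, false, 5), (94, false, 4), (81, false, 3), (31, false, 2), (24, false, 1), (13, false, 0), (159, false, 7), (126, false, 6), (97, false, 5), (72, false, 4), (42, false, 3), (27, false, 2), (161, false, 2), (169, false, 6), (152, false, 5), (164, false, 5), (116, false, 4), (102, false, 3), (149, false, 5), (118, false, 4), (152, false, 6), (118, false, 5), (104, false, 4), (119, false, 4), (166, false, 5), (149, false, 4), (167, false, 6), (150, false, 5), (168, false, 7), (151, false, 6), (166, false, 8), (149, false, 7), (133, false, 6), (118, false, 5), (104, false, 4), (168, false, 7), (151, false, 6), (135, false, 5), (170, false, 6), (160, false, 6), (143, false, 5), (112, false, 4), (73, false, 3), (43, false, 2), (164, false, 6), (147, false, 5), (116, false, 4), (152, false, 6), (104, false, 5), (166, false, 7), (149, false, 6), (118, false, 5), (170, false, 8), (150, false, 7), (119, false, 6), (152, false, 6), (104, false, 5), (169, false, 7), (152, false, 6), (165, false, 6), (117, false, 5), (118, false, 6), (119, false, 7), (169, false, 8), (152, false, 7), (166, false, 7), (104, false, 6), (168, false, 6)], [(13, false, 1), (39, false, 0), (157, false, 4),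 (109, false, 3), (95, false, 2), (40, false, 1), (135, false, 6), (166, false, 7), (149, false, 6), (104, false, 5), (168, false, 6), (151, false, 5), (167, false, 7), (150, false, 6), (134, false, 5), (168, false, 8), (151, false, 7), (135, false, 6), (159, false, 7), (142, false, 6), (111, false, 5), (84, false, 4), (34, false, 3), (27, false, 2), (160, false, 2), (166, false, 6), (149, false, 5), (118, false, 4), (104, false, 3), (167, false, 5), (150, false, 4), (119, false, 3), (168, false, 4), (151, false, 3), (170, false, 5), (148, false, 4), (132, false, 3), (152, false, 7), (133, false, 6), (118, false, 5), (104, false, 4), (149, false, 6), (133, false, 5), (118, false, 4), (152, false, 7), (133, false, 6), (118, false, 5), (104, false, 4), (134, false, 5), (119, false, 4), (161, false, 5), (128, false, 4), (86, false, 3), (168, false, 7), (135, false, 6), (166, false, 6), (104, false, 5), (167, false, 5), (169, false, 6), (170, false, 7), (147, false, 6), (116, false, 5), (89, false, 4), (152, false, 7), (104, false, 6)]),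
   ([8, 3, 0], [(39, false, 0), (153, false, 4), (105, false, 3), (91, false, 2), (36, false, 1), (6, false, 0), (99, false, 9), (86, false, 8), (74, false, 7), (63, false, 6), (44, false, 5), (146, false, 6), (101, false, 5), (149, false, 7), (104, false, 6), (150, false, 6), (164, false, 8), (147, false, 7), (116, false, 6), (152, false, 8), (104, false, 7), (167, false, 9), (150, false, 8), (119, false, 7), (168, false, 8), (151, false, 7), (170, false, 9), (148, false, 8), (132, false, 7), (152, false, 11), (133, false, 10), (118, false, 9), (104, false, 8), (135, false, 9), (167, false, 9), (119, false, 8), (169, false, 8), (166, false, 9), (149, false, 8), (168, false, 10), (151, false, 9), (170, false, 11), (149, false, 10), (133, false, 9), (104, false, 8), (152, false, 9), (133, false, 8)], [(6, false, 1), (36, false, 0), (122, false, 3), (93, false, 2), (38, false, 1), (150, false, 6), (134, false, 5), (119, false, 4), (151, false, 5), (135, false, 4), (149, false, 4), (152, false, 5), (156, false, 5), (94, false, 4), (48, false, 3), (39, false, 2), (162, false, 6), (114, false, 5), (100, false, 4), (150, false, 6), (119, false, 5), (149, false, 5), (150, false, 6), (152, false, 7), (166, false, 7),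 (118, false, 6), (104, false, 5), (167, false, 6), (119, false, 5), (170, false, 5), (158, false, 6), (96, false, 5), (50, false, 4), (41, false, 3), (162, false, 7), (129, false, 6), (54, false, 5), (149, false, 8), (133, false, 7), (118, false, 6), (104, false, 5), (150, false, 7), (134, false, 6), (119, false, 5), (152, false, 6), (166, false, 6), (133, false, 5), (168, false, 7), (135, false, 6), (169, false, 6), (168, false, 7), (151, false, 6), (169, false, 8), (152, false, 7), (170, false, 7), (126, false, 6), (97, false, 5), (42, false, 4), (149, false, 6), (151, false, 7), (144, false, 8), (128, false, 7), (99, false, 6), (44, false, 5), (150, false, 6), (152, false, 7), (133, false, 7), (118, false, 6), (104, false, 5), (134, false, 6), (119, false, 5), (130, false, 5), (147, false, 9), (131, false, 8), (116, false, 7), (102, false, 6), (149, false, 8), (118, false, 7), (152, false, 9), (148, false, 10), (132, false, 9), (117, false, 8), (103, false, 7), (118, false, 9), (104, false, 8), (119, false, 8), (152, false, 9), (133, false, 8)]),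
   ([18, 9, 17, 7, 8, 9, 11, 12, 13, 14, 15, 16], [(177, false, 0), (175, false, 4), (142, false, 3), (126, false, 2), (111, false, 1), (61, false, 0), (104, false, 2), (151, false, 2), (149, false, 3), (133, false, 2), (150, false, 4), (134, false, 3), (146, false, 5), (130, false, 4), (115, false, 3), (101, false, 2), (65, false, 1), (118, false, 2), (104, false, 1), (119, false, 1), (152, false, 2), (131, false, 1)], [(160, false, 2), (52, false, 1), (149, false, 4), (133, false, 3), (150, false, 5), (134, false, 4), (152, false, 6), (161, false, 6), (128, false, 5), (113, false, 4), (99, false, 3), (53, false, 2), (167, false, 6), (150, false, 5), (119, false, 4), (169, false, 5), (152, false, 4), (167, false, 4), (168, false, 5), (166, false, 6), (133, false, 5), (118, false, 4), (167, false, 7), (134, false, 6), (119, false, 5), (169, false, 6), (170, false, 7), (145, false, 6), (129, false, 5), (100, false, 4), (54, false, 3), (149, false, 4), (118, false, 3), (150, false, 5), (119, false, 4), (151, false, 4), (152, false, 5), (133, false, 4), (104, false, 3), (134, false, 3), (131, false, 4), (116, false, 3), (151, false, 5), (148, false, 6), (132, false, 5), (103, false, 4), (104, false, 5), (152, false,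 7), (133, false, 6), (118, false, 5), (134, false, 7), (119, false, 6), (135, false, 6), (135, true, 6), (170, true, 7), (152, true, 7), (169, true, 8), (119, true, 6), (134, true, 7), (150, true, 8), (167, true, 9), (169, true, 8), (134, true, 6), (167, true, 7), (133, true, 5), (166, true, 6), (119, true, 5), (134, true, 6), (104, true, 5), (118, true, 6), (133, true, 7), (152, true, 8), (151, true, 7), (150, true, 6), (149, true, 5), (119, true, 5), (150, true, 6), (152, true, 5), (119, true, 5), (150, true, 6), (104, true, 5), (118, true, 6), (149, true, 7), (103, true, 4), (117, true, 5), (148, true, 6), (54, true, 3), (75, true, 4), (87, true, 5), (100, true, 6), (114, true, 7), (129, true, 8), (145, true, 9), (175, false, 0), (177, false, 4), (181, false, 8), (182, false, 11), (183, false, 14), (146, false, 3), (76, false, 2), (65, false, 1), (150, false, 2), (151, false, 3), (152, false, 4), (133, false, 3), (118, false, 2), (134, false, 4), (119, false, 3), (149, false, 4), (133, false, 3), (104, false, 2), (150, false, 3), (134, false, 2), (167, false, 5), (150, false, 4), (134, false, 3), (119, false, 2), (170, false, 4)]),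
   ([21, 16, 17, 8, 16], [(226, false, 0), (220, false, 5), (141, false, 4), (125, false, 3), (60, false, 2), (50, false, 1), (41, false, 0), (162, false, 4), (129, false, 3), (54, false, 2), (149, false, 5), (133, false, 4), (118, false, 3), (104, false, 2), (150, false, 4), (134, false, 3), (119, false, 2), (152, false, 3), (162, false, 3), (129, false, 2), (149, false, 6), (133, false, 5), (118, false, 4), (104, false, 3), (150, false, 5), (134, false, 4), (119, false, 3), (152, false, 4), (163, false, 4), (130, false, 3), (166, false, 8), (149, false, 7), (133, false, 6), (118, false, 5), (104, false, 4), (170, false, 7), (150, false, 6), (134, false, 5), (119, false, 4), (166, false, 6), (149, false, 5), (133, false, 4), (168, false, 7), (151, false, 6), (135, false, 5), (170, false, 6), (142, false, 5), (97, false, 4), (61, false, 3), (51, false, 2), (42, false, 1), (145, false, 3), (118, false, 5), (104, false, 4), (163, false, 7), (146, false, 6), (130, false, 5), (115, false, 4), (118, false, 5), (119, false, 6), (152, false, 7), (166, false, 7), (133, false, 6), (104, false, 5), (166, false, 6), (133, false, 5), (166, false, 7), (133, false, 6), (104, false, 5), (167, false, 6), (134, false, 5), (162,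 false, 7), (129, false, 6), (114, false, 5), (64, false, 4), (54, false, 3), (118, false, 4), (119, false, 5), (149, false, 6), (133, false, 5), (104, false, 4), (150, false, 5), (134, false, 4), (152, false, 6), (166, false, 6), (133, false, 5), (118, false, 4), (167, false, 7), (134, false, 6), (119, false, 5), (168, false, 6), (135, false, 5), (170, false, 5)], [(161, false, 2), (144, false, 1), (118, false, 3), (104, false, 2), (119, false, 2), (169, false, 3), (152, false, 2), (152, true, 2), (220, false, 0), (226, false, 7), (161, false, 6), (128, false, 5), (113, false, 4), (99, false, 3), (53, false, 2), (167, false, 6), (150, false, 5), (119, false, 4), (169, false, 5), (152, false, 4), (167, false, 4), (168, false, 5), (166, false, 6), (133, false, 5), (118, false, 4), (167, false, 7), (134, false, 6), (119, false, 5), (169, false, 6), (170, false, 7), (145, false, 6), (129, false, 5), (100, false, 4), (54, false, 3), (149, false, 4), (118, false, 3), (150, false, 5), (119, false, 4), (151, false, 4), (152, false, 5), (133, false, 4), (104, false, 3), (134, false, 3), (130, false, 4), (115, false, 3), (118, false, 4), (119, false, 5), (151, false, 6), (135, false, 5), (152, false, 5)]),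
   ([18, 10, 13, 14, 15, 16, 17, 2, 5, 7, 8, 11, 12, 14, 17], [(178, false, 0), (172, false, 5), (156, false, 4), (108, false, 3), (81, false, 2), (69, false, 1), (58, false, 0), (148, false, 3), (152, false, 4), (165, false, 5), (117, false, 4), (90, false, 3), (150, false, 5), (119, false, 4), (149, false, 4), (104, false, 3), (150, false, 3), (152, false, 4), (166, false, 4), (118, false, 3), (167, false, 5), (119, false, 4), (170, false, 4)], [(155, false, 6), (138, false, 5), (122, false, 4), (107, false, 3), (93, false, 2), (57, false, 1), (134, false, 5), (119, false, 4), (135, false, 4), (166, false, 6), (118, false, 5), (104, false, 4), (169, false, 5), (170, false, 6), (150, false, 5), (119, false, 4), (151, false, 4), (152, false, 5), (168, false, 5), (135, false, 4), (169, false, 4), (170, false, 5), (141, false, 4), (60, false, 3), (50, false, 2), (54, false, 3), (166, false, 5), (104, false, 4), (168, false, 4), (170, false, 5), (127, false, 4), (62, false, 3), (149, false, 5), (150, false, 6), (151, false, 7), (152, false, 8), (128, false, 7), (113, false, 6), (99, false, 5), (63, false, 4), (167, false, 8), (119, false, 7), (169, false, 7), (167, false, 8), (150, false, 7), (168, false, 9), (151,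 false, 8), (164, false, 10), (147, false, 9), (131, false, 8), (116, false, 7), (102, false, 6), (149, false, 8), (118, false, 7), (152, false, 9), (149, false, 10), (133, false, 9), (118, false, 8), (104, false, 7), (150, false, 9), (134, false, 8), (119, false, 7), (152, false, 8), (165, false, 8), (132, false, 7), (149, false, 11), (133, false, 10), (118, false, 9), (104, false, 8), (150, false, 10), (134, false, 9), (119, false, 8), (152, false, 9), (167, false, 9), (134, false, 8), (170, false, 10), (170, true, 10), (152, true, 10), (169, true, 11), (151, true, 9), (168, true, 10), (150, true, 8), (167, true, 9), (104, true, 8), (149, true, 9), (166, true, 10), (119, true, 9), (150, true, 10), (76, true, 5), (88, true, 6), (115, true, 7), (163, true, 8), (172, false, 0), (178, false, 5), (163, false, 4), (115, false, 3), (101, false, 2), (88, false, 1), (149, false, 5), (118, false, 4), (104, false, 3), (150, false, 4), (119, false, 3), (164, false, 4), (147, false, 3), (89, false, 2), (149, false, 4), (150, false, 5), (152, false, 6), (165, false, 6), (117, false, 5), (103, false, 4), (90, false, 3), (149, false, 5), (118, false, 4), (104, false, 3), (150, false, 4), (119, false, 3), (149, false, 3), (150,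 false, 4), (152, false, 5), (167, false, 5), (119, false, 4), (170, false, 4)]),
   ([19, 17, 6, 7, 9, 10], [(200, false, 0), (190, false, 3), (120, false, 2), (55, false, 1), (45, false, 0), (166, false, 5), (149, false, 4), (118, false, 3), (168, false, 6), (151, false, 5), (170, false, 7), (137, false, 6), (121, false, 5), (106, false, 4), (92, false, 3), (56, false, 2), (46, false, 1), (145, false, 4), (129, false, 3), (54, false, 2), (149, false, 5), (133, false, 4), (118, false, 3), (104, false, 2), (150, false, 4), (134, false, 3), (119, false, 2), (146, false, 3), (130, false, 2), (152, false, 6), (133, false, 5), (118, false, 4), (104, false, 3), (135, false, 4), (166, false, 4), (118, false, 3), (168, false, 5), (170, false, 6), (166, false, 7), (149, false, 6), (133, false, 5), (118, false, 4), (104, false, 3), (167, false, 6), (150, false, 5), (134, false, 4), (119, false, 3), (169, false, 5), (152, false, 4), (170, false, 4), (134, false, 3), (135, false, 4), (107, false, 3), (57, false, 2), (133, false, 6), (118, false, 5), (134, false, 7), (119, false, 6), (159, false, 7), (126, false, 6), (97, false, 5), (61, false, 4), (51, false, 3), (163, false, 8), (146, false, 7), (130, false, 6), (101, false,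 5), (104, false, 6), (152, false, 8), (166, false, 8), (133, false, 7), (118, false, 6), (166, false, 9), (133, false, 8), (118, false, 7), (104, false, 6), (168, false, 8), (135, false, 7), (170, false, 7), (112, false, 6), (62, false, 5), (52, false, 4), (146, false, 7), (130, false, 6), (152, false, 10), (150, false, 10), (134, false, 9), (119, false, 8), (144, false, 9), (128, false, 8), (99, false, 7), (63, false, 6), (53, false, 5), (163, false, 9), (146, false, 8), (115, false, 7), (166, false, 10), (149, false, 9), (118, false, 8), (167, false, 11), (150, false, 10), (119, false, 9), (170, false, 10), (150, false, 9), (152, false, 10), (133, false, 10), (118, false, 9), (104, false, 8), (134, false, 9), (119, false, 8), (130, false, 8), (65, false, 7), (149, false, 10), (133, false, 9), (118, false, 8), (104, false, 7), (151, false, 9), (135, false, 8)], [(159, false, 1), (160, false, 2), (162, false, 6), (145, false, 5), (114, false, 4), (100, false, 3), (150, false, 5), (119, false, 4), (149, false, 4), (150, false, 5), (149, false, 6), (118, false, 5), (104, false, 4), (150, false, 5), (119, false, 4), (152, false, 4), (163, false, 4), (190, false, 0), (200, false, 9), (129, false, 8), (100, false,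 7), (64, false, 6), (149, false, 9), (118, false, 8), (150, false, 10), (119, false, 9), (151, false, 9), (152, false, 10), (130, false, 9), (101, false, 8), (65, false, 7), (104, false, 7), (151, false, 9), (135, false, 8)]),
   ([18, 6, 8, 10, 13, 15, 16, 6, 8, 10, 13, 15, 16], [(174, false, 0), (174, false, 7), (126, false, 6), (111, false, 5), (97, false, 4), (72, false, 3), (51, false, 2), (42, false, 1), (27, false, 0), (161, false, 0), (169, false, 4), (152, false, 3), (162, false, 3), (114, false, 2), (100, false, 1), (150, false, 3), (119, false, 2), (149, false, 2), (150, false, 3), (152, false, 4), (166, false, 4), (118, false, 3), (104, false, 2), (168, false, 3), (169, false, 4), (170, false, 5), (147, false, 4), (131, false, 3), (116, false, 2), (151, false, 4), (152, false, 5), (133, false, 4), (104, false, 3), (134, false, 3), (135, false, 4), (118, false, 3), (118, false, 4), (104, false, 3), (151, false, 4), (144, false, 5), (128, false, 4), (113, false, 3), (74, false, 2), (53, false, 1), (44, false, 0), (145, false, 1), (100, false, 0), (149, false, 2), (118, false, 1), (150, false, 3), (119, false, 2), (150, false, 2), (152, false, 3), (164, false, 3), (116, false, 2), (102, false, 1), (149,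 false, 3), (118, false, 2), (152, false, 4), (118, false, 3), (104, false, 2), (119, false, 2), (167, false, 3), (150, false, 2), (168, false, 4), (151, false, 3), (170, false, 5), (150, false, 4), (134, false, 3), (119, false, 2), (151, false, 3), (135, false, 2), (149, false, 2), (150, false, 3), (145, false, 4), (114, false, 3), (100, false, 2), (75, false, 1), (54, false, 0), (150, false, 3), (119, false, 2), (152, false, 2), (118, false, 2), (104, false, 1), (119, false, 1), (77, false, 0)], [(142, false, 6), (126, false, 5), (97, false, 4), (61, false, 3), (42, false, 2), (27, false, 1), (161, false, 1), (169, false, 5), (152, false, 4), (163, false, 4), (115, false, 3), (101, false, 2), (166, false, 5), (118, false, 4), (104, false, 3), (166, false, 4), (118, false, 3), (168, false, 5), (166, false, 6), (133, false, 5), (118, false, 4), (104, false, 3), (167, false, 5), (134, false, 4), (119, false, 3), (161, false, 4), (128, false, 3), (63, false, 2), (44, false, 1), (146, false, 2), (101, false, 1), (149, false, 3), (104, false, 2), (150, false, 2), (168, false, 4), (151, false, 3), (166, false, 5), (149, false, 4), (133, false, 3), (118, false, 2), (167, false, 6), (150, false, 5), (134, false, 4),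 (119, false, 3), (169, false, 5), (152, false, 4), (170, false, 4), (130, false, 3), (101, false, 2), (65, false, 1), (104, false, 1), (149, false, 3), (133, false, 2), (118, false, 1), (151, false, 4), (135, false, 3), (152, false, 3), (170, true, 3), (152, true, 3), (181, false, 0), (184, false, 3), (185, false, 5), (149, false, 2), (118, false, 1), (104, false, 0), (150, false, 1), (119, false, 0), (149, false, 0), (150, false, 1), (151, false, 2), (152, false, 3)])]

def p2Eqs_14 : List (List ℕ × List Step × List Step) :=
  [([18, 12, 14, 16, 17, 6, 8, 10, 13, 15, 16], [(180, false, 0), (174, false, 4), (159, false, 3), (126, false, 2), (72, false, 1), (51, false, 0), (164, false, 5), (147, false, 4), (131, false, 3), (102, false, 2), (151, false, 4), (152, false, 5), (133, false, 4), (118, false, 3), (134, false, 5), (119, false, 4), (166, false, 6), (149, false, 5), (133, false, 4), (104, false, 3), (167, false, 5), (150, false, 4), (134, false, 3), (168, false, 6), (151, false, 5), (135, false, 4), (168, false, 5), (151, false, 4), (170, false, 6), (144, false, 5), (128, false, 4), (113, false, 3), (74, false, 2), (53, false, 1), (164, false, 5), (147, false, 4), (116, false, 3), (152, false, 5), (104,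 false, 4), (167, false, 6), (150, false, 5), (119, false, 4), (168, false, 5), (151, false, 4), (170, false, 6), (150, false, 5), (134, false, 4), (151, false, 6), (135, false, 5), (149, false, 5), (118, false, 4), (150, false, 6), (119, false, 5), (145, false, 5), (100, false, 4), (75, false, 3), (54, false, 2), (150, false, 5), (119, false, 4), (152, false, 4), (104, false, 3), (116, false, 3), (77, false, 2), (149, false, 3), (104, false, 2), (150, false, 2), (151, false, 3)], [(159, false, 4), (142, false, 3), (111, false, 2), (84, false, 1), (149, false, 4), (104, false, 3), (152, false, 3), (161, false, 5), (113, false, 4), (99, false, 3), (86, false, 2), (167, false, 6), (134, false, 5), (169, false, 7), (167, false, 8), (150, false, 7), (134, false, 6), (119, false, 5), (166, false, 7), (149, false, 6), (133, false, 5), (104, false, 4), (167, false, 6), (150, false, 5), (134, false, 4), (169, false, 7), (152, false, 6), (170, false, 6), (130, false, 5), (115, false, 4), (88, false, 3), (150, false, 7), (119, false, 6), (149, false, 6), (104, false, 5), (150, false, 5), (151, false, 6), (152, false, 7), (133, false, 6), (118, false, 5), (135, false, 7), (170, true, 8), (169, true, 7), (135, true, 7), (168,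 true, 8), (152, true, 8), (169, true, 9), (134, true, 6), (150, true, 7), (167, true, 8), (133, true, 5), (149, true, 6), (166, true, 7), (119, true, 5), (134, true, 6), (152, true, 7), (104, true, 5), (103, true, 4), (132, true, 5), (148, true, 6), (174, false, 0), (180, false, 7), (181, false, 11), (183, false, 14), (185, false, 16), (129, false, 6), (114, false, 5), (100, false, 4), (75, false, 3), (54, false, 2), (150, false, 5), (119, false, 4), (152, false, 4), (118, false, 4), (104, false, 3), (119, false, 3), (147, false, 4), (131, false, 3), (77, false, 2), (151, false, 3), (135, false, 2), (166, false, 3), (149, false, 2), (167, false, 4), (150, false, 3), (169, false, 5), (152, false, 4), (167, false, 4), (119, false, 3), (170, false, 3), (104, false, 2)]),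
   ([6, 2, 2], [(23, false, 0), (155, false, 8), (138, false, 7), (122, false, 6), (80, false, 5), (68, false, 4), (47, false, 3), (38, false, 2), (30, false, 1), (5, false, 0), (159, false, 5), (97, false, 4), (84, false, 3), (42, false, 2), (34, false, 1), (27, false, 0), (160, false, 0), (166, false, 4), (149, false, 3), (118, false, 2), (104, false, 1), (167, false, 3), (150, false, 2), (119, false, 1), (168, false, 2), (151, false, 1), (170, false, 3), (144, false, 2), (128, false, 1), (133, false, 2), (134, false, 3), (148, false, 5), (132, false, 4), (117, false, 3), (103, false, 2), (118, false, 4), (104, false, 3), (119, false, 3), (152, false, 4), (133, false, 3), (149, false, 5), (133, false, 4), (104, false, 3), (161, false, 5), (144, false, 4), (128, false, 3), (86, false, 2), (44, false, 1), (148, false, 2), (103, false, 1), (149, false, 3), (104, false, 2), (151, false, 2), (168, false, 4), (151, false, 3), (135, false, 2), (166, false, 3), (149, false, 2), (167, false, 4), (150, false, 3), (166, false, 5), (149, false, 4), (118, false, 3), (104, false, 2), (167, false, 4), (150, false, 3), (119, false, 2), (169, false, 3), (152, false, 2), (170, false, 2), (90, false, 1), (151, false, 3), (152,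 false, 4), (161, false, 4), (128, false, 3), (113, false, 2), (99, false, 1), (150, false, 3), (119, false, 2), (151, false, 2), (149, false, 3), (133, false, 2), (150, false, 4), (134, false, 3), (152, false, 5), (162, false, 5), (129, false, 4), (114, false, 3), (100, false, 2), (150, false, 4), (119, false, 3), (149, false, 3), (150, false, 4), (151, false, 5), (152, false, 6), (133, false, 5), (118, false, 4), (104, false, 3), (134, false, 4), (119, false, 3), (167, false, 5), (150, false, 4), (134, false, 3), (168, false, 6), (151, false, 5), (135, false, 4), (169, false, 5), (152, false, 4), (162, false, 4), (114, false, 3), (54, false, 2), (118, false, 2), (119, false, 3), (166, false, 4), (149, false, 3), (104, false, 2), (168, false, 3), (151, false, 2), (169, false, 4), (152, false, 3), (170, false, 3), (131, false, 2), (131, false, 3), (77, false, 2), (132, false, 2), (150, false, 6), (134, false, 5), (119, false, 4), (151, false, 5), (135, false, 4), (152, false, 4), (166, false, 4), (104, false, 3), (169, false, 3), (170, false, 4), (150, false, 3), (151, false, 4), (152, false, 5), (168, false, 5), (135, false, 4), (169, false, 4), (170, false, 5)], [(5, false, 1), (27, false, 0), (160, false, 0),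 (161, false, 4), (144, false, 3), (113, false, 2), (99, false, 1), (150, false, 3), (119, false, 2), (149, false, 2), (150, false, 3), (149, false, 4), (118, false, 3), (104, false, 2), (150, false, 3), (119, false, 2), (152, false, 2), (165, false, 2), (166, false, 6), (149, false, 5), (118, false, 4), (104, false, 3), (170, false, 5)]),
   ([19, 10, 13, 14, 15, 16, 17, 0, 5, 6, 7, 10, 13, 14, 17], [(193, false, 0), (186, false, 2), (96, false, 1), (71, false, 0), (166, false, 5), (149, false, 4), (133, false, 3), (104, false, 2), (168, false, 4), (151, false, 3), (135, false, 2), (169, false, 3), (152, false, 2), (161, false, 2), (74, false, 1), (166, false, 5), (133, false, 4), (118, false, 3), (167, false, 6), (134, false, 5), (119, false, 4), (169, false, 5), (170, false, 6), (145, false, 5), (129, false, 4), (100, false, 3), (75, false, 2), (150, false, 6), (119, false, 5), (152, false, 5), (104, false, 4), (149, false, 6), (133, false, 5), (118, false, 4), (150, false, 7), (134, false, 6), (119, false, 5), (148, false, 6), (132, false, 5), (103, false, 4), (104, false, 5), (152, false, 7), (134, false, 6), (119, false, 5), (135, false, 5)], [(153, false, 6), (136, false, 5), (120, false, 4), (105, false,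 3), (91, false, 2), (55, false, 1), (170, false, 5), (149, false, 4), (118, false, 3), (152, false, 5), (118, false, 4), (104, false, 3), (167, false, 5), (134, false, 4), (119, false, 3), (170, false, 4), (133, false, 3), (125, false, 4), (96, false, 3), (60, false, 2), (166, false, 6), (104, false, 5), (168, false, 5), (169, false, 6), (167, false, 7), (150, false, 6), (134, false, 5), (170, false, 8), (142, false, 7), (126, false, 6), (111, false, 5), (61, false, 4), (51, false, 3), (163, false, 8), (146, false, 7), (130, false, 6), (101, false, 5), (104, false, 6), (152, false, 8), (166, false, 8), (133, false, 7), (118, false, 6), (166, false, 9), (133, false, 8), (118, false, 7), (104, false, 6), (169, false, 8), (168, false, 9), (151, false, 8), (135, false, 7), (166, false, 8), (149, false, 7), (118, false, 6), (167, false, 9), (150, false, 8), (119, false, 7), (160, false, 8), (143, false, 7), (98, false, 6), (62, false, 5), (52, false, 4), (146, false, 7), (130, false, 6), (152, false, 10), (149, false, 10), (133, false, 9), (118, false, 8), (104, false, 7), (152, false, 9), (133, false, 8), (118, false, 7), (134, false, 9), (119, false, 8), (163, false, 10), (146, false, 9), (130, false, 8), (101,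 false, 7), (65, false, 6), (104, false, 6), (152, false, 8), (166, false, 8), (133, false, 7), (118, false, 6), (167, false, 9), (134, false, 8), (119, false, 7), (170, false, 8), (170, true, 8), (152, true, 8), (169, true, 9), (151, true, 7), (168, true, 8), (119, true, 7), (150, true, 8), (167, true, 9), (118, true, 6), (149, true, 7), (166, true, 8), (65, true, 6), (115, true, 7), (146, true, 8), (163, true, 9), (169, true, 8), (104, true, 7), (118, true, 8), (166, true, 9), (152, true, 9), (150, true, 8), (149, true, 7), (119, true, 7), (150, true, 8), (64, true, 5), (100, true, 6), (114, true, 7), (162, true, 8), (186, false, 0), (192, false, 7), (193, false, 9), (151, false, 6), (135, false, 5), (152, false, 5), (116, false, 4), (89, false, 3), (149, false, 6), (104, false, 5)]),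
   ([20, 17, 1, 5, 6, 13], [(214, false, 0), (202, false, 3), (122, false, 2), (80, false, 1), (47, false, 0), (164, false, 5), (147, false, 4), (131, false, 3), (102, false, 2), (151, false, 4), (152, false, 5), (133, false, 4), (118, false, 3), (134, false, 5), (119, false, 4), (165, false, 6), (148, false, 5), (132, false, 4), (103, false, 3), (104, false, 4), (152, false, 6), (133, false, 5), (118, false, 4), (134, false, 6), (119, false, 5), (167, false, 7), (150, false, 6), (134, false, 5), (168, false, 8), (151, false, 7), (135, false, 6), (169, false, 7), (152, false, 6), (170, false, 6), (118, false, 5), (104, false, 4), (157, false, 6), (140, false, 5), (109, false, 4), (82, false, 3), (70, false, 2), (49, false, 1), (162, false, 5), (100, false, 4), (75, false, 3), (54, false, 2), (150, false, 5), (119, false, 4), (152, false, 4), (104, false, 3), (164, false, 5), (147, false, 4), (116, false, 3), (77, false, 2), (152, false, 3), (104, false, 2), (165, false, 4), (148, false, 3), (117, false, 2), (149, false, 4), (118, false, 3), (150, false, 5), (119, false, 4), (152, false, 4), (166, false, 4), (104, false, 3), (169, false, 3), (170, false, 4), (149, false, 3), (151, false, 4), (150, false, 5), (134,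 false, 4), (167, false, 7), (150, false, 6), (134, false, 5), (119, false, 4), (168, false, 6), (151, false, 5), (135, false, 4), (158, false, 5), (141, false, 4), (96, false, 3), (83, false, 2), (149, false, 5), (151, false, 6), (152, false, 7), (133, false, 6), (104, false, 5), (135, false, 5), (168, false, 5), (169, false, 6), (170, false, 7), (149, false, 6), (133, false, 5), (150, false, 7), (134, false, 6), (151, false, 8), (135, false, 7)], [(154, false, 1), (141, false, 5), (125, false, 4), (110, false, 3), (96, false, 2), (149, false, 5), (133, false, 4), (104, false, 3), (150, false, 4), (134, false, 3), (167, false, 6), (150, false, 5), (134, false, 4), (119, false, 3), (170, false, 5), (149, false, 4), (133, false, 3), (151, false, 5), (135, false, 4), (159, false, 5), (142, false, 4), (97, false, 3), (104, false, 4), (166, false, 5), (118, false, 4), (170, true, 6), (152, true, 6), (169, true, 7), (202, false, 0), (211, false, 7), (213, false, 11), (214, false, 17), (166, false, 6), (133, false, 5), (118, false, 4), (104, false, 3), (168, false, 5), (135, false, 4), (169, false, 4), (170, false, 5), (145, false, 4), (114, false, 3), (118, false, 4), (119, false, 5), (102, false, 4), (150, false,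 6), (119, false, 5), (151, false, 5), (152, false, 6), (162, false, 6), (129, false, 5), (75, false, 4), (54, false, 3), (149, false, 6), (118, false, 5), (104, false, 4), (150, false, 5), (119, false, 4), (151, false, 4), (152, false, 5), (133, false, 4), (134, false, 5), (165, false, 8), (148, false, 7), (132, false, 6), (117, false, 5), (103, false, 4), (118, false, 6), (104, false, 5), (119, false, 5), (152, false, 6), (133, false, 5), (134, false, 6), (168, false, 9), (151, false, 8), (135, false, 7)]),
   ([19, 10, 13, 14, 15, 16, 17, 5, 15], [(193, false, 0), (189, false, 2), (92, false, 1), (67, false, 0), (166, false, 5), (118, false, 4), (104, false, 3), (168, false, 4), (170, false, 5), (122, false, 4), (107, false, 3), (68, false, 2), (47, false, 1), (164, false, 6), (147, false, 5), (131, false, 4), (102, false, 3), (151, false, 5), (152, false, 6), (133, false, 5), (118, false, 4), (134, false, 6), (119, false, 5), (166, false, 7), (149, false, 6), (133, false, 5), (104, false, 4), (167, false, 6), (150, false, 5), (134, false, 4), (170, false, 7), (149, false, 6), (133, false, 5), (118, false, 4), (152, false, 7), (158, false, 7), (125, false, 6), (110, false, 5), (96, false, 4), (71, false, 3),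 (50, false, 2), (166, false, 8), (149, false, 7), (133, false, 6), (104, false, 5), (168, false, 7), (151, false, 6), (135, false, 5), (169, false, 6), (152, false, 5), (166, false, 5), (167, false, 6), (170, false, 7), (119, false, 6), (168, false, 6), (169, false, 7), (170, false, 8), (144, false, 7), (128, false, 6), (99, false, 5), (74, false, 4), (53, false, 3), (164, false, 7), (147, false, 6), (116, false, 5), (152, false, 7), (104, false, 6), (167, false, 8), (150, false, 7), (119, false, 6), (168, false, 7), (151, false, 6), (170, false, 8), (150, false, 7), (134, false, 6), (152, false, 8), (135, false, 7), (118, false, 6), (119, false, 7), (100, false, 6), (75, false, 5), (54, false, 4), (150, false, 7), (119, false, 6), (152, false, 6), (104, false, 5)], [(158, false, 6), (141, false, 5), (125, false, 4), (110, false, 3), (96, false, 2), (60, false, 1), (166, false, 5), (104, false, 4), (168, false, 4), (169, false, 5), (166, false, 6), (149, false, 5), (133, false, 4), (167, false, 7), (150, false, 6), (134, false, 5), (170, false, 8), (150, false, 7), (134, false, 6), (119, false, 5), (166, false, 7), (149, false, 6), (133, false, 5), (104, false, 4), (168, false, 6), (151, false, 5), (135, false,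 4), (170, false, 5), (151, false, 4), (152, false, 5), (168, false, 5), (135, false, 4), (152, true, 4), (170, true, 5), (169, true, 4), (119, true, 4), (167, true, 5), (152, true, 5), (135, true, 5), (151, true, 6), (134, true, 4), (150, true, 5), (104, true, 4), (133, true, 5), (149, true, 6), (119, true, 5), (118, true, 4), (115, true, 3), (130, true, 4), (152, true, 5), (104, true, 3), (118, true, 4), (133, true, 5), (149, true, 6), (129, true, 2), (189, false, 0), (192, false, 6), (193, false, 8), (197, false, 10), (199, false, 12), (147, false, 7), (131, false, 6), (102, false, 5), (151, false, 7), (152, false, 8), (133, false, 7), (118, false, 6), (133, false, 8), (118, false, 7), (104, false, 6), (162, false, 8), (129, false, 7), (114, false, 6), (75, false, 5), (54, false, 4), (150, false, 7), (119, false, 6), (149, false, 6), (104, false, 5), (150, false, 5), (151, false, 6), (152, false, 7), (133, false, 6), (118, false, 5), (134, false, 7), (119, false, 6), (166, false, 8), (149, false, 7), (133, false, 6), (104, false, 5), (168, false, 7), (151, false, 6), (135, false, 5), (169, false, 6), (152, false, 5), (170, false, 5)]),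
   ([12, 4, 1], [(82, false, 0), (154, false, 6), (137, false, 5), (92, false, 4), (79, false, 3), (67, false, 2), (46, false, 1), (11, false, 0), (145, false, 6), (129, false, 5), (114, false, 4), (54, false, 3), (118, false, 3), (119, false, 4), (149, false, 5), (133, false, 4), (104, false, 3), (150, false, 4), (134, false, 3), (151, false, 5), (135, false, 4), (152, false, 4), (114, false, 3), (116, false, 4), (149, false, 6), (104, false, 5), (150, false, 5), (162, false, 7), (145, false, 6), (114, false, 5), (75, false, 4), (54, false, 3), (150, false, 6), (119, false, 5), (149, false, 5), (104, false, 4), (150, false, 4), (149, false, 5), (118, false, 4), (150, false, 6), (119, false, 5), (152, false, 5), (163, false, 5), (101, false, 4), (76, false, 3), (164, false, 6), (102, false, 5), (77, false, 4), (149, false, 5), (118, false, 4), (150, false, 6), (119, false, 5), (152, false, 5), (165, false, 5), (103, false, 4), (104, false, 5), (166, false, 7), (149, false, 6), (118, false, 5), (167, false, 8), (150, false, 7), (119, false, 6), (168, false, 7), (151, false, 6), (169, false, 8), (152, false, 7), (166, false, 7), (133, false, 6), (104, false, 5), (168, false, 6), (135, false, 5), (170, false, 5),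 (133, false, 6), (118, false, 5), (134, false, 7), (119, false, 6), (135, false, 6)], [(11, false, 1), (79, false, 0), (140, false, 8), (124, false, 7), (109, false, 6), (95, false, 5), (82, false, 4), (70, false, 3), (59, false, 2), (49, false, 1), (116, false, 6), (102, false, 5), (77, false, 4), (149, false, 5), (118, false, 4), (152, false, 6), (118, false, 5), (104, false, 4), (162, false, 5), (114, false, 4), (64, false, 3), (54, false, 2), (118, false, 3), (119, false, 4), (164, false, 5), (147, false, 4), (102, false, 3), (152, false, 5), (118, false, 4), (119, false, 5), (165, false, 6), (148, false, 5), (103, false, 4), (149, false, 6), (104, false, 5), (150, false, 5), (152, false, 6), (166, false, 6), (118, false, 5), (169, false, 7), (170, false, 8), (151, false, 7), (152, false, 8), (166, false, 8), (133, false, 7), (118, false, 6), (104, false, 5), (168, false, 7), (135, false, 6), (166, false, 6), (118, false, 5), (168, false, 7), (170, false, 8), (134, false, 7), (119, false, 6), (158, false, 7), (125, false, 6), (96, false, 5), (83, false, 4), (71, false, 3), (60, false, 2), (164, false, 6), (102, false, 5), (149, false, 7), (118, false, 6), (150, false, 8), (119, false, 7), (152, false, 7),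 (166, false, 7), (104, false, 6), (168, false, 6), (169, false, 7), (170, false, 8), (147, false, 7), (131, false, 6), (77, false, 5), (148, false, 6), (132, false, 5), (152, false, 9), (149, false, 9), (133, false, 8), (118, false, 7), (104, false, 6), (151, false, 8), (135, false, 7), (152, false, 7), (119, false, 6), (168, false, 6), (169, false, 7), (170, false, 8), (145, false, 7), (129, false, 6), (87, false, 5), (64, false, 4), (54, false, 3), (149, false, 7), (118, false, 6), (104, false, 5), (150, false, 6), (119, false, 5), (151, false, 5), (152, false, 6), (133, false, 5), (134, false, 6), (134, false, 7), (119, false, 6), (135, false, 6)]),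
   ([21, 8, 16, 8, 16], [(220, false, 0), (220, false, 7), (158, false, 6), (125, false, 5), (110, false, 4), (96, false, 3), (50, false, 2), (26, false, 1), (20, false, 0), (160, false, 2), (98, false, 1), (52, false, 0), (149, false, 3), (133, false, 2), (149, false, 4), (133, false, 3), (104, false, 2), (150, false, 3), (134, false, 2), (152, false, 4), (161, false, 4), (128, false, 3), (113, false, 2), (53, false, 1), (167, false, 5), (150, false, 4), (119, false, 3), (168, false, 4), (151, false, 3), (166, false, 5), (149, false, 4), (133, false, 3), (167, false, 6), (150, false, 5), (134, false, 4), (169, false, 7), (152, false, 6), (170, false, 6), (129, false, 5), (114, false, 4), (100, false, 3), (54, false, 2), (150, false, 3), (119, false, 2), (149, false, 2), (150, false, 3), (151, false, 4), (152, false, 5), (131, false, 4), (116, false, 3), (102, false, 2), (149, false, 4), (118, false, 3), (152, false, 5), (132, false, 5), (117, false, 4), (103, false, 3), (118, false, 5), (104, false, 4), (119, false, 4), (152, false, 5), (129, false, 4), (87, false, 3), (75, false, 2), (148, false, 6), (117, false, 5), (103, false, 4), (149, false, 7), (118, false, 6), (104, false, 5), (150, false, 6), (119,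 false, 5), (152, false, 5), (149, false, 8), (133, false, 7), (118, false, 6), (104, false, 5), (151, false, 7), (135, false, 6), (152, false, 6), (118, false, 5), (119, false, 6), (167, false, 6), (170, false, 7), (159, false, 9), (142, false, 8), (126, false, 7), (111, false, 6), (97, false, 5), (84, false, 4), (72, false, 3), (51, false, 2), (42, false, 1), (34, false, 0), (161, false, 5), (128, false, 4), (113, false, 3), (99, false, 2), (150, false, 4), (119, false, 3), (151, false, 3), (149, false, 4), (133, false, 3), (150, false, 5), (134, false, 4), (152, false, 6), (169, false, 6), (162, false, 7), (145, false, 6), (129, false, 5), (114, false, 4), (100, false, 3), (150, false, 5), (119, false, 4), (149, false, 4), (150, false, 5), (151, false, 6), (152, false, 7), (133, false, 6), (118, false, 5), (104, false, 4), (134, false, 5), (119, false, 4), (133, false, 4), (134, false, 5), (166, false, 8), (149, false, 7), (133, false, 6), (118, false, 5), (104, false, 4), (168, false, 7), (151, false, 6), (135, false, 5), (169, false, 6), (152, false, 5), (170, false, 5), (116, false, 4), (149, false, 6), (104, false, 5), (150, false, 5), (151, false, 6), (148, false, 7), (132, false, 6), (117, false, 5),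 (118, false, 6), (119, false, 7), (152, false, 8), (133, false, 7), (104, false, 6), (149, false, 7), (133, false, 6), (149, false, 8), (133, false, 7), (104, false, 6), (152, false, 7), (135, false, 6), (162, false, 8), (114, false, 7), (100, false, 6), (87, false, 5), (75, false, 4), (54, false, 3), (148, false, 6), (117, false, 5), (103, false, 4), (149, false, 7), (118, false, 6), (104, false, 5), (150, false, 6), (119, false, 5), (152, false, 5), (150, false, 6), (119, false, 5), (149, false, 5), (150, false, 6), (152, false, 7), (166, false, 7), (118, false, 6), (104, false, 5), (167, false, 6), (119, false, 5), (168, false, 5), (170, false, 6)], [(144, false, 2), (44, false, 1), (149, false, 2), (104, false, 1), (150, false, 1), (152, false, 2), (224, false, 0)]),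
   ([3, 3, 2], [(9, false, 0)], [(8, false, 1), (8, false, 0), (139, false, 9), (94, false, 8), (81, false, 7), (69, false, 6), (58, false, 5), (48, false, 4), (31, false, 3), (24, false, 2), (9, false, 1), (160, false, 2), (169, false, 6), (152, false, 5), (162, false, 5), (114, false, 4), (100, false, 3), (150, false, 5), (119, false, 4), (149, false, 4), (150, false, 5), (152, false, 6), (166, false, 6), (118, false, 5), (104, false, 4), (167, false, 5), (119, false, 4), (170, false, 4), (148, false, 6), (152, false, 7), (142, false, 8), (97, false, 7), (84, false, 6), (72, false, 5), (61, false, 4), (51, false, 3), (34, false, 2), (27, false, 1), (160, false, 1), (166, false, 5), (149, false, 4), (118, false, 3), (104, false, 2), (167, false, 4), (150, false, 3), (119, false, 2), (168, false, 3), (151, false, 2), (170, false, 4), (145, false, 3), (129, false, 2), (149, false, 6), (133, false, 5), (118, false, 4), (104, false, 3), (150, false, 5), (134, false, 4), (119, false, 3), (149, false, 4), (133, false, 3), (151, false, 5), (135, false, 4), (152, false, 4), (163, false, 4), (101, false, 3), (166, false, 5), (104, false, 4), (164, false, 4), (166, false, 8), (149, false, 7), (118, false, 6), (104, false,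 5), (167, false, 7), (150, false, 6), (119, false, 5), (168, false, 6), (151, false, 5), (165, false, 7), (148, false, 6), (132, false, 5), (152, false, 9), (133, false, 8), (118, false, 7), (104, false, 6), (134, false, 7), (119, false, 6), (166, false, 8), (149, false, 7), (133, false, 6), (169, false, 9), (152, false, 8), (166, false, 8), (133, false, 7), (104, false, 6), (166, false, 7), (133, false, 6), (167, false, 8), (134, false, 7), (160, false, 9), (127, false, 8), (112, false, 7), (98, false, 6), (85, false, 5), (73, false, 4), (62, false, 3), (52, false, 2), (35, false, 1), (100, false, 1), (151, false, 3), (152, false, 4), (130, false, 3), (115, false, 2), (118, false, 3), (119, false, 4), (152, false, 5), (131, false, 4), (102, false, 3), (151, false, 5), (149, false, 6), (133, false, 5), (118, false, 4), (165, false, 8), (148, false, 7), (132, false, 6), (117, false, 5), (103, false, 4), (118, false, 6), (104, false, 5), (119, false, 5), (152, false, 6), (133, false, 5), (134, false, 6), (167, false, 9), (150, false, 8), (134, false, 7), (119, false, 6), (169, false, 8), (152, false, 7), (166, false, 7), (133, false, 6), (104, false, 5), (167, false, 6), (134, false, 5), (166, false, 7), (133,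 false, 6), (118, false, 5), (167, false, 8), (134, false, 7), (119, false, 6), (168, false, 7), (135, false, 6), (169, false, 6), (166, false, 7), (149, false, 6), (104, false, 5), (167, false, 6), (150, false, 5), (169, false, 7), (152, false, 6), (170, false, 6), (114, false, 5), (87, false, 4), (75, false, 3), (64, false, 2), (54, false, 1), (148, false, 5), (117, false, 4), (103, false, 3), (149, false, 6), (118, false, 5), (104, false, 4), (150, false, 5), (119, false, 4), (152, false, 4), (115, false, 4), (88, false, 3), (76, false, 2), (65, false, 1), (150, false, 5), (119, false, 4), (147, false, 4), (102, false, 3), (89, false, 2), (77, false, 1), (152, false, 3), (117, false, 2), (90, false, 1), (150, false, 3), (119, false, 2), (149, false, 2), (104, false, 1), (152, false, 1)]),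
   ([21, 9, 10, 13, 14, 9, 10, 13, 14], [(221, false, 0), (221, false, 10), (158, false, 9), (125, false, 8), (110, false, 7), (96, false, 6), (83, false, 5), (71, false, 4), (50, false, 3), (41, false, 2), (33, false, 1), (20, false, 0), (159, false, 2), (97, false, 1), (51, false, 0), (166, false, 5), (149, false, 4), (133, false, 3), (104, false, 2), (170, false, 4), (144, false, 3), (128, false, 2), (53, false, 1), (168, false, 5), (151, false, 4), (166, false, 6), (149, false, 5), (133, false, 4), (118, false, 3), (167, false, 7), (150, false, 6), (134, false, 5), (119, false, 4), (165, false, 6), (148, false, 5), (132, false, 4), (103, false, 3), (104, false, 4), (152, false, 6), (133, false, 5), (118, false, 4), (134, false, 6), (119, false, 5), (167, false, 7), (150, false, 6), (134, false, 5), (168, false, 8), (151, false, 7), (135, false, 6), (169, false, 7), (152, false, 6), (170, false, 6), (113, false, 5), (99, false, 4), (86, false, 3), (53, false, 2), (44, false, 1), (145, false, 2), (100, false, 1), (149, false, 3), (118, false, 2), (150, false, 4), (119, false, 3), (150, false, 3), (152, false, 4), (165, false, 4), (117, false, 3), (103, false, 2), (118, false, 4), (104, false, 3), (119, false,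 3), (166, false, 4), (149, false, 3), (168, false, 5), (151, false, 4), (170, false, 6), (150, false, 5), (134, false, 4), (152, false, 6), (134, false, 5), (119, false, 4), (129, false, 4), (100, false, 3), (87, false, 2), (54, false, 1), (150, false, 4), (119, false, 3), (152, false, 3), (104, false, 2), (151, false, 4), (135, false, 3), (162, false, 4), (145, false, 3), (114, false, 2), (87, false, 1), (150, false, 5), (119, false, 4), (149, false, 4), (104, false, 3), (150, false, 3), (149, false, 4), (118, false, 3), (150, false, 5), (119, false, 4), (152, false, 4), (164, false, 4), (102, false, 3), (89, false, 2), (149, false, 5), (118, false, 4), (150, false, 6), (119, false, 5), (152, false, 5), (166, false, 5), (104, false, 4), (168, false, 4), (169, false, 5), (170, false, 6), (147, false, 5), (131, false, 4), (89, false, 3), (77, false, 2), (148, false, 4), (132, false, 3), (90, false, 2), (149, false, 4), (118, false, 3), (104, false, 2), (150, false, 3), (119, false, 2), (151, false, 2), (152, false, 3), (152, false, 3), (133, false, 2), (135, false, 3), (149, false, 3), (104, false, 2), (150, false, 2), (167, false, 4), (150, false, 3), (119, false, 2), (170, false, 3), (151, false, 2), (152, false,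 3), (160, false, 3), (127, false, 2), (52, false, 1), (149, false, 4), (133, false, 3), (150, false, 5), (134, false, 4), (151, false, 6), (135, false, 5), (152, false, 5), (118, false, 4), (104, false, 3), (119, false, 3), (161, false, 4), (144, false, 3), (53, false, 2), (166, false, 6), (149, false, 5), (118, false, 4), (167, false, 7), (150, false, 6), (119, false, 5), (166, false, 6), (149, false, 5), (104, false, 4), (167, false, 5), (150, false, 4), (169, false, 6), (152, false, 5), (170, false, 5), (114, false, 4), (54, false, 3), (116, false, 3), (148, false, 5), (103, false, 4), (149, false, 6), (104, false, 5), (150, false, 5), (151, false, 6)], [(114, false, 4), (100, false, 3), (64, false, 2), (54, false, 1), (150, false, 3), (119, false, 2), (146, false, 2), (65, false, 1), (149, false, 1), (150, false, 2), (223, false, 0)]),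
   ([18, 12, 14, 16, 17, 2, 5, 7, 8, 11, 12, 14, 17], [(180, false, 0), (172, false, 4), (156, false, 3), (123, false, 2), (69, false, 1), (48, false, 0), (164, false, 4), (116, false, 3), (102, false, 2), (149, false, 4), (118, false, 3), (152, false, 5), (118, false, 4), (104, false, 3), (119, false, 3), (169, false, 4), (152, false, 3), (168, false, 3), (170, false, 4), (132, false, 3), (149, false, 7), (133, false, 6), (118, false, 5), (104, false, 4), (150, false, 6), (134, false, 5), (119, false, 4)], [(155, false, 4), (138, false, 3), (107, false, 2), (80, false, 1), (166, false, 7), (149, false, 6), (133, false, 5), (118, false, 4), (167, false, 8), (150, false, 7), (134, false, 6), (119, false, 5), (170, false, 7), (150, false, 6), (134, false, 5), (151, false, 7), (135, false, 6), (152, false, 6), (168, false, 6), (169, false, 7), (170, false, 8), (141, false, 7), (125, false, 6), (110, false, 5), (96, false, 4), (83, false, 3), (71, false, 2), (164, false, 7), (147, false, 6), (131, false, 5), (102, false, 4), (77, false, 3), (151, false, 4), (152, false, 5), (133, false, 4), (118, false, 3), (134, false, 5), (119, false, 4), (165, false, 6), (148, false, 5), (132, false, 4), (103, false, 3), (104,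 false, 4), (152, false, 6), (133, false, 5), (118, false, 4), (134, false, 6), (119, false, 5), (169, false, 7), (152, false, 6), (166, false, 6), (133, false, 5), (104, false, 4), (168, false, 5), (135, false, 4), (169, false, 4), (166, false, 5), (149, false, 4), (167, false, 6), (150, false, 5), (170, false, 7), (150, false, 6), (119, false, 5), (166, false, 6), (149, false, 5), (104, false, 4), (168, false, 5), (151, false, 4), (170, false, 6), (143, false, 5), (127, false, 4), (85, false, 3), (149, false, 6), (118, false, 5), (150, false, 7), (119, false, 6), (151, false, 6), (152, false, 7), (144, false, 7), (128, false, 6), (99, false, 5), (86, false, 4), (167, false, 8), (134, false, 7), (169, false, 9), (168, false, 10), (151, false, 9), (135, false, 8), (166, false, 9), (149, false, 8), (118, false, 7), (104, false, 6), (167, false, 8), (150, false, 7), (119, false, 6), (164, false, 7), (147, false, 6), (89, false, 5), (149, false, 7), (150, false, 8), (152, false, 9), (165, false, 9), (117, false, 8), (103, false, 7), (90, false, 6), (149, false, 8), (118, false, 7), (104, false, 6), (150, false, 7), (119, false, 6), (149, false, 6), (150, false, 7), (152, false, 8), (167, false, 8), (119, false, 7),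 (170, false, 7), (170, true, 7), (152, true, 7), (169, true, 8), (119, true, 7), (152, true, 8), (150, true, 7), (149, true, 6), (170, true, 7), (169, true, 6), (119, true, 6), (167, true, 7), (152, true, 7), (150, true, 6), (104, true, 6), (149, true, 7), (119, true, 7), (150, true, 8), (90, true, 6), (117, true, 7), (165, true, 8), (172, false, 0), (180, false, 5), (181, false, 9), (182, false, 12), (184, false, 15), (162, false, 4), (114, false, 3), (100, false, 2), (87, false, 1), (150, false, 5), (119, false, 4), (152, false, 4), (118, false, 4), (104, false, 3), (119, false, 3), (164, false, 4), (147, false, 3), (89, false, 2), (149, false, 4), (150, false, 5), (152, false, 6), (168, false, 6), (170, false, 7), (133, false, 6), (118, false, 5), (104, false, 4), (134, false, 5), (119, false, 4), (149, false, 5), (133, false, 4), (150, false, 6), (134, false, 5), (166, false, 8), (149, false, 7), (133, false, 6), (118, false, 5), (104, false, 4), (167, false, 7), (150, false, 6), (134, false, 5), (119, false, 4)])]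

def p2Eqs_15 : List (List ℕ × List Step × List Step) :=
  [([21, 17, 6, 11, 12, 14, 15, 16], [(227, false, 0), (218, false, 5), (109, false, 4), (95, false, 3), (70, false, 2), (40, false, 1), (25, false, 0), (159, false, 6), (142, false, 5), (97, false, 4), (84, false, 3), (42, false, 2), (34, false, 1), (161, false, 6), (128, false, 5), (113, false, 4), (99, false, 3), (150, false, 5), (119, false, 4), (151, false, 4), (149, false, 5), (133, false, 4), (150, false, 6), (134, false, 5), (152, false, 7), (169, false, 7), (165, false, 8), (148, false, 7), (132, false, 6), (117, false, 5), (103, false, 4), (118, false, 6), (104, false, 5), (119, false, 5), (152, false, 6), (133, false, 5), (134, false, 6), (166, false, 9), (149, false, 8), (133, false, 7), (118, false, 6), (104, false, 5), (169, false, 8), (152, false, 7), (166, false, 7), (133, false, 6), (118, false, 5), (166, false, 8), (133, false, 7), (118, false, 6), (104, false, 5), (167, false, 7), (134, false, 6), (119, false, 5), (170, false, 6), (127, false, 5), (85, false, 4), (43, false, 3), (35, false, 2), (99, false, 2), (150, false, 4), (119, false, 3), (152, false, 3), (165, false, 3), (167, false, 7), (150, false, 6), (119, false, 5), (169, false,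 6), (152, false, 5), (166, false, 5), (104, false, 4), (167, false, 4), (168, false, 5), (169, false, 6), (165, false, 7), (148, false, 6), (132, false, 5), (117, false, 4), (90, false, 3), (150, false, 5), (119, false, 4), (149, false, 4), (104, false, 3), (150, false, 3), (151, false, 4), (152, false, 5), (149, false, 5), (133, false, 4), (118, false, 3), (150, false, 6), (134, false, 5), (119, false, 4), (152, false, 5), (166, false, 5), (133, false, 4), (104, false, 3), (168, false, 4), (135, false, 3), (164, false, 3), (166, false, 7), (149, false, 6), (118, false, 5), (104, false, 4), (170, false, 6), (151, false, 5), (152, false, 6), (166, false, 6), (133, false, 5), (118, false, 4), (168, false, 7), (135, false, 6), (161, false, 6), (113, false, 5), (99, false, 4), (74, false, 3), (44, false, 2), (147, false, 3), (102, false, 2), (152, false, 4), (119, false, 3), (167, false, 4), (134, false, 3), (169, false, 5), (167, false, 6), (150, false, 5), (134, false, 4), (119, false, 3), (166, false, 5), (149, false, 4), (133, false, 3), (167, false, 6), (150, false, 5), (134, false, 4), (169, false, 7), (152, false, 6), (170, false, 6), (130, false, 5), (115, false, 4), (101, false, 3), (76, false, 2), (118,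 false, 5), (104, false, 4), (119, false, 4), (148, false, 5), (132, false, 4), (152, false, 8)], [(159, false, 1), (164, false, 2), (165, false, 6), (148, false, 5), (117, false, 4), (103, false, 3), (149, false, 6), (118, false, 5), (104, false, 4), (150, false, 5), (119, false, 4), (152, false, 4), (167, false, 4), (168, false, 5), (169, false, 6), (218, false, 0), (227, false, 5), (142, false, 4), (84, false, 3), (61, false, 2), (42, false, 1), (146, false, 3), (149, false, 4), (148, false, 5), (103, false, 4), (149, false, 6), (104, false, 5), (152, false, 5), (113, false, 6), (99, false, 5), (86, false, 4), (63, false, 3), (44, false, 2), (146, false, 3), (101, false, 2), (149, false, 4), (104, false, 3), (150, false, 3), (165, false, 5), (148, false, 4), (117, false, 3), (149, false, 5), (118, false, 4), (150, false, 6), (119, false, 5), (152, false, 5), (166, false, 5), (104, false, 4), (168, false, 4), (170, false, 5), (134, false, 4), (150, false, 6), (134, false, 5), (119, false, 4), (147, false, 5), (131, false, 4), (89, false, 3), (149, false, 6), (133, false, 5), (150, false, 7), (134, false, 6)]),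
   ([20, 10, 13, 14, 15, 16, 17, 5, 8], [(207, false, 0), (204, false, 6), (153, false, 5), (136, false, 4), (120, false, 3), (105, false, 2), (91, false, 1), (78, false, 0), (166, false, 6), (149, false, 5), (133, false, 4), (118, false, 3), (169, false, 7), (152, false, 6), (166, false, 6), (133, false, 5), (118, false, 4), (104, false, 3), (168, false, 5), (135, false, 4), (170, false, 4), (119, false, 3), (166, false, 3), (158, false, 4), (96, false, 3), (83, false, 2), (50, false, 1), (149, false, 5), (151, false, 6), (152, false, 7), (135, false, 6), (159, false, 7), (142, false, 6), (97, false, 5), (84, false, 4), (72, false, 3), (51, false, 2), (164, false, 7), (147, false, 6), (131, false, 5), (102, false, 4), (151, false, 6), (152, false, 7), (133, false, 6), (118, false, 5), (134, false, 7), (119, false, 6), (166, false, 8), (149, false, 7), (133, false, 6), (104, false, 5), (167, false, 7), (150, false, 6), (134, false, 5), (168, false, 8), (151, false, 7), (135, false, 6), (165, false, 7), (148, false, 6), (117, false, 5), (149, false, 7), (118, false, 6), (150, false, 8), (119, false, 7), (152, false, 7), (166, false, 7), (104, false, 6), (169, false, 6), (166, false, 7), (149, false, 6), (166,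 false, 8), (149, false, 7), (104, false, 6), (167, false, 7), (150, false, 6), (170, false, 8), (143, false, 7), (112, false, 6), (85, false, 5), (73, false, 4), (52, false, 3), (147, false, 6), (131, false, 5), (149, false, 7), (133, false, 6), (165, false, 9), (148, false, 8), (132, false, 7), (103, false, 6), (104, false, 7), (152, false, 9), (133, false, 8), (118, false, 7), (134, false, 9), (119, false, 8), (167, false, 10), (150, false, 9), (134, false, 8), (169, false, 11), (152, false, 10), (167, false, 10), (134, false, 9), (119, false, 8), (169, false, 9), (163, false, 10), (146, false, 9), (130, false, 8), (101, false, 7), (88, false, 6), (76, false, 5), (149, false, 10), (118, false, 9), (104, false, 8), (149, false, 9), (118, false, 8), (150, false, 10), (119, false, 9), (151, false, 9), (152, false, 10), (166, false, 11), (149, false, 10), (133, false, 9), (104, false, 8), (168, false, 10), (151, false, 9), (135, false, 8)], [(158, false, 6), (141, false, 5), (125, false, 4), (110, false, 3), (96, false, 2), (60, false, 1), (166, false, 5), (104, false, 4), (168, false, 4), (169, false, 5), (166, false, 6), (149, false, 5), (133, false, 4), (167, false, 7), (150, false, 6), (134, false, 5), (170,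 false, 8), (150, false, 7), (134, false, 6), (119, false, 5), (166, false, 7), (149, false, 6), (133, false, 5), (104, false, 4), (168, false, 6), (151, false, 5), (135, false, 4), (170, false, 5), (151, false, 4), (152, false, 5), (161, false, 5), (128, false, 4), (63, false, 3), (53, false, 2), (163, false, 6), (146, false, 5), (115, false, 4), (166, false, 7), (149, false, 6), (118, false, 5), (167, false, 8), (150, false, 7), (119, false, 6), (170, false, 7), (151, false, 6), (149, false, 7), (133, false, 6), (104, false, 5), (150, false, 6), (134, false, 5), (152, false, 7), (152, true, 7), (151, true, 6), (150, true, 5), (104, true, 5), (149, true, 6), (101, true, 4), (146, true, 5), (204, false, 0), (206, false, 7), (207, false, 10), (129, false, 6), (100, false, 5), (64, false, 4), (149, false, 7), (118, false, 6), (150, false, 8), (119, false, 7), (151, false, 7), (152, false, 8), (131, false, 7), (102, false, 6), (151, false, 8), (150, false, 9), (134, false, 8), (119, false, 7), (148, false, 8), (132, false, 7), (152, false, 11), (133, false, 10), (118, false, 9), (104, false, 8), (134, false, 9), (119, false, 8), (135, false, 8)]),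
   ([7, 4, 1], [(32, false, 0), (154, false, 5), (121, false, 4), (67, false, 3), (46, false, 2), (29, false, 1), (11, false, 0), (143, false, 6), (127, false, 5), (112, false, 4), (52, false, 3), (150, false, 6), (134, false, 5), (149, false, 7), (133, false, 6), (118, false, 5), (150, false, 8), (134, false, 7), (119, false, 6), (151, false, 7), (135, false, 6), (152, false, 6), (144, false, 6), (99, false, 5), (53, false, 4), (167, false, 8), (150, false, 7), (119, false, 6), (169, false, 7), (152, false, 6), (166, false, 6), (167, false, 7), (164, false, 8), (116, false, 7), (102, false, 6), (149, false, 8), (118, false, 7), (152, false, 9), (118, false, 8), (104, false, 7), (119, false, 7), (166, false, 8), (149, false, 7), (168, false, 9), (151, false, 8), (170, false, 10), (145, false, 9), (129, false, 8), (100, false, 7), (75, false, 6), (54, false, 5), (150, false, 8), (119, false, 7), (152, false, 7), (104, false, 6), (149, false, 8), (133, false, 7), (118, false, 6), (150, false, 9), (134, false, 8), (119, false, 7), (151, false, 8), (135, false, 7), (152, false, 7), (100, false, 6), (75, false, 5), (150, false, 9), (119, false, 8), (152, false, 8), (102, false, 7), (77, false, 6), (149, false, 7),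 (118, false, 6), (150, false, 8), (119, false, 7), (166, false, 8), (149, false, 7), (104, false, 6), (167, false, 7), (150, false, 6), (169, false, 8), (152, false, 7), (170, false, 7), (118, false, 6), (119, false, 7)], [(11, false, 1), (29, false, 0), (157, false, 6), (124, false, 5), (95, false, 4), (70, false, 3), (40, false, 2), (32, false, 1), (159, false, 6), (126, false, 5), (72, false, 4), (51, false, 3), (34, false, 2), (162, false, 7), (129, false, 6), (114, false, 5), (100, false, 4), (150, false, 6), (119, false, 5), (149, false, 5), (150, false, 6), (151, false, 7), (152, false, 8), (133, false, 7), (118, false, 6), (104, false, 5), (134, false, 6), (119, false, 5), (166, false, 7), (149, false, 6), (133, false, 5), (168, false, 8), (151, false, 7), (135, false, 6), (169, false, 7), (152, false, 6), (170, false, 6), (102, false, 5), (149, false, 7), (118, false, 6), (150, false, 8), (119, false, 7), (151, false, 7), (151, false, 8), (135, false, 7), (160, false, 8), (143, false, 7), (98, false, 6), (73, false, 5), (52, false, 4), (35, false, 3), (100, false, 3), (151, false, 5), (152, false, 6), (131, false, 5), (116, false, 4), (151, false, 6), (149, false, 7), (133, false, 6), (104, false, 5),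 (166, false, 7), (149, false, 6), (133, false, 5), (169, false, 8), (152, false, 7), (166, false, 7), (133, false, 6), (104, false, 5), (167, false, 6), (134, false, 5), (169, false, 7), (170, false, 8), (148, false, 7), (132, false, 6), (117, false, 5), (118, false, 6), (119, false, 7), (152, false, 8), (133, false, 7), (104, false, 6), (135, false, 6), (89, false, 5), (77, false, 4), (168, false, 6), (169, false, 7), (170, false, 8), (149, false, 7), (133, false, 6), (104, false, 5), (151, false, 6), (135, false, 5), (167, false, 6), (150, false, 5), (168, false, 7), (151, false, 6), (158, false, 8), (141, false, 7), (125, false, 6), (110, false, 5), (83, false, 4), (50, false, 3), (26, false, 2), (145, false, 8), (87, false, 7), (75, false, 6), (54, false, 5), (148, false, 8), (117, false, 7), (103, false, 6), (149, false, 9), (118, false, 8), (104, false, 7), (150, false, 8), (119, false, 7), (152, false, 7), (116, false, 8), (102, false, 7), (89, false, 6), (77, false, 5), (149, false, 7), (118, false, 6), (152, false, 8), (117, false, 7), (103, false, 6), (90, false, 5), (149, false, 7), (118, false, 6), (104, false, 5), (150, false, 6), (119, false, 5), (152, false, 5), (167, false, 7), (119, false, 6),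 (170, false, 6), (104, false, 5), (168, false, 6), (135, false, 5), (169, false, 5), (170, false, 6), (145, false, 5), (119, false, 7)]),
   ([21, 6, 11, 12, 14, 15, 16, 6, 11, 12, 14, 15, 16], [(218, false, 0), (218, false, 5), (140, false, 4), (82, false, 3), (59, false, 2), (40, false, 1), (14, false, 0), (126, false, 2), (72, false, 1), (51, false, 0), (164, false, 5), (147, false, 4), (131, false, 3), (102, false, 2), (151, false, 4), (152, false, 5), (133, false, 4), (118, false, 3), (134, false, 5), (119, false, 4), (166, false, 6), (149, false, 5), (133, false, 4), (104, false, 3), (167, false, 5), (150, false, 4), (134, false, 3), (168, false, 6), (151, false, 5), (135, false, 4), (168, false, 5), (151, false, 4), (160, false, 6), (143, false, 5), (127, false, 4), (112, false, 3), (73, false, 2), (52, false, 1), (147, false, 4), (131, false, 3), (149, false, 5), (133, false, 4), (167, false, 7), (150, false, 6), (134, false, 5), (166, false, 8), (149, false, 7), (133, false, 6), (118, false, 5), (104, false, 4), (167, false, 7), (150, false, 6), (134, false, 5), (119, false, 4), (168, false, 6), (151, false, 5), (135, false, 4), (169, false, 5), (152, false, 4), (169, false, 4), (166, false, 5), (149,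 false, 4), (167, false, 6), (150, false, 5), (169, false, 7), (152, false, 6), (170, false, 6), (117, false, 5), (103, false, 4), (118, false, 6), (104, false, 5), (130, false, 6), (115, false, 5), (88, false, 4), (76, false, 3), (150, false, 8), (119, false, 7), (149, false, 7), (104, false, 6), (150, false, 6), (151, false, 7), (152, false, 8), (131, false, 7), (116, false, 6), (89, false, 5), (77, false, 4), (151, false, 6), (149, false, 7), (133, false, 6), (104, false, 5), (150, false, 6), (134, false, 5), (145, false, 7), (129, false, 6), (114, false, 5), (87, false, 4), (64, false, 3), (54, false, 2), (150, false, 6), (119, false, 5), (149, false, 5), (104, false, 4), (150, false, 4), (151, false, 5), (152, false, 6), (133, false, 5), (118, false, 4), (134, false, 6), (119, false, 5), (131, false, 5), (102, false, 4), (89, false, 3), (151, false, 6), (148, false, 7), (132, false, 6), (117, false, 5), (90, false, 4), (150, false, 6), (119, false, 5), (149, false, 5), (104, false, 4), (150, false, 4), (151, false, 5), (152, false, 6), (149, false, 6), (133, false, 5), (118, false, 4), (152, false, 7), (167, false, 7), (134, false, 6), (119, false, 5), (170, false, 6), (128, false, 5), (99, false, 4), (74,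 false, 3), (63, false, 2), (164, false, 6), (116, false, 5), (102, false, 4), (149, false, 6), (118, false, 5), (152, false, 7), (118, false, 6), (104, false, 5), (119, false, 5), (167, false, 6), (150, false, 5), (168, false, 7), (151, false, 6), (170, false, 8), (150, false, 7), (134, false, 6), (119, false, 5), (152, false, 6), (135, false, 5), (76, false, 4), (65, false, 3)], [(142, false, 6), (126, false, 5), (111, false, 4), (84, false, 3), (72, false, 2), (27, false, 1), (164, false, 1), (166, false, 5), (149, false, 4), (118, false, 3), (104, false, 2), (167, false, 4), (150, false, 3), (119, false, 2), (168, false, 3), (151, false, 2), (165, false, 4), (148, false, 3), (132, false, 2), (152, false, 6), (133, false, 5), (118, false, 4), (104, false, 3), (134, false, 4), (119, false, 3), (166, false, 5), (149, false, 4), (133, false, 3), (169, false, 6), (152, false, 5), (166, false, 5), (133, false, 4), (104, false, 3), (169, false, 4), (168, false, 5), (151, false, 4), (135, false, 3), (166, false, 4), (149, false, 3), (167, false, 5), (150, false, 4), (164, false, 6), (147, false, 5), (116, false, 4), (102, false, 3), (89, false, 2), (77, false, 1), (149, false, 3), (118, false, 2), (152, false, 4),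 (149, false, 4), (118, false, 3), (104, false, 2), (150, false, 3), (119, false, 2), (152, false, 2), (165, false, 2), (90, false, 1), (149, false, 3), (118, false, 2), (104, false, 1), (150, false, 2), (119, false, 1), (152, false, 1), (167, false, 1), (168, false, 2), (169, false, 3), (224, false, 0), (225, false, 6), (135, false, 5)]),
   ([21, 16, 17, 6, 11, 12, 14, 15, 16], [(226, false, 0), (218, false, 5), (140, false, 4), (124, false, 3), (59, false, 2), (49, false, 1), (40, false, 0), (129, false, 5), (100, false, 4), (87, false, 3), (150, false, 7), (119, false, 6), (152, false, 6), (104, false, 5), (146, false, 7), (130, false, 6), (115, false, 5), (88, false, 4), (150, false, 8), (119, false, 7), (149, false, 7), (104, false, 6), (150, false, 6), (151, false, 7), (152, false, 8), (147, false, 8), (131, false, 7), (116, false, 6), (89, false, 5), (151, false, 8), (152, false, 9), (133, false, 8), (104, false, 7), (134, false, 7), (133, false, 8), (118, false, 7), (135, false, 9), (167, false, 9), (119, false, 8), (170, false, 8), (99, false, 7), (86, false, 6), (74, false, 5), (63, false, 4), (53, false, 3), (163, false, 7), (146, false, 6), (115, false, 5), (166, false, 8), (149, false, 7), (118,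 false, 6), (167, false, 9), (150, false, 8), (119, false, 7), (170, false, 8), (147, false, 7), (102, false, 6), (152, false, 8), (119, false, 7), (165, false, 8), (132, false, 7), (149, false, 11), (133, false, 10), (118, false, 9), (104, false, 8), (150, false, 10), (134, false, 9), (119, false, 8), (152, false, 9), (166, false, 9), (133, false, 8), (168, false, 10), (135, false, 9), (170, false, 9), (146, false, 10), (115, false, 9), (101, false, 8), (88, false, 7), (76, false, 6), (65, false, 5), (149, false, 9), (118, false, 8), (104, false, 7), (150, false, 8), (119, false, 7), (152, false, 7), (90, false, 6), (152, false, 8)], [(159, false, 2), (142, false, 1), (164, false, 4), (116, false, 3), (102, false, 2), (149, false, 4), (118, false, 3), (152, false, 5), (118, false, 4), (104, false, 3), (119, false, 3), (165, false, 4), (148, false, 3), (149, false, 4), (150, false, 5), (152, false, 6), (167, false, 6), (119, false, 5), (168, false, 5), (169, false, 6), (152, true, 6), (119, true, 5), (134, true, 6), (150, true, 7), (118, true, 4), (133, true, 5), (149, true, 6), (218, false, 0), (223, false, 5), (226, false, 14), (142, false, 4), (84, false, 3), (61, false, 2), (42, false, 1), (146, false, 3),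 (149, false, 4), (148, false, 5), (103, false, 4), (149, false, 6), (104, false, 5), (152, false, 5), (112, false, 6), (98, false, 5), (85, false, 4), (62, false, 3), (43, false, 2), (163, false, 6), (146, false, 5), (115, false, 4), (169, false, 7), (152, false, 6), (165, false, 6), (117, false, 5), (118, false, 6), (119, false, 7), (167, false, 8), (150, false, 7), (169, false, 9), (152, false, 8), (166, false, 8), (118, false, 7), (104, false, 6), (167, false, 7), (119, false, 6), (161, false, 6), (86, false, 5), (63, false, 4), (44, false, 3), (146, false, 4), (101, false, 3), (149, false, 5), (104, false, 4), (150, false, 4), (165, false, 6), (148, false, 5), (117, false, 4), (149, false, 6), (118, false, 5), (150, false, 7), (119, false, 6), (152, false, 6), (166, false, 6), (104, false, 5), (168, false, 5), (170, false, 6), (133, false, 5), (134, false, 6), (164, false, 9), (147, false, 8), (131, false, 7), (116, false, 6), (102, false, 5), (89, false, 4), (149, false, 7), (118, false, 6), (152, false, 8), (149, false, 9), (133, false, 8), (118, false, 7), (104, false, 6), (150, false, 8), (134, false, 7), (119, false, 6), (152, false, 7), (165, false, 7), (132, false, 6), (90, false, 5), (149, false,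 7), (118, false, 6), (104, false, 5), (150, false, 6), (119, false, 5), (151, false, 5), (152, false, 6), (133, false, 5), (134, false, 6), (167, false, 9), (150, false, 8), (134, false, 7), (119, false, 6), (168, false, 8), (151, false, 7), (135, false, 6), (169, false, 7), (152, false, 6), (170, false, 6), (99, false, 5), (74, false, 4), (63, false, 3), (164, false, 7), (116, false, 6), (102, false, 5), (149, false, 7), (118, false, 6), (152, false, 8), (118, false, 7), (104, false, 6), (119, false, 6), (167, false, 7), (150, false, 6), (168, false, 8), (151, false, 7), (170, false, 9), (150, false, 8), (134, false, 7), (119, false, 6), (152, false, 7), (129, false, 6), (75, false, 5), (64, false, 4), (149, false, 9), (118, false, 8), (104, false, 7), (150, false, 8), (119, false, 7), (151, false, 7), (152, false, 8), (130, false, 7), (76, false, 6), (65, false, 5), (151, false, 9), (135, false, 8), (152, false, 8)]),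
   ([19, 12, 15, 16, 0, 5, 6, 7, 10, 13, 14, 17], [(195, false, 0), (186, false, 5), (125, false, 4), (110, false, 3), (83, false, 2), (71, false, 1), (50, false, 0), (164, false, 6), (147, false, 5), (131, false, 4), (102, false, 3), (77, false, 2), (151, false, 3), (152, false, 4), (133, false, 3), (118, false, 2), (134, false, 4), (119, false, 3), (165, false, 5), (148, false, 4), (132, false, 3), (103, false, 2), (104, false, 3), (152, false, 5), (133, false, 4), (118, false, 3), (134, false, 5), (119, false, 4), (169, false, 6), (152, false, 5), (166, false, 5), (133, false, 4), (104, false, 3), (167, false, 4), (134, false, 3), (170, false, 5), (134, false, 4), (119, false, 3), (161, false, 4), (128, false, 3), (86, false, 2), (53, false, 1), (165, false, 5), (148, false, 4), (117, false, 3), (149, false, 5), (118, false, 4), (150, false, 6), (119, false, 5), (152, false, 5), (166, false, 5), (104, false, 4), (168, false, 4), (170, false, 5), (135, false, 4), (162, false, 7), (145, false, 6), (114, false, 5), (100, false, 4), (87, false, 3), (54, false, 2), (150, false, 5), (119, false, 4), (152, false, 4), (118, false, 4), (104, false, 3), (119, false, 3), (165, false, 6), (148, false, 5), (117, false,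 4), (103, false, 3), (90, false, 2), (149, false, 4), (118, false, 3), (104, false, 2), (150, false, 3), (119, false, 2), (152, false, 2), (167, false, 5), (150, false, 4), (119, false, 3), (168, false, 4), (151, false, 3), (169, false, 5), (152, false, 4)], [(136, false, 3), (120, false, 2), (78, false, 1), (149, false, 6), (133, false, 5), (118, false, 4), (151, false, 7), (135, false, 6), (167, false, 7), (150, false, 6), (119, false, 5), (170, false, 6), (141, false, 5), (96, false, 4), (83, false, 3), (50, false, 2), (149, false, 6), (151, false, 7), (152, false, 8), (133, false, 7), (104, false, 6), (135, false, 6), (159, false, 6), (84, false, 5), (72, false, 4), (51, false, 3), (164, false, 8), (147, false, 7), (131, false, 6), (102, false, 5), (151, false, 7), (152, false, 8), (133, false, 7), (118, false, 6), (134, false, 8), (119, false, 7), (166, false, 9), (149, false, 8), (133, false, 7), (104, false, 6), (167, false, 8), (150, false, 7), (134, false, 6), (168, false, 9), (151, false, 8), (135, false, 7), (165, false, 8), (148, false, 7), (117, false, 6), (149, false, 8), (118, false, 7), (150, false, 9), (119, false, 8), (152, false, 8), (166, false, 8), (104, false, 7), (169, false, 7), (170,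 false, 8), (143, false, 7), (85, false, 6), (73, false, 5), (52, false, 4), (147, false, 7), (131, false, 6), (149, false, 8), (133, false, 7), (165, false, 10), (148, false, 9), (132, false, 8), (103, false, 7), (104, false, 8), (152, false, 10), (133, false, 9), (118, false, 8), (134, false, 10), (119, false, 9), (167, false, 11), (150, false, 10), (134, false, 9), (169, false, 12), (152, false, 11), (169, false, 11), (163, false, 12), (146, false, 11), (130, false, 10), (115, false, 9), (101, false, 8), (88, false, 7), (76, false, 6), (149, false, 11), (118, false, 10), (104, false, 9), (150, false, 10), (119, false, 9), (149, false, 9), (150, false, 10), (151, false, 11), (152, false, 12), (166, false, 13), (149, false, 12), (133, false, 11), (118, false, 10), (104, false, 9), (167, false, 12), (150, false, 11), (134, false, 10), (119, false, 9), (170, false, 11), (170, true, 8), (152, true, 8), (169, true, 9), (119, true, 8), (150, true, 9), (167, true, 10), (104, true, 8), (152, true, 9), (116, true, 7), (147, true, 8), (164, true, 9), (169, true, 8), (104, true, 7), (118, true, 8), (166, true, 9), (152, true, 9), (150, true, 8), (149, true, 7), (119, true, 7), (150, true, 8), (64, true, 5), (100, true,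 6), (114, true, 7), (162, true, 8), (186, false, 0), (192, false, 7), (194, false, 9), (195, false, 12), (151, false, 6), (135, false, 5), (152, false, 5), (116, false, 4), (89, false, 3), (149, false, 6), (104, false, 5), (162, false, 6), (145, false, 5), (87, false, 4), (75, false, 3), (54, false, 2), (148, false, 5), (117, false, 4), (103, false, 3), (149, false, 6), (118, false, 5), (104, false, 4), (150, false, 5), (119, false, 4), (152, false, 4), (118, false, 5), (104, false, 4), (119, false, 4), (164, false, 5), (147, false, 4), (89, false, 3), (77, false, 2), (149, false, 3), (150, false, 4), (152, false, 5), (165, false, 5), (117, false, 4), (103, false, 3), (90, false, 2), (149, false, 4), (118, false, 3), (104, false, 2), (150, false, 3), (119, false, 2), (149, false, 2), (150, false, 3), (152, false, 4), (167, false, 4), (119, false, 3), (168, false, 3)]),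
   ([7, 3, 1], [(31, false, 0), (137, false, 2), (29, false, 1), (7, false, 0), (160, false, 9), (112, false, 8), (98, false, 7), (52, false, 6), (43, false, 5), (35, false, 4), (99, false, 4), (150, false, 6), (119, false, 5), (152, false, 5), (162, false, 5), (168, false, 9), (151, false, 8), (169, false, 10), (152, false, 9), (166, false, 9), (133, false, 8), (118, false, 7), (104, false, 6), (167, false, 8), (134, false, 7), (119, false, 6), (166, false, 7), (133, false, 6), (167, false, 8), (134, false, 7), (169, false, 9), (170, false, 10), (144, false, 9), (128, false, 8), (113, false, 7), (99, false, 6), (53, false, 5), (44, false, 4), (145, false, 5), (100, false, 4), (149, false, 6), (118, false, 5), (150, false, 7), (119, false, 6), (150, false, 6), (152, false, 7), (167, false, 7), (119, false, 6), (169, false, 6), (167, false, 7), (150, false, 6), (168, false, 8), (151, false, 7), (166, false, 9), (149, false, 8), (133, false, 7), (118, false, 6), (104, false, 5), (167, false, 8), (150, false, 7), (134, false, 6), (119, false, 5), (164, false, 7), (147, false, 6), (131, false, 5), (149, false, 7), (133, false, 6), (150, false, 8), (134, false, 7), (152, false, 9), (166, false, 9), (133, false, 8),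 (118, false, 7), (104, false, 6), (168, false, 8), (135, false, 7), (170, false, 7), (119, false, 6)], [(7, false, 1), (29, false, 0), (155, false, 6), (122, false, 5), (93, false, 4), (68, false, 3), (38, false, 2), (30, false, 1), (161, false, 7), (144, false, 6), (128, false, 5), (86, false, 4), (44, false, 3), (148, false, 4), (103, false, 3), (149, false, 5), (104, false, 4), (151, false, 4), (168, false, 6), (151, false, 5), (135, false, 4), (166, false, 5), (149, false, 4), (167, false, 6), (150, false, 5), (166, false, 7), (149, false, 6), (118, false, 5), (104, false, 4), (167, false, 6), (150, false, 5), (119, false, 4), (169, false, 5), (152, false, 4), (170, false, 4), (87, false, 3), (150, false, 7), (119, false, 6), (151, false, 6), (152, false, 7), (131, false, 6), (102, false, 5), (89, false, 4), (151, false, 7), (150, false, 8), (134, false, 7), (119, false, 6), (151, false, 7), (135, false, 6), (149, false, 6), (152, false, 7), (168, false, 7), (169, false, 8), (170, false, 9), (139, false, 8), (123, false, 7), (94, false, 6), (81, false, 5), (69, false, 4), (48, false, 3), (24, false, 2), (162, false, 4), (166, false, 8), (149, false, 7), (118, false, 6), (104, false, 5), (167, false, 7), (150,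 false, 6), (119, false, 5), (170, false, 6), (147, false, 5), (152, false, 6), (149, false, 7), (151, false, 8), (152, false, 9), (125, false, 8), (96, false, 7), (83, false, 6), (71, false, 5), (50, false, 4), (26, false, 3), (145, false, 9), (87, false, 8), (75, false, 7), (54, false, 6), (148, false, 9), (117, false, 8), (103, false, 7), (149, false, 10), (118, false, 9), (104, false, 8), (150, false, 9), (119, false, 8), (152, false, 8), (116, false, 9), (102, false, 8), (89, false, 7), (77, false, 6), (149, false, 8), (118, false, 7), (152, false, 9), (118, false, 8), (104, false, 7), (164, false, 10), (147, false, 9), (131, false, 8), (116, false, 7), (89, false, 6), (151, false, 9), (152, false, 10), (133, false, 9), (104, false, 8), (134, false, 8), (165, false, 11), (148, false, 10), (132, false, 9), (117, false, 8), (90, false, 7), (150, false, 9), (119, false, 8), (149, false, 8), (104, false, 7), (150, false, 7), (151, false, 8), (152, false, 9), (149, false, 9), (133, false, 8), (118, false, 7), (150, false, 10), (134, false, 9), (119, false, 8), (152, false, 9), (169, false, 9), (166, false, 10), (149, false, 9), (133, false, 8), (104, false, 7), (168, false, 9), (151, false, 8), (135, false, 7),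 (169, false, 8), (152, false, 7), (167, false, 7), (170, false, 8), (112, false, 7), (73, false, 6), (43, false, 5), (35, false, 4), (99, false, 4), (150, false, 6), (119, false, 5), (152, false, 5), (164, false, 5), (166, false, 9), (149, false, 8), (118, false, 7), (104, false, 6), (170, false, 8), (150, false, 7), (119, false, 6), (144, false, 6), (74, false, 5), (44, false, 4), (147, false, 5), (102, false, 4), (152, false, 6), (119, false, 5), (166, false, 6), (133, false, 5), (167, false, 7), (134, false, 6), (162, false, 8), (129, false, 7), (114, false, 6), (100, false, 5), (75, false, 4), (150, false, 8), (119, false, 7), (152, false, 7), (118, false, 7), (104, false, 6), (119, false, 6), (149, false, 7), (133, false, 6), (150, false, 8), (134, false, 7), (152, false, 9), (166, false, 9), (133, false, 8), (118, false, 7), (104, false, 6), (167, false, 8), (134, false, 7), (119, false, 6), (170, false, 7)]),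
   ([19, 12, 15, 16, 2, 5, 7, 8, 9, 11, 14, 16, 17], [(195, false, 0), (188, false, 5), (120, false, 4), (105, false, 3), (78, false, 2), (66, false, 1), (45, false, 0), (75, false, 2), (54, false, 1), (148, false, 4), (117, false, 3), (103, false, 2), (150, false, 5), (119, false, 4), (151, false, 4), (152, false, 5), (133, false, 4), (104, false, 3), (149, false, 4), (133, false, 3), (151, false, 5), (135, false, 4), (155, false, 5), (138, false, 4), (93, false, 3), (80, false, 2), (68, false, 1), (77, false, 2), (167, false, 6), (150, false, 5), (134, false, 4), (119, false, 3), (168, false, 5), (151, false, 4), (135, false, 3), (167, false, 4), (150, false, 3), (168, false, 5), (151, false, 4), (169, false, 6), (152, false, 5), (170, false, 5), (135, false, 4), (158, false, 5), (141, false, 4), (110, false, 3), (83, false, 2), (149, false, 5), (150, false, 6), (166, false, 8), (149, false, 7), (118, false, 6), (104, false, 5), (168, false, 7), (151, false, 6), (170, false, 8), (151, false, 7), (135, false, 6), (152, false, 6), (160, false, 6), (112, false, 5), (85, false, 4), (73, false, 3), (165, false, 6), (103, false, 5), (104, false, 6), (167, false, 8), (150, false, 7), (119, false, 6), (169, false,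 7), (152, false, 6), (167, false, 6), (166, false, 7), (118, false, 6), (167, false, 8), (119, false, 7), (169, false, 7), (170, false, 8), (144, false, 7), (99, false, 6), (86, false, 5), (74, false, 4), (165, false, 8), (132, false, 7), (117, false, 6), (118, false, 7), (119, false, 8), (149, false, 9), (133, false, 8), (104, false, 7), (150, false, 8), (134, false, 7), (152, false, 9), (166, false, 9), (133, false, 8), (118, false, 7), (168, false, 10), (135, false, 9), (170, false, 9), (119, false, 8), (149, false, 8), (104, false, 7), (150, false, 7), (146, false, 8), (115, false, 7), (88, false, 6), (76, false, 5), (150, false, 10), (119, false, 9), (152, false, 9)], [(138, false, 3), (122, false, 2), (80, false, 1), (166, false, 7), (149, false, 6), (133, false, 5), (118, false, 4), (169, false, 8), (152, false, 7), (170, false, 7), (134, false, 6), (119, false, 5), (135, false, 5), (158, false, 6), (141, false, 5), (96, false, 4), (83, false, 3), (71, false, 2), (164, false, 7), (147, false, 6), (131, false, 5), (102, false, 4), (77, false, 3), (151, false, 4), (152, false, 5), (133, false, 4), (118, false, 3), (134, false, 5), (119, false, 4), (165, false, 6), (148, false, 5), (132, false, 4), (103,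 false, 3), (104, false, 4), (152, false, 6), (133, false, 5), (118, false, 4), (134, false, 6), (119, false, 5), (169, false, 7), (152, false, 6), (166, false, 6), (133, false, 5), (104, false, 4), (168, false, 5), (135, false, 4), (169, false, 4), (166, false, 5), (149, false, 4), (168, false, 6), (151, false, 5), (170, false, 7), (151, false, 6), (135, false, 5), (152, false, 5), (160, false, 5), (98, false, 4), (85, false, 3), (149, false, 6), (118, false, 5), (149, false, 7), (118, false, 6), (104, false, 5), (150, false, 6), (119, false, 5), (152, false, 5), (161, false, 5), (86, false, 4), (166, false, 8), (133, false, 7), (104, false, 6), (167, false, 7), (134, false, 6), (169, false, 8), (170, false, 9), (145, false, 8), (129, false, 7), (114, false, 6), (87, false, 5), (150, false, 9), (119, false, 8), (149, false, 8), (104, false, 7), (150, false, 7), (151, false, 8), (152, false, 9), (133, false, 8), (118, false, 7), (134, false, 9), (119, false, 8), (131, false, 8), (102, false, 7), (89, false, 6), (151, false, 9), (150, false, 10), (134, false, 9), (119, false, 8), (152, false, 9), (152, true, 9), (170, true, 10), (169, true, 9), (119, true, 8), (134, true, 9), (167, true, 10), (152, true, 10), (169,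 true, 11), (134, true, 8), (150, true, 9), (167, true, 10), (104, true, 8), (133, true, 9), (149, true, 10), (166, true, 11), (169, true, 10), (168, true, 9), (152, true, 9), (119, true, 9), (150, true, 10), (118, true, 8), (149, true, 9), (117, true, 7), (148, true, 8), (165, true, 9), (188, false, 0), (195, false, 7), (196, false, 12), (197, false, 15), (199, false, 17), (129, false, 6), (64, false, 5), (147, false, 10), (131, false, 9), (116, false, 8), (102, false, 7), (149, false, 9), (118, false, 8), (152, false, 10), (148, false, 11), (132, false, 10), (117, false, 9), (103, false, 8), (118, false, 10), (104, false, 9), (119, false, 9), (152, false, 10), (134, false, 9), (135, false, 10), (118, false, 9), (119, false, 10), (149, false, 10), (104, false, 9), (162, false, 10), (145, false, 9), (87, false, 8), (75, false, 7), (64, false, 6), (54, false, 5), (148, false, 9), (117, false, 8), (103, false, 7), (149, false, 10), (118, false, 9), (104, false, 8), (150, false, 9), (119, false, 8), (152, false, 8), (118, false, 9), (104, false, 8), (119, false, 8), (166, false, 9), (149, false, 8), (168, false, 10), (151, false, 9), (169, false, 11), (152, false, 10), (170, false, 10)]),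
   ([20, 12, 15, 16, 1, 5, 6, 13], [(209, false, 0), (202, false, 6), (155, false, 5), (107, false, 4), (93, false, 3), (80, false, 2), (57, false, 1), (47, false, 0), (162, false, 5), (145, false, 4), (129, false, 3), (100, false, 2), (54, false, 1), (149, false, 2), (118, false, 1), (150, false, 3), (119, false, 2), (151, false, 2), (152, false, 3), (133, false, 2), (104, false, 1), (134, false, 1), (133, false, 2), (118, false, 1), (134, false, 3), (119, false, 2), (163, false, 4), (146, false, 3), (130, false, 2), (101, false, 1), (104, false, 2), (152, false, 4), (167, false, 4), (134, false, 3), (119, false, 2), (168, false, 3), (135, false, 2), (164, false, 2), (165, false, 6), (148, false, 5), (117, false, 4), (103, false, 3), (149, false, 6), (118, false, 5), (104, false, 4), (150, false, 5), (119, false, 4), (152, false, 4), (167, false, 4), (168, false, 5), (169, false, 6), (170, false, 7), (150, false, 6), (134, false, 5), (119, false, 4), (151, false, 5), (135, false, 4), (149, false, 4), (150, false, 5), (168, false, 7), (151, false, 6), (169, false, 8), (152, false, 7), (170, false, 7), (124, false, 6), (109, false, 5), (95, false, 4), (82, false, 3), (70, false, 2), (59, false, 1), (116, false,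 5), (102, false, 4), (77, false, 3), (149, false, 4), (118, false, 3), (152, false, 5), (118, false, 4), (104, false, 3), (162, false, 4), (114, false, 3), (64, false, 2), (118, false, 4), (119, false, 5), (164, false, 6), (147, false, 5), (102, false, 4), (152, false, 6), (118, false, 5), (119, false, 6), (165, false, 7), (148, false, 6), (103, false, 5), (149, false, 7), (104, false, 6), (150, false, 6), (152, false, 7), (166, false, 7), (118, false, 6), (169, false, 8), (170, false, 9), (151, false, 8), (152, false, 9), (166, false, 9), (133, false, 8), (118, false, 7), (104, false, 6), (168, false, 8), (135, false, 7), (166, false, 7), (118, false, 6), (168, false, 8), (170, false, 9), (125, false, 8), (110, false, 7), (96, false, 6), (83, false, 5), (71, false, 4), (60, false, 3), (50, false, 2), (54, false, 3), (164, false, 5), (102, false, 4), (149, false, 6), (118, false, 5), (150, false, 7), (119, false, 6), (152, false, 6), (166, false, 6), (104, false, 5), (168, false, 5), (169, false, 6), (170, false, 7), (147, false, 6), (131, false, 5), (77, false, 4), (148, false, 5), (132, false, 4), (152, false, 8), (149, false, 8), (133, false, 7), (118, false, 6), (104, false, 5), (151, false, 7), (135, false,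 6), (152, false, 6), (118, false, 5), (119, false, 6), (167, false, 6), (170, false, 7), (118, false, 6), (104, false, 5), (119, false, 5)], [(137, false, 3), (121, false, 2), (79, false, 1), (149, false, 9), (133, false, 8), (118, false, 7), (104, false, 6), (150, false, 8), (134, false, 7), (119, false, 6), (152, false, 7), (167, false, 7), (134, false, 6), (168, false, 8), (135, false, 7), (158, false, 7), (110, false, 6), (83, false, 5), (71, false, 4), (60, false, 3), (50, false, 2), (54, false, 3), (164, false, 5), (102, false, 4), (149, false, 6), (118, false, 5), (150, false, 7), (119, false, 6), (152, false, 6), (166, false, 6), (104, false, 5), (168, false, 5), (169, false, 6), (170, false, 7), (147, false, 6), (131, false, 5), (77, false, 4), (148, false, 5), (132, false, 4), (152, false, 8), (149, false, 8), (133, false, 7), (118, false, 6), (104, false, 5), (150, false, 7), (134, false, 6), (119, false, 5), (168, false, 7), (151, false, 6), (135, false, 5), (169, false, 6), (152, false, 5), (170, false, 5), (84, false, 4), (61, false, 3), (103, false, 5), (104, false, 6), (149, false, 6), (170, true, 8), (169, true, 7), (119, true, 7), (167, true, 8), (118, true, 6), (166, true, 7), (152, true, 7),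 (169, true, 8), (135, true, 7), (151, true, 8), (168, true, 9), (134, true, 6), (104, true, 6), (133, true, 7), (152, true, 8), (119, true, 7), (118, true, 6), (117, true, 5), (132, true, 6), (148, true, 7), (165, true, 8), (104, true, 5), (101, true, 4), (202, false, 0), (207, false, 7), (209, false, 13), (210, false, 19), (214, false, 22), (165, false, 6), (132, false, 5), (117, false, 4), (103, false, 3), (118, false, 5), (104, false, 4), (119, false, 4), (149, false, 5), (133, false, 4), (150, false, 6), (134, false, 5), (152, false, 7), (166, false, 7), (133, false, 6), (118, false, 5), (104, false, 4), (167, false, 6), (134, false, 5), (119, false, 4), (168, false, 5), (135, false, 4), (169, false, 4), (170, false, 5), (145, false, 4), (87, false, 3), (149, false, 7), (118, false, 6), (104, false, 5), (150, false, 6), (119, false, 5), (146, false, 5), (88, false, 4), (152, false, 8), (117, false, 7), (103, false, 6), (90, false, 5), (149, false, 7), (118, false, 6), (104, false, 5), (150, false, 6), (119, false, 5), (149, false, 5), (150, false, 6), (166, false, 8), (149, false, 7), (118, false, 6), (104, false, 5), (167, false, 7), (150, false, 6), (119, false, 5), (169, false, 6), (152, false, 5), (162,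 false, 5), (64, false, 4), (54, false, 3), (165, false, 7), (148, false, 6), (117, false, 5), (103, false, 4), (149, false, 7), (118, false, 6), (104, false, 5), (150, false, 6), (119, false, 5), (152, false, 5), (168, false, 5)]),
   ([2, 1, 1], [(4, false, 0), (154, false, 9), (137, false, 8), (121, false, 7), (79, false, 6), (67, false, 5), (46, false, 4), (29, false, 3), (22, false, 2), (4, false, 1), (2, false, 0), (122, false, 3), (93, false, 2), (68, false, 1), (38, false, 0), (147, false, 5), (131, false, 4), (116, false, 3), (151, false, 5), (152, false, 6), (134, false, 5), (135, false, 6), (118, false, 5), (104, false, 4), (159, false, 6), (142, false, 5), (111, false, 4), (72, false, 3), (51, false, 2), (42, false, 1), (145, false, 3), (118, false, 5), (104, false, 4), (164, false, 7), (147, false, 6), (131, false, 5), (116, false, 4), (151, false, 6), (152, false, 7), (133, false, 6), (104, false, 5), (134, false, 5), (166, false, 8), (149, false, 7), (133, false, 6), (118, false, 5), (167, false, 9), (150, false, 8), (134, false, 7), (119, false, 6), (168, false, 8), (151, false, 7), (135, false, 6), (166, false, 7), (149, false, 6), (104, false, 5), (169, false, 6), (152, false, 5), (166, false,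 5), (167, false, 6), (170, false, 7), (112, false, 6), (98, false, 5), (73, false, 4), (52, false, 3), (43, false, 2), (162, false, 6), (145, false, 5), (114, false, 4), (118, false, 5), (119, false, 6), (104, false, 5), (168, false, 7), (151, false, 6), (169, false, 8), (152, false, 7), (164, false, 7), (131, false, 6), (116, false, 5), (151, false, 7), (149, false, 8), (133, false, 7), (104, false, 6), (150, false, 7), (134, false, 6), (152, false, 8), (166, false, 8), (133, false, 7), (118, false, 6), (170, false, 9), (133, false, 8), (118, false, 7), (104, false, 6), (134, false, 7), (119, false, 6), (129, false, 6), (75, false, 5), (54, false, 4), (149, false, 7), (118, false, 6), (104, false, 5), (150, false, 6), (119, false, 5), (151, false, 5), (152, false, 6), (131, false, 5), (77, false, 4), (132, false, 4), (151, false, 8), (135, false, 7), (152, false, 7), (159, false, 7), (111, false, 6), (97, false, 5), (84, false, 4), (42, false, 3), (34, false, 2), (27, false, 1), (160, false, 1), (166, false, 5), (149, false, 4), (118, false, 3), (104, false, 2), (167, false, 4), (150, false, 3), (119, false, 2), (168, false, 3), (151, false, 2), (170, false, 4), (144, false, 3), (128, false, 2), (133, false,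 3), (134, false, 4), (148, false, 6), (132, false, 5), (117, false, 4), (103, false, 3), (118, false, 5), (104, false, 4), (119, false, 4), (152, false, 5), (133, false, 4), (149, false, 6), (133, false, 5), (104, false, 4), (149, false, 5), (133, false, 4), (152, false, 6), (161, false, 6), (128, false, 5), (99, false, 4), (86, false, 3), (44, false, 2), (148, false, 3), (103, false, 2), (149, false, 4), (104, false, 3), (151, false, 3), (167, false, 5), (150, false, 4), (134, false, 3), (169, false, 6), (152, false, 5), (168, false, 5), (135, false, 4), (166, false, 4), (118, false, 3), (167, false, 5), (119, false, 4), (169, false, 4), (170, false, 5), (145, false, 4), (100, false, 3), (87, false, 2), (150, false, 6), (119, false, 5), (152, false, 5), (104, false, 4), (115, false, 4), (88, false, 3), (150, false, 7), (119, false, 6), (149, false, 6), (104, false, 5), (150, false, 5), (143, false, 6), (112, false, 5), (85, false, 4), (62, false, 3), (52, false, 2), (35, false, 1), (100, false, 1), (151, false, 3), (152, false, 4), (130, false, 3), (115, false, 2), (118, false, 3), (119, false, 4), (152, false, 5), (132, false, 4), (103, false, 3), (104, false, 4), (150, false, 6), (134, false, 5), (119, false,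 4), (152, false, 5), (134, false, 4), (144, false, 6), (128, false, 5), (113, false, 4), (86, false, 3), (63, false, 2), (53, false, 1), (163, false, 5), (146, false, 4), (115, false, 3), (166, false, 6), (149, false, 5), (118, false, 4), (167, false, 7), (150, false, 6), (119, false, 5), (170, false, 6), (148, false, 5), (103, false, 4), (149, false, 6), (104, false, 5), (151, false, 5), (167, false, 7), (150, false, 6), (134, false, 5), (168, false, 8), (151, false, 7), (135, false, 6), (166, false, 7), (149, false, 6), (118, false, 5), (167, false, 8), (150, false, 7), (119, false, 6), (164, false, 7), (147, false, 6), (102, false, 5), (89, false, 4), (152, false, 7), (118, false, 6), (119, false, 7), (166, false, 8), (149, false, 7), (104, false, 6), (168, false, 7), (151, false, 6), (170, false, 8), (145, false, 7), (129, false, 6), (87, false, 5), (75, false, 4), (64, false, 3), (54, false, 2), (148, false, 6), (117, false, 5), (103, false, 4), (149, false, 7), (118, false, 6), (104, false, 5), (150, false, 6), (119, false, 5), (152, false, 5), (149, false, 8), (133, false, 7), (118, false, 6), (104, false, 5), (150, false, 7), (134, false, 6), (119, false, 5), (151, false, 6), (135, false, 5), (152, false,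 5), (87, false, 4), (75, false, 3), (64, false, 2), (148, false, 7), (117, false, 6), (103, false, 5), (149, false, 8), (118, false, 7), (104, false, 6), (150, false, 7), (119, false, 6), (152, false, 6), (89, false, 5), (77, false, 4), (162, false, 7), (114, false, 6), (100, false, 5), (87, false, 4), (64, false, 3), (54, false, 2), (150, false, 6), (119, false, 5), (152, false, 5), (118, false, 5), (104, false, 4), (119, false, 4), (163, false, 5), (146, false, 4), (88, false, 3), (65, false, 2), (152, false, 5), (164, false, 5), (116, false, 4), (102, false, 3), (89, false, 2), (149, false, 5), (118, false, 4), (152, false, 6), (118, false, 5), (104, false, 4), (119, false, 4), (165, false, 5), (148, false, 4), (90, false, 3), (152, false, 5), (118, false, 4), (104, false, 3), (119, false, 3), (166, false, 4), (149, false, 3), (167, false, 5), (150, false, 4), (168, false, 6), (151, false, 5), (169, false, 7), (152, false, 6), (166, false, 6), (133, false, 5), (118, false, 4), (104, false, 3), (167, false, 5), (134, false, 4), (119, false, 3), (169, false, 4), (170, false, 5), (150, false, 4), (134, false, 3), (151, false, 5), (135, false, 4), (149, false, 4), (118, false, 3), (150, false, 5), (119, false,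 4), (151, false, 4), (152, false, 5)], [(2, false, 1)])]

def p2Eqs_16 : List (List ℕ × List Step × List Step) :=
  [([19, 12, 15, 16, 5, 15], [(195, false, 0), (189, false, 5), (121, false, 4), (106, false, 3), (79, false, 2), (67, false, 1), (46, false, 0), (145, false, 3), (129, false, 2), (54, false, 1), (149, false, 4), (133, false, 3), (118, false, 2), (104, false, 1), (150, false, 3), (134, false, 2), (119, false, 1), (147, false, 2), (131, false, 1), (149, false, 3), (133, false, 2), (150, false, 4), (134, false, 3), (162, false, 6), (145, false, 5), (129, false, 4), (114, false, 3), (100, false, 2), (75, false, 1), (150, false, 5), (119, false, 4), (152, false, 4), (118, false, 4), (104, false, 3), (119, false, 3), (149, false, 4), (133, false, 3), (150, false, 5), (134, false, 4), (149, false, 6), (133, false, 5), (118, false, 4), (104, false, 3), (150, false, 5), (134, false, 4), (119, false, 3), (152, false, 4), (163, false, 4), (130, false, 3), (76, false, 2), (164, false, 8), (147, false, 7), (131, false, 6), (116, false, 5), (102, false, 4), (77, false, 3), (149, false, 4), (118, false, 3), (152, false, 5), (149, false, 6), (133, false, 5), (118, false, 4), (104, false, 3), (150, false, 5), (134,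 false, 4), (119, false, 3), (152, false, 4), (165, false, 4), (132, false, 3), (149, false, 7), (133, false, 6), (118, false, 5), (104, false, 4), (150, false, 6), (134, false, 5), (119, false, 4), (152, false, 5), (166, false, 5), (133, false, 4), (167, false, 6), (134, false, 5), (168, false, 7), (135, false, 6), (169, false, 6), (169, false, 7), (152, false, 6), (170, false, 6), (118, false, 5), (104, false, 4), (119, false, 4), (155, false, 5), (138, false, 4), (80, false, 3), (57, false, 2), (47, false, 1), (162, false, 6), (145, false, 5), (129, false, 4), (100, false, 3), (54, false, 2), (149, false, 3), (118, false, 2), (150, false, 4), (119, false, 3), (151, false, 3), (152, false, 4), (133, false, 3), (104, false, 2), (134, false, 2), (133, false, 3), (118, false, 2), (134, false, 4), (119, false, 3), (163, false, 5), (146, false, 4), (130, false, 3), (101, false, 2), (104, false, 3), (152, false, 5), (167, false, 5), (134, false, 4), (119, false, 3), (168, false, 4), (135, false, 3), (164, false, 3), (165, false, 7), (148, false, 6), (117, false, 5), (103, false, 4), (149, false, 7), (118, false, 6), (104, false, 5), (150, false, 6), (119, false, 5), (152, false, 5), (167, false, 5), (168, false, 6),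 (169, false, 7), (170, false, 8), (150, false, 7), (134, false, 6), (119, false, 5), (151, false, 6), (135, false, 5), (152, false, 5), (168, false, 5), (169, false, 6), (170, false, 7), (141, false, 6), (125, false, 5), (83, false, 4), (71, false, 3), (60, false, 2), (164, false, 6), (102, false, 5), (149, false, 7), (118, false, 6), (150, false, 8), (119, false, 7), (152, false, 7), (166, false, 7), (104, false, 6), (168, false, 6), (169, false, 7), (170, false, 8), (147, false, 7), (131, false, 6), (77, false, 5), (148, false, 6), (132, false, 5), (152, false, 9), (150, false, 9), (134, false, 8), (119, false, 7), (166, false, 9), (149, false, 8), (133, false, 7), (104, false, 6), (168, false, 8), (151, false, 7), (135, false, 6), (170, false, 7), (144, false, 6), (86, false, 5), (63, false, 4), (53, false, 3), (163, false, 7), (146, false, 6), (115, false, 5), (166, false, 8), (149, false, 7), (118, false, 6), (167, false, 9), (150, false, 8), (119, false, 7), (170, false, 8), (148, false, 7), (103, false, 6), (149, false, 8), (104, false, 7), (151, false, 7), (166, false, 9), (149, false, 8), (133, false, 7), (167, false, 10), (150, false, 9), (134, false, 8), (162, false, 11), (145, false, 10), (129, false,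 9), (114, false, 8), (100, false, 7), (87, false, 6), (64, false, 5), (54, false, 4), (150, false, 8), (119, false, 7), (152, false, 7), (118, false, 7), (104, false, 6), (119, false, 6), (149, false, 7), (133, false, 6), (150, false, 8), (134, false, 7), (149, false, 9), (133, false, 8), (118, false, 7), (104, false, 6), (150, false, 8), (134, false, 7), (119, false, 6), (152, false, 7), (166, false, 7), (133, false, 6)], [(141, false, 3), (125, false, 2), (83, false, 1), (150, false, 4), (166, false, 6), (149, false, 5), (118, false, 4), (168, false, 7), (151, false, 6), (170, false, 8), (151, false, 7), (135, false, 6), (170, true, 7), (170, true, 6), (152, true, 6), (169, true, 7), (150, true, 5), (167, true, 6), (169, true, 5), (119, true, 5), (167, true, 6), (118, true, 4), (166, true, 5), (152, true, 5), (169, true, 6), (135, true, 5), (151, true, 6), (168, true, 7), (134, true, 4), (104, true, 4), (133, true, 5), (152, true, 6), (119, true, 5), (118, true, 4), (117, true, 3), (132, true, 4), (148, true, 5), (165, true, 6), (134, true, 3), (131, true, 2), (189, false, 0), (194, false, 6), (195, false, 9), (196, false, 14), (197, false, 17), (199, false, 19), (200, false, 24), (102, false, 5), (149, false,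 7), (118, false, 6), (162, false, 9), (145, false, 8), (114, false, 7), (100, false, 6), (75, false, 5), (54, false, 4), (150, false, 7), (119, false, 6), (152, false, 6), (118, false, 6), (104, false, 5), (119, false, 5), (164, false, 8), (147, false, 7), (116, false, 6), (102, false, 5), (77, false, 4), (149, false, 5), (118, false, 4), (152, false, 6), (149, false, 6), (118, false, 5), (104, false, 4), (150, false, 5), (119, false, 4), (152, false, 4), (165, false, 4), (167, false, 8), (150, false, 7), (119, false, 6), (168, false, 7), (151, false, 6), (166, false, 8), (149, false, 7), (133, false, 6), (104, false, 5), (167, false, 7), (150, false, 6), (134, false, 5), (169, false, 8), (152, false, 7), (166, false, 7), (133, false, 6), (118, false, 5), (170, false, 8), (129, false, 7), (114, false, 6), (100, false, 5), (87, false, 4), (150, false, 8), (119, false, 7), (152, false, 7), (118, false, 7), (104, false, 6), (119, false, 6), (149, false, 7), (133, false, 6), (151, false, 8), (135, false, 7), (152, false, 7), (162, false, 7), (100, false, 6), (87, false, 5), (54, false, 4), (150, false, 7), (119, false, 6), (152, false, 6), (104, false, 5), (163, false, 7), (146, false, 6), (115, false, 5), (88, false,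 4), (150, false, 8), (119, false, 7), (152, false, 7), (168, false, 7)]),
   ([1, 1, 0], [(2, false, 0), (120, false, 3), (91, false, 2), (66, false, 1), (36, false, 0), (131, false, 3), (102, false, 2), (151, false, 4), (166, false, 6), (149, false, 5), (133, false, 4), (118, false, 3), (168, false, 7), (151, false, 6), (135, false, 5), (170, false, 6)], [(1, false, 1), (1, false, 0), (137, false, 9), (92, false, 8), (79, false, 7), (67, false, 6), (46, false, 5), (37, false, 4), (29, false, 3), (22, false, 2), (2, false, 1), (126, false, 4), (97, false, 3), (72, false, 2), (42, false, 1), (147, false, 3), (149, false, 4), (150, false, 5), (151, false, 6), (149, false, 7), (133, false, 6), (118, false, 5), (104, false, 4), (151, false, 6), (135, false, 5), (144, false, 5), (113, false, 4), (74, false, 3), (44, false, 2), (147, false, 3), (102, false, 2), (152, false, 4), (119, false, 3), (167, false, 4), (134, false, 3), (166, false, 5), (133, false, 4), (118, false, 3), (167, false, 6), (134, false, 5), (119, false, 4), (162, false, 5), (129, false, 4), (100, false, 3), (75, false, 2), (150, false, 6), (119, false, 5), (152, false, 5), (104, false, 4), (149, false, 6), (133, false, 5), (118, false, 4), (150,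 false, 7), (134, false, 6), (119, false, 5), (152, false, 6), (163, false, 6), (130, false, 5), (101, false, 4), (76, false, 3), (104, false, 5), (166, false, 8), (149, false, 7), (133, false, 6), (118, false, 5), (167, false, 9), (150, false, 8), (134, false, 7), (119, false, 6), (160, false, 8), (143, false, 7), (127, false, 6), (98, false, 5), (73, false, 4), (62, false, 3), (52, false, 2), (146, false, 5), (130, false, 4), (152, false, 8), (147, false, 8), (131, false, 7), (116, false, 6), (102, false, 5), (149, false, 7), (118, false, 6), (152, false, 8), (149, false, 9), (133, false, 8), (118, false, 7), (104, false, 6), (166, false, 9), (149, false, 8), (133, false, 7), (118, false, 6), (166, false, 10), (149, false, 9), (133, false, 8), (118, false, 7), (104, false, 6), (167, false, 9), (150, false, 8), (134, false, 7), (119, false, 6), (168, false, 8), (151, false, 7), (135, false, 6), (169, false, 7), (152, false, 6), (169, false, 6), (166, false, 7), (149, false, 6), (167, false, 8), (150, false, 7), (169, false, 9), (152, false, 8), (170, false, 8), (113, false, 7), (99, false, 6), (74, false, 5), (63, false, 4), (53, false, 3), (163, false, 7), (146, false, 6), (115, false, 5), (166, false, 8), (149,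 false, 7), (118, false, 6), (167, false, 9), (150, false, 8), (119, false, 7), (170, false, 8), (147, false, 7), (102, false, 6), (152, false, 8), (119, false, 7), (167, false, 8), (134, false, 7), (169, false, 9), (167, false, 10), (150, false, 9), (134, false, 8), (119, false, 7), (164, false, 9), (147, false, 8), (131, false, 7), (77, false, 6), (149, false, 7), (133, false, 6), (150, false, 8), (134, false, 7), (152, false, 9), (166, false, 9), (133, false, 8), (118, false, 7), (104, false, 6), (168, false, 8), (135, false, 7), (170, false, 7), (113, false, 6), (63, false, 5), (53, false, 4), (44, false, 3), (145, false, 4), (100, false, 3), (149, false, 5), (118, false, 4), (150, false, 6), (119, false, 5), (150, false, 5), (152, false, 6), (163, false, 6), (115, false, 5), (101, false, 4), (166, false, 7), (118, false, 6), (104, false, 5), (167, false, 6), (119, false, 5), (170, false, 5), (114, false, 5), (64, false, 4), (54, false, 3), (118, false, 4), (119, false, 5), (162, false, 5), (100, false, 4), (64, false, 3), (149, false, 6), (118, false, 5), (150, false, 7), (119, false, 6), (152, false, 6), (168, false, 6), (169, false, 7), (162, false, 8), (145, false, 7), (129, false, 6), (100, false, 5),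 (64, false, 4), (54, false, 3), (149, false, 5), (118, false, 4), (150, false, 6), (119, false, 5), (151, false, 5), (152, false, 6), (133, false, 5), (104, false, 4), (134, false, 4), (133, false, 5), (118, false, 4), (134, false, 6), (119, false, 5), (164, false, 7), (147, false, 6), (131, false, 5), (102, false, 4), (151, false, 6), (152, false, 7), (133, false, 6), (118, false, 5), (134, false, 7), (119, false, 6), (166, false, 8), (149, false, 7), (133, false, 6), (104, false, 5), (167, false, 7), (150, false, 6), (134, false, 5), (170, false, 8), (145, false, 7), (129, false, 6), (114, false, 5), (75, false, 4), (64, false, 3), (150, false, 8), (119, false, 7), (149, false, 7), (104, false, 6), (150, false, 6), (151, false, 7), (152, false, 8), (133, false, 7), (118, false, 6), (134, false, 8), (119, false, 7), (130, false, 7), (101, false, 6), (76, false, 5), (65, false, 4), (104, false, 5), (147, false, 7), (131, false, 6), (116, false, 5), (77, false, 4), (151, false, 5), (152, false, 6), (132, false, 5), (103, false, 4), (104, false, 5), (149, false, 7), (133, false, 6), (118, false, 5), (150, false, 8), (134, false, 7), (119, false, 6), (151, false, 7), (135, false, 6), (152, false, 6), (104, false,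 5), (167, false, 6), (134, false, 5), (168, false, 7), (135, false, 6), (159, false, 6), (111, false, 5), (84, false, 4), (51, false, 3), (34, false, 2), (27, false, 1), (160, false, 1), (166, false, 5), (149, false, 4), (118, false, 3), (104, false, 2), (167, false, 4), (150, false, 3), (119, false, 2), (168, false, 3), (151, false, 2), (170, false, 4), (145, false, 3), (129, false, 2), (149, false, 6), (133, false, 5), (118, false, 4), (104, false, 3), (150, false, 5), (134, false, 4), (119, false, 3), (149, false, 4), (133, false, 3), (151, false, 5), (135, false, 4), (152, false, 4), (165, false, 4), (103, false, 3), (104, false, 4), (166, false, 6), (149, false, 5), (118, false, 4), (169, false, 7), (152, false, 6), (166, false, 6), (118, false, 5), (104, false, 4), (169, false, 5), (170, false, 6), (143, false, 5), (112, false, 4), (85, false, 3), (52, false, 2), (35, false, 1), (100, false, 1), (151, false, 3), (152, false, 4), (132, false, 3), (117, false, 2), (118, false, 3), (119, false, 4), (150, false, 5), (134, false, 4), (152, false, 6), (134, false, 5), (119, false, 4), (144, false, 5), (128, false, 4), (99, false, 3), (86, false, 2), (53, false, 1), (165, false, 5), (148, false, 4), (117, false,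 3), (149, false, 5), (118, false, 4), (150, false, 6), (119, false, 5), (152, false, 5), (166, false, 5), (104, false, 4), (168, false, 4), (170, false, 5), (134, false, 4), (151, false, 6), (135, false, 5), (149, false, 5), (118, false, 4), (150, false, 6), (119, false, 5), (145, false, 5), (100, false, 4), (87, false, 3), (54, false, 2), (150, false, 5), (119, false, 4), (152, false, 4), (104, false, 3), (116, false, 3), (89, false, 2), (148, false, 5), (103, false, 4), (90, false, 3), (149, false, 5), (118, false, 4), (104, false, 3), (152, false, 4), (118, false, 3)]),
   ([18, 10, 13, 14, 15, 16, 17, 0, 1, 2, 3, 5, 6, 9, 10, 11, 14, 16], [(178, false, 0), (171, false, 5), (153, false, 4), (105, false, 3), (78, false, 2), (66, false, 1), (55, false, 0), (164, false, 4), (147, false, 3), (116, false, 2), (152, false, 4), (104, false, 3), (162, false, 5), (145, false, 4), (114, false, 3), (75, false, 2), (64, false, 1), (150, false, 6), (119, false, 5), (149, false, 5), (104, false, 4), (150, false, 4), (149, false, 5), (118, false, 4), (150, false, 6), (119, false, 5), (152, false, 5), (165, false, 5), (103, false, 4), (104, false, 5), (167, false, 7), (150, false, 6), (119, false, 5), (168, false, 6), (151,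 false, 5), (169, false, 7), (152, false, 6), (166, false, 6), (133, false, 5), (169, false, 7), (166, false, 8), (149, false, 7), (133, false, 6), (104, false, 5), (154, false, 7), (137, false, 6), (121, false, 5), (79, false, 4), (67, false, 3), (56, false, 2), (46, false, 1), (145, false, 4), (129, false, 3), (54, false, 2), (149, false, 5), (133, false, 4), (118, false, 3), (104, false, 2), (150, false, 4), (134, false, 3), (119, false, 2), (146, false, 3), (130, false, 2), (152, false, 6), (133, false, 5), (118, false, 4), (104, false, 3), (135, false, 4), (162, false, 4), (114, false, 3), (64, false, 2), (118, false, 4), (119, false, 5), (164, false, 6), (147, false, 5), (102, false, 4), (152, false, 6), (118, false, 5), (119, false, 6), (166, false, 7), (149, false, 6), (104, false, 5), (167, false, 6), (150, false, 5), (170, false, 7), (145, false, 6), (114, false, 5), (75, false, 4), (64, false, 3), (54, false, 2), (150, false, 6), (119, false, 5), (149, false, 5), (104, false, 4), (150, false, 4), (146, false, 5), (115, false, 4), (76, false, 3), (65, false, 2), (147, false, 4), (116, false, 3), (77, false, 2), (152, false, 3), (103, false, 2), (104, false, 3), (149, false, 5), (133, false, 4), (118,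 false, 3), (150, false, 6), (134, false, 5), (119, false, 4), (152, false, 5), (167, false, 5), (134, false, 4), (168, false, 6), (135, false, 5), (166, false, 5), (118, false, 4), (104, false, 3), (167, false, 4), (119, false, 3), (168, false, 3), (169, false, 4), (158, false, 5), (141, false, 4), (125, false, 3), (83, false, 2), (150, false, 5), (166, false, 7), (149, false, 6), (118, false, 5), (168, false, 8), (151, false, 7), (170, false, 9), (151, false, 8), (135, false, 7), (152, false, 7), (159, false, 7), (111, false, 6), (97, false, 5), (84, false, 4), (72, false, 3), (132, false, 7), (117, false, 6), (103, false, 5), (118, false, 7), (104, false, 6), (119, false, 6), (149, false, 7), (133, false, 6), (152, false, 8), (133, false, 7), (104, false, 6), (133, false, 6), (161, false, 9), (144, false, 8), (128, false, 7), (99, false, 6), (86, false, 5), (74, false, 4), (165, false, 8), (132, false, 7), (117, false, 6), (118, false, 7), (119, false, 8), (149, false, 9), (133, false, 8), (104, false, 7), (150, false, 8), (134, false, 7), (152, false, 9), (166, false, 9), (133, false, 8), (118, false, 7), (168, false, 10), (135, false, 9), (170, false, 9), (119, false, 8), (151, false, 8), (149, false, 9),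 (133, false, 8), (104, false, 7), (150, false, 8), (134, false, 7), (149, false, 9), (133, false, 8), (118, false, 7), (150, false, 10), (134, false, 9), (119, false, 8), (152, false, 9), (166, false, 9), (133, false, 8), (104, false, 7), (167, false, 8), (134, false, 7), (169, false, 9), (170, false, 10)], [(153, false, 6), (136, false, 5), (120, false, 4), (105, false, 3), (91, false, 2), (55, false, 1), (170, false, 5), (149, false, 4), (118, false, 3), (152, false, 5), (118, false, 4), (104, false, 3), (167, false, 5), (134, false, 4), (119, false, 3), (170, false, 4), (133, false, 3), (121, false, 4), (92, false, 3), (56, false, 2), (166, false, 7), (133, false, 6), (104, false, 5), (168, false, 6), (135, false, 5), (170, false, 5), (155, false, 8), (138, false, 7), (107, false, 6), (93, false, 5), (57, false, 4), (47, false, 3), (162, false, 8), (145, false, 7), (129, false, 6), (100, false, 5), (54, false, 4), (149, false, 5), (118, false, 4), (150, false, 6), (119, false, 5), (151, false, 5), (152, false, 6), (133, false, 5), (104, false, 4), (134, false, 4), (133, false, 5), (118, false, 4), (134, false, 6), (119, false, 5), (163, false, 7), (146, false, 6), (130, false, 5), (101, false, 4), (104, false,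 5), (152, false, 7), (167, false, 7), (134, false, 6), (119, false, 5), (168, false, 6), (135, false, 5), (167, false, 5), (168, false, 6), (166, false, 7), (133, false, 6), (118, false, 5), (167, false, 8), (134, false, 7), (119, false, 6), (170, false, 7), (134, false, 6), (135, false, 7), (168, false, 8), (151, false, 7), (169, false, 9), (152, false, 8), (170, false, 8), (123, false, 7), (108, false, 6), (94, false, 5), (58, false, 4), (125, false, 8), (110, false, 7), (96, false, 6), (60, false, 5), (166, false, 9), (104, false, 8), (168, false, 8), (169, false, 9), (166, false, 10), (149, false, 9), (133, false, 8), (167, false, 11), (150, false, 10), (134, false, 9), (170, false, 12), (150, false, 11), (134, false, 10), (119, false, 9), (159, false, 11), (142, false, 10), (126, false, 9), (97, false, 8), (61, false, 7), (51, false, 6), (163, false, 11), (146, false, 10), (130, false, 9), (101, false, 8), (104, false, 9), (152, false, 11), (166, false, 11), (133, false, 10), (118, false, 9), (166, false, 12), (133, false, 11), (118, false, 10), (104, false, 9), (168, false, 11), (135, false, 10), (166, false, 10), (118, false, 9), (167, false, 11), (119, false, 10), (170, false, 10), (100, false, 9), (64,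 false, 8), (54, false, 7), (146, false, 9), (115, false, 8), (65, false, 7), (147, false, 8), (116, false, 7), (152, false, 9), (170, true, 11), (169, true, 10), (152, true, 10), (169, true, 11), (135, true, 10), (151, true, 11), (168, true, 12), (134, true, 9), (170, true, 10), (152, true, 10), (169, true, 11), (151, true, 9), (168, true, 10), (119, true, 9), (150, true, 10), (167, true, 11), (118, true, 8), (149, true, 9), (166, true, 10), (65, true, 7), (76, true, 8), (115, true, 9), (146, true, 10), (163, true, 11), (150, true, 9), (104, true, 9), (149, true, 10), (119, true, 10), (150, true, 11), (54, true, 7), (64, true, 8), (75, true, 9), (114, true, 10), (145, true, 11), (171, false, 0), (177, false, 9), (178, false, 13), (182, false, 18), (183, false, 21), (184, false, 23), (163, false, 8), (146, false, 7), (115, false, 6), (101, false, 5), (167, false, 9), (150, false, 8), (119, false, 7), (168, false, 8), (151, false, 7), (169, false, 9), (152, false, 8), (163, false, 8), (130, false, 7), (101, false, 6), (65, false, 5), (104, false, 5), (164, false, 8), (147, false, 7), (131, false, 6), (116, false, 5), (151, false, 7), (152, false, 8), (133, false, 7), (104, false, 6), (134, false, 6), (165, false,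 9), (148, false, 8), (132, false, 7), (117, false, 6), (118, false, 7), (119, false, 8), (152, false, 9), (133, false, 8), (104, false, 7), (134, false, 7), (167, false, 10), (150, false, 9), (134, false, 8), (119, false, 7), (170, false, 9), (149, false, 8), (133, false, 7), (150, false, 9), (134, false, 8), (167, false, 11), (150, false, 10), (134, false, 9), (119, false, 8), (170, false, 10), (149, false, 9), (133, false, 8), (104, false, 7), (150, false, 8), (134, false, 7)]),
   ([4, 2, 1], [(12, false, 0), (46, false, 2), (11, false, 1), (4, false, 0), (157, false, 9), (140, false, 8), (124, false, 7), (82, false, 6), (70, false, 5), (49, false, 4), (32, false, 3), (25, false, 2), (160, false, 8), (143, false, 7), (98, false, 6), (85, false, 5), (43, false, 4), (35, false, 3), (99, false, 3), (150, false, 5), (119, false, 4), (152, false, 4), (165, false, 4), (167, false, 8), (150, false, 7), (119, false, 6), (169, false, 7), (152, false, 6), (166, false, 6), (104, false, 5), (169, false, 5), (166, false, 6), (149, false, 5), (167, false, 7), (150, false, 6), (169, false, 8), (152, false, 7), (170, false, 7), (114, false, 6), (100, false, 5), (87, false, 4), (150, false, 8), (119, false, 7), (152, false,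 7), (116, false, 7), (102, false, 6), (89, false, 5), (149, false, 8), (118, false, 7), (152, false, 9), (162, false, 10), (129, false, 9), (114, false, 8), (100, false, 7), (87, false, 6), (75, false, 5), (54, false, 4), (148, false, 7), (117, false, 6), (103, false, 5), (149, false, 8), (118, false, 7), (104, false, 6), (150, false, 7), (119, false, 6), (152, false, 6), (150, false, 7), (119, false, 6), (149, false, 6), (150, false, 7), (151, false, 8), (152, false, 9), (133, false, 8), (118, false, 7), (104, false, 6), (134, false, 7), (119, false, 6), (164, false, 8), (147, false, 7), (131, false, 6), (89, false, 5), (77, false, 4), (149, false, 6), (133, false, 5), (150, false, 7), (134, false, 6), (152, false, 8), (166, false, 8), (133, false, 7), (118, false, 6), (104, false, 5), (170, false, 7), (129, false, 6), (114, false, 5), (87, false, 4), (150, false, 8), (119, false, 7), (149, false, 7), (104, false, 6), (150, false, 6), (151, false, 7), (152, false, 8), (131, false, 7), (116, false, 6), (89, false, 5), (151, false, 8), (148, false, 9), (132, false, 8), (103, false, 7), (90, false, 6), (149, false, 8), (118, false, 7), (104, false, 6), (149, false, 7), (118, false, 6), (150, false, 8), (119, false,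 7), (151, false, 7), (152, false, 8), (149, false, 8), (133, false, 7), (104, false, 6), (152, false, 7), (166, false, 7), (133, false, 6), (168, false, 8), (135, false, 7), (170, false, 7), (167, false, 8), (119, false, 7), (168, false, 7), (158, false, 8), (125, false, 7), (96, false, 6), (71, false, 5), (50, false, 4), (41, false, 3), (162, false, 7), (129, false, 6), (54, false, 5), (149, false, 8), (133, false, 7), (118, false, 6), (104, false, 5), (150, false, 7), (134, false, 6), (119, false, 5), (152, false, 6), (164, false, 6), (131, false, 5), (133, false, 6), (134, false, 7), (166, false, 10), (149, false, 9), (133, false, 8), (118, false, 7), (104, false, 6), (168, false, 9), (151, false, 8), (135, false, 7), (169, false, 8), (152, false, 7), (170, false, 7), (118, false, 6), (150, false, 9), (134, false, 8), (119, false, 7), (168, false, 9), (151, false, 8), (135, false, 7), (169, false, 8), (152, false, 7), (170, false, 7), (100, false, 6), (75, false, 5), (150, false, 9), (119, false, 8), (152, false, 8), (145, false, 10), (129, false, 9), (114, false, 8), (100, false, 7), (75, false, 6), (54, false, 5), (150, false, 8), (119, false, 7), (152, false, 7), (118, false, 7), (104, false, 6), (119,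 false, 6), (149, false, 7), (133, false, 6), (150, false, 8), (134, false, 7), (151, false, 9), (135, false, 8), (152, false, 8)], [(4, false, 1), (11, false, 0), (138, false, 6), (122, false, 5), (107, false, 4), (47, false, 3), (17, false, 2), (12, false, 1), (50, false, 3), (51, false, 4), (160, false, 9), (143, false, 8), (127, false, 7), (98, false, 6), (52, false, 5), (149, false, 8), (133, false, 7), (149, false, 9), (133, false, 8), (104, false, 7), (150, false, 8), (134, false, 7), (151, false, 9), (135, false, 8), (152, false, 8), (149, false, 8), (118, false, 7), (150, false, 9), (119, false, 8), (152, false, 8), (161, false, 8), (99, false, 7), (53, false, 6), (167, false, 10), (150, false, 9), (119, false, 8), (169, false, 9), (152, false, 8), (166, false, 8), (167, false, 9), (169, false, 10), (170, false, 11), (145, false, 10), (114, false, 9), (100, false, 8), (54, false, 7), (150, false, 8), (119, false, 7), (149, false, 7), (150, false, 8), (148, false, 9), (117, false, 8), (103, false, 7), (149, false, 10), (118, false, 9), (104, false, 8), (150, false, 9), (119, false, 8), (152, false, 8), (162, false, 8), (87, false, 7), (149, false, 11), (118, false, 10), (104, false, 9), (150, false, 10),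 (119, false, 9), (152, false, 9), (166, false, 9), (168, false, 10), (169, false, 11), (170, false, 12), (149, false, 11), (133, false, 10), (104, false, 9), (150, false, 10), (134, false, 9), (166, false, 12), (149, false, 11), (133, false, 10), (118, false, 9), (169, false, 13), (152, false, 12), (170, false, 12), (134, false, 11), (119, false, 10), (135, false, 10), (159, false, 11), (142, false, 10), (97, false, 9), (84, false, 8), (51, false, 7), (42, false, 6), (34, false, 5), (27, false, 4), (160, false, 4), (166, false, 8), (149, false, 7), (118, false, 6), (104, false, 5), (167, false, 7), (150, false, 6), (119, false, 5), (168, false, 6), (151, false, 5), (170, false, 7), (144, false, 6), (128, false, 5), (133, false, 6), (134, false, 7), (145, false, 9), (129, false, 8), (114, false, 7), (100, false, 6), (150, false, 8), (119, false, 7), (149, false, 7), (150, false, 8), (151, false, 9), (152, false, 10), (133, false, 9), (118, false, 8), (104, false, 7), (134, false, 8), (119, false, 7), (133, false, 7), (135, false, 8), (165, false, 9), (148, false, 8), (103, false, 7), (149, false, 9), (104, false, 8), (150, false, 8), (152, false, 9), (166, false, 9), (118, false, 8), (169, false, 10), (166, false,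 11), (149, false, 10), (118, false, 9), (104, false, 8), (166, false, 10), (149, false, 9), (118, false, 8), (167, false, 11), (150, false, 10), (119, false, 9), (170, false, 10), (143, false, 9), (98, false, 8), (85, false, 7), (52, false, 6), (43, false, 5), (35, false, 4), (99, false, 4), (150, false, 6), (119, false, 5), (152, false, 5), (162, false, 5), (168, false, 9), (151, false, 8), (169, false, 10), (152, false, 9), (165, false, 9), (132, false, 8), (117, false, 7), (103, false, 6), (118, false, 8), (104, false, 7), (119, false, 7), (149, false, 8), (133, false, 7), (150, false, 9), (134, false, 8), (152, false, 10), (167, false, 10), (134, false, 9), (119, false, 8), (169, false, 9), (166, false, 10), (149, false, 9), (133, false, 8), (104, false, 7), (169, false, 9), (152, false, 8), (162, false, 8), (129, false, 7), (87, false, 6), (54, false, 5), (149, false, 8), (118, false, 7), (104, false, 6), (150, false, 7), (119, false, 6), (151, false, 6), (152, false, 7), (133, false, 6), (134, false, 7), (164, false, 10), (147, false, 9), (131, false, 8), (116, false, 7), (102, false, 6), (89, false, 5), (149, false, 8), (118, false, 7), (152, false, 9), (149, false, 10), (133, false, 9), (118, false, 8),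 (104, false, 7), (150, false, 9), (134, false, 8), (119, false, 7), (152, false, 8), (165, false, 8), (132, false, 7), (90, false, 6), (149, false, 8), (118, false, 7), (104, false, 6), (150, false, 7), (119, false, 6), (151, false, 6), (152, false, 7), (133, false, 6), (134, false, 7), (168, false, 10), (151, false, 9), (135, false, 8), (169, false, 9), (152, false, 8), (170, false, 8)]),
   ([18, 12, 14, 16, 17, 0, 1, 2, 3, 5, 6, 9, 10, 11, 14, 16], [(180, false, 0), (171, false, 4), (153, false, 3), (120, false, 2), (66, false, 1), (45, false, 0), (166, false, 5), (133, false, 4), (104, false, 3), (154, false, 4), (121, false, 3), (67, false, 2), (46, false, 1), (145, false, 4), (129, false, 3), (54, false, 2), (149, false, 5), (133, false, 4), (118, false, 3), (104, false, 2), (150, false, 4), (134, false, 3), (119, false, 2), (147, false, 3), (131, false, 2), (149, false, 4), (133, false, 3), (150, false, 5), (134, false, 4), (166, false, 7), (149, false, 6), (133, false, 5), (118, false, 4), (104, false, 3), (167, false, 6), (150, false, 5), (134, false, 4), (119, false, 3), (169, false, 5), (152, false, 4), (170, false, 4), (133, false, 3), (134, false, 4), (135, false, 5), (141, false, 5), (110, false,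 4), (96, false, 3), (71, false, 2), (166, false, 7), (149, false, 6), (133, false, 5), (104, false, 4), (168, false, 6), (151, false, 5), (135, false, 4), (169, false, 5), (152, false, 4), (166, false, 4), (167, false, 5), (170, false, 6), (118, false, 5), (104, false, 4), (159, false, 6), (126, false, 5), (111, false, 4), (72, false, 3), (133, false, 7), (118, false, 6), (104, false, 5), (151, false, 7), (135, false, 6), (161, false, 7), (144, false, 6), (113, false, 5), (74, false, 4), (167, false, 8), (134, false, 7), (119, false, 6), (166, false, 7), (133, false, 6), (167, false, 8), (134, false, 7), (166, false, 9), (133, false, 8), (118, false, 7), (104, false, 6), (167, false, 8), (134, false, 7), (119, false, 6), (169, false, 7), (170, false, 8), (149, false, 7), (133, false, 6), (150, false, 8), (134, false, 7), (152, false, 9)], [(153, false, 4), (136, false, 3), (105, false, 2), (78, false, 1), (149, false, 6), (133, false, 5), (118, false, 4), (152, false, 7), (134, false, 6), (119, false, 5), (166, false, 6), (133, false, 5), (104, false, 4), (154, false, 5), (121, false, 4), (79, false, 3), (46, false, 2), (145, false, 5), (129, false, 4), (54, false, 3), (149, false, 6), (133, false, 5), (118,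 false, 4), (104, false, 3), (150, false, 5), (134, false, 4), (119, false, 3), (146, false, 4), (130, false, 3), (152, false, 7), (131, false, 6), (116, false, 5), (102, false, 4), (149, false, 6), (118, false, 5), (152, false, 7), (132, false, 7), (117, false, 6), (103, false, 5), (118, false, 7), (104, false, 6), (119, false, 6), (149, false, 7), (133, false, 6), (150, false, 8), (134, false, 7), (151, false, 9), (135, false, 8), (152, false, 8), (118, false, 7), (104, false, 6), (119, false, 6), (166, false, 7), (149, false, 6), (167, false, 8), (150, false, 7), (168, false, 9), (151, false, 8), (169, false, 10), (152, false, 9), (155, false, 9), (122, false, 8), (107, false, 7), (93, false, 6), (80, false, 5), (68, false, 4), (57, false, 3), (131, false, 7), (116, false, 6), (151, false, 8), (147, false, 9), (131, false, 8), (102, false, 7), (77, false, 6), (151, false, 7), (152, false, 8), (132, false, 7), (117, false, 6), (118, false, 7), (119, false, 8), (150, false, 9), (134, false, 8), (151, false, 10), (135, false, 9), (152, false, 9), (167, false, 9), (119, false, 8), (168, false, 8), (166, false, 9), (133, false, 8), (104, false, 7), (167, false, 8), (134, false, 7), (170, false, 9), (133, false,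 8), (118, false, 7), (168, false, 11), (151, false, 10), (135, false, 9), (169, false, 10), (152, false, 9), (170, false, 9), (108, false, 8), (94, false, 7), (81, false, 6), (58, false, 5), (48, false, 4), (163, false, 8), (115, false, 7), (101, false, 6), (165, false, 9), (117, false, 8), (103, false, 7), (118, false, 9), (104, false, 8), (119, false, 8), (169, false, 9), (152, false, 8), (166, false, 8), (167, false, 9), (158, false, 10), (110, false, 9), (96, false, 8), (83, false, 7), (60, false, 6), (50, false, 5), (54, false, 6), (164, false, 8), (102, false, 7), (149, false, 9), (118, false, 8), (150, false, 10), (119, false, 9), (152, false, 9), (165, false, 9), (103, false, 8), (104, false, 9), (169, false, 11), (152, false, 10), (166, false, 10), (118, false, 9), (168, false, 11), (169, false, 12), (166, false, 13), (149, false, 12), (133, false, 11), (118, false, 10), (104, false, 9), (167, false, 12), (150, false, 11), (134, false, 10), (119, false, 9), (170, false, 11), (151, false, 10), (135, false, 9), (152, false, 9), (159, false, 9), (84, false, 8), (72, false, 7), (61, false, 6), (102, false, 8), (149, false, 10), (118, false, 9), (150, false, 11), (119, false, 10), (151, false, 10), (148,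 false, 11), (132, false, 10), (103, false, 9), (104, false, 10), (152, false, 12), (133, false, 11), (118, false, 10), (162, false, 14), (145, false, 13), (129, false, 12), (114, false, 11), (100, false, 10), (87, false, 9), (75, false, 8), (64, false, 7), (148, false, 12), (117, false, 11), (103, false, 10), (149, false, 13), (118, false, 12), (104, false, 11), (150, false, 12), (119, false, 11), (152, false, 11), (150, false, 12), (119, false, 11), (149, false, 11), (150, false, 12), (151, false, 13), (152, false, 14), (133, false, 13), (118, false, 12), (104, false, 11), (134, false, 12), (119, false, 11), (133, false, 11), (134, false, 12), (163, false, 15), (146, false, 14), (130, false, 13), (115, false, 12), (101, false, 11), (88, false, 10), (76, false, 9), (65, false, 8), (149, false, 12), (118, false, 11), (104, false, 10), (150, false, 11), (119, false, 10), (149, false, 10), (150, false, 11), (151, false, 12), (152, false, 13), (164, false, 14), (147, false, 13), (131, false, 12), (116, false, 11), (102, false, 10), (89, false, 9), (77, false, 8), (149, false, 10), (118, false, 9), (152, false, 11), (149, false, 12), (133, false, 11), (118, false, 10), (104, false, 9), (150, false, 11), (134, false,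 10), (119, false, 9), (152, false, 10), (167, false, 10), (134, false, 9), (169, false, 11), (169, true, 11), (168, true, 10), (152, true, 10), (169, true, 11), (150, true, 9), (167, true, 10), (104, true, 9), (149, true, 10), (166, true, 11), (119, true, 10), (103, true, 8), (117, true, 9), (170, true, 10), (135, true, 10), (168, true, 11), (134, true, 9), (167, true, 10), (152, true, 10), (119, true, 9), (134, true, 10), (150, true, 11), (118, true, 8), (133, true, 9), (149, true, 10), (151, true, 9), (77, true, 8), (102, true, 9), (131, true, 10), (164, true, 11), (152, true, 11), (151, true, 10), (119, true, 10), (150, true, 11), (118, true, 9), (149, true, 10), (65, true, 8), (76, true, 9), (115, true, 10), (146, true, 11), (171, false, 0), (178, false, 9), (179, false, 14), (180, false, 20), (181, false, 24), (183, false, 27), (163, false, 8), (146, false, 7), (115, false, 6), (101, false, 5), (164, false, 9), (147, false, 8), (116, false, 7), (102, false, 6), (149, false, 8), (118, false, 7), (152, false, 9), (149, false, 9), (118, false, 8), (104, false, 7), (150, false, 8), (119, false, 7), (152, false, 7), (165, false, 7), (167, false, 11), (150, false, 10), (119, false, 9), (170, false, 10), (145,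 false, 9), (100, false, 8), (87, false, 7), (75, false, 6), (64, false, 5), (148, false, 10), (117, false, 9), (103, false, 8), (149, false, 11), (118, false, 10), (104, false, 9), (150, false, 10), (119, false, 9), (152, false, 9), (149, false, 10), (118, false, 9), (150, false, 11), (119, false, 10), (146, false, 10), (101, false, 9), (88, false, 8), (76, false, 7), (65, false, 6), (149, false, 10), (118, false, 9), (104, false, 8), (152, false, 9), (116, false, 8), (89, false, 7), (77, false, 6), (148, false, 8), (103, false, 7), (90, false, 6), (149, false, 8), (118, false, 7), (104, false, 6), (152, false, 7), (162, false, 8), (145, false, 7), (114, false, 6), (54, false, 5), (118, false, 5), (119, false, 6), (104, false, 5), (164, false, 7), (147, false, 6), (116, false, 5), (152, false, 7), (104, false, 6), (168, false, 8), (151, false, 7), (170, false, 9), (149, false, 8), (133, false, 7), (118, false, 6), (150, false, 9), (134, false, 8), (119, false, 7), (152, false, 8), (134, false, 7)]),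
   ([21, 9, 10, 13, 14, 6, 11, 12, 14, 15, 16], [(221, false, 0), (218, false, 10), (157, false, 9), (124, false, 8), (109, false, 7), (95, false, 6), (82, false, 5), (70, false, 4), (49, false, 3), (40, false, 2), (32, false, 1), (19, false, 0), (127, false, 4), (112, false, 3), (98, false, 2), (118, false, 4), (104, false, 3), (119, false, 3), (145, false, 4), (129, false, 3), (149, false, 7), (133, false, 6), (118, false, 5), (104, false, 4), (150, false, 6), (134, false, 5), (119, false, 4), (147, false, 5), (131, false, 4), (151, false, 6), (135, false, 5), (159, false, 6), (142, false, 5), (72, false, 4), (51, false, 3), (34, false, 2), (162, false, 7), (129, false, 6), (114, false, 5), (100, false, 4), (150, false, 6), (119, false, 5), (149, false, 5), (150, false, 6), (151, false, 7), (152, false, 8), (133, false, 7), (118, false, 6), (104, false, 5), (134, false, 6), (119, false, 5), (166, false, 7), (149, false, 6), (133, false, 5), (168, false, 8), (151, false, 7), (135, false, 6), (169, false, 7), (152, false, 6), (170, false, 6), (102, false, 5), (149, false, 7), (118, false, 6), (150, false, 8), (119, false, 7), (151, false, 7), (149, false, 8), (133, false, 7), (104, false, 6), (150, false, 7),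 (134, false, 6), (160, false, 9), (143, false, 8), (127, false, 7), (112, false, 6), (73, false, 5), (52, false, 4), (35, false, 3), (100, false, 3), (151, false, 5), (152, false, 6), (131, false, 5), (116, false, 4), (151, false, 6), (149, false, 7), (133, false, 6), (104, false, 5), (167, false, 7), (150, false, 6), (134, false, 5), (166, false, 8), (149, false, 7), (133, false, 6), (118, false, 5), (167, false, 9), (150, false, 8), (134, false, 7), (119, false, 6), (168, false, 8), (151, false, 7), (135, false, 6), (169, false, 7), (152, false, 6), (169, false, 6), (166, false, 7), (149, false, 6), (104, false, 5), (167, false, 6), (150, false, 5), (169, false, 7), (152, false, 6), (170, false, 6), (117, false, 5), (118, false, 6), (129, false, 8), (114, false, 7), (100, false, 6), (87, false, 5), (75, false, 4), (54, false, 3), (148, false, 6), (117, false, 5), (103, false, 4), (149, false, 7), (118, false, 6), (104, false, 5), (150, false, 6), (119, false, 5), (152, false, 5), (150, false, 6), (119, false, 5), (149, false, 5), (150, false, 6), (151, false, 7), (152, false, 8), (131, false, 7), (116, false, 6), (102, false, 5), (89, false, 4), (77, false, 3), (149, false, 5), (118, false, 4), (152, false,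 6), (133, false, 6), (118, false, 5), (104, false, 4), (162, false, 6), (129, false, 5), (114, false, 4), (87, false, 3), (150, false, 7), (119, false, 6), (149, false, 6), (104, false, 5), (150, false, 5), (151, false, 6), (152, false, 7), (133, false, 6), (118, false, 5), (134, false, 7), (119, false, 6), (164, false, 8), (147, false, 7), (131, false, 6), (102, false, 5), (89, false, 4), (151, false, 7), (152, false, 8), (133, false, 7), (118, false, 6), (134, false, 8), (119, false, 7), (165, false, 9), (148, false, 8), (132, false, 7), (103, false, 6), (90, false, 5), (149, false, 7), (118, false, 6), (104, false, 5), (149, false, 6), (118, false, 5), (150, false, 7), (119, false, 6), (151, false, 6), (152, false, 7), (149, false, 7), (133, false, 6), (104, false, 5), (150, false, 6), (134, false, 5), (152, false, 7), (166, false, 7), (133, false, 6), (118, false, 5), (169, false, 8), (170, false, 9), (151, false, 8), (135, false, 7), (152, false, 7), (166, false, 7), (118, false, 6), (104, false, 5), (168, false, 6), (166, false, 7), (133, false, 6), (118, false, 5), (168, false, 8), (135, false, 7), (170, false, 7), (119, false, 6), (128, false, 6), (99, false, 5), (74, false, 4), (53, false, 3), (164,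 false, 7), (147, false, 6), (116, false, 5), (152, false, 7), (104, false, 6), (167, false, 8), (150, false, 7), (119, false, 6), (168, false, 7), (151, false, 6), (170, false, 8), (150, false, 7), (134, false, 6), (152, false, 8), (135, false, 7), (115, false, 6), (76, false, 5), (117, false, 7)], [(111, false, 4), (97, false, 3), (61, false, 2), (51, false, 1), (163, false, 6), (146, false, 5), (130, false, 4), (101, false, 3), (104, false, 4), (152, false, 6), (166, false, 6), (133, false, 5), (118, false, 4), (166, false, 7), (133, false, 6), (118, false, 5), (104, false, 4), (166, false, 6), (133, false, 5), (118, false, 4), (169, false, 7), (164, false, 8), (147, false, 7), (131, false, 6), (116, false, 5), (102, false, 4), (149, false, 6), (118, false, 5), (152, false, 7), (149, false, 8), (133, false, 7), (118, false, 6), (104, false, 5), (150, false, 7), (134, false, 6), (119, false, 5), (152, false, 6), (165, false, 6), (132, false, 5), (149, false, 9), (133, false, 8), (118, false, 7), (104, false, 6), (150, false, 8), (134, false, 7), (119, false, 6), (152, false, 7), (167, false, 7), (134, false, 6), (168, false, 8), (135, false, 7), (169, false, 7), (135, true, 7), (152, true, 8), (134, true, 6),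 (150, true, 7), (104, true, 6), (133, true, 7), (149, true, 8), (119, true, 7), (134, true, 8), (150, true, 9), (118, true, 6), (133, true, 7), (149, true, 8), (152, true, 8), (151, true, 7), (150, true, 6), (104, true, 6), (149, true, 7), (119, true, 7), (150, true, 8), (76, true, 3), (88, true, 4), (115, true, 5), (130, true, 6), (146, true, 7), (134, true, 5), (150, true, 6), (104, true, 5), (133, true, 6), (149, true, 7), (119, true, 6), (118, true, 5), (152, true, 5), (119, true, 5), (150, true, 6), (104, true, 5), (118, true, 6), (149, true, 7), (103, true, 4), (117, true, 5), (148, true, 6), (75, true, 2), (87, true, 3), (114, true, 4), (129, true, 5), (145, true, 6), (218, false, 0), (221, false, 5), (223, false, 15), (225, false, 24), (141, false, 4), (83, false, 3), (60, false, 2), (41, false, 1), (162, false, 5), (129, false, 4), (54, false, 3), (149, false, 6), (133, false, 5), (118, false, 4), (104, false, 3), (150, false, 5), (134, false, 4), (119, false, 3), (152, false, 4), (163, false, 4), (130, false, 3), (166, false, 8), (149, false, 7), (133, false, 6), (118, false, 5), (104, false, 4), (170, false, 7), (147, false, 6), (131, false, 5), (116, false, 4), (151, false, 6), (152, false, 7), (132,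 false, 6), (103, false, 5), (104, false, 6), (152, false, 8), (133, false, 7), (118, false, 6), (135, false, 8), (160, false, 8), (112, false, 7), (98, false, 6), (85, false, 5), (73, false, 4), (62, false, 3), (43, false, 2), (163, false, 6), (146, false, 5), (115, false, 4), (169, false, 7), (152, false, 6), (164, false, 6), (116, false, 5), (149, false, 7), (104, false, 6), (150, false, 6), (152, false, 7), (166, false, 7), (118, false, 6), (170, false, 8), (117, false, 7), (103, false, 6), (119, false, 8), (149, false, 8), (104, false, 7), (150, false, 7), (149, false, 8), (118, false, 7), (150, false, 9), (119, false, 8), (152, false, 8), (161, false, 8), (99, false, 7), (86, false, 6), (74, false, 5), (63, false, 4), (44, false, 3), (146, false, 4), (101, false, 3), (149, false, 5), (104, false, 4), (150, false, 4), (164, false, 6), (147, false, 5), (116, false, 4), (152, false, 6), (104, false, 5), (167, false, 7), (150, false, 6), (119, false, 5), (168, false, 6), (151, false, 5), (170, false, 7), (148, false, 6), (132, false, 5), (152, false, 9), (133, false, 8), (118, false, 7), (104, false, 6), (135, false, 7), (167, false, 7), (119, false, 6), (169, false, 6), (166, false, 7), (149, false, 6), (167,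 false, 8), (150, false, 7), (169, false, 9), (152, false, 8), (170, false, 8), (114, false, 7), (100, false, 6), (87, false, 5), (75, false, 4), (64, false, 3), (148, false, 8), (117, false, 7), (103, false, 6), (149, false, 9), (118, false, 8), (104, false, 7), (150, false, 8), (119, false, 7), (152, false, 7), (150, false, 8), (119, false, 7), (147, false, 7), (89, false, 6), (77, false, 5), (148, false, 6), (90, false, 5), (152, false, 7), (118, false, 6), (104, false, 5), (119, false, 5), (159, false, 6), (126, false, 5), (61, false, 4), (51, false, 3), (34, false, 2), (162, false, 7), (129, false, 6), (114, false, 5), (100, false, 4), (150, false, 6), (119, false, 5), (149, false, 5), (150, false, 6), (151, false, 7), (152, false, 8), (133, false, 7), (118, false, 6), (104, false, 5), (134, false, 6), (119, false, 5), (166, false, 7), (149, false, 6), (133, false, 5), (168, false, 8), (151, false, 7), (135, false, 6), (169, false, 7), (152, false, 6), (170, false, 6), (101, false, 5), (104, false, 6), (160, false, 7), (127, false, 6), (62, false, 5), (52, false, 4), (35, false, 3), (100, false, 3), (151, false, 5), (152, false, 6), (130, false, 5), (115, false, 4), (118, false, 5), (119, false, 6), (152,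 false, 7), (133, false, 6), (104, false, 5), (134, false, 5), (135, false, 6), (149, false, 6), (118, false, 5), (150, false, 7), (119, false, 6), (152, false, 6), (161, false, 6), (99, false, 5), (63, false, 4), (53, false, 3), (163, false, 7), (146, false, 6), (115, false, 5), (166, false, 8), (149, false, 7), (118, false, 6), (167, false, 9), (150, false, 8), (119, false, 7), (170, false, 8), (150, false, 7), (152, false, 8), (118, false, 7), (104, false, 6), (119, false, 6), (164, false, 7), (147, false, 6), (149, false, 7), (150, false, 8), (152, false, 9), (165, false, 9), (117, false, 8), (103, false, 7), (118, false, 9), (104, false, 8), (119, false, 8), (167, false, 9), (150, false, 8), (168, false, 10), (151, false, 9), (169, false, 11), (152, false, 10), (170, false, 10), (135, false, 9)]),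
   ([4, 1, 1], [(11, false, 0), (137, false, 6), (121, false, 5), (106, false, 4), (46, false, 3), (16, false, 2), (11, false, 1), (2, false, 0), (124, false, 3), (95, false, 2), (70, false, 1), (40, false, 0), (131, false, 5), (102, false, 4), (89, false, 3), (151, false, 6), (149, false, 7), (133, false, 6), (118, false, 5), (168, false, 9), (151, false, 8), (135, false, 7), (169, false, 8), (152, false, 7), (170, false, 7), (118, false, 6), (104, false, 5), (158, false, 7), (125, false, 6), (110, false, 5), (83, false, 4), (71, false, 3), (33, false, 2), (26, false, 1), (142, false, 7), (84, false, 6), (72, false, 5), (51, false, 4), (42, false, 3), (34, false, 2), (161, false, 7), (128, false, 6), (113, false, 5), (99, false, 4), (150, false, 6), (119, false, 5), (151, false, 5), (149, false, 6), (133, false, 5), (150, false, 7), (134, false, 6), (152, false, 8), (169, false, 8), (162, false, 9), (145, false, 8), (129, false, 7), (114, false, 6), (100, false, 5), (150, false, 7), (119, false, 6), (149, false, 6), (150, false, 7), (151, false, 8), (152, false, 9), (133, false, 8), (118, false, 7), (104, false, 6), (134, false, 7), (119, false, 6), (133, false, 6), (134, false, 7), (166, false, 10), (149, false,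 9), (133, false, 8), (118, false, 7), (104, false, 6), (168, false, 9), (151, false, 8), (135, false, 7), (169, false, 8), (152, false, 7), (170, false, 7), (116, false, 6), (149, false, 8), (104, false, 7), (150, false, 7), (151, false, 8), (148, false, 9), (132, false, 8), (117, false, 7), (118, false, 8), (119, false, 9), (152, false, 10), (133, false, 9), (104, false, 8), (149, false, 9), (133, false, 8), (150, false, 10), (134, false, 9), (144, false, 11), (128, false, 10), (113, false, 9), (99, false, 8), (86, false, 7), (74, false, 6), (53, false, 5), (44, false, 4), (145, false, 5), (100, false, 4), (149, false, 6), (118, false, 5), (150, false, 7), (119, false, 6), (150, false, 6), (152, false, 7), (164, false, 7), (116, false, 6), (102, false, 5), (149, false, 7), (118, false, 6), (152, false, 8), (118, false, 7), (104, false, 6), (119, false, 6), (167, false, 7), (150, false, 6), (168, false, 8), (151, false, 7), (170, false, 9), (148, false, 8), (132, false, 7), (117, false, 6), (118, false, 7), (119, false, 8), (152, false, 9), (133, false, 8), (104, false, 7), (135, false, 7), (167, false, 7), (169, false, 8), (167, false, 9), (150, false, 8), (119, false, 7), (168, false, 8), (151, false, 7), (166,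 false, 9), (149, false, 8), (133, false, 7), (167, false, 10), (150, false, 9), (134, false, 8), (165, false, 11), (148, false, 10), (132, false, 9), (117, false, 8), (103, false, 7), (90, false, 6), (149, false, 8), (118, false, 7), (104, false, 6), (150, false, 7), (119, false, 6), (149, false, 6), (150, false, 7), (151, false, 8), (152, false, 9), (149, false, 9), (133, false, 8), (118, false, 7), (104, false, 6), (150, false, 8), (134, false, 7), (119, false, 6), (152, false, 7), (167, false, 7), (134, false, 6), (168, false, 8), (135, false, 7), (169, false, 7), (170, false, 8), (147, false, 7), (116, false, 6), (77, false, 5), (152, false, 6), (104, false, 5), (164, false, 7), (147, false, 6), (131, false, 5), (149, false, 7), (133, false, 6), (150, false, 8), (134, false, 7), (152, false, 9), (165, false, 9), (132, false, 8), (117, false, 7), (103, false, 6), (118, false, 8), (104, false, 7), (119, false, 7), (149, false, 8), (133, false, 7), (150, false, 9), (134, false, 8), (152, false, 10), (169, false, 10), (166, false, 11), (149, false, 10), (133, false, 9), (118, false, 8), (104, false, 7), (167, false, 10), (150, false, 9), (134, false, 8), (119, false, 7), (170, false, 9), (150, false, 8), (134,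 false, 7), (168, false, 10), (151, false, 9), (135, false, 8), (169, false, 9), (152, false, 8), (170, false, 8), (114, false, 7), (87, false, 6), (75, false, 5), (54, false, 4), (148, false, 7), (117, false, 6), (103, false, 5), (149, false, 8), (118, false, 7), (104, false, 6), (150, false, 7), (119, false, 6), (152, false, 6), (119, false, 6), (141, false, 7), (125, false, 6), (83, false, 5), (71, false, 4), (33, false, 3), (26, false, 2), (20, false, 1), (160, false, 3), (98, false, 2), (52, false, 1), (149, false, 4), (133, false, 3), (149, false, 5), (133, false, 4), (104, false, 3), (150, false, 4), (134, false, 3), (152, false, 5), (161, false, 5), (128, false, 4), (113, false, 3), (53, false, 2), (167, false, 6), (150, false, 5), (119, false, 4), (168, false, 5), (151, false, 4), (166, false, 6), (149, false, 5), (133, false, 4), (167, false, 7), (150, false, 6), (134, false, 5), (169, false, 8), (152, false, 7), (170, false, 7), (129, false, 6), (114, false, 5), (100, false, 4), (54, false, 3), (150, false, 4), (119, false, 3), (149, false, 3), (150, false, 4), (151, false, 5), (152, false, 6), (131, false, 5), (116, false, 4), (102, false, 3), (149, false, 5), (118, false, 4), (152, false, 6), (132,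 false, 6), (117, false, 5), (103, false, 4), (118, false, 6), (104, false, 5), (119, false, 5), (152, false, 6), (126, false, 5), (84, false, 4), (72, false, 3), (42, false, 2), (34, false, 1), (161, false, 6), (128, false, 5), (113, false, 4), (99, false, 3), (150, false, 5), (119, false, 4), (151, false, 4), (149, false, 5), (133, false, 4), (150, false, 6), (134, false, 5), (152, false, 7), (169, false, 7), (164, false, 8), (147, false, 7), (131, false, 6), (116, false, 5), (102, false, 4), (149, false, 6), (118, false, 5), (152, false, 7), (149, false, 8), (133, false, 7), (118, false, 6), (104, false, 5), (150, false, 7), (134, false, 6), (119, false, 5), (152, false, 6), (166, false, 6), (133, false, 5), (167, false, 7), (134, false, 6), (168, false, 8), (135, false, 7), (165, false, 7), (117, false, 6), (103, false, 5), (118, false, 7), (104, false, 6), (119, false, 6), (166, false, 7), (149, false, 6), (169, false, 8), (152, false, 7), (168, false, 7), (161, false, 8), (128, false, 7), (99, false, 6), (86, false, 5), (74, false, 4), (44, false, 3), (147, false, 4), (102, false, 3), (152, false, 5), (119, false, 4), (165, false, 5), (132, false, 4), (149, false, 8), (133, false, 7), (118, false, 6), (104,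 false, 5), (150, false, 7), (134, false, 6), (119, false, 5), (152, false, 6), (166, false, 6), (133, false, 5), (168, false, 7), (135, false, 6), (170, false, 6), (151, false, 7), (149, false, 8), (133, false, 7), (118, false, 6), (104, false, 5), (150, false, 7), (134, false, 6), (119, false, 5), (152, false, 6), (165, false, 6), (132, false, 5), (90, false, 4), (149, false, 6), (118, false, 5), (104, false, 4), (150, false, 5), (119, false, 4), (151, false, 4), (152, false, 5), (133, false, 4), (134, false, 5), (167, false, 8), (150, false, 7), (134, false, 6), (119, false, 5), (168, false, 7), (151, false, 6), (135, false, 5), (169, false, 6), (152, false, 5), (170, false, 5), (102, false, 4), (77, false, 3), (149, false, 4), (118, false, 3), (151, false, 5), (152, false, 6), (164, false, 6), (131, false, 5), (116, false, 4), (102, false, 3), (149, false, 5), (118, false, 4), (152, false, 6), (133, false, 6), (118, false, 5), (104, false, 4), (134, false, 5), (119, false, 4), (165, false, 6), (148, false, 5), (132, false, 4), (152, false, 8), (133, false, 7), (118, false, 6), (104, false, 5), (134, false, 6), (119, false, 5), (169, false, 7), (152, false, 6), (167, false, 6), (134, false, 5), (170, false,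 7), (133, false, 6), (118, false, 5), (135, false, 7), (159, false, 7), (111, false, 6), (97, false, 5), (84, false, 4), (72, false, 3), (34, false, 2), (27, false, 1), (160, false, 1), (166, false, 5), (149, false, 4), (118, false, 3), (104, false, 2), (167, false, 4), (150, false, 3), (119, false, 2), (168, false, 3), (151, false, 2), (170, false, 4), (147, false, 3), (131, false, 2), (149, false, 4), (133, false, 3), (150, false, 5), (134, false, 4), (151, false, 6), (135, false, 5), (148, false, 5), (117, false, 4), (103, false, 3), (149, false, 6), (118, false, 5), (104, false, 4), (152, false, 5), (118, false, 4), (118, false, 5), (104, false, 4), (160, false, 6), (143, false, 5), (112, false, 4), (85, false, 3), (73, false, 2), (35, false, 1), (102, false, 1), (149, false, 3), (118, false, 2), (165, false, 5), (148, false, 4), (117, false, 3), (103, false, 2), (149, false, 5), (118, false, 4), (104, false, 3), (150, false, 4), (119, false, 3), (152, false, 3), (167, false, 3), (169, false, 4), (167, false, 5), (150, false, 4), (119, false, 3), (169, false, 4), (152, false, 3), (166, false, 3), (167, false, 4), (169, false, 5), (170, false, 6), (144, false, 5), (113, false, 4), (99, false, 3), (86, false,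 2), (74, false, 1), (165, false, 5), (132, false, 4), (117, false, 3), (118, false, 4), (119, false, 5), (149, false, 6), (133, false, 5), (104, false, 4), (150, false, 5), (134, false, 4), (152, false, 6), (166, false, 6), (133, false, 5), (118, false, 4), (168, false, 7), (135, false, 6), (170, false, 6), (119, false, 5), (150, false, 5), (149, false, 6), (118, false, 5), (104, false, 4), (150, false, 5), (119, false, 4), (145, false, 4), (87, false, 3), (75, false, 2), (148, false, 6), (117, false, 5), (103, false, 4), (149, false, 7), (118, false, 6), (104, false, 5), (150, false, 6), (119, false, 5), (152, false, 5), (117, false, 6), (103, false, 5), (90, false, 4), (149, false, 6), (118, false, 5), (104, false, 4), (150, false, 5), (119, false, 4), (149, false, 4), (150, false, 5), (151, false, 6), (152, false, 7), (129, false, 6), (114, false, 5), (100, false, 4), (75, false, 3), (54, false, 2), (150, false, 5), (119, false, 4), (152, false, 4), (118, false, 4), (104, false, 3), (119, false, 3), (151, false, 4), (135, false, 3), (152, false, 3), (166, false, 4), (149, false, 3), (167, false, 5), (150, false, 4), (169, false, 6), (152, false, 5), (170, false, 5), (119, false, 4)], [(2, false, 1)]),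
   ([18, 2, 5, 7, 8, 11, 12, 14, 17, 2, 5, 7, 8, 11, 12, 14, 17], [(172, false, 0), (172, false, 5), (156, false, 4), (108, false, 3), (94, false, 2), (81, false, 1), (9, false, 0), (149, false, 1), (150, false, 2), (165, false, 4), (148, false, 3), (117, false, 2), (103, false, 1), (90, false, 0), (149, false, 2), (118, false, 1), (104, false, 0), (150, false, 1), (119, false, 0), (152, false, 0), (166, false, 3), (149, false, 2), (118, false, 1), (104, false, 0), (167, false, 2), (150, false, 1), (119, false, 0), (170, false, 1)], [(155, false, 8), (107, false, 7), (80, false, 6), (68, false, 5), (38, false, 4), (30, false, 3), (17, false, 2), (5, false, 1), (158, false, 6), (96, false, 5), (83, false, 4), (41, false, 3), (33, false, 2), (26, false, 1), (142, false, 7), (84, false, 6), (72, false, 5), (51, false, 4), (42, false, 3), (34, false, 2), (161, false, 7), (128, false, 6), (113, false, 5), (99, false, 4), (150, false, 6), (119, false, 5), (151, false, 5), (149, false, 6), (133, false, 5), (150, false, 7), (134, false, 6), (152, false, 8), (169, false, 8), (162, false, 9), (145, false, 8), (129, false, 7), (114, false, 6), (100, false, 5), (150, false, 7), (119, false, 6), (149, false, 6), (150, false,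 7), (151, false, 8), (152, false, 9), (133, false, 8), (118, false, 7), (104, false, 6), (134, false, 7), (119, false, 6), (133, false, 6), (134, false, 7), (166, false, 10), (149, false, 9), (133, false, 8), (118, false, 7), (104, false, 6), (168, false, 9), (151, false, 8), (135, false, 7), (169, false, 8), (152, false, 7), (170, false, 7), (116, false, 6), (149, false, 8), (104, false, 7), (150, false, 7), (151, false, 8), (148, false, 9), (132, false, 8), (117, false, 7), (118, false, 8), (119, false, 9), (152, false, 10), (133, false, 9), (104, false, 8), (149, false, 9), (133, false, 8), (150, false, 10), (134, false, 9), (144, false, 11), (128, false, 10), (113, false, 9), (99, false, 8), (86, false, 7), (74, false, 6), (53, false, 5), (44, false, 4), (145, false, 5), (100, false, 4), (149, false, 6), (118, false, 5), (150, false, 7), (119, false, 6), (150, false, 6), (152, false, 7), (164, false, 7), (116, false, 6), (102, false, 5), (149, false, 7), (118, false, 6), (152, false, 8), (118, false, 7), (104, false, 6), (119, false, 6), (167, false, 7), (150, false, 6), (168, false, 8), (151, false, 7), (170, false, 9), (148, false, 8), (132, false, 7), (117, false, 6), (118, false, 7), (119, false, 8),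 (152, false, 9), (133, false, 8), (104, false, 7), (135, false, 7), (167, false, 7), (169, false, 8), (167, false, 9), (150, false, 8), (119, false, 7), (168, false, 8), (151, false, 7), (166, false, 9), (149, false, 8), (133, false, 7), (167, false, 10), (150, false, 9), (134, false, 8), (165, false, 11), (148, false, 10), (132, false, 9), (117, false, 8), (103, false, 7), (90, false, 6), (149, false, 8), (118, false, 7), (104, false, 6), (150, false, 7), (119, false, 6), (149, false, 6), (150, false, 7), (151, false, 8), (152, false, 9), (149, false, 9), (133, false, 8), (118, false, 7), (104, false, 6), (150, false, 8), (134, false, 7), (119, false, 6), (152, false, 7), (167, false, 7), (134, false, 6), (168, false, 8), (135, false, 7), (169, false, 7), (170, false, 8), (144, false, 7), (113, false, 6), (74, false, 5), (53, false, 4), (164, false, 8), (147, false, 7), (116, false, 6), (152, false, 8), (104, false, 7), (167, false, 9), (150, false, 8), (119, false, 7), (168, false, 8), (151, false, 7), (170, false, 9), (150, false, 8), (134, false, 7), (149, false, 9), (133, false, 8), (118, false, 7), (150, false, 10), (134, false, 9), (119, false, 8), (145, false, 9), (129, false, 8), (100, false, 7), (75,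 false, 6), (54, false, 5), (150, false, 8), (119, false, 7), (152, false, 7), (104, false, 6), (149, false, 8), (133, false, 7), (118, false, 6), (150, false, 9), (134, false, 8), (119, false, 7), (151, false, 8), (135, false, 7), (164, false, 8), (147, false, 7), (102, false, 6), (77, false, 5), (152, false, 6), (118, false, 5), (119, false, 6), (165, false, 7), (148, false, 6), (103, false, 5), (149, false, 7), (104, false, 6), (150, false, 6), (152, false, 7), (169, false, 7), (166, false, 8), (149, false, 7), (118, false, 6), (168, false, 9), (151, false, 8), (169, false, 10), (152, false, 9), (168, false, 9), (135, false, 8), (169, false, 8), (170, false, 9), (142, false, 8), (111, false, 7), (97, false, 6), (84, false, 5), (42, false, 4), (34, false, 3), (27, false, 2), (160, false, 2), (166, false, 6), (149, false, 5), (118, false, 4), (104, false, 3), (167, false, 5), (150, false, 4), (119, false, 3), (168, false, 4), (151, false, 3), (170, false, 5), (144, false, 4), (128, false, 3), (133, false, 4), (134, false, 5), (148, false, 7), (132, false, 6), (117, false, 5), (103, false, 4), (118, false, 6), (104, false, 5), (119, false, 5), (152, false, 6), (133, false, 5), (149, false, 7), (133, false, 6),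 (104, false, 5), (149, false, 6), (133, false, 5), (152, false, 7), (133, false, 6), (104, false, 5), (134, false, 5), (127, false, 6), (112, false, 5), (85, false, 4), (43, false, 3), (35, false, 2), (99, false, 2), (150, false, 4), (119, false, 3), (152, false, 3), (165, false, 3), (167, false, 7), (150, false, 6), (119, false, 5), (169, false, 6), (152, false, 5), (167, false, 5), (166, false, 6), (118, false, 5), (104, false, 4), (167, false, 5), (119, false, 4), (168, false, 4), (169, false, 5), (161, false, 6), (144, false, 5), (128, false, 4), (86, false, 3), (44, false, 2), (148, false, 3), (103, false, 2), (149, false, 4), (104, false, 3), (151, false, 3), (168, false, 5), (151, false, 4), (135, false, 3), (166, false, 4), (149, false, 3), (167, false, 5), (150, false, 4), (166, false, 6), (149, false, 5), (118, false, 4), (104, false, 3), (167, false, 5), (150, false, 4), (119, false, 3), (169, false, 4), (152, false, 3), (170, false, 3), (87, false, 2), (148, false, 6), (117, false, 5), (103, false, 4), (90, false, 3), (149, false, 5), (118, false, 4), (104, false, 3), (150, false, 4), (119, false, 3), (152, false, 3), (159, false, 6), (142, false, 5), (111, false, 4), (97, false, 3), (51, false, 2),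 (166, false, 7), (149, false, 6), (133, false, 5), (104, false, 4), (166, false, 6), (149, false, 5), (133, false, 4), (169, false, 7), (152, false, 6), (166, false, 6), (133, false, 5), (104, false, 4), (167, false, 5), (134, false, 4), (170, false, 6), (128, false, 5), (113, false, 4), (53, false, 3), (167, false, 7), (150, false, 6), (119, false, 5), (168, false, 6), (151, false, 5), (165, false, 7), (148, false, 6), (132, false, 5), (152, false, 9), (133, false, 8), (118, false, 7), (104, false, 6), (134, false, 7), (119, false, 6), (168, false, 8), (151, false, 7), (135, false, 6), (169, false, 7), (152, false, 6), (170, false, 6), (86, false, 5), (53, false, 4), (44, false, 3), (145, false, 4), (100, false, 3), (149, false, 5), (118, false, 4), (150, false, 6), (119, false, 5), (150, false, 5), (152, false, 6), (165, false, 6), (117, false, 5), (103, false, 4), (118, false, 6), (104, false, 5), (119, false, 5), (166, false, 6), (149, false, 5), (168, false, 7), (151, false, 6), (170, false, 8), (145, false, 7), (129, false, 6), (100, false, 5), (87, false, 4), (54, false, 3), (150, false, 6), (119, false, 5), (152, false, 5), (104, false, 4), (149, false, 6), (133, false, 5), (118, false, 4), (150, false,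 7), (134, false, 6), (119, false, 5), (150, false, 6), (134, false, 5), (151, false, 7), (135, false, 6), (152, false, 6), (116, false, 5), (102, false, 4), (89, false, 3), (149, false, 6), (118, false, 5), (152, false, 7), (116, false, 6), (102, false, 5), (89, false, 4), (77, false, 3), (149, false, 5), (118, false, 4), (152, false, 6), (117, false, 5), (103, false, 4), (90, false, 3), (149, false, 5), (118, false, 4), (104, false, 3), (150, false, 4), (119, false, 3), (150, false, 3), (151, false, 4), (152, false, 5), (166, false, 5), (133, false, 4), (118, false, 3), (167, false, 6), (134, false, 5), (119, false, 4), (170, false, 5), (135, false, 4), (158, false, 5), (141, false, 4), (96, false, 3), (26, false, 2), (20, false, 1), (160, false, 3), (98, false, 2), (52, false, 1), (149, false, 4), (133, false, 3), (149, false, 5), (133, false, 4), (104, false, 3), (150, false, 4), (134, false, 3), (152, false, 5), (161, false, 5), (128, false, 4), (113, false, 3), (53, false, 2), (167, false, 6), (150, false, 5), (119, false, 4), (168, false, 5), (151, false, 4), (166, false, 6), (149, false, 5), (133, false, 4), (167, false, 7), (150, false, 6), (134, false, 5), (169, false, 8), (152, false, 7), (170, false,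 7), (129, false, 6), (114, false, 5), (100, false, 4), (54, false, 3), (150, false, 4), (119, false, 3), (149, false, 3), (150, false, 4), (151, false, 5), (152, false, 6), (131, false, 5), (116, false, 4), (102, false, 3), (149, false, 5), (118, false, 4), (152, false, 6), (132, false, 6), (117, false, 5), (103, false, 4), (118, false, 6), (104, false, 5), (119, false, 5), (152, false, 6), (133, false, 5), (135, false, 6), (149, false, 6), (104, false, 5), (151, false, 5), (168, false, 7), (151, false, 6), (135, false, 5), (169, false, 6), (152, false, 5), (170, false, 5), (85, false, 4), (73, false, 3), (43, false, 2), (35, false, 1), (99, false, 1), (150, false, 3), (119, false, 2), (152, false, 2), (164, false, 2), (166, false, 6), (149, false, 5), (118, false, 4), (104, false, 3), (170, false, 5), (148, false, 4), (117, false, 3), (150, false, 5), (119, false, 4), (152, false, 4), (86, false, 3), (74, false, 2), (44, false, 1), (147, false, 2), (102, false, 1), (152, false, 3), (119, false, 2), (165, false, 3), (132, false, 2), (149, false, 6), (133, false, 5), (118, false, 4), (104, false, 3), (150, false, 5), (134, false, 4), (119, false, 3), (152, false, 4), (166, false, 4), (133, false, 3), (168, false,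 5), (135, false, 4), (170, false, 4), (102, false, 3), (89, false, 2), (77, false, 1), (148, false, 3), (117, false, 2), (90, false, 1), (150, false, 3), (119, false, 2), (152, false, 2), (152, true, 3), (181, false, 0), (184, false, 3), (149, false, 2), (118, false, 1), (104, false, 0), (150, false, 1), (119, false, 0)]),
   ([21, 7, 13, 14, 17, 6, 11, 12, 14, 15, 16], [(219, false, 0), (218, false, 10), (157, false, 9), (124, false, 8), (109, false, 7), (70, false, 6), (59, false, 5), (49, false, 4), (40, false, 3), (14, false, 2), (126, false, 4), (72, false, 3), (51, false, 2), (164, false, 7), (147, false, 6), (131, false, 5), (102, false, 4), (151, false, 6), (152, false, 7), (133, false, 6), (118, false, 5), (134, false, 7), (119, false, 6), (166, false, 8), (149, false, 7), (133, false, 6), (104, false, 5), (167, false, 7), (150, false, 6), (134, false, 5), (168, false, 8), (151, false, 7), (135, false, 6), (168, false, 7), (151, false, 6), (160, false, 8), (143, false, 7), (127, false, 6), (112, false, 5), (73, false, 4), (52, false, 3), (147, false, 6), (131, false, 5), (149, false, 7), (133, false, 6), (167, false, 9), (150, false, 8), (134, false, 7), (166, false, 10), (149, false, 9), (133, false,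 8), (118, false, 7), (104, false, 6), (167, false, 9), (150, false, 8), (134, false, 7), (119, false, 6), (168, false, 8), (151, false, 7), (135, false, 6), (169, false, 7), (152, false, 6), (169, false, 6), (166, false, 7), (149, false, 6), (167, false, 8), (150, false, 7), (169, false, 9), (152, false, 8), (170, false, 8), (117, false, 7), (103, false, 6), (118, false, 8), (104, false, 7), (129, false, 8), (114, false, 7), (87, false, 6), (75, false, 5), (54, false, 4), (148, false, 7), (117, false, 6), (103, false, 5), (149, false, 8), (118, false, 7), (104, false, 6), (150, false, 7), (119, false, 6), (152, false, 6), (118, false, 6), (119, false, 7), (146, false, 8), (130, false, 7), (101, false, 6), (88, false, 5), (76, false, 4), (149, false, 9), (118, false, 8), (104, false, 7), (149, false, 8), (118, false, 7), (150, false, 9), (119, false, 8), (151, false, 8), (152, false, 9), (147, false, 9), (131, false, 8), (102, false, 7), (89, false, 6), (77, false, 5), (151, false, 7), (152, false, 8), (133, false, 7), (118, false, 6), (134, false, 8), (119, false, 7), (131, false, 7), (102, false, 6), (89, false, 5), (151, false, 8), (149, false, 9), (133, false, 8), (118, false, 7), (166, false, 11), (149, false,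 10), (133, false, 9), (118, false, 8), (104, false, 7), (168, false, 10), (151, false, 9), (135, false, 8), (166, false, 9), (149, false, 8), (118, false, 7), (168, false, 10), (151, false, 9), (170, false, 11), (150, false, 10), (134, false, 9), (119, false, 8), (151, false, 9), (135, false, 8), (144, false, 8), (99, false, 7), (86, false, 6), (74, false, 5), (63, false, 4), (164, false, 8), (116, false, 7), (102, false, 6), (149, false, 8), (118, false, 7), (152, false, 9), (118, false, 8), (104, false, 7), (119, false, 7), (167, false, 8), (150, false, 7), (168, false, 9), (151, false, 8), (170, false, 10), (148, false, 9), (132, false, 8), (117, false, 7), (118, false, 8), (119, false, 9), (152, false, 10), (133, false, 9), (104, false, 8), (135, false, 8), (167, false, 8), (169, false, 9), (166, false, 10), (149, false, 9), (118, false, 8), (167, false, 11), (150, false, 10), (119, false, 9), (163, false, 10), (146, false, 9), (101, false, 8), (88, false, 7), (76, false, 6), (65, false, 5), (149, false, 9), (118, false, 8), (104, false, 7), (152, false, 8), (165, false, 8), (117, false, 7), (90, false, 6), (150, false, 8), (119, false, 7), (149, false, 7), (104, false, 6), (150, false, 6), (152, false, 7),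 (169, false, 7)], [(159, false, 4), (111, false, 3), (97, false, 2), (34, false, 1), (166, false, 6), (133, false, 5), (118, false, 4), (104, false, 3), (166, false, 5), (133, false, 4), (118, false, 3), (169, false, 6), (170, false, 7), (147, false, 6), (131, false, 5), (116, false, 4), (102, false, 3), (149, false, 5), (118, false, 4), (152, false, 6), (148, false, 7), (132, false, 6), (117, false, 5), (103, false, 4), (118, false, 6), (104, false, 5), (119, false, 5), (152, false, 6), (134, false, 5), (135, false, 6), (170, true, 7), (135, true, 6), (170, true, 7), (134, true, 5), (167, true, 6), (104, true, 5), (133, true, 6), (166, true, 7), (152, true, 7), (169, true, 8), (169, true, 7), (168, true, 6), (119, true, 6), (167, true, 7), (118, true, 5), (166, true, 6), (167, true, 5), (152, true, 5), (169, true, 6), (119, true, 5), (150, true, 6), (167, true, 7), (104, true, 5), (103, true, 4), (165, true, 5), (73, true, 2), (85, true, 3), (112, true, 4), (127, true, 5), (143, true, 6), (218, false, 0), (219, false, 5), (225, false, 15), (227, false, 17), (138, false, 4), (80, false, 3), (57, false, 2), (38, false, 1), (12, false, 0), (53, false, 2), (162, false, 6), (145, false, 5), (114, false, 4), (54,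 false, 3), (118, false, 3), (119, false, 4), (104, false, 3), (167, false, 5), (150, false, 4), (119, false, 3), (168, false, 4), (151, false, 3), (169, false, 5), (152, false, 4), (162, false, 4), (129, false, 3), (149, false, 7), (133, false, 6), (118, false, 5), (104, false, 4), (150, false, 6), (134, false, 5), (119, false, 4), (152, false, 5), (163, false, 5), (130, false, 4), (167, false, 9), (150, false, 8), (134, false, 7), (119, false, 6), (168, false, 8), (151, false, 7), (135, false, 6), (164, false, 7), (147, false, 6), (102, false, 5), (152, false, 7), (118, false, 6), (119, false, 7), (165, false, 8), (148, false, 7), (103, false, 6), (149, false, 8), (104, false, 7), (150, false, 7), (152, false, 8), (167, false, 8), (119, false, 7), (168, false, 7), (169, false, 8), (170, false, 9), (150, false, 8), (134, false, 7), (151, false, 9), (135, false, 8), (152, false, 8), (156, false, 8), (108, false, 7), (81, false, 6), (69, false, 5), (58, false, 4), (48, false, 3), (39, false, 2), (13, false, 1), (161, false, 8), (128, false, 7), (99, false, 6), (74, false, 5), (44, false, 4), (147, false, 5), (102, false, 4), (152, false, 6), (119, false, 5), (167, false, 6), (134, false, 5), (169, false, 7), (168,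 false, 8), (151, false, 7), (135, false, 6), (166, false, 7), (149, false, 6), (118, false, 5), (167, false, 8), (150, false, 7), (119, false, 6), (169, false, 7), (152, false, 6), (170, false, 6), (104, false, 5), (162, false, 6), (114, false, 5), (75, false, 4), (150, false, 8), (119, false, 7), (149, false, 7), (104, false, 6), (150, false, 6), (152, false, 7), (166, false, 7), (118, false, 6), (167, false, 8), (119, false, 7), (170, false, 7), (101, false, 6), (76, false, 5), (102, false, 7), (77, false, 6), (152, false, 7), (117, false, 6), (150, false, 8), (119, false, 7), (157, false, 8), (140, false, 7), (82, false, 6), (59, false, 5), (49, false, 4), (25, false, 3), (14, false, 2), (127, false, 4), (73, false, 3), (52, false, 2), (147, false, 5), (131, false, 4), (149, false, 6), (133, false, 5), (166, false, 8), (149, false, 7), (133, false, 6), (104, false, 5), (167, false, 7), (150, false, 6), (134, false, 5), (168, false, 8), (151, false, 7), (135, false, 6), (169, false, 7), (152, false, 6), (161, false, 6), (113, false, 5), (74, false, 4), (53, false, 3), (164, false, 7), (147, false, 6), (116, false, 5), (152, false, 7), (104, false, 6), (167, false, 8), (150, false, 7), (119, false, 6), (168,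 false, 7), (151, false, 6), (170, false, 8), (150, false, 7), (134, false, 6), (149, false, 8), (133, false, 7), (118, false, 6), (150, false, 9), (134, false, 8), (119, false, 7), (152, false, 8), (165, false, 8), (132, false, 7), (103, false, 6), (104, false, 7), (149, false, 9), (133, false, 8), (118, false, 7), (150, false, 10), (134, false, 9), (119, false, 8), (152, false, 9), (166, false, 9), (133, false, 8), (104, false, 7), (169, false, 8), (170, false, 9), (145, false, 8), (129, false, 7), (87, false, 6), (75, false, 5), (54, false, 4), (148, false, 7), (117, false, 6), (103, false, 5), (149, false, 8), (118, false, 7), (104, false, 6), (150, false, 7), (119, false, 6), (152, false, 6), (149, false, 9), (133, false, 8), (118, false, 7), (104, false, 6), (150, false, 8), (134, false, 7), (119, false, 6), (146, false, 7), (130, false, 6), (88, false, 5), (76, false, 4), (149, false, 9), (118, false, 8), (104, false, 7), (150, false, 8), (119, false, 7), (151, false, 7), (152, false, 8), (147, false, 8), (131, false, 7), (89, false, 6), (77, false, 5), (149, false, 7), (133, false, 6), (150, false, 8), (134, false, 7), (145, false, 9), (129, false, 8), (114, false, 7), (100, false, 6), (87, false, 5),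 (64, false, 4), (150, false, 9), (119, false, 8), (152, false, 8), (118, false, 8), (104, false, 7), (119, false, 7), (149, false, 8), (133, false, 7), (150, false, 9), (134, false, 8), (147, false, 10), (131, false, 9), (116, false, 8), (102, false, 7), (89, false, 6), (149, false, 9), (118, false, 8), (152, false, 10), (148, false, 11), (132, false, 10), (117, false, 9), (103, false, 8), (90, false, 7), (149, false, 9), (118, false, 8), (104, false, 7), (150, false, 8), (119, false, 7), (149, false, 7), (150, false, 8), (151, false, 9), (152, false, 10), (149, false, 10), (133, false, 9), (118, false, 8), (104, false, 7), (152, false, 9), (167, false, 9), (134, false, 8), (119, false, 7), (170, false, 8), (134, false, 7), (135, false, 8), (113, false, 7), (74, false, 6), (63, false, 5), (53, false, 4), (44, false, 3), (145, false, 4), (100, false, 3), (149, false, 5), (118, false, 4), (150, false, 6), (119, false, 5), (150, false, 5), (152, false, 6), (163, false, 6), (115, false, 5), (101, false, 4), (166, false, 7), (118, false, 6), (104, false, 5), (167, false, 6), (119, false, 5), (170, false, 5), (167, false, 8), (134, false, 7), (119, false, 6), (162, false, 7), (129, false, 6), (75, false, 5), (64, false,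 4), (54, false, 3), (149, false, 7), (118, false, 6), (104, false, 5), (150, false, 6), (119, false, 5), (151, false, 5), (152, false, 6), (133, false, 5), (134, false, 6), (163, false, 9), (146, false, 8), (130, false, 7), (115, false, 6), (101, false, 5), (76, false, 4), (65, false, 3), (118, false, 5), (104, false, 4), (119, false, 4), (152, false, 5), (164, false, 5), (131, false, 4), (77, false, 3), (133, false, 3), (134, false, 4), (167, false, 7), (150, false, 6), (134, false, 5), (119, false, 4), (168, false, 6), (151, false, 5), (135, false, 4), (170, false, 5), (151, false, 4), (152, false, 5), (126, false, 4), (97, false, 3), (34, false, 2), (166, false, 7), (133, false, 6), (118, false, 5), (104, false, 4), (168, false, 6), (135, false, 5), (161, false, 5), (113, false, 4), (118, false, 5), (119, false, 6), (164, false, 7), (147, false, 6), (102, false, 5), (152, false, 7), (118, false, 6), (119, false, 7), (166, false, 8), (149, false, 7), (104, false, 6), (167, false, 7), (150, false, 6)]),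
   ([3, 0, 0], [(6, false, 0), (91, false, 9), (78, false, 8), (66, false, 7), (55, false, 6), (36, false, 5), (21, false, 4), (15, false, 3), (6, false, 2), (3, false, 1), (0, false, 0), (155, false, 7), (93, false, 6), (80, false, 5), (68, false, 4), (38, false, 3), (30, false, 2), (23, false, 1), (5, false, 0), (160, false, 5), (98, false, 4), (85, false, 3), (43, false, 2), (35, false, 1), (99, false, 1), (150, false, 3), (119, false, 2), (152, false, 2), (165, false, 2), (167, false, 6), (150, false, 5), (119, false, 4), (169, false, 5), (152, false, 4), (166, false, 4), (104, false, 3), (166, false, 3), (167, false, 4), (169, false, 5), (170, false, 6), (144, false, 5), (113, false, 4), (99, false, 3), (86, false, 2), (44, false, 1), (148, false, 2), (103, false, 1), (149, false, 3), (104, false, 2), (151, false, 2), (167, false, 4), (150, false, 3), (134, false, 2), (169, false, 5), (152, false, 4), (167, false, 4), (134, false, 3), (119, false, 2), (166, false, 3), (133, false, 2), (167, false, 4), (134, false, 3), (162, false, 5), (129, false, 4), (114, false, 3), (100, false, 2), (87, false, 1), (150, false, 5), (119, false, 4), (152, false, 4), (118, false, 4), (104, false, 3), (119, false, 3), (149,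 false, 4), (133, false, 3), (150, false, 5), (134, false, 4), (152, false, 6), (164, false, 6), (131, false, 5), (116, false, 4), (102, false, 3), (89, false, 2), (149, false, 5), (118, false, 4), (152, false, 6), (133, false, 6), (118, false, 5), (104, false, 4), (134, false, 5), (119, false, 4), (165, false, 6), (148, false, 5), (132, false, 4), (90, false, 3), (149, false, 5), (118, false, 4), (104, false, 3), (150, false, 4), (119, false, 3), (151, false, 3), (152, false, 4), (149, false, 4), (133, false, 3), (150, false, 5), (134, false, 4), (152, false, 6), (168, false, 6), (135, false, 5), (169, false, 5), (170, false, 6), (142, false, 5), (111, false, 4), (97, false, 3), (72, false, 2), (51, false, 1), (27, false, 0), (162, false, 0), (166, false, 4), (149, false, 3), (118, false, 2), (104, false, 1), (168, false, 3), (151, false, 2), (169, false, 4), (152, false, 3), (170, false, 3), (131, false, 2), (116, false, 1), (151, false, 3), (149, false, 4), (133, false, 3), (104, false, 2), (150, false, 3), (134, false, 2), (151, false, 4), (135, false, 3), (149, false, 3), (118, false, 2), (149, false, 4), (118, false, 3), (104, false, 2), (152, false, 3), (118, false, 2), (119, false, 3), (99, false, 2),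 (74, false, 1), (53, false, 0), (164, false, 4), (147, false, 3), (116, false, 2), (152, false, 4), (104, false, 3), (167, false, 5), (150, false, 4), (119, false, 3), (168, false, 4), (151, false, 3), (170, false, 5), (150, false, 4), (134, false, 3), (152, false, 5), (132, false, 4), (117, false, 3), (118, false, 4), (119, false, 5), (151, false, 6), (135, false, 5), (152, false, 5), (161, false, 5), (99, false, 4), (86, false, 3), (74, false, 2), (53, false, 1), (44, false, 0), (145, false, 1), (100, false, 0), (149, false, 2), (118, false, 1), (150, false, 3), (119, false, 2), (150, false, 2), (152, false, 3), (164, false, 3), (116, false, 2), (102, false, 1), (149, false, 3), (118, false, 2), (152, false, 4), (118, false, 3), (104, false, 2), (119, false, 2), (167, false, 3), (150, false, 2), (168, false, 4), (151, false, 3), (170, false, 5), (148, false, 4), (132, false, 3), (117, false, 2), (118, false, 3), (119, false, 4), (152, false, 5), (133, false, 4), (104, false, 3), (135, false, 3), (167, false, 3), (169, false, 4), (166, false, 5), (149, false, 4), (118, false, 3), (167, false, 6), (150, false, 5), (119, false, 4), (169, false, 5), (152, false, 4), (170, false, 4), (100, false, 3), (87, false,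 2), (75, false, 1), (54, false, 0), (148, false, 3), (117, false, 2), (103, false, 1), (149, false, 4), (118, false, 3), (104, false, 2), (150, false, 3), (119, false, 2), (152, false, 2), (150, false, 3), (119, false, 2), (151, false, 2), (152, false, 3), (131, false, 2), (89, false, 1), (77, false, 0), (131, false, 1), (89, false, 0), (132, false, 2), (90, false, 1), (149, false, 3), (118, false, 2), (104, false, 1), (150, false, 2), (119, false, 1), (151, false, 1), (152, false, 2), (134, false, 1), (135, false, 2), (167, false, 3), (150, false, 2), (119, false, 1), (168, false, 2), (151, false, 1), (168, false, 3), (151, false, 2), (135, false, 1), (169, false, 2), (152, false, 1), (170, false, 1), (69, false, 0), (141, false, 2), (71, false, 1), (166, false, 6), (149, false, 5), (133, false, 4), (104, false, 3), (168, false, 5), (151, false, 4), (135, false, 3), (170, false, 4), (142, false, 3), (72, false, 2), (133, false, 6), (118, false, 5), (104, false, 4), (134, false, 5), (119, false, 4), (128, false, 4), (74, false, 3), (168, false, 7), (135, false, 6), (163, false, 6), (115, false, 5), (76, false, 4), (164, false, 7), (116, false, 6), (77, false, 5), (149, false, 6), (104, false, 5), (150, false,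 5), (152, false, 6), (165, false, 6), (117, false, 5), (118, false, 6), (119, false, 7), (166, false, 8), (149, false, 7), (104, false, 6), (158, false, 7), (141, false, 6), (83, false, 5), (60, false, 4), (41, false, 3), (26, false, 2), (20, false, 1), (160, false, 3), (98, false, 2), (52, false, 1), (149, false, 4), (133, false, 3), (149, false, 5), (133, false, 4), (104, false, 3), (150, false, 4), (134, false, 3), (152, false, 5), (161, false, 5), (128, false, 4), (113, false, 3), (53, false, 2), (167, false, 6), (150, false, 5), (119, false, 4), (168, false, 5), (151, false, 4), (166, false, 6), (149, false, 5), (133, false, 4), (167, false, 7), (150, false, 6), (134, false, 5), (169, false, 8), (152, false, 7), (170, false, 7), (129, false, 6), (114, false, 5), (100, false, 4), (54, false, 3), (150, false, 4), (119, false, 3), (149, false, 3), (150, false, 4), (151, false, 5), (152, false, 6), (131, false, 5), (116, false, 4), (102, false, 3), (149, false, 5), (118, false, 4), (152, false, 6), (132, false, 6), (117, false, 5), (103, false, 4), (118, false, 6), (104, false, 5), (119, false, 5), (152, false, 6), (128, false, 5), (86, false, 4), (74, false, 3), (44, false, 2), (147, false, 3), (102, false,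 2), (152, false, 4), (119, false, 3), (165, false, 4), (132, false, 3), (149, false, 7), (133, false, 6), (118, false, 5), (104, false, 4), (150, false, 6), (134, false, 5), (119, false, 4), (152, false, 5), (166, false, 5), (133, false, 4), (168, false, 6), (135, false, 5), (170, false, 5), (129, false, 5), (100, false, 4), (87, false, 3), (75, false, 2), (148, false, 6), (117, false, 5), (103, false, 4), (149, false, 7), (118, false, 6), (104, false, 5), (150, false, 6), (119, false, 5), (152, false, 5), (149, false, 6), (118, false, 5), (150, false, 7), (119, false, 6), (151, false, 6), (152, false, 7), (135, false, 6), (162, false, 6), (100, false, 5), (87, false, 4), (75, false, 3), (54, false, 2), (148, false, 5), (117, false, 4), (103, false, 3), (149, false, 6), (118, false, 5), (104, false, 4), (150, false, 5), (119, false, 4), (152, false, 4), (149, false, 5), (118, false, 4), (150, false, 6), (119, false, 5), (152, false, 5), (163, false, 5), (101, false, 4), (88, false, 3), (76, false, 2), (149, false, 7), (118, false, 6), (104, false, 5), (166, false, 7), (149, false, 6), (118, false, 5), (170, false, 8), (147, false, 7), (116, false, 6), (102, false, 5), (89, false, 4), (77, false, 3), (149, false,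 5), (118, false, 4), (152, false, 6), (148, false, 6), (117, false, 5), (103, false, 4), (90, false, 3), (149, false, 5), (118, false, 4), (104, false, 3), (150, false, 4), (119, false, 3), (152, false, 3), (149, false, 3), (151, false, 4), (168, false, 6), (151, false, 5), (135, false, 4), (169, false, 5), (152, false, 4), (170, false, 4), (100, false, 3), (64, false, 2), (149, false, 5), (118, false, 4), (150, false, 6), (119, false, 5), (152, false, 5), (98, false, 4), (62, false, 3), (52, false, 2), (35, false, 1), (100, false, 1), (151, false, 3), (152, false, 4), (130, false, 3), (115, false, 2), (118, false, 3), (119, false, 4), (152, false, 5), (133, false, 4), (104, false, 3), (128, false, 3), (63, false, 2), (53, false, 1), (163, false, 5), (146, false, 4), (115, false, 3), (166, false, 6), (149, false, 5), (118, false, 4), (167, false, 7), (150, false, 6), (119, false, 5), (170, false, 6), (151, false, 5), (147, false, 6), (131, false, 5), (102, false, 4), (151, false, 6), (152, false, 7), (132, false, 6), (117, false, 5), (118, false, 6), (119, false, 7), (151, false, 8), (135, false, 7), (144, false, 7), (99, false, 6), (86, false, 5), (74, false, 4), (63, false, 3), (53, false, 2), (44, false, 1),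 (145, false, 2), (100, false, 1), (149, false, 3), (118, false, 2), (150, false, 4), (119, false, 3), (150, false, 3), (152, false, 4), (163, false, 4), (115, false, 3), (101, false, 2), (166, false, 5), (118, false, 4), (104, false, 3), (167, false, 4), (119, false, 3), (170, false, 3), (165, false, 6), (132, false, 5), (117, false, 4), (118, false, 5), (119, false, 6), (149, false, 7), (133, false, 6), (104, false, 5), (150, false, 6), (134, false, 5), (152, false, 7), (166, false, 7), (133, false, 6), (118, false, 5), (168, false, 8), (135, false, 7), (170, false, 7), (119, false, 6), (149, false, 6), (104, false, 5), (150, false, 5), (149, false, 6), (118, false, 5), (151, false, 7), (146, false, 8), (130, false, 7), (115, false, 6), (101, false, 5), (88, false, 4), (76, false, 3), (65, false, 2), (149, false, 6), (118, false, 5), (104, false, 4), (150, false, 5), (119, false, 4), (149, false, 4), (150, false, 5), (151, false, 6), (152, false, 7), (150, false, 7), (134, false, 6), (119, false, 5), (152, false, 6), (164, false, 6), (131, false, 5), (102, false, 4), (89, false, 3), (77, false, 2), (151, false, 4), (149, false, 5), (133, false, 4), (118, false, 3), (150, false, 6), (134, false, 5), (119, false,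 4), (152, false, 5), (162, false, 5), (129, false, 4), (100, false, 3), (87, false, 2), (54, false, 1), (150, false, 4), (119, false, 3), (152, false, 3), (104, false, 2), (149, false, 4), (133, false, 3), (118, false, 2), (150, false, 5), (134, false, 4), (119, false, 3), (152, false, 4), (165, false, 4), (132, false, 3), (103, false, 2), (90, false, 1), (149, false, 3), (118, false, 2), (104, false, 1), (149, false, 2), (118, false, 1), (150, false, 3), (119, false, 2), (151, false, 2), (152, false, 3), (133, false, 2), (104, false, 1), (134, false, 1), (167, false, 4), (150, false, 3), (134, false, 2), (119, false, 1), (168, false, 3), (151, false, 2), (135, false, 1), (169, false, 2), (152, false, 1), (170, false, 1)], [(0, false, 1)])]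

def p2Eqs_17 : List (List ℕ × List Step × List Step) :=
  [([20, 5, 8, 5, 8], [(204, false, 0), (204, false, 7), (120, false, 6), (91, false, 5), (55, false, 4), (28, false, 3), (21, false, 2), (15, false, 1), (0, false, 0), (143, false, 4), (112, false, 3), (98, false, 2), (52, false, 1), (149, false, 4), (133, false, 3), (150, false, 5), (134, false, 4), (152, false, 6), (128, false, 5), (113, false, 4), (99, false, 3), (53, false, 2), (167, false, 6), (150, false, 5), (119, false, 4), (169, false, 5), (152, false, 4), (167, false, 4), (168, false, 5), (164, false, 6), (131, false, 5), (116, false, 4), (151, false, 6), (149, false, 7), (133, false, 6), (104, false, 5), (150, false, 6), (134, false, 5), (152, false, 7), (165, false, 7), (132, false, 6), (117, false, 5), (118, false, 6), (119, false, 7), (149, false, 8), (133, false, 7), (104, false, 6), (150, false, 7), (134, false, 6), (152, false, 8), (168, false, 8), (135, false, 7), (159, false, 7), (111, false, 6), (84, false, 5), (72, false, 4), (51, false, 3), (42, false, 2), (34, false, 1), (161, false, 6), (128, false, 5), (113, false, 4), (99, false, 3), (150, false, 5), (119, false, 4), (151, false, 4), (149, false, 5), (133, false, 4), (150, false,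 6), (134, false, 5), (152, false, 7), (169, false, 7), (162, false, 8), (145, false, 7), (129, false, 6), (114, false, 5), (100, false, 4), (150, false, 6), (119, false, 5), (149, false, 5), (150, false, 6), (151, false, 7), (152, false, 8), (133, false, 7), (118, false, 6), (104, false, 5), (134, false, 6), (119, false, 5), (133, false, 5), (134, false, 6), (166, false, 9), (149, false, 8), (133, false, 7), (118, false, 6), (104, false, 5), (168, false, 8), (151, false, 7), (135, false, 6), (169, false, 7), (152, false, 6), (170, false, 6), (116, false, 5), (149, false, 7), (104, false, 6), (150, false, 6), (151, false, 7), (148, false, 8), (132, false, 7), (117, false, 6), (118, false, 7), (119, false, 8), (152, false, 9), (133, false, 8), (104, false, 7), (149, false, 8), (133, false, 7), (152, false, 9), (161, false, 9), (128, false, 8), (99, false, 7), (86, false, 6), (74, false, 5), (53, false, 4), (44, false, 3), (145, false, 4), (100, false, 3), (149, false, 5), (118, false, 4), (150, false, 6), (119, false, 5), (150, false, 5), (152, false, 6), (164, false, 6), (116, false, 5), (102, false, 4), (149, false, 6), (118, false, 5), (152, false, 7), (118, false, 6), (104, false, 5), (119, false, 5), (167,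 false, 6), (150, false, 5), (168, false, 7), (151, false, 6), (170, false, 8), (148, false, 7), (132, false, 6), (117, false, 5), (118, false, 6), (119, false, 7), (152, false, 8), (133, false, 7), (104, false, 6), (135, false, 6), (167, false, 6), (169, false, 7), (168, false, 8), (151, false, 7), (166, false, 9), (149, false, 8), (133, false, 7), (118, false, 6), (167, false, 10), (150, false, 9), (134, false, 8), (119, false, 7), (169, false, 9), (152, false, 8), (170, false, 8), (129, false, 7), (100, false, 6), (87, false, 5), (75, false, 4), (54, false, 3), (148, false, 6), (117, false, 5), (103, false, 4), (149, false, 7), (118, false, 6), (104, false, 5), (150, false, 6), (119, false, 5), (152, false, 5), (149, false, 6), (118, false, 5), (150, false, 7), (119, false, 6), (151, false, 6), (152, false, 7), (131, false, 6), (102, false, 5), (89, false, 4), (77, false, 3), (151, false, 5), (148, false, 6), (132, false, 5), (117, false, 4), (90, false, 3), (150, false, 5), (119, false, 4), (149, false, 4), (104, false, 3), (150, false, 3), (151, false, 4), (152, false, 5), (150, false, 5), (134, false, 4), (119, false, 3), (151, false, 4), (135, false, 3), (152, false, 3), (170, false, 6), (149, false, 5),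 (118, false, 4), (151, false, 6), (158, false, 8), (141, false, 7), (125, false, 6), (110, false, 5), (96, false, 4), (60, false, 3), (33, false, 2), (26, false, 1), (20, false, 0), (160, false, 2), (98, false, 1), (52, false, 0), (149, false, 3), (133, false, 2), (149, false, 4), (133, false, 3), (104, false, 2), (150, false, 3), (134, false, 2), (152, false, 4), (161, false, 4), (128, false, 3), (113, false, 2), (53, false, 1), (167, false, 5), (150, false, 4), (119, false, 3), (168, false, 4), (151, false, 3), (166, false, 5), (149, false, 4), (133, false, 3), (167, false, 6), (150, false, 5), (134, false, 4), (169, false, 7), (152, false, 6), (170, false, 6), (129, false, 5), (114, false, 4), (100, false, 3), (54, false, 2), (150, false, 3), (119, false, 2), (149, false, 2), (150, false, 3), (151, false, 4), (152, false, 5), (131, false, 4), (116, false, 3), (102, false, 2), (149, false, 4), (118, false, 3), (152, false, 5), (132, false, 5), (117, false, 4), (103, false, 3), (118, false, 5), (104, false, 4), (119, false, 4), (152, false, 5), (126, false, 4), (84, false, 3), (72, false, 2), (42, false, 1), (34, false, 0), (161, false, 5), (128, false, 4), (113, false, 3), (99, false, 2), (150, false, 4), (119,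 false, 3), (151, false, 3), (149, false, 4), (133, false, 3), (150, false, 5), (134, false, 4), (152, false, 6), (169, false, 6), (164, false, 7), (147, false, 6), (131, false, 5), (116, false, 4), (102, false, 3), (149, false, 5), (118, false, 4), (152, false, 6), (149, false, 7), (133, false, 6), (118, false, 5), (104, false, 4), (150, false, 6), (134, false, 5), (119, false, 4), (152, false, 5), (166, false, 5), (133, false, 4), (167, false, 6), (134, false, 5), (168, false, 7), (135, false, 6), (165, false, 6), (117, false, 5), (103, false, 4), (118, false, 6), (104, false, 5), (119, false, 5), (166, false, 6), (149, false, 5), (169, false, 7), (152, false, 6), (168, false, 6), (161, false, 7), (128, false, 6), (99, false, 5), (86, false, 4), (74, false, 3), (44, false, 2), (147, false, 3), (102, false, 2), (152, false, 4), (119, false, 3), (165, false, 4), (132, false, 3), (149, false, 7), (133, false, 6), (118, false, 5), (104, false, 4), (150, false, 6), (134, false, 5), (119, false, 4), (152, false, 5), (166, false, 5), (133, false, 4), (168, false, 6), (135, false, 5), (170, false, 5), (151, false, 6), (149, false, 7), (133, false, 6), (118, false, 5), (104, false, 4), (150, false, 6), (134, false, 5),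 (119, false, 4), (152, false, 5), (165, false, 5), (132, false, 4), (90, false, 3), (149, false, 5), (118, false, 4), (104, false, 3), (150, false, 4), (119, false, 3), (151, false, 3), (152, false, 4), (133, false, 3), (134, false, 4), (167, false, 7), (150, false, 6), (134, false, 5), (119, false, 4), (168, false, 6), (151, false, 5), (135, false, 4), (169, false, 5), (152, false, 4), (170, false, 4), (100, false, 3), (75, false, 2), (150, false, 6), (119, false, 5), (152, false, 5), (101, false, 4), (76, false, 3), (104, false, 5), (166, false, 5), (168, false, 6), (169, false, 7), (166, false, 8), (149, false, 7), (133, false, 6), (104, false, 5), (167, false, 7), (150, false, 6), (134, false, 5), (170, false, 8), (150, false, 7), (134, false, 6), (119, false, 5), (166, false, 7), (149, false, 6), (133, false, 5), (168, false, 8), (151, false, 7), (135, false, 6), (170, false, 7), (151, false, 6), (152, false, 7), (159, false, 7), (126, false, 6), (97, false, 5), (72, false, 4), (61, false, 3), (51, false, 2), (34, false, 1), (27, false, 0), (160, false, 0), (166, false, 4), (149, false, 3), (118, false, 2), (104, false, 1), (167, false, 3), (150, false, 2), (119, false, 1), (168, false, 2), (151, false,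 1), (170, false, 3), (145, false, 2), (129, false, 1), (149, false, 5), (133, false, 4), (118, false, 3), (104, false, 2), (150, false, 4), (134, false, 3), (119, false, 2), (149, false, 3), (133, false, 2), (151, false, 4), (135, false, 3), (152, false, 3), (163, false, 3), (101, false, 2), (166, false, 4), (104, false, 3), (164, false, 3), (166, false, 7), (149, false, 6), (118, false, 5), (104, false, 4), (167, false, 6), (150, false, 5), (119, false, 4), (168, false, 5), (151, false, 4), (166, false, 6), (149, false, 5), (133, false, 4), (168, false, 7), (151, false, 6), (135, false, 5), (170, false, 6), (143, false, 5), (98, false, 4), (73, false, 3), (62, false, 2), (52, false, 1), (35, false, 0), (100, false, 0), (151, false, 2), (152, false, 3), (130, false, 2), (115, false, 1), (118, false, 2), (119, false, 3), (152, false, 4), (131, false, 3), (102, false, 2), (151, false, 4), (149, false, 5), (133, false, 4), (118, false, 3), (166, false, 7), (149, false, 6), (133, false, 5), (118, false, 4), (104, false, 3), (169, false, 6), (152, false, 5), (163, false, 5), (130, false, 4), (115, false, 3), (76, false, 2), (65, false, 1), (118, false, 2), (119, false, 3), (166, false, 5), (149, false, 4), (133, false,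 3), (104, false, 2), (168, false, 4), (151, false, 3), (135, false, 2)], [(41, false, 2), (20, false, 1), (161, false, 3), (99, false, 2), (53, false, 1), (167, false, 5), (150, false, 4), (119, false, 3), (169, false, 4), (152, false, 3), (166, false, 3), (167, false, 4), (169, false, 5), (170, false, 6), (145, false, 5), (114, false, 4), (100, false, 3), (54, false, 2), (150, false, 3), (119, false, 2), (149, false, 2), (150, false, 3), (151, false, 4), (161, false, 6), (144, false, 5), (128, false, 4), (113, false, 3), (99, false, 2), (44, false, 1), (150, false, 2), (152, false, 3), (119, false, 2), (133, false, 2), (104, false, 1), (134, false, 1), (133, false, 2), (118, false, 1), (134, false, 3), (119, false, 2), (170, true, 4), (169, true, 3), (168, true, 2), (152, true, 2), (119, true, 2), (150, true, 3), (210, false, 0), (211, false, 3), (212, false, 7), (214, false, 11), (149, false, 2), (118, false, 1), (104, false, 0), (151, false, 1), (152, false, 2), (164, false, 2), (131, false, 1), (116, false, 0), (151, false, 2), (149, false, 3), (133, false, 2), (104, false, 1), (150, false, 2), (134, false, 1), (152, false, 3), (165, false, 3), (132, false, 2), (117, false, 1), (118, false, 2), (119, false,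 3), (149, false, 4), (133, false, 3), (104, false, 2), (150, false, 3), (134, false, 2), (152, false, 4), (167, false, 4), (134, false, 3), (119, false, 2), (169, false, 3), (162, false, 4), (145, false, 3), (129, false, 2), (87, false, 1), (75, false, 0), (148, false, 4), (117, false, 3), (103, false, 2), (149, false, 5), (118, false, 4), (104, false, 3), (150, false, 4), (119, false, 3), (152, false, 3), (149, false, 6), (133, false, 5), (118, false, 4), (104, false, 3), (150, false, 5), (134, false, 4), (119, false, 3), (149, false, 4), (133, false, 3), (150, false, 5), (134, false, 4), (152, false, 6), (165, false, 6), (132, false, 5), (117, false, 4), (103, false, 3), (90, false, 2), (149, false, 4), (118, false, 3), (104, false, 2), (150, false, 3), (119, false, 2), (149, false, 2), (150, false, 3), (151, false, 4), (152, false, 5), (133, false, 4), (118, false, 3), (104, false, 2), (134, false, 3), (119, false, 2), (168, false, 4), (151, false, 3), (135, false, 2)]),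
   ([18, 3, 6, 9, 10, 11, 12, 15, 16, 2, 5, 7, 8, 11, 12, 14, 17], [(173, false, 0), (172, false, 6), (94, false, 5), (81, false, 4), (58, false, 3), (31, false, 2), (24, false, 1), (9, false, 0), (160, false, 1), (169, false, 5), (152, false, 4), (163, false, 4), (115, false, 3), (101, false, 2), (165, false, 5), (117, false, 4), (103, false, 3), (118, false, 5), (104, false, 4), (119, false, 4), (169, false, 5), (152, false, 4), (166, false, 4), (165, false, 5), (103, false, 4), (90, false, 3), (149, false, 5), (118, false, 4), (104, false, 3), (149, false, 4), (118, false, 3), (150, false, 5), (119, false, 4), (152, false, 4), (166, false, 4), (104, false, 3), (167, false, 3), (170, false, 4)], [(138, false, 8), (122, false, 7), (80, false, 6), (68, false, 5), (57, false, 4), (47, false, 3), (23, false, 2), (8, false, 1), (143, false, 10), (98, false, 9), (85, false, 8), (73, false, 7), (62, false, 6), (52, false, 5), (35, false, 4), (100, false, 4), (151, false, 6), (152, false, 7), (130, false, 6), (115, false, 5), (118, false, 6), (119, false, 7), (152, false, 8), (131, false, 7), (102, false, 6), (151, false, 8), (149, false, 9), (133, false, 8), (118, false, 7), (165, false, 11), (148, false, 10), (132,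 false, 9), (117, false, 8), (103, false, 7), (118, false, 9), (104, false, 8), (119, false, 8), (152, false, 9), (133, false, 8), (134, false, 9), (167, false, 12), (150, false, 11), (134, false, 10), (119, false, 9), (169, false, 11), (152, false, 10), (166, false, 10), (133, false, 9), (104, false, 8), (169, false, 9), (161, false, 10), (144, false, 9), (128, false, 8), (86, false, 7), (74, false, 6), (63, false, 5), (53, false, 4), (163, false, 8), (146, false, 7), (115, false, 6), (166, false, 9), (149, false, 8), (118, false, 7), (167, false, 10), (150, false, 9), (119, false, 8), (170, false, 9), (147, false, 8), (102, false, 7), (152, false, 9), (119, false, 8), (165, false, 9), (132, false, 8), (149, false, 12), (133, false, 11), (118, false, 10), (104, false, 9), (150, false, 11), (134, false, 10), (119, false, 9), (152, false, 10), (166, false, 10), (133, false, 9), (168, false, 11), (135, false, 10), (170, false, 10), (133, false, 10), (104, false, 9), (134, false, 9), (133, false, 10), (118, false, 9), (134, false, 11), (119, false, 10), (162, false, 12), (145, false, 11), (129, false, 10), (100, false, 9), (87, false, 8), (75, false, 7), (64, false, 6), (54, false, 5), (148, false, 9), (117, false,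 8), (103, false, 7), (149, false, 10), (118, false, 9), (104, false, 8), (150, false, 9), (119, false, 8), (152, false, 8), (149, false, 9), (118, false, 8), (150, false, 10), (119, false, 9), (151, false, 9), (152, false, 10), (133, false, 9), (104, false, 8), (134, false, 8), (133, false, 9), (118, false, 8), (134, false, 10), (119, false, 9), (164, false, 11), (147, false, 10), (131, false, 9), (102, false, 8), (89, false, 7), (77, false, 6), (151, false, 8), (152, false, 9), (133, false, 8), (118, false, 7), (134, false, 9), (119, false, 8), (165, false, 10), (148, false, 9), (132, false, 8), (103, false, 7), (90, false, 6), (149, false, 8), (118, false, 7), (104, false, 6), (149, false, 7), (118, false, 6), (150, false, 8), (119, false, 7), (151, false, 7), (152, false, 8), (149, false, 8), (133, false, 7), (104, false, 6), (150, false, 7), (134, false, 6), (152, false, 8), (168, false, 8), (135, false, 7), (169, false, 7), (170, false, 8), (145, false, 7), (114, false, 6), (64, false, 5), (118, false, 7), (119, false, 8), (104, false, 7), (162, false, 9), (145, false, 8), (129, false, 7), (64, false, 6), (54, false, 5), (149, false, 9), (133, false, 8), (118, false, 7), (104, false, 6), (150, false, 8),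 (134, false, 7), (119, false, 6), (149, false, 7), (133, false, 6), (150, false, 8), (134, false, 7), (152, false, 9), (163, false, 9), (130, false, 8), (115, false, 7), (101, false, 6), (65, false, 5), (118, false, 6), (104, false, 5), (119, false, 5), (167, false, 7), (150, false, 6), (134, false, 5), (168, false, 8), (151, false, 7), (135, false, 6), (164, false, 7), (147, false, 6), (116, false, 5), (152, false, 7), (104, false, 6), (164, false, 8), (147, false, 7), (116, false, 6), (77, false, 5), (152, false, 6), (104, false, 5), (165, false, 7), (148, false, 6), (117, false, 5), (149, false, 7), (118, false, 6), (150, false, 8), (119, false, 7), (152, false, 7), (167, false, 7), (168, false, 8), (169, false, 9), (170, false, 10), (149, false, 9), (133, false, 8), (118, false, 7), (104, false, 6), (152, false, 8), (167, false, 8), (134, false, 7), (119, false, 6), (168, false, 7), (135, false, 6), (169, false, 6), (170, false, 7), (141, false, 6), (83, false, 5), (41, false, 4), (26, false, 3), (144, false, 9), (86, false, 8), (74, false, 7), (53, false, 6), (44, false, 5), (145, false, 6), (100, false, 5), (149, false, 7), (118, false, 6), (150, false, 8), (119, false, 7), (150, false, 7), (152, false,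 8), (164, false, 8), (116, false, 7), (102, false, 6), (149, false, 8), (118, false, 7), (152, false, 9), (118, false, 8), (104, false, 7), (119, false, 7), (167, false, 8), (150, false, 7), (168, false, 9), (151, false, 8), (170, false, 10), (148, false, 9), (132, false, 8), (117, false, 7), (118, false, 8), (119, false, 9), (152, false, 10), (133, false, 9), (104, false, 8), (135, false, 8), (166, false, 8), (167, false, 9), (162, false, 10), (114, false, 9), (100, false, 8), (87, false, 7), (75, false, 6), (54, false, 5), (148, false, 8), (117, false, 7), (103, false, 6), (149, false, 9), (118, false, 8), (104, false, 7), (150, false, 8), (119, false, 7), (152, false, 7), (150, false, 8), (119, false, 7), (149, false, 7), (150, false, 8), (152, false, 9), (168, false, 9), (170, false, 10), (131, false, 9), (116, false, 8), (102, false, 7), (89, false, 6), (77, false, 5), (149, false, 7), (118, false, 6), (152, false, 8), (132, false, 8), (117, false, 7), (103, false, 6), (90, false, 5), (149, false, 7), (118, false, 6), (104, false, 5), (150, false, 6), (119, false, 5), (149, false, 5), (150, false, 6), (151, false, 7), (152, false, 8), (149, false, 8), (133, false, 7), (118, false, 6), (104, false, 5), (151,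 false, 7), (135, false, 6), (160, false, 7), (143, false, 6), (112, false, 5), (35, false, 4), (149, false, 6), (118, false, 5), (104, false, 4), (150, false, 5), (119, false, 4), (152, false, 4), (161, false, 4), (164, false, 8), (147, false, 7), (116, false, 6), (102, false, 5), (149, false, 7), (118, false, 6), (152, false, 8), (149, false, 8), (118, false, 7), (104, false, 6), (150, false, 7), (119, false, 6), (152, false, 6), (165, false, 6), (167, false, 10), (150, false, 9), (119, false, 8), (170, false, 9), (170, true, 9), (169, true, 8), (152, true, 8), (119, true, 8), (150, true, 9), (152, true, 7), (135, true, 7), (151, true, 8), (119, true, 7), (104, true, 7), (118, true, 8), (103, true, 6), (117, true, 7), (132, true, 8), (152, true, 8), (118, true, 6), (149, true, 7), (102, true, 5), (116, true, 6), (131, true, 7), (152, true, 8), (65, true, 5), (130, true, 6), (146, true, 7), (119, true, 6), (134, true, 7), (150, true, 8), (104, true, 6), (118, true, 7), (133, true, 8), (149, true, 9), (54, true, 5), (64, true, 6), (129, true, 7), (145, true, 8), (104, true, 7), (133, true, 8), (133, true, 7), (104, true, 7), (133, true, 8), (152, true, 9), (119, true, 8), (118, true, 7), (115, true, 6), (130,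 true, 7), (146, true, 8), (170, true, 9), (169, true, 8), (168, true, 7), (104, true, 6), (118, true, 7), (166, true, 8), (152, true, 8), (150, true, 7), (149, true, 6), (119, true, 6), (150, true, 7), (100, true, 5), (114, true, 6), (162, true, 7), (152, true, 7), (169, true, 8), (161, true, 4), (27, true, 4), (42, true, 5), (51, true, 6), (61, true, 7), (97, true, 8), (111, true, 9), (170, true, 10), (167, true, 9), (152, true, 9), (169, true, 10), (119, true, 9), (118, true, 8), (152, true, 9), (104, true, 8), (118, true, 9), (149, true, 10), (90, true, 8), (103, true, 9), (148, true, 10), (165, true, 11), (169, true, 10), (152, true, 10), (119, true, 10), (150, true, 11), (118, true, 9), (149, true, 10), (77, true, 8), (89, true, 9), (102, true, 10), (164, true, 11), (119, true, 11), (118, true, 10), (104, true, 10), (170, true, 11), (135, true, 11), (168, true, 12), (133, true, 10), (166, true, 11), (152, true, 11), (119, true, 10), (134, true, 11), (150, true, 12), (104, true, 10), (118, true, 11), (133, true, 12), (149, true, 13), (132, true, 9), (165, true, 10), (119, true, 9), (152, true, 10), (102, true, 8), (147, true, 9), (170, true, 10), (119, true, 9), (150, true, 10), (167, true, 11), (118, true,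 8), (149, true, 9), (166, true, 10), (115, true, 7), (146, true, 8), (163, true, 9), (53, true, 5), (63, true, 6), (74, true, 7), (86, true, 8), (144, true, 9), (170, true, 9), (152, true, 9), (169, true, 10), (119, true, 9), (150, true, 10), (167, true, 11), (104, true, 9), (118, true, 10), (149, true, 11), (166, true, 12), (169, true, 11), (135, true, 11), (168, true, 12), (134, true, 10), (167, true, 11), (133, true, 9), (166, true, 10), (104, true, 9), (133, true, 10), (166, true, 11), (152, true, 11), (169, true, 12), (119, true, 10), (134, true, 11), (150, true, 12), (167, true, 13), (134, true, 10), (133, true, 9), (152, true, 10), (119, true, 9), (104, true, 9), (118, true, 10), (103, true, 8), (117, true, 9), (132, true, 10), (148, true, 11), (165, true, 12), (118, true, 8), (133, true, 9), (149, true, 10), (151, true, 9), (102, true, 7), (131, true, 8), (152, true, 9), (119, true, 8), (118, true, 7), (115, true, 6), (130, true, 7), (152, true, 8), (151, true, 7), (100, true, 5), (35, true, 5), (52, true, 6), (62, true, 7), (73, true, 8), (85, true, 9), (98, true, 10), (127, true, 11), (160, true, 12), (18, true, 2), (31, true, 3), (39, true, 4), (69, true, 5), (81, true, 6), (108, true, 7), (156, true,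 8), (172, false, 0), (173, false, 5), (181, false, 11), (182, false, 14), (184, false, 17), (156, false, 4), (108, false, 3), (94, false, 2), (81, false, 1), (9, false, 0), (149, false, 1), (150, false, 2), (159, false, 4), (142, false, 3), (111, false, 2), (97, false, 1), (84, false, 0), (149, false, 3), (104, false, 2), (149, false, 2), (152, false, 3), (104, false, 2), (160, false, 3), (112, false, 2), (85, false, 1), (150, false, 4), (119, false, 3), (149, false, 3), (150, false, 4), (152, false, 5), (163, false, 5), (115, false, 4), (101, false, 3), (88, false, 2), (149, false, 6), (118, false, 5), (104, false, 4), (150, false, 5), (119, false, 4), (165, false, 5), (148, false, 4), (90, false, 3), (152, false, 5), (118, false, 4), (104, false, 3), (119, false, 3), (166, false, 4), (149, false, 3), (166, false, 5), (149, false, 4), (104, false, 3), (167, false, 4), (150, false, 3), (169, false, 5), (152, false, 4), (166, false, 4), (118, false, 3), (167, false, 5), (119, false, 4), (170, false, 4), (104, false, 3)]),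
   ([3, 1, 1], [(7, false, 0), (154, false, 9), (106, false, 8), (92, false, 7), (46, false, 6), (37, false, 5), (29, false, 4), (16, false, 3), (7, false, 2), (4, false, 1), (2, false, 0), (122, false, 3), (93, false, 2), (68, false, 1), (38, false, 0), (147, false, 5), (131, false, 4), (116, false, 3), (151, false, 5), (152, false, 6), (134, false, 5), (135, false, 6), (118, false, 5), (104, false, 4), (159, false, 6), (142, false, 5), (111, false, 4), (72, false, 3), (51, false, 2), (42, false, 1), (145, false, 3), (118, false, 5), (104, false, 4), (164, false, 7), (147, false, 6), (131, false, 5), (116, false, 4), (151, false, 6), (152, false, 7), (133, false, 6), (104, false, 5), (134, false, 5), (166, false, 8), (149, false, 7), (133, false, 6), (118, false, 5), (167, false, 9), (150, false, 8), (134, false, 7), (119, false, 6), (168, false, 8), (151, false, 7), (135, false, 6), (166, false, 7), (149, false, 6), (104, false, 5), (169, false, 6), (152, false, 5), (166, false, 5), (167, false, 6), (170, false, 7), (112, false, 6), (98, false, 5), (73, false, 4), (52, false, 3), (43, false, 2), (162, false, 6), (145, false, 5), (114, false, 4), (118, false, 5), (119, false, 6), (104, false, 5), (168, false,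 7), (151, false, 6), (169, false, 8), (152, false, 7), (164, false, 7), (131, false, 6), (116, false, 5), (151, false, 7), (149, false, 8), (133, false, 7), (104, false, 6), (150, false, 7), (134, false, 6), (152, false, 8), (166, false, 8), (133, false, 7), (118, false, 6), (170, false, 9), (133, false, 8), (118, false, 7), (104, false, 6), (134, false, 7), (119, false, 6), (129, false, 6), (75, false, 5), (54, false, 4), (149, false, 7), (118, false, 6), (104, false, 5), (150, false, 6), (119, false, 5), (151, false, 5), (152, false, 6), (131, false, 5), (77, false, 4), (132, false, 4), (151, false, 8), (135, false, 7), (152, false, 7), (155, false, 7), (107, false, 6), (93, false, 5), (80, false, 4), (38, false, 3), (30, false, 2), (23, false, 1), (5, false, 0), (160, false, 5), (98, false, 4), (85, false, 3), (43, false, 2), (35, false, 1), (99, false, 1), (150, false, 3), (119, false, 2), (152, false, 2), (165, false, 2), (167, false, 6), (150, false, 5), (119, false, 4), (169, false, 5), (152, false, 4), (166, false, 4), (104, false, 3), (166, false, 3), (167, false, 4), (169, false, 5), (170, false, 6), (144, false, 5), (113, false, 4), (99, false, 3), (86, false, 2), (44, false, 1), (148, false, 2), (103,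 false, 1), (149, false, 3), (104, false, 2), (151, false, 2), (167, false, 4), (150, false, 3), (134, false, 2), (169, false, 5), (152, false, 4), (167, false, 4), (134, false, 3), (119, false, 2), (166, false, 3), (133, false, 2), (167, false, 4), (134, false, 3), (162, false, 5), (129, false, 4), (114, false, 3), (100, false, 2), (87, false, 1), (150, false, 5), (119, false, 4), (152, false, 4), (118, false, 4), (104, false, 3), (119, false, 3), (149, false, 4), (133, false, 3), (150, false, 5), (134, false, 4), (152, false, 6), (164, false, 6), (131, false, 5), (116, false, 4), (102, false, 3), (89, false, 2), (149, false, 5), (118, false, 4), (152, false, 6), (133, false, 6), (118, false, 5), (104, false, 4), (134, false, 5), (119, false, 4), (165, false, 6), (148, false, 5), (132, false, 4), (90, false, 3), (149, false, 5), (118, false, 4), (104, false, 3), (150, false, 4), (119, false, 3), (151, false, 3), (152, false, 4), (149, false, 4), (133, false, 3), (150, false, 5), (134, false, 4), (152, false, 6), (168, false, 6), (135, false, 5), (169, false, 5), (170, false, 6), (142, false, 5), (111, false, 4), (97, false, 3), (72, false, 2), (51, false, 1), (27, false, 0), (162, false, 0), (166, false, 4),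 (149, false, 3), (118, false, 2), (104, false, 1), (168, false, 3), (151, false, 2), (169, false, 4), (152, false, 3), (170, false, 3), (131, false, 2), (116, false, 1), (151, false, 3), (149, false, 4), (133, false, 3), (104, false, 2), (150, false, 3), (134, false, 2), (151, false, 4), (135, false, 3), (149, false, 3), (118, false, 2), (149, false, 4), (118, false, 3), (104, false, 2), (152, false, 3), (118, false, 2), (119, false, 3), (99, false, 2), (74, false, 1), (53, false, 0), (164, false, 4), (147, false, 3), (116, false, 2), (152, false, 4), (104, false, 3), (167, false, 5), (150, false, 4), (119, false, 3), (168, false, 4), (151, false, 3), (170, false, 5), (150, false, 4), (134, false, 3), (152, false, 5), (132, false, 4), (117, false, 3), (118, false, 4), (119, false, 5), (151, false, 6), (135, false, 5), (152, false, 5), (161, false, 5), (99, false, 4), (86, false, 3), (74, false, 2), (53, false, 1), (44, false, 0), (145, false, 1), (100, false, 0), (149, false, 2), (118, false, 1), (150, false, 3), (119, false, 2), (150, false, 2), (152, false, 3), (164, false, 3), (116, false, 2), (102, false, 1), (149, false, 3), (118, false, 2), (152, false, 4), (118, false, 3), (104, false, 2), (119, false,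 2), (167, false, 3), (150, false, 2), (168, false, 4), (151, false, 3), (170, false, 5), (148, false, 4), (132, false, 3), (117, false, 2), (118, false, 3), (119, false, 4), (152, false, 5), (133, false, 4), (104, false, 3), (135, false, 3), (167, false, 3), (169, false, 4), (166, false, 5), (149, false, 4), (118, false, 3), (167, false, 6), (150, false, 5), (119, false, 4), (169, false, 5), (152, false, 4), (170, false, 4), (100, false, 3), (87, false, 2), (75, false, 1), (54, false, 0), (148, false, 3), (117, false, 2), (103, false, 1), (149, false, 4), (118, false, 3), (104, false, 2), (150, false, 3), (119, false, 2), (152, false, 2), (150, false, 3), (119, false, 2), (151, false, 2), (152, false, 3), (131, false, 2), (89, false, 1), (77, false, 0), (132, false, 1), (90, false, 0), (149, false, 2), (118, false, 1), (104, false, 0), (150, false, 1), (119, false, 0), (151, false, 0), (152, false, 1), (134, false, 0), (135, false, 1), (167, false, 2), (150, false, 1), (119, false, 0), (168, false, 1), (151, false, 0), (166, false, 2), (149, false, 1), (133, false, 0), (167, false, 3), (150, false, 2), (134, false, 1), (170, false, 4), (151, false, 3), (135, false, 2), (152, false, 2), (156, false, 2), (108,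 false, 1), (94, false, 0), (158, false, 3), (110, false, 2), (96, false, 1), (149, false, 4), (133, false, 3), (104, false, 2), (150, false, 3), (134, false, 2), (168, false, 5), (151, false, 4), (135, false, 3), (169, false, 4), (152, false, 3), (170, false, 3), (112, false, 2), (113, false, 3), (114, false, 4), (118, false, 5), (119, false, 6), (158, false, 6), (96, false, 5), (50, false, 4), (41, false, 3), (33, false, 2), (20, false, 1), (159, false, 3), (97, false, 2), (51, false, 1), (166, false, 6), (149, false, 5), (133, false, 4), (104, false, 3), (170, false, 5), (144, false, 4), (128, false, 3), (53, false, 2), (168, false, 6), (151, false, 5), (166, false, 7), (149, false, 6), (133, false, 5), (118, false, 4), (167, false, 8), (150, false, 7), (134, false, 6), (119, false, 5), (165, false, 7), (148, false, 6), (132, false, 5), (103, false, 4), (104, false, 5), (152, false, 7), (133, false, 6), (118, false, 5), (134, false, 7), (119, false, 6), (167, false, 8), (150, false, 7), (134, false, 6), (168, false, 9), (151, false, 8), (135, false, 7), (169, false, 8), (152, false, 7), (170, false, 7), (113, false, 6), (99, false, 5), (86, false, 4), (53, false, 3), (44, false, 2), (145, false, 3), (100, false,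 2), (149, false, 4), (118, false, 3), (150, false, 5), (119, false, 4), (150, false, 4), (152, false, 5), (165, false, 5), (117, false, 4), (103, false, 3), (118, false, 5), (104, false, 4), (119, false, 4), (166, false, 5), (149, false, 4), (168, false, 6), (151, false, 5), (170, false, 7), (150, false, 6), (134, false, 5), (152, false, 7), (134, false, 6), (119, false, 5), (129, false, 5), (100, false, 4), (87, false, 3), (54, false, 2), (150, false, 5), (119, false, 4), (152, false, 4), (104, false, 3), (151, false, 5), (135, false, 4), (162, false, 5), (145, false, 4), (114, false, 3), (87, false, 2), (150, false, 6), (119, false, 5), (149, false, 5), (104, false, 4), (150, false, 4), (149, false, 5), (118, false, 4), (150, false, 6), (119, false, 5), (152, false, 5), (166, false, 5), (104, false, 4), (168, false, 4), (169, false, 5), (168, false, 6), (151, false, 5), (135, false, 4), (169, false, 5), (152, false, 4), (170, false, 4), (84, false, 3), (51, false, 2), (27, false, 1), (162, false, 1), (166, false, 5), (149, false, 4), (118, false, 3), (104, false, 2), (168, false, 4), (151, false, 3), (169, false, 5), (152, false, 4), (170, false, 4), (132, false, 3), (117, false, 2), (118, false, 3), (119,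 false, 4), (149, false, 5), (133, false, 4), (104, false, 3), (152, false, 4), (127, false, 3), (85, false, 2), (52, false, 1), (148, false, 4), (132, false, 3), (152, false, 7), (134, false, 6), (119, false, 5), (149, false, 6), (133, false, 5), (104, false, 4), (150, false, 5), (134, false, 4), (151, false, 6), (135, false, 5), (152, false, 5), (113, false, 4), (86, false, 3), (53, false, 2), (165, false, 6), (148, false, 5), (117, false, 4), (149, false, 6), (118, false, 5), (150, false, 7), (119, false, 6), (152, false, 6), (166, false, 6), (104, false, 5), (168, false, 5), (170, false, 6), (134, false, 5), (129, false, 6), (114, false, 5), (87, false, 4), (54, false, 3), (150, false, 6), (119, false, 5), (149, false, 5), (104, false, 4), (150, false, 4), (151, false, 5), (152, false, 6), (132, false, 5), (117, false, 4), (90, false, 3), (150, false, 5), (119, false, 4), (149, false, 4), (104, false, 3), (150, false, 3), (151, false, 4), (152, false, 5), (133, false, 4), (118, false, 3), (134, false, 5), (119, false, 4), (135, false, 4), (143, false, 4), (98, false, 3), (43, false, 2), (35, false, 1), (99, false, 1), (150, false, 3), (119, false, 2), (152, false, 2), (166, false, 2), (169, false, 3), (161,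 false, 4), (144, false, 3), (99, false, 2), (44, false, 1), (150, false, 2), (152, false, 3), (118, false, 2), (104, false, 1), (119, false, 1), (164, false, 4), (147, false, 3), (116, false, 2), (102, false, 1), (149, false, 3), (118, false, 2), (152, false, 4), (149, false, 4), (118, false, 3), (104, false, 2), (150, false, 3), (119, false, 2), (152, false, 2), (166, false, 2), (168, false, 3), (170, false, 4), (128, false, 3), (99, false, 2), (74, false, 1), (167, false, 5), (134, false, 4), (119, false, 3), (169, false, 4), (168, false, 5), (151, false, 4), (135, false, 3), (162, false, 4), (145, false, 3), (75, false, 2), (149, false, 6), (118, false, 5), (104, false, 4), (150, false, 5), (119, false, 4), (149, false, 4), (150, false, 5), (152, false, 6), (166, false, 6), (118, false, 5), (104, false, 4), (167, false, 5), (119, false, 4), (170, false, 4), (75, false, 3), (54, false, 2), (151, false, 5), (152, false, 6), (133, false, 5), (118, false, 4), (104, false, 3), (135, false, 4), (169, false, 4), (170, false, 5), (149, false, 4), (118, false, 3), (150, false, 5), (119, false, 4), (151, false, 4), (152, false, 5)], [(2, false, 1)]),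
   ([19, 8, 9, 12, 13, 14, 15, 8, 9, 12, 13, 14, 15], [(191, false, 0), (191, false, 10), (154, false, 9), (137, false, 8), (121, false, 7), (92, false, 6), (67, false, 5), (37, false, 4), (29, false, 3), (22, false, 2), (4, false, 1), (2, false, 0), (122, false, 3), (93, false, 2), (68, false, 1), (38, false, 0), (147, false, 5), (131, false, 4), (116, false, 3), (151, false, 5), (152, false, 6), (134, false, 5), (135, false, 6), (118, false, 5), (104, false, 4), (159, false, 6), (142, false, 5), (111, false, 4), (72, false, 3), (51, false, 2), (42, false, 1), (145, false, 3), (118, false, 5), (104, false, 4), (164, false, 7), (147, false, 6), (131, false, 5), (116, false, 4), (151, false, 6), (152, false, 7), (133, false, 6), (104, false, 5), (134, false, 5), (166, false, 8), (149, false, 7), (133, false, 6), (118, false, 5), (167, false, 9), (150, false, 8), (134, false, 7), (119, false, 6), (168, false, 8), (151, false, 7), (135, false, 6), (166, false, 7), (149, false, 6), (104, false, 5), (169, false, 6), (152, false, 5), (166, false, 5), (167, false, 6), (170, false, 7), (112, false, 6), (98, false, 5), (73, false, 4), (52, false, 3), (43, false, 2), (162, false, 6), (145, false, 5), (114, false, 4), (118,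 false, 5), (119, false, 6), (104, false, 5), (168, false, 7), (151, false, 6), (169, false, 8), (152, false, 7), (164, false, 7), (131, false, 6), (116, false, 5), (151, false, 7), (149, false, 8), (133, false, 7), (104, false, 6), (150, false, 7), (134, false, 6), (152, false, 8), (166, false, 8), (133, false, 7), (118, false, 6), (170, false, 9), (133, false, 8), (118, false, 7), (104, false, 6), (134, false, 7), (119, false, 6), (129, false, 6), (75, false, 5), (54, false, 4), (149, false, 7), (118, false, 6), (104, false, 5), (150, false, 6), (119, false, 5), (151, false, 5), (152, false, 6), (131, false, 5), (77, false, 4), (132, false, 4), (151, false, 8), (135, false, 7), (152, false, 7), (159, false, 7), (111, false, 6), (97, false, 5), (84, false, 4), (42, false, 3), (34, false, 2), (27, false, 1), (160, false, 1), (166, false, 5), (149, false, 4), (118, false, 3), (104, false, 2), (167, false, 4), (150, false, 3), (119, false, 2), (168, false, 3), (151, false, 2), (170, false, 4), (144, false, 3), (128, false, 2), (133, false, 3), (134, false, 4), (148, false, 6), (132, false, 5), (117, false, 4), (103, false, 3), (118, false, 5), (104, false, 4), (119, false, 4), (152, false, 5), (133, false, 4), (149,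 false, 6), (133, false, 5), (104, false, 4), (149, false, 5), (133, false, 4), (152, false, 6), (161, false, 6), (128, false, 5), (99, false, 4), (86, false, 3), (44, false, 2), (148, false, 3), (103, false, 2), (149, false, 4), (104, false, 3), (151, false, 3), (167, false, 5), (150, false, 4), (134, false, 3), (169, false, 6), (152, false, 5), (168, false, 5), (135, false, 4), (166, false, 4), (118, false, 3), (167, false, 5), (119, false, 4), (169, false, 4), (170, false, 5), (145, false, 4), (100, false, 3), (87, false, 2), (150, false, 6), (119, false, 5), (152, false, 5), (104, false, 4), (115, false, 4), (88, false, 3), (150, false, 7), (119, false, 6), (149, false, 6), (104, false, 5), (150, false, 5), (143, false, 6), (112, false, 5), (85, false, 4), (62, false, 3), (52, false, 2), (35, false, 1), (100, false, 1), (151, false, 3), (152, false, 4), (130, false, 3), (115, false, 2), (118, false, 3), (119, false, 4), (152, false, 5), (132, false, 4), (103, false, 3), (104, false, 4), (150, false, 6), (134, false, 5), (119, false, 4), (152, false, 5), (134, false, 4), (144, false, 6), (128, false, 5), (113, false, 4), (86, false, 3), (63, false, 2), (53, false, 1), (163, false, 5), (146, false, 4), (115,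 false, 3), (166, false, 6), (149, false, 5), (118, false, 4), (167, false, 7), (150, false, 6), (119, false, 5), (170, false, 6), (148, false, 5), (103, false, 4), (149, false, 6), (104, false, 5), (151, false, 5), (167, false, 7), (150, false, 6), (134, false, 5), (168, false, 8), (151, false, 7), (135, false, 6), (166, false, 7), (149, false, 6), (118, false, 5), (167, false, 8), (150, false, 7), (119, false, 6), (164, false, 7), (147, false, 6), (102, false, 5), (89, false, 4), (152, false, 7), (118, false, 6), (119, false, 7), (166, false, 8), (149, false, 7), (104, false, 6), (168, false, 7), (151, false, 6), (170, false, 8), (144, false, 7), (128, false, 6), (86, false, 5), (74, false, 4), (63, false, 3), (53, false, 2), (44, false, 1), (145, false, 2), (100, false, 1), (149, false, 3), (118, false, 2), (150, false, 4), (119, false, 3), (150, false, 3), (152, false, 4), (163, false, 4), (115, false, 3), (101, false, 2), (166, false, 5), (118, false, 4), (104, false, 3), (167, false, 4), (119, false, 3), (170, false, 3), (165, false, 6), (132, false, 5), (117, false, 4), (118, false, 5), (119, false, 6), (149, false, 7), (133, false, 6), (104, false, 5), (150, false, 6), (134, false, 5), (152, false, 7),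 (166, false, 7), (133, false, 6), (118, false, 5), (168, false, 8), (135, false, 7), (170, false, 7), (133, false, 7), (118, false, 6), (104, false, 5), (134, false, 6), (119, false, 5), (129, false, 5), (87, false, 4), (75, false, 3), (64, false, 2), (54, false, 1), (148, false, 5), (117, false, 4), (103, false, 3), (149, false, 6), (118, false, 5), (104, false, 4), (150, false, 5), (119, false, 4), (152, false, 4), (149, false, 7), (133, false, 6), (118, false, 5), (104, false, 4), (150, false, 6), (134, false, 5), (119, false, 4), (162, false, 6), (145, false, 5), (129, false, 4), (87, false, 3), (75, false, 2), (64, false, 1), (148, false, 6), (117, false, 5), (103, false, 4), (149, false, 7), (118, false, 6), (104, false, 5), (150, false, 6), (119, false, 5), (152, false, 5), (149, false, 8), (133, false, 7), (118, false, 6), (104, false, 5), (150, false, 7), (134, false, 6), (119, false, 5), (149, false, 6), (133, false, 5), (150, false, 7), (134, false, 6), (152, false, 8), (164, false, 8), (131, false, 7), (116, false, 6), (102, false, 5), (89, false, 4), (77, false, 3), (149, false, 5), (118, false, 4), (152, false, 6), (133, false, 6), (118, false, 5), (104, false, 4), (134, false, 5), (119, false,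 4), (166, false, 6), (149, false, 5), (133, false, 4), (167, false, 7), (150, false, 6), (134, false, 5), (170, false, 8), (149, false, 7), (133, false, 6), (118, false, 5), (104, false, 4), (151, false, 6), (135, false, 5), (166, false, 6), (149, false, 5), (118, false, 4), (167, false, 7), (150, false, 6), (119, false, 5), (169, false, 6), (152, false, 5), (170, false, 5), (133, false, 6), (118, false, 5), (104, false, 4), (134, false, 5), (119, false, 4), (135, false, 4), (138, false, 4), (80, false, 3), (57, false, 2), (47, false, 1), (5, false, 0), (162, false, 5), (100, false, 4), (87, false, 3), (150, false, 7), (119, false, 6), (152, false, 6), (104, false, 5), (166, false, 7), (149, false, 6), (118, false, 5), (168, false, 8), (151, false, 7), (169, false, 9), (152, false, 8), (170, false, 8), (129, false, 7), (114, false, 6), (100, false, 5), (87, false, 4), (54, false, 3), (150, false, 6), (119, false, 5), (152, false, 5), (118, false, 5), (104, false, 4), (119, false, 4), (146, false, 5), (130, false, 4), (88, false, 3), (149, false, 7), (118, false, 6), (104, false, 5), (150, false, 6), (119, false, 5), (151, false, 5), (152, false, 6), (150, false, 6), (134, false, 5), (151, false, 7), (135, false,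 6), (147, false, 6), (116, false, 5), (89, false, 4), (152, false, 7), (103, false, 6), (90, false, 5), (149, false, 7), (118, false, 6), (104, false, 5), (150, false, 6), (119, false, 5), (151, false, 5), (152, false, 6), (167, false, 6), (134, false, 5), (168, false, 7), (135, false, 6), (169, false, 6), (170, false, 7), (142, false, 6), (111, false, 5), (72, false, 4), (61, false, 3), (42, false, 2), (34, false, 1), (27, false, 0), (160, false, 0), (166, false, 4), (149, false, 3), (118, false, 2), (104, false, 1), (167, false, 3), (150, false, 2), (119, false, 1), (168, false, 2), (151, false, 1), (170, false, 3), (144, false, 2), (128, false, 1), (133, false, 2), (134, false, 3), (146, false, 5), (130, false, 4), (115, false, 3), (101, false, 2), (118, false, 4), (104, false, 3), (119, false, 3), (152, false, 4), (133, false, 3), (131, false, 4), (102, false, 3), (151, false, 5), (149, false, 6), (133, false, 5), (118, false, 4), (150, false, 7), (134, false, 6), (119, false, 5), (151, false, 6), (135, false, 5), (149, false, 5), (104, false, 4), (152, false, 4), (112, false, 5), (98, false, 4), (73, false, 3), (62, false, 2), (43, false, 1), (35, false, 0), (99, false, 0), (150, false, 2), (119, false,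 1), (152, false, 1), (163, false, 1), (169, false, 2), (164, false, 3), (147, false, 2), (149, false, 3), (150, false, 4), (152, false, 5), (166, false, 5), (118, false, 4), (104, false, 3), (170, false, 4), (118, false, 3), (119, false, 4), (99, false, 3), (74, false, 2), (63, false, 1), (44, false, 0), (146, false, 1), (101, false, 0), (149, false, 2), (104, false, 1), (150, false, 1), (164, false, 3), (147, false, 2), (116, false, 1), (152, false, 3), (104, false, 2), (167, false, 4), (150, false, 3), (119, false, 2), (168, false, 3), (151, false, 2), (170, false, 4), (150, false, 3), (134, false, 2), (152, false, 4), (131, false, 3), (116, false, 2), (77, false, 1), (151, false, 2), (149, false, 3), (133, false, 2), (104, false, 1), (151, false, 2), (135, false, 1), (152, false, 1)], [(128, false, 6), (113, false, 5), (99, false, 4), (86, false, 3), (53, false, 2), (44, false, 1), (145, false, 2), (100, false, 1), (149, false, 3), (118, false, 2), (150, false, 4), (119, false, 3), (150, false, 3), (152, false, 4), (165, false, 4), (117, false, 3), (103, false, 2), (118, false, 4), (104, false, 3), (119, false, 3), (166, false, 4), (149, false, 3), (168, false, 5), (151, false, 4), (170, false, 6), (150, false,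 5), (134, false, 4), (152, false, 6), (134, false, 5), (119, false, 4), (135, false, 4), (100, false, 3), (87, false, 2), (54, false, 1), (150, false, 4), (119, false, 3), (152, false, 3), (103, false, 2), (90, false, 1), (149, false, 3), (118, false, 2), (104, false, 1), (149, false, 2), (118, false, 1), (150, false, 3), (119, false, 2), (151, false, 2), (170, true, 4), (169, true, 3), (168, true, 2), (152, true, 2), (119, true, 2), (150, true, 3), (196, false, 0), (197, false, 3), (198, false, 5), (200, false, 8), (149, false, 2), (118, false, 1), (104, false, 0), (162, false, 2), (145, false, 1), (114, false, 0), (118, false, 1), (119, false, 2), (104, false, 1), (166, false, 3), (149, false, 2), (118, false, 1), (168, false, 4), (151, false, 3), (162, false, 5), (145, false, 4), (129, false, 3), (114, false, 2), (100, false, 1), (54, false, 0), (150, false, 1), (119, false, 0), (149, false, 0), (150, false, 1), (151, false, 2), (152, false, 3), (133, false, 2), (118, false, 1), (104, false, 0), (134, false, 1), (119, false, 0), (133, false, 0), (134, false, 1), (163, false, 4), (146, false, 3), (130, false, 2), (115, false, 1), (101, false, 0), (118, false, 2), (104, false, 1), (119, false, 1), (152, false,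 2), (168, false, 2), (135, false, 1)]),
   ([21, 17, 0, 1, 2, 3, 6, 7, 9, 10, 14, 15], [(227, false, 0), (215, false, 5), (105, false, 4), (91, false, 3), (66, false, 2), (36, false, 1), (21, false, 0), (128, false, 5), (86, false, 4), (74, false, 3), (44, false, 2), (147, false, 3), (102, false, 2), (152, false, 4), (119, false, 3), (165, false, 4), (132, false, 3), (149, false, 7), (133, false, 6), (118, false, 5), (104, false, 4), (150, false, 6), (134, false, 5), (119, false, 4), (152, false, 5), (166, false, 5), (133, false, 4), (168, false, 6), (135, false, 5), (170, false, 5), (133, false, 5), (104, false, 4), (135, false, 4), (89, false, 3), (77, false, 2), (166, false, 3), (169, false, 4), (154, false, 5), (137, false, 4), (92, false, 3), (79, false, 2), (29, false, 1), (162, false, 7), (129, false, 6), (100, false, 5), (75, false, 4), (150, false, 8), (119, false, 7), (152, false, 7), (104, false, 6), (149, false, 8), (133, false, 7), (118, false, 6), (150, false, 9), (134, false, 8), (119, false, 7), (152, false, 8), (163, false, 8), (130, false, 7), (101, false, 6), (76, false, 5), (104, false, 7), (164, false, 10), (147, false, 9), (131, false, 8), (116, false, 7), (77, false, 6), (151, false, 7),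 (152, false, 8), (133, false, 7), (104, false, 6), (134, false, 6), (165, false, 9), (148, false, 8), (132, false, 7), (117, false, 6), (118, false, 7), (119, false, 8), (152, false, 9), (133, false, 8), (104, false, 7), (134, false, 7), (166, false, 10), (149, false, 9), (133, false, 8), (118, false, 7), (167, false, 11), (150, false, 10), (134, false, 9), (119, false, 8), (168, false, 10), (151, false, 9), (135, false, 8), (169, false, 9), (152, false, 8), (166, false, 8), (104, false, 7), (168, false, 7), (170, false, 8), (134, false, 7), (135, false, 8), (118, false, 7), (119, false, 8), (139, false, 9), (123, false, 8), (94, false, 7), (81, false, 6), (58, false, 5), (48, false, 4), (39, false, 3), (31, false, 2), (144, false, 4), (118, false, 6), (104, false, 5), (119, false, 5), (162, false, 5), (166, false, 9), (149, false, 8), (118, false, 7), (104, false, 6), (167, false, 8), (150, false, 7), (119, false, 6), (170, false, 7), (146, false, 6), (148, false, 7), (152, false, 8), (140, false, 10), (124, false, 9), (95, false, 8), (82, false, 7), (59, false, 6), (49, false, 5), (40, false, 4), (32, false, 3), (159, false, 8), (126, false, 7), (72, false, 6), (51, false, 5), (34, false, 4), (162, false, 9),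 (129, false, 8), (114, false, 7), (100, false, 6), (150, false, 8), (119, false, 7), (149, false, 7), (150, false, 8), (151, false, 9), (152, false, 10), (133, false, 9), (118, false, 8), (104, false, 7), (134, false, 8), (119, false, 7), (166, false, 9), (149, false, 8), (133, false, 7), (168, false, 10), (151, false, 9), (135, false, 8), (169, false, 9), (152, false, 8), (170, false, 8), (102, false, 7), (149, false, 9), (118, false, 8), (150, false, 10), (119, false, 9), (151, false, 9), (151, false, 10), (135, false, 9), (160, false, 10), (143, false, 9), (98, false, 8), (73, false, 7), (52, false, 6), (35, false, 5), (100, false, 5), (151, false, 7), (152, false, 8), (131, false, 7), (116, false, 6), (151, false, 8), (149, false, 9), (133, false, 8), (104, false, 7), (166, false, 9), (149, false, 8), (133, false, 7), (169, false, 10), (152, false, 9), (166, false, 9), (133, false, 8), (104, false, 7), (167, false, 8), (134, false, 7), (169, false, 9), (170, false, 10), (148, false, 9), (132, false, 8), (117, false, 7), (118, false, 8), (119, false, 9), (152, false, 10), (133, false, 9), (104, false, 8), (135, false, 8), (87, false, 7), (75, false, 6), (54, false, 5), (148, false, 8), (117, false, 7), (103,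 false, 6), (149, false, 9), (118, false, 8), (104, false, 7), (150, false, 8), (119, false, 7), (152, false, 7), (88, false, 6), (76, false, 5), (147, false, 10), (116, false, 9), (102, false, 8), (89, false, 7), (77, false, 6), (149, false, 8), (118, false, 7), (152, false, 9), (149, false, 9), (118, false, 8), (104, false, 7), (150, false, 8), (119, false, 7), (145, false, 7), (87, false, 6), (64, false, 5), (149, false, 10), (118, false, 9), (104, false, 8), (150, false, 9), (119, false, 8), (147, false, 8), (89, false, 7), (148, false, 9), (90, false, 8), (152, false, 10), (118, false, 9), (104, false, 8), (168, false, 10), (151, false, 9), (169, false, 11), (152, false, 10), (170, false, 10), (133, false, 9), (118, false, 8), (135, false, 10), (167, false, 10), (119, false, 9), (170, false, 9), (96, false, 8), (71, false, 7), (60, false, 6), (50, false, 5), (26, false, 4), (145, false, 10), (87, false, 9), (75, false, 8), (54, false, 7), (148, false, 10), (117, false, 9), (103, false, 8), (149, false, 11), (118, false, 10), (104, false, 9), (150, false, 10), (119, false, 9), (152, false, 9), (114, false, 10), (100, false, 9), (87, false, 8), (75, false, 7), (148, false, 11), (117, false, 10), (103, false,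 9), (149, false, 12), (118, false, 11), (104, false, 10), (150, false, 11), (119, false, 10), (152, false, 10), (150, false, 11), (119, false, 10), (146, false, 10), (88, false, 9), (76, false, 8), (152, false, 13), (118, false, 12), (104, false, 11), (164, false, 12), (116, false, 11), (89, false, 10), (77, false, 9), (149, false, 11), (104, false, 10), (150, false, 10), (152, false, 11), (166, false, 11), (118, false, 10), (168, false, 12), (169, false, 13), (170, false, 14), (149, false, 13), (133, false, 12), (118, false, 11), (104, false, 10), (151, false, 12), (135, false, 11), (152, false, 11), (112, false, 10), (85, false, 9), (62, false, 8), (52, false, 7), (43, false, 6), (35, false, 5), (99, false, 5), (150, false, 7), (119, false, 6), (152, false, 6), (162, false, 6), (168, false, 10), (151, false, 9), (169, false, 11), (152, false, 10), (163, false, 10), (130, false, 9), (115, false, 8), (101, false, 7), (118, false, 9), (104, false, 8), (119, false, 8), (169, false, 10), (152, false, 9), (165, false, 9), (132, false, 8), (149, false, 12), (133, false, 11), (118, false, 10), (104, false, 9), (150, false, 11), (134, false, 10), (119, false, 9), (152, false, 10), (167, false, 10), (134, false, 9),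 (169, false, 11), (167, false, 12), (150, false, 11), (134, false, 10), (119, false, 9), (161, false, 11), (144, false, 10), (128, false, 9), (86, false, 8), (63, false, 7), (53, false, 6), (44, false, 5), (145, false, 6), (100, false, 5), (149, false, 7), (118, false, 6), (150, false, 8), (119, false, 7), (150, false, 7), (152, false, 8), (163, false, 8), (115, false, 7), (101, false, 6), (166, false, 9), (118, false, 8), (104, false, 7), (167, false, 8), (119, false, 7), (170, false, 7), (168, false, 10), (135, false, 9), (166, false, 9), (104, false, 8), (167, false, 8), (166, false, 9), (118, false, 8), (167, false, 10), (119, false, 9), (169, false, 9), (170, false, 10), (148, false, 9), (103, false, 8), (90, false, 7), (149, false, 9), (118, false, 8), (104, false, 7), (152, false, 8), (118, false, 7), (119, false, 8)], [(153, false, 1), (92, false, 2), (155, false, 5), (122, false, 4), (93, false, 3), (133, false, 5), (118, false, 4), (168, false, 8), (151, false, 7), (135, false, 6), (169, false, 7), (152, false, 6), (170, false, 6), (108, false, 5), (94, false, 4), (111, false, 6), (97, false, 5), (104, false, 6), (143, false, 6), (145, false, 7), (115, false, 9), (101, false, 8), (119, false, 10), (170,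 true, 11), (152, true, 11), (119, true, 10), (134, true, 11), (118, true, 9), (133, true, 10), (215, false, 0), (223, false, 11), (226, false, 20), (227, false, 25), (126, false, 10), (111, false, 9), (97, false, 8), (84, false, 7), (42, false, 6), (34, false, 5), (161, false, 10), (128, false, 9), (113, false, 8), (99, false, 7), (150, false, 9), (119, false, 8), (151, false, 8), (149, false, 9), (133, false, 8), (150, false, 10), (134, false, 9), (152, false, 11), (169, false, 11), (165, false, 12), (148, false, 11), (132, false, 10), (117, false, 9), (103, false, 8), (118, false, 10), (104, false, 9), (119, false, 9), (152, false, 10), (133, false, 9), (134, false, 10), (166, false, 13), (149, false, 12), (133, false, 11), (118, false, 10), (104, false, 9), (169, false, 12), (152, false, 11), (166, false, 11), (133, false, 10), (118, false, 9), (166, false, 12), (133, false, 11), (118, false, 10), (104, false, 9), (169, false, 11), (168, false, 12), (151, false, 11), (135, false, 10), (160, false, 11), (143, false, 10), (112, false, 9), (85, false, 8), (43, false, 7), (35, false, 6), (99, false, 6), (150, false, 8), (119, false, 7), (152, false, 7), (165, false, 7), (167, false, 11), (150, false, 10), (119,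 false, 9), (169, false, 10), (152, false, 9), (167, false, 9), (169, false, 10), (166, false, 11), (149, false, 10), (118, false, 9), (104, false, 8), (167, false, 10), (150, false, 9), (119, false, 8), (169, false, 9), (152, false, 8), (170, false, 8), (86, false, 7), (44, false, 6), (148, false, 7), (103, false, 6), (149, false, 8), (104, false, 7), (151, false, 7), (164, false, 9), (147, false, 8), (131, false, 7), (89, false, 6), (149, false, 9), (133, false, 8), (150, false, 10), (134, false, 9), (152, false, 11), (165, false, 11), (132, false, 10), (117, false, 9), (103, false, 8), (90, false, 7), (149, false, 9), (118, false, 8), (104, false, 7), (150, false, 8), (119, false, 7), (149, false, 7), (150, false, 8), (151, false, 9), (152, false, 10), (133, false, 9), (118, false, 8), (104, false, 7), (134, false, 8), (119, false, 7), (167, false, 9), (150, false, 8), (134, false, 7), (168, false, 10), (151, false, 9), (135, false, 8), (169, false, 9), (152, false, 8), (170, false, 8), (113, false, 7), (74, false, 6), (167, false, 10), (134, false, 9), (119, false, 8), (162, false, 9), (129, false, 8), (75, false, 7), (149, false, 11), (118, false, 10), (104, false, 9), (150, false, 10), (119, false, 9), (151,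 false, 9), (152, false, 10), (133, false, 9), (134, false, 10), (163, false, 13), (146, false, 12), (130, false, 11), (115, false, 10), (101, false, 9), (76, false, 8), (118, false, 11), (104, false, 10), (119, false, 10), (152, false, 11), (168, false, 11), (135, false, 10), (169, false, 10), (159, false, 11), (142, false, 10), (72, false, 9), (61, false, 8), (51, false, 7), (42, false, 6), (27, false, 5), (161, false, 5), (169, false, 9), (152, false, 8), (162, false, 8), (114, false, 7), (100, false, 6), (150, false, 8), (119, false, 7), (149, false, 7), (150, false, 8), (152, false, 9), (166, false, 9), (118, false, 8), (104, false, 7), (168, false, 8), (169, false, 9), (170, false, 10), (146, false, 9), (130, false, 8), (115, false, 7), (118, false, 8), (119, false, 9), (152, false, 10), (133, false, 9), (104, false, 8), (131, false, 8), (133, false, 9), (134, false, 10), (135, false, 11), (118, false, 10), (104, false, 9), (119, false, 9), (161, false, 9), (74, false, 8), (63, false, 7), (53, false, 6), (44, false, 5), (145, false, 6), (100, false, 5), (149, false, 7), (118, false, 6), (150, false, 8), (119, false, 7), (150, false, 7), (152, false, 8), (163, false, 8), (115, false, 7), (101, false, 6),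 (166, false, 9), (118, false, 8), (104, false, 7), (167, false, 8), (119, false, 7), (170, false, 7), (166, false, 10), (133, false, 9), (118, false, 8), (167, false, 11), (134, false, 10), (119, false, 9), (169, false, 10), (170, false, 11), (147, false, 10), (131, false, 9), (102, false, 8), (77, false, 7), (151, false, 8), (152, false, 9), (133, false, 8), (118, false, 7), (134, false, 9), (119, false, 8)]),
   ([21, 8, 16, 7, 13, 14, 17], [(220, false, 0), (219, false, 7), (155, false, 6), (122, false, 5), (107, false, 4), (93, false, 3), (47, false, 2), (23, false, 1), (17, false, 0), (160, false, 10), (143, false, 9), (112, false, 8), (98, false, 7), (85, false, 6), (52, false, 5), (43, false, 4), (35, false, 3), (99, false, 3), (150, false, 5), (119, false, 4), (152, false, 4), (162, false, 4), (168, false, 8), (151, false, 7), (169, false, 9), (152, false, 8), (165, false, 8), (132, false, 7), (117, false, 6), (103, false, 5), (118, false, 7), (104, false, 6), (119, false, 6), (149, false, 7), (133, false, 6), (150, false, 8), (134, false, 7), (152, false, 9), (167, false, 9), (134, false, 8), (119, false, 7), (169, false, 8), (166, false, 9), (149, false, 8), (133, false, 7), (104, false, 6), (167, false,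 8), (150, false, 7), (134, false, 6), (169, false, 9), (152, false, 8), (166, false, 8), (133, false, 7), (118, false, 6), (167, false, 9), (134, false, 8), (119, false, 7), (169, false, 8), (170, false, 9), (144, false, 8), (128, false, 7), (99, false, 6), (86, false, 5), (53, false, 4), (44, false, 3), (145, false, 4), (100, false, 3), (149, false, 5), (118, false, 4), (150, false, 6), (119, false, 5), (150, false, 5), (152, false, 6), (165, false, 6), (117, false, 5), (103, false, 4), (118, false, 6), (104, false, 5), (119, false, 5), (166, false, 6), (149, false, 5), (168, false, 7), (151, false, 6), (170, false, 8), (150, false, 7), (134, false, 6), (152, false, 8), (135, false, 7), (118, false, 6), (104, false, 5), (119, false, 5), (87, false, 4), (54, false, 3), (147, false, 6), (116, false, 5), (102, false, 4), (89, false, 3), (149, false, 6), (118, false, 5), (152, false, 7), (148, false, 7), (117, false, 6), (103, false, 5), (90, false, 4), (149, false, 6), (118, false, 5), (104, false, 4), (150, false, 5), (119, false, 4), (152, false, 4), (162, false, 6), (145, false, 5), (129, false, 4), (75, false, 3), (149, false, 7), (118, false, 6), (104, false, 5), (150, false, 6), (119, false, 5), (151, false,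 5), (152, false, 6), (133, false, 5), (134, false, 6), (133, false, 7), (118, false, 6), (104, false, 5), (134, false, 6), (119, false, 5), (166, false, 7), (149, false, 6), (133, false, 5), (168, false, 8), (151, false, 7), (135, false, 6), (169, false, 7), (152, false, 6), (170, false, 6), (133, false, 7), (118, false, 6), (104, false, 5), (134, false, 6), (119, false, 5), (166, false, 6), (133, false, 5), (169, false, 7), (170, false, 8), (151, false, 7), (135, false, 6), (152, false, 6), (156, false, 6), (94, false, 5), (69, false, 4), (48, false, 3), (24, false, 2), (18, false, 1), (159, false, 11), (126, false, 10), (97, false, 9), (84, false, 8), (72, false, 7), (61, false, 6), (51, false, 5), (34, false, 4), (27, false, 3), (160, false, 3), (166, false, 7), (149, false, 6), (118, false, 5), (104, false, 4), (167, false, 6), (150, false, 5), (119, false, 4), (168, false, 5), (151, false, 4), (170, false, 6), (145, false, 5), (129, false, 4), (149, false, 8), (133, false, 7), (118, false, 6), (104, false, 5), (150, false, 7), (134, false, 6), (119, false, 5), (149, false, 6), (133, false, 5), (151, false, 7), (135, false, 6), (152, false, 6), (163, false, 6), (101, false, 5), (166, false, 7), (104, false,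 6), (164, false, 6), (166, false, 10), (149, false, 9), (118, false, 8), (104, false, 7), (167, false, 9), (150, false, 8), (119, false, 7), (168, false, 8), (151, false, 7), (165, false, 9), (148, false, 8), (132, false, 7), (152, false, 11), (133, false, 10), (118, false, 9), (104, false, 8), (134, false, 9), (119, false, 8), (166, false, 10), (149, false, 9), (133, false, 8), (169, false, 11), (152, false, 10), (166, false, 10), (133, false, 9), (104, false, 8), (168, false, 9), (135, false, 8), (170, false, 8), (162, false, 8), (87, false, 7), (75, false, 6), (64, false, 5), (54, false, 4), (148, false, 8), (117, false, 7), (103, false, 6), (149, false, 9), (118, false, 8), (104, false, 7), (150, false, 8), (119, false, 7), (152, false, 7), (166, false, 10), (149, false, 9), (118, false, 8), (104, false, 7), (167, false, 9), (150, false, 8), (119, false, 7), (170, false, 8), (147, false, 7), (89, false, 6), (77, false, 5), (152, false, 6), (157, false, 7), (95, false, 6), (82, false, 5), (59, false, 4), (32, false, 3), (19, false, 2), (127, false, 6), (112, false, 5), (98, false, 4), (118, false, 6), (104, false, 5), (119, false, 5), (145, false, 6), (129, false, 5), (149, false, 9), (133, false, 8), (118,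 false, 7), (104, false, 6), (150, false, 8), (134, false, 7), (119, false, 6), (147, false, 7), (131, false, 6), (151, false, 8), (135, false, 7), (163, false, 8), (146, false, 7), (76, false, 6), (164, false, 9), (147, false, 8), (77, false, 7), (149, false, 7), (150, false, 8), (152, false, 9), (166, false, 9), (118, false, 8), (104, false, 7), (167, false, 8), (119, false, 7), (162, false, 7), (64, false, 6), (54, false, 5), (164, false, 9), (147, false, 8), (116, false, 7), (102, false, 6), (149, false, 8), (118, false, 7), (152, false, 9), (149, false, 9), (118, false, 8), (104, false, 7), (150, false, 8), (119, false, 7), (152, false, 7), (165, false, 7), (166, false, 11), (149, false, 10), (118, false, 9), (104, false, 8), (169, false, 10), (152, false, 9), (170, false, 9), (167, false, 11), (150, false, 10), (134, false, 9), (119, false, 8), (168, false, 10), (151, false, 9), (135, false, 8), (161, false, 9), (144, false, 8), (86, false, 7), (74, false, 6), (63, false, 5), (164, false, 9), (116, false, 8), (102, false, 7), (149, false, 9), (118, false, 8), (152, false, 10), (118, false, 9), (104, false, 8), (119, false, 8), (167, false, 9), (150, false, 8), (168, false, 10), (151, false, 9), (170, false,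 11), (148, false, 10), (132, false, 9), (117, false, 8), (118, false, 9), (119, false, 10), (152, false, 11), (133, false, 10), (104, false, 9), (135, false, 9), (166, false, 9), (167, false, 10), (166, false, 11), (118, false, 10), (104, false, 9), (167, false, 10), (119, false, 9), (169, false, 9), (170, false, 10), (145, false, 9), (87, false, 8), (75, false, 7), (64, false, 6), (148, false, 11), (117, false, 10), (103, false, 9), (149, false, 12), (118, false, 11), (104, false, 10), (150, false, 11), (119, false, 10), (152, false, 10), (115, false, 11), (101, false, 10), (88, false, 9), (76, false, 8), (65, false, 7), (149, false, 11), (118, false, 10), (104, false, 9), (150, false, 10), (119, false, 9), (147, false, 9), (89, false, 8), (77, false, 7), (150, false, 8), (151, false, 9)], [(143, false, 2), (43, false, 1), (169, false, 5), (152, false, 4), (166, false, 4), (118, false, 3), (167, false, 5), (119, false, 4), (170, false, 4), (170, true, 4), (152, true, 4), (169, true, 5), (119, true, 4), (150, true, 5), (167, true, 6), (169, true, 5), (152, true, 5), (150, true, 4), (149, true, 3), (119, true, 3), (150, true, 4), (99, true, 2), (113, true, 3), (161, true, 4), (219, false, 0), (220, false, 10),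 (224, false, 17), (226, false, 23), (158, false, 9), (125, false, 8), (110, false, 7), (71, false, 6), (60, false, 5), (50, false, 4), (41, false, 3), (162, false, 7), (129, false, 6), (54, false, 5), (149, false, 8), (133, false, 7), (118, false, 6), (104, false, 5), (150, false, 7), (134, false, 6), (119, false, 5), (152, false, 6), (162, false, 6), (129, false, 5), (149, false, 9), (133, false, 8), (118, false, 7), (104, false, 6), (150, false, 8), (134, false, 7), (119, false, 6), (152, false, 7), (163, false, 7), (130, false, 6), (166, false, 11), (149, false, 10), (133, false, 9), (118, false, 8), (104, false, 7), (170, false, 10), (147, false, 9), (131, false, 8), (116, false, 7), (151, false, 9), (152, false, 10), (133, false, 9), (104, false, 8), (135, false, 8), (166, false, 9), (149, false, 8), (167, false, 10), (150, false, 9), (170, false, 11), (150, false, 10), (119, false, 9), (168, false, 10), (151, false, 9), (169, false, 11), (152, false, 10), (170, false, 10), (126, false, 9), (97, false, 8), (72, false, 7), (61, false, 6), (51, false, 5), (42, false, 4), (145, false, 6), (118, false, 8), (104, false, 7), (163, false, 10), (146, false, 9), (130, false, 8), (115, false, 7), (118, false, 8),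 (119, false, 9), (152, false, 10), (166, false, 10), (133, false, 9), (104, false, 8), (164, false, 9), (131, false, 8), (133, false, 9), (134, false, 10), (166, false, 13), (149, false, 12), (133, false, 11), (118, false, 10), (104, false, 9), (167, false, 12), (150, false, 11), (134, false, 10), (119, false, 9), (168, false, 11), (151, false, 10), (135, false, 9), (166, false, 10), (149, false, 9), (168, false, 11), (151, false, 10), (162, false, 12), (145, false, 11), (129, false, 10), (100, false, 9), (75, false, 8), (64, false, 7), (54, false, 6), (150, false, 10), (119, false, 9), (152, false, 9), (104, false, 8), (149, false, 10), (133, false, 9), (118, false, 8), (150, false, 11), (134, false, 10), (119, false, 9), (149, false, 10), (133, false, 9), (104, false, 8), (150, false, 9), (134, false, 8), (152, false, 10), (166, false, 10), (133, false, 9), (118, false, 8), (167, false, 11), (134, false, 10), (119, false, 9), (168, false, 10), (135, false, 9), (170, false, 9), (97, false, 8), (72, false, 7), (61, false, 6), (42, false, 5), (27, false, 4), (161, false, 4), (169, false, 8), (152, false, 7), (163, false, 7), (115, false, 6), (101, false, 5), (166, false, 8), (118, false, 7), (104, false, 6), (164,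 false, 7), (116, false, 6), (149, false, 8), (104, false, 7), (150, false, 7), (152, false, 8), (166, false, 8), (118, false, 7), (167, false, 9), (119, false, 8), (168, false, 8), (166, false, 9), (133, false, 8), (104, false, 7), (160, false, 8), (127, false, 7), (73, false, 6), (62, false, 5), (43, false, 4), (163, false, 8), (146, false, 7), (115, false, 6), (169, false, 9), (152, false, 8), (164, false, 8), (116, false, 7), (149, false, 9), (104, false, 8), (150, false, 8), (152, false, 9), (166, false, 9), (118, false, 8), (170, false, 10), (118, false, 9), (104, false, 8), (119, false, 8), (149, false, 9), (133, false, 8), (150, false, 10), (134, false, 9), (152, false, 11), (161, false, 11), (128, false, 10), (113, false, 9), (99, false, 8), (74, false, 7), (63, false, 6), (44, false, 5), (146, false, 6), (101, false, 5), (149, false, 7), (104, false, 6), (150, false, 6), (164, false, 8), (147, false, 7), (116, false, 6), (152, false, 8), (104, false, 7), (167, false, 9), (150, false, 8), (119, false, 7), (168, false, 8), (151, false, 7), (170, false, 9), (150, false, 8), (134, false, 7), (152, false, 9), (134, false, 8), (119, false, 7), (135, false, 7), (164, false, 10), (147, false, 9), (116, false,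 8), (102, false, 7), (77, false, 6), (149, false, 7), (118, false, 6), (152, false, 8), (149, false, 8), (118, false, 7), (104, false, 6), (150, false, 7), (119, false, 6), (152, false, 6), (165, false, 6), (168, false, 10), (151, false, 9), (161, false, 11), (144, false, 10), (128, false, 9), (113, false, 8), (99, false, 7), (86, false, 6), (63, false, 5), (165, false, 9), (117, false, 8), (103, false, 7), (118, false, 9), (104, false, 8), (119, false, 8), (166, false, 9), (149, false, 8), (168, false, 10), (151, false, 9), (170, false, 11), (150, false, 10), (134, false, 9), (152, false, 11), (134, false, 10), (119, false, 9), (135, false, 9), (104, false, 8), (118, false, 8), (119, false, 9), (162, false, 10), (145, false, 9), (100, false, 8), (87, false, 7), (64, false, 6), (150, false, 11), (119, false, 10), (152, false, 10), (104, false, 9), (118, false, 9), (119, false, 10), (163, false, 11), (146, false, 10), (101, false, 9), (88, false, 8), (65, false, 7), (149, false, 10), (118, false, 9), (104, false, 8), (152, false, 9), (168, false, 9), (169, false, 10)]),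
   ([21, 6, 11, 12, 14, 15, 16, 2, 5, 7, 8, 9, 14, 16, 17], [(218, false, 0), (216, false, 5), (138, false, 4), (80, false, 3), (57, false, 2), (38, false, 1), (12, false, 0), (53, false, 2), (162, false, 6), (145, false, 5), (114, false, 4), (54, false, 3), (118, false, 3), (119, false, 4), (104, false, 3), (167, false, 5), (150, false, 4), (119, false, 3), (168, false, 4), (151, false, 3), (169, false, 5), (152, false, 4), (162, false, 4), (129, false, 3), (149, false, 7), (133, false, 6), (118, false, 5), (104, false, 4), (150, false, 6), (134, false, 5), (119, false, 4), (152, false, 5), (163, false, 5), (130, false, 4), (167, false, 9), (150, false, 8), (134, false, 7), (119, false, 6), (168, false, 8), (151, false, 7), (135, false, 6), (164, false, 7), (147, false, 6), (102, false, 5), (152, false, 7), (118, false, 6), (119, false, 7), (165, false, 8), (148, false, 7), (103, false, 6), (149, false, 8), (104, false, 7), (150, false, 7), (152, false, 8), (167, false, 8), (119, false, 7), (168, false, 7), (169, false, 8), (170, false, 9), (150, false, 8), (134, false, 7), (151, false, 9), (135, false, 8), (152, false, 8), (158, false, 8), (110, false, 7), (83, false, 6), (71, false, 5), (60, false, 4), (50,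 false, 3), (41, false, 2), (162, false, 6), (129, false, 5), (54, false, 4), (149, false, 7), (133, false, 6), (118, false, 5), (104, false, 4), (150, false, 6), (134, false, 5), (119, false, 4), (152, false, 5), (162, false, 5), (129, false, 4), (149, false, 8), (133, false, 7), (118, false, 6), (104, false, 5), (150, false, 7), (134, false, 6), (119, false, 5), (152, false, 6), (163, false, 6), (130, false, 5), (166, false, 10), (149, false, 9), (133, false, 8), (118, false, 7), (104, false, 6), (170, false, 9), (147, false, 8), (131, false, 7), (116, false, 6), (151, false, 8), (152, false, 9), (133, false, 8), (104, false, 7), (135, false, 7), (164, false, 8), (147, false, 7), (77, false, 6), (149, false, 6), (150, false, 7), (152, false, 8), (165, false, 8), (117, false, 7), (103, false, 6), (118, false, 8), (104, false, 7), (119, false, 7), (169, false, 8), (152, false, 7), (166, false, 7), (167, false, 8), (170, false, 9), (159, false, 11), (142, false, 10), (126, false, 9), (111, false, 8), (97, false, 7), (84, false, 6), (61, false, 5), (51, false, 4), (42, false, 3), (145, false, 5), (118, false, 7), (104, false, 6), (163, false, 9), (146, false, 8), (130, false, 7), (115, false, 6), (118, false, 7),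 (119, false, 8), (152, false, 9), (166, false, 9), (133, false, 8), (104, false, 7), (165, false, 8), (132, false, 7), (149, false, 11), (133, false, 10), (118, false, 9), (104, false, 8), (150, false, 10), (134, false, 9), (119, false, 8), (152, false, 9), (166, false, 9), (133, false, 8), (169, false, 10), (166, false, 11), (149, false, 10), (133, false, 9), (104, false, 8), (166, false, 10), (149, false, 9), (133, false, 8), (169, false, 11), (152, false, 10), (168, false, 10), (135, false, 9), (166, false, 9), (104, false, 8), (167, false, 8), (170, false, 9), (114, false, 8), (87, false, 7), (64, false, 6), (54, false, 5), (150, false, 9), (119, false, 8), (147, false, 8), (102, false, 7), (89, false, 6), (152, false, 9), (117, false, 8), (90, false, 7), (150, false, 9), (119, false, 8), (150, false, 8), (152, false, 9)], [(138, false, 6), (122, false, 5), (107, false, 4), (80, false, 3), (68, false, 2), (23, false, 1), (164, false, 9), (147, false, 8), (131, false, 7), (89, false, 6), (77, false, 5), (149, false, 7), (133, false, 6), (150, false, 8), (134, false, 7), (152, false, 9), (164, false, 9), (131, false, 8), (116, false, 7), (102, false, 6), (89, false, 5), (149, false, 8), (118, false, 7), (152,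 false, 9), (133, false, 9), (118, false, 8), (104, false, 7), (134, false, 8), (119, false, 7), (165, false, 9), (148, false, 8), (132, false, 7), (90, false, 6), (149, false, 8), (118, false, 7), (104, false, 6), (150, false, 7), (119, false, 6), (151, false, 6), (152, false, 7), (149, false, 7), (133, false, 6), (150, false, 8), (134, false, 7), (152, false, 9), (167, false, 9), (134, false, 8), (119, false, 7), (168, false, 8), (135, false, 7), (169, false, 7), (170, false, 8), (149, false, 7), (104, false, 6), (150, false, 6), (166, false, 8), (149, false, 7), (118, false, 6), (169, false, 9), (152, false, 8), (170, false, 8), (119, false, 7), (158, false, 9), (141, false, 8), (125, false, 7), (96, false, 6), (71, false, 5), (50, false, 4), (41, false, 3), (33, false, 2), (161, false, 9), (144, false, 8), (128, false, 7), (113, false, 6), (86, false, 5), (44, false, 4), (148, false, 5), (103, false, 4), (149, false, 6), (104, false, 5), (151, false, 5), (167, false, 7), (150, false, 6), (134, false, 5), (168, false, 8), (151, false, 7), (135, false, 6), (166, false, 7), (149, false, 6), (118, false, 5), (167, false, 8), (150, false, 7), (119, false, 6), (166, false, 7), (149, false, 6), (104, false, 5), (167,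 false, 6), (150, false, 5), (169, false, 7), (152, false, 6), (170, false, 6), (114, false, 5), (87, false, 4), (150, false, 8), (119, false, 7), (151, false, 7), (162, false, 9), (145, false, 8), (129, false, 7), (100, false, 6), (87, false, 5), (54, false, 4), (150, false, 7), (119, false, 6), (152, false, 6), (104, false, 5), (149, false, 7), (133, false, 6), (118, false, 5), (150, false, 8), (134, false, 7), (119, false, 6), (149, false, 7), (133, false, 6), (104, false, 5), (150, false, 6), (134, false, 5), (152, false, 7), (164, false, 7), (131, false, 6), (116, false, 5), (89, false, 4), (151, false, 7), (149, false, 8), (133, false, 7), (104, false, 6), (150, false, 7), (134, false, 6), (152, false, 8), (166, false, 8), (133, false, 7), (118, false, 6), (168, false, 9), (135, false, 8), (169, false, 8), (170, false, 9), (149, false, 8), (118, false, 7), (104, false, 6), (151, false, 7), (152, false, 8), (134, false, 7), (119, false, 6), (166, false, 7), (133, false, 6), (168, false, 8), (135, false, 7), (170, false, 7), (160, false, 9), (143, false, 8), (127, false, 7), (98, false, 6), (85, false, 5), (73, false, 4), (165, false, 7), (103, false, 6), (104, false, 7), (167, false, 9), (150, false, 8),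 (119, false, 7), (169, false, 8), (152, false, 7), (166, false, 7), (166, false, 8), (104, false, 7), (167, false, 7), (168, false, 8), (169, false, 9), (169, false, 10), (152, false, 9), (166, false, 9), (133, false, 8), (118, false, 7), (167, false, 10), (134, false, 9), (119, false, 8), (169, false, 9), (170, false, 10), (144, false, 9), (128, false, 8), (99, false, 7), (86, false, 6), (74, false, 5), (165, false, 9), (132, false, 8), (117, false, 7), (118, false, 8), (119, false, 9), (149, false, 10), (133, false, 9), (104, false, 8), (150, false, 9), (134, false, 8), (152, false, 10), (166, false, 10), (133, false, 9), (118, false, 8), (168, false, 11), (135, false, 10), (170, false, 10), (119, false, 9), (151, false, 9), (149, false, 10), (133, false, 9), (104, false, 8), (150, false, 9), (134, false, 8), (145, false, 10), (129, false, 9), (114, false, 8), (87, false, 7), (75, false, 6), (148, false, 10), (117, false, 9), (103, false, 8), (149, false, 11), (118, false, 10), (104, false, 9), (150, false, 10), (119, false, 9), (152, false, 9), (118, false, 9), (119, false, 10), (149, false, 11), (133, false, 10), (104, false, 9), (150, false, 10), (134, false, 9), (150, false, 11), (134, false, 10), (119,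 false, 9), (152, false, 10), (119, true, 9), (134, true, 10), (167, true, 11), (152, true, 11), (169, true, 12), (151, true, 10), (168, true, 11), (150, true, 9), (167, true, 10), (119, true, 9), (104, true, 9), (118, true, 10), (103, true, 8), (117, true, 9), (165, true, 10), (152, true, 10), (150, true, 9), (149, true, 8), (147, true, 7), (164, true, 8), (119, true, 7), (150, true, 8), (104, true, 7), (118, true, 8), (149, true, 9), (118, true, 7), (170, true, 8), (152, true, 8), (169, true, 9), (135, true, 8), (151, true, 9), (168, true, 10), (104, true, 7), (118, true, 8), (133, true, 9), (149, true, 10), (166, true, 11), (134, true, 8), (133, true, 7), (119, true, 7), (134, true, 8), (104, true, 7), (118, true, 8), (133, true, 9), (152, true, 10), (151, true, 9), (150, true, 8), (149, true, 7), (119, true, 7), (150, true, 8), (100, true, 6), (114, true, 7), (129, true, 8), (145, true, 9), (162, true, 10), (169, true, 9), (152, true, 9), (134, true, 7), (150, true, 8), (133, true, 6), (149, true, 7), (151, true, 6), (119, true, 6), (150, true, 7), (99, true, 5), (113, true, 6), (128, true, 7), (161, true, 8), (34, true, 3), (42, true, 4), (51, true, 5), (111, true, 6), (142, true, 7), (159, true, 8), (216,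 false, 0), (218, false, 9), (224, false, 14), (157, false, 8), (140, false, 7), (109, false, 6), (82, false, 5), (70, false, 4), (49, false, 3), (25, false, 2), (19, false, 1), (127, false, 5), (112, false, 4), (98, false, 3), (118, false, 5), (104, false, 4), (119, false, 4), (144, false, 5), (128, false, 4), (133, false, 5), (134, false, 6), (132, false, 7), (117, false, 6), (103, false, 5), (118, false, 7), (104, false, 6), (119, false, 6), (149, false, 7), (133, false, 6), (152, false, 8), (162, false, 8), (129, false, 7), (100, false, 6), (87, false, 5), (150, false, 9), (119, false, 8), (152, false, 8), (104, false, 7), (149, false, 9), (133, false, 8), (118, false, 7), (150, false, 10), (134, false, 9), (119, false, 8), (152, false, 9), (164, false, 9), (131, false, 8), (102, false, 7), (89, false, 6), (151, false, 9), (149, false, 10), (133, false, 9), (118, false, 8), (150, false, 11), (134, false, 10), (119, false, 9), (152, false, 10), (166, false, 10), (133, false, 9), (104, false, 8), (170, false, 9), (129, false, 8), (87, false, 7), (75, false, 6), (54, false, 5), (148, false, 8), (117, false, 7), (103, false, 6), (149, false, 9), (118, false, 8), (104, false, 7), (150, false, 8), (119, false, 7),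 (152, false, 7), (147, false, 10), (131, false, 9), (116, false, 8), (102, false, 7), (89, false, 6), (77, false, 5), (149, false, 7), (118, false, 6), (152, false, 8), (148, false, 9), (132, false, 8), (117, false, 7), (103, false, 6), (90, false, 5), (149, false, 7), (118, false, 6), (104, false, 5), (150, false, 6), (119, false, 5), (149, false, 5), (150, false, 6), (151, false, 7), (152, false, 8), (149, false, 8), (133, false, 7), (118, false, 6), (104, false, 5), (152, false, 7), (166, false, 7), (133, false, 6), (118, false, 5), (168, false, 8), (135, false, 7), (167, false, 7), (119, false, 6), (170, false, 6), (128, false, 7), (113, false, 6), (99, false, 5), (44, false, 4), (150, false, 5), (152, false, 6), (119, false, 5), (130, false, 5), (101, false, 4), (104, false, 5), (148, false, 7), (132, false, 6), (117, false, 5), (118, false, 6), (119, false, 7), (152, false, 8), (142, false, 8), (126, false, 7), (97, false, 6), (84, false, 5), (61, false, 4), (34, false, 3), (163, false, 8), (130, false, 7), (115, false, 6), (101, false, 5), (118, false, 7), (104, false, 6), (119, false, 6), (166, false, 8), (149, false, 7), (133, false, 6), (165, false, 9), (148, false, 8), (132, false, 7), (103, false,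 6), (104, false, 7), (152, false, 9), (133, false, 8), (118, false, 7), (134, false, 9), (119, false, 8), (166, false, 10), (149, false, 9), (133, false, 8), (104, false, 7), (169, false, 9), (152, false, 8), (166, false, 8), (133, false, 7), (168, false, 9), (135, false, 8), (166, false, 8), (104, false, 7), (167, false, 7), (160, false, 8), (112, false, 7), (85, false, 6), (62, false, 5), (35, false, 4), (101, false, 4), (148, false, 6), (103, false, 5), (150, false, 7), (152, false, 8), (119, false, 7), (104, false, 6), (161, false, 8), (144, false, 7), (113, false, 6), (86, false, 5), (63, false, 4), (165, false, 8), (117, false, 7), (103, false, 6), (118, false, 8), (104, false, 7), (119, false, 7), (166, false, 8), (149, false, 7), (168, false, 9), (151, false, 8), (170, false, 10), (150, false, 9), (134, false, 8), (149, false, 10), (133, false, 9), (118, false, 8), (104, false, 7), (150, false, 9), (134, false, 8), (119, false, 7), (149, false, 8), (133, false, 7), (150, false, 9), (134, false, 8), (152, false, 10), (164, false, 10), (131, false, 9), (116, false, 8), (102, false, 7), (89, false, 6), (149, false, 9), (118, false, 8), (152, false, 10), (133, false, 10), (118, false, 9), (104, false, 8),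 (134, false, 9), (119, false, 8), (165, false, 10), (148, false, 9), (132, false, 8), (90, false, 7), (149, false, 9), (118, false, 8), (104, false, 7), (150, false, 8), (119, false, 7), (151, false, 7), (152, false, 8), (149, false, 8), (133, false, 7), (150, false, 9), (134, false, 8), (152, false, 10), (168, false, 10), (135, false, 9)]),
   ([3, 3, 1], [(9, false, 0)], [(7, false, 1), (7, false, 0), (155, false, 9), (107, false, 8), (93, false, 7), (47, false, 6), (38, false, 5), (30, false, 4), (17, false, 3), (8, false, 2), (5, false, 1), (156, false, 6), (94, false, 5), (81, false, 4), (39, false, 3), (31, false, 2), (24, false, 1), (160, false, 3), (169, false, 7), (152, false, 6), (161, false, 6), (113, false, 5), (99, false, 4), (150, false, 6), (119, false, 5), (149, false, 5), (150, false, 6), (152, false, 7), (166, false, 7), (118, false, 6), (104, false, 5), (167, false, 6), (119, false, 5), (170, false, 5), (149, false, 6), (159, false, 8), (142, false, 7), (97, false, 6), (84, false, 5), (42, false, 4), (34, false, 3), (27, false, 2), (160, false, 2), (166, false, 6), (149, false, 5), (118, false, 4), (104, false, 3), (167, false, 5), (150, false, 4), (119, false, 3), (168, false, 4), (151, false,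 3), (170, false, 5), (144, false, 4), (128, false, 3), (133, false, 4), (134, false, 5), (148, false, 7), (132, false, 6), (117, false, 5), (103, false, 4), (118, false, 6), (104, false, 5), (119, false, 5), (152, false, 6), (133, false, 5), (149, false, 7), (133, false, 6), (104, false, 5), (149, false, 6), (133, false, 5), (150, false, 7), (134, false, 6), (160, false, 9), (143, false, 8), (127, false, 7), (112, false, 6), (98, false, 5), (85, false, 4), (43, false, 3), (35, false, 2), (99, false, 2), (150, false, 4), (119, false, 3), (152, false, 3), (165, false, 3), (167, false, 7), (150, false, 6), (119, false, 5), (169, false, 6), (152, false, 5), (166, false, 5), (104, false, 4), (167, false, 4), (166, false, 5), (118, false, 4), (167, false, 6), (119, false, 5), (168, false, 5), (169, false, 6), (169, false, 7), (152, false, 6), (166, false, 6), (133, false, 5), (104, false, 4), (167, false, 5), (134, false, 4), (169, false, 6), (170, false, 7), (145, false, 6), (129, false, 5), (114, false, 4), (87, false, 3), (150, false, 7), (119, false, 6), (149, false, 6), (104, false, 5), (150, false, 5), (151, false, 6), (152, false, 7), (133, false, 6), (118, false, 5), (134, false, 7), (119, false, 6), (130,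 false, 6), (101, false, 5), (88, false, 4), (149, false, 8), (118, false, 7), (104, false, 6), (149, false, 7), (118, false, 6), (150, false, 8), (119, false, 7), (151, false, 7), (152, false, 8), (131, false, 7), (102, false, 6), (89, false, 5), (151, false, 8), (148, false, 9), (132, false, 8), (117, false, 7), (90, false, 6), (150, false, 8), (119, false, 7), (149, false, 7), (104, false, 6), (150, false, 6), (151, false, 7), (152, false, 8), (149, false, 8), (133, false, 7), (118, false, 6), (152, false, 9), (125, false, 8), (110, false, 7), (96, false, 6), (71, false, 5), (60, false, 4), (50, false, 3), (41, false, 2), (162, false, 6), (129, false, 5), (54, false, 4), (149, false, 7), (133, false, 6), (118, false, 5), (104, false, 4), (150, false, 6), (134, false, 5), (119, false, 4), (152, false, 5), (162, false, 5), (129, false, 4), (149, false, 8), (133, false, 7), (118, false, 6), (104, false, 5), (150, false, 7), (134, false, 6), (119, false, 5), (152, false, 6), (163, false, 6), (130, false, 5), (166, false, 10), (149, false, 9), (133, false, 8), (118, false, 7), (104, false, 6), (170, false, 9), (147, false, 8), (131, false, 7), (116, false, 6), (151, false, 8), (152, false, 9), (133, false, 8), (104,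 false, 7), (135, false, 7), (166, false, 8), (149, false, 7), (168, false, 9), (151, false, 8), (169, false, 10), (152, false, 9), (166, false, 9), (133, false, 8), (104, false, 7), (167, false, 8), (134, false, 7), (170, false, 9), (134, false, 8), (119, false, 7), (159, false, 8), (126, false, 7), (72, false, 6), (61, false, 5), (51, false, 4), (42, false, 3), (145, false, 5), (118, false, 7), (104, false, 6), (163, false, 9), (146, false, 8), (130, false, 7), (115, false, 6), (118, false, 7), (119, false, 8), (152, false, 9), (166, false, 9), (133, false, 8), (104, false, 7), (164, false, 8), (131, false, 7), (133, false, 8), (134, false, 9), (166, false, 12), (149, false, 11), (133, false, 10), (118, false, 9), (104, false, 8), (167, false, 11), (150, false, 10), (134, false, 9), (119, false, 8), (168, false, 10), (151, false, 9), (135, false, 8), (168, false, 9), (151, false, 8), (170, false, 10), (143, false, 9), (127, false, 8), (73, false, 7), (62, false, 6), (52, false, 5), (43, false, 4), (162, false, 8), (145, false, 7), (114, false, 6), (118, false, 7), (119, false, 8), (104, false, 7), (168, false, 9), (151, false, 8), (169, false, 10), (152, false, 9), (163, false, 9), (130, false, 8), (115, false,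 7), (118, false, 8), (119, false, 9), (169, false, 11), (152, false, 10), (164, false, 10), (131, false, 9), (102, false, 8), (151, false, 10), (149, false, 11), (133, false, 10), (118, false, 9), (150, false, 12), (134, false, 11), (119, false, 10), (152, false, 11), (166, false, 11), (133, false, 10), (104, false, 9), (170, false, 10), (133, false, 9), (134, false, 10), (135, false, 11), (152, false, 11), (113, false, 10), (99, false, 9), (74, false, 8), (63, false, 7), (53, false, 6), (44, false, 5), (145, false, 6), (100, false, 5), (149, false, 7), (118, false, 6), (150, false, 8), (119, false, 7), (150, false, 7), (152, false, 8), (163, false, 8), (115, false, 7), (101, false, 6), (166, false, 9), (118, false, 8), (104, false, 7), (167, false, 8), (119, false, 7), (170, false, 7), (167, false, 10), (134, false, 9), (119, false, 8), (169, false, 9), (167, false, 10), (150, false, 9), (134, false, 8), (162, false, 11), (145, false, 10), (129, false, 9), (114, false, 8), (75, false, 7), (64, false, 6), (54, false, 5), (150, false, 9), (119, false, 8), (149, false, 8), (104, false, 7), (150, false, 7), (151, false, 8), (152, false, 9), (133, false, 8), (118, false, 7), (134, false, 9), (119, false, 8), (133,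 false, 8), (104, false, 7), (134, false, 7), (165, false, 10), (148, false, 9), (132, false, 8), (117, false, 7), (118, false, 8), (119, false, 9), (152, false, 10), (133, false, 9), (104, false, 8), (134, false, 8), (166, false, 11), (149, false, 10), (133, false, 9), (118, false, 8), (167, false, 12), (150, false, 11), (134, false, 10), (119, false, 9), (169, false, 11), (152, false, 10), (170, false, 10), (126, false, 9), (97, false, 8), (84, false, 7), (72, false, 6), (61, false, 5), (34, false, 4), (27, false, 3), (160, false, 3), (166, false, 7), (149, false, 6), (118, false, 5), (104, false, 4), (167, false, 6), (150, false, 5), (119, false, 4), (168, false, 5), (151, false, 4), (170, false, 6), (146, false, 5), (130, false, 4), (152, false, 8), (133, false, 7), (118, false, 6), (104, false, 5), (131, false, 6), (116, false, 5), (151, false, 7), (149, false, 8), (133, false, 7), (104, false, 6), (150, false, 7), (134, false, 6), (151, false, 8), (135, false, 7), (148, false, 7), (117, false, 6), (149, false, 8), (118, false, 7), (152, false, 9), (118, false, 8), (104, false, 7), (128, false, 8), (113, false, 7), (86, false, 6), (74, false, 5), (63, false, 4), (164, false, 8), (116, false, 7), (102, false,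 6), (149, false, 8), (118, false, 7), (152, false, 9), (118, false, 8), (104, false, 7), (119, false, 7), (167, false, 8), (150, false, 7), (168, false, 9), (151, false, 8), (170, false, 10), (148, false, 9), (132, false, 8), (117, false, 7), (118, false, 8), (119, false, 9), (152, false, 10), (133, false, 9), (104, false, 8), (135, false, 8), (167, false, 8), (168, false, 9), (165, false, 10), (132, false, 9), (117, false, 8), (90, false, 7), (150, false, 9), (119, false, 8), (149, false, 8), (104, false, 7), (150, false, 7), (151, false, 8), (152, false, 9), (133, false, 8), (118, false, 7), (134, false, 9), (119, false, 8), (168, false, 10), (151, false, 9), (135, false, 8), (169, false, 9), (152, false, 8), (170, false, 8), (99, false, 7), (74, false, 6), (63, false, 5), (44, false, 4), (146, false, 5), (101, false, 4), (149, false, 6), (104, false, 5), (150, false, 5), (164, false, 7), (147, false, 6), (116, false, 5), (152, false, 7), (104, false, 6), (167, false, 8), (150, false, 7), (119, false, 6), (168, false, 7), (151, false, 6), (170, false, 8), (150, false, 7), (134, false, 6), (152, false, 8), (129, false, 7), (114, false, 6), (75, false, 5), (64, false, 4), (150, false, 9), (119, false, 8), (149,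 false, 8), (104, false, 7), (150, false, 7), (151, false, 8), (152, false, 9), (134, false, 8), (119, false, 7), (135, false, 7), (145, false, 7), (75, false, 6), (64, false, 5), (54, false, 4), (149, false, 8), (118, false, 7), (104, false, 6), (150, false, 7), (119, false, 6), (149, false, 6), (151, false, 7), (152, false, 8), (167, false, 8), (134, false, 7), (168, false, 9), (135, false, 8), (166, false, 8), (118, false, 7), (104, false, 6), (167, false, 7), (119, false, 6), (170, false, 6), (156, false, 8), (139, false, 7), (123, false, 6), (69, false, 5), (58, false, 4), (31, false, 3), (18, false, 2), (9, false, 1), (160, false, 10), (127, false, 9), (98, false, 8), (85, false, 7), (73, false, 6), (62, false, 5), (52, false, 4), (35, false, 3), (100, false, 3), (151, false, 5), (152, false, 6), (130, false, 5), (115, false, 4), (118, false, 5), (119, false, 6), (152, false, 7), (131, false, 6), (102, false, 5), (151, false, 7), (149, false, 8), (133, false, 7), (118, false, 6), (165, false, 10), (148, false, 9), (132, false, 8), (117, false, 7), (103, false, 6), (118, false, 8), (104, false, 7), (119, false, 7), (152, false, 8), (133, false, 7), (134, false, 8), (167, false, 11), (150, false, 10), (134,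 false, 9), (119, false, 8), (169, false, 10), (152, false, 9), (166, false, 9), (133, false, 8), (104, false, 7), (166, false, 8), (133, false, 7), (167, false, 9), (134, false, 8), (168, false, 10), (135, false, 9), (169, false, 9), (166, false, 10), (149, false, 9), (118, false, 8), (104, false, 7), (167, false, 9), (150, false, 8), (119, false, 7), (169, false, 8), (152, false, 7), (170, false, 7), (146, false, 7), (88, false, 6), (76, false, 5), (65, false, 4), (152, false, 8), (116, false, 7), (102, false, 6), (89, false, 5), (77, false, 4), (149, false, 6), (118, false, 5), (152, false, 7), (151, false, 7), (152, false, 8), (158, false, 8), (125, false, 7), (110, false, 6), (96, false, 5), (83, false, 4), (50, false, 3), (26, false, 2), (20, false, 1), (160, false, 3), (98, false, 2), (52, false, 1), (149, false, 4), (133, false, 3), (149, false, 5), (133, false, 4), (104, false, 3), (150, false, 4), (134, false, 3), (152, false, 5), (161, false, 5), (128, false, 4), (113, false, 3), (53, false, 2), (167, false, 6), (150, false, 5), (119, false, 4), (168, false, 5), (151, false, 4), (166, false, 6), (149, false, 5), (133, false, 4), (167, false, 7), (150, false, 6), (134, false, 5), (169, false, 8), (152,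 false, 7), (170, false, 7), (129, false, 6), (114, false, 5), (100, false, 4), (54, false, 3), (150, false, 4), (119, false, 3), (149, false, 3), (150, false, 4), (151, false, 5), (152, false, 6), (131, false, 5), (116, false, 4), (102, false, 3), (149, false, 5), (118, false, 4), (152, false, 6), (132, false, 6), (117, false, 5), (103, false, 4), (118, false, 6), (104, false, 5), (119, false, 5), (152, false, 6), (129, false, 5), (87, false, 4), (75, false, 3), (148, false, 7), (117, false, 6), (103, false, 5), (149, false, 8), (118, false, 7), (104, false, 6), (150, false, 7), (119, false, 6), (152, false, 6), (147, false, 9), (131, false, 8), (116, false, 7), (102, false, 6), (89, false, 5), (77, false, 4), (149, false, 6), (118, false, 5), (152, false, 7), (148, false, 8), (132, false, 7), (117, false, 6), (103, false, 5), (90, false, 4), (149, false, 6), (118, false, 5), (104, false, 4), (150, false, 5), (119, false, 4), (149, false, 4), (150, false, 5), (151, false, 6), (152, false, 7), (152, false, 7), (133, false, 6), (118, false, 5), (104, false, 4), (135, false, 5), (149, false, 5), (118, false, 4), (150, false, 6), (119, false, 5), (167, false, 6), (150, false, 5), (170, false, 7), (151, false, 6),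 (152, false, 7), (160, false, 7), (127, false, 6), (112, false, 5), (98, false, 4), (52, false, 3), (43, false, 2), (35, false, 1), (99, false, 1), (150, false, 3), (119, false, 2), (152, false, 2), (162, false, 2), (168, false, 6), (151, false, 5), (169, false, 7), (152, false, 6), (166, false, 6), (133, false, 5), (118, false, 4), (104, false, 3), (167, false, 5), (134, false, 4), (119, false, 3), (166, false, 4), (133, false, 3), (167, false, 5), (134, false, 4), (168, false, 6), (135, false, 5), (169, false, 5), (166, false, 6), (149, false, 5), (118, false, 4), (104, false, 3), (167, false, 5), (150, false, 4), (119, false, 3), (169, false, 4), (152, false, 3), (170, false, 3), (53, false, 2), (44, false, 1), (145, false, 2), (100, false, 1), (149, false, 3), (118, false, 2), (150, false, 4), (119, false, 3), (150, false, 3), (152, false, 4), (162, false, 4), (114, false, 3), (100, false, 2), (54, false, 1), (150, false, 2), (119, false, 1), (149, false, 1), (150, false, 2), (152, false, 3), (166, false, 3), (118, false, 2), (104, false, 1), (167, false, 2), (119, false, 1), (170, false, 1)]),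
   ([20, 6, 7, 8, 9, 15, 16, 17, 6, 7, 8, 9, 15, 16, 17], [(205, false, 0), (205, false, 7), (153, false, 6), (120, false, 5), (105, false, 4), (21, false, 3), (15, false, 2), (10, false, 1), (0, false, 0), (158, false, 7), (141, false, 6), (83, false, 5), (50, false, 4), (41, false, 3), (33, false, 2), (26, false, 1), (142, false, 7), (84, false, 6), (72, false, 5), (51, false, 4), (42, false, 3), (34, false, 2), (161, false, 7), (128, false, 6), (113, false, 5), (99, false, 4), (150, false, 6), (119, false, 5), (151, false, 5), (149, false, 6), (133, false, 5), (150, false, 7), (134, false, 6), (152, false, 8), (169, false, 8), (162, false, 9), (145, false, 8), (129, false, 7), (114, false, 6), (100, false, 5), (150, false, 7), (119, false, 6), (149, false, 6), (150, false, 7), (151, false, 8), (152, false, 9), (133, false, 8), (118, false, 7), (104, false, 6), (134, false, 7), (119, false, 6), (133, false, 6), (134, false, 7), (166, false, 10), (149, false, 9), (133, false, 8), (118, false, 7), (104, false, 6), (168, false, 9), (151, false, 8), (135, false, 7), (169, false, 8), (152, false, 7), (170, false, 7), (116, false, 6), (149, false, 8), (104, false, 7), (150, false, 7), (151, false, 8), (148, false,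 9), (132, false, 8), (117, false, 7), (118, false, 8), (119, false, 9), (152, false, 10), (133, false, 9), (104, false, 8), (149, false, 9), (133, false, 8), (150, false, 10), (134, false, 9), (144, false, 11), (128, false, 10), (113, false, 9), (99, false, 8), (86, false, 7), (74, false, 6), (53, false, 5), (44, false, 4), (145, false, 5), (100, false, 4), (149, false, 6), (118, false, 5), (150, false, 7), (119, false, 6), (150, false, 6), (152, false, 7), (164, false, 7), (116, false, 6), (102, false, 5), (149, false, 7), (118, false, 6), (152, false, 8), (118, false, 7), (104, false, 6), (119, false, 6), (167, false, 7), (150, false, 6), (168, false, 8), (151, false, 7), (170, false, 9), (148, false, 8), (132, false, 7), (117, false, 6), (118, false, 7), (119, false, 8), (152, false, 9), (133, false, 8), (104, false, 7), (135, false, 7), (167, false, 7), (169, false, 8), (167, false, 9), (150, false, 8), (119, false, 7), (168, false, 8), (151, false, 7), (166, false, 9), (149, false, 8), (133, false, 7), (167, false, 10), (150, false, 9), (134, false, 8), (165, false, 11), (148, false, 10), (132, false, 9), (117, false, 8), (103, false, 7), (90, false, 6), (149, false, 8), (118, false, 7), (104, false, 6),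 (150, false, 7), (119, false, 6), (149, false, 6), (150, false, 7), (151, false, 8), (152, false, 9), (149, false, 9), (133, false, 8), (118, false, 7), (104, false, 6), (150, false, 8), (134, false, 7), (119, false, 6), (152, false, 7), (167, false, 7), (134, false, 6), (168, false, 8), (135, false, 7), (169, false, 7), (170, false, 8), (144, false, 7), (113, false, 6), (74, false, 5), (53, false, 4), (164, false, 8), (147, false, 7), (116, false, 6), (152, false, 8), (104, false, 7), (167, false, 9), (150, false, 8), (119, false, 7), (168, false, 8), (151, false, 7), (170, false, 9), (150, false, 8), (134, false, 7), (149, false, 9), (133, false, 8), (118, false, 7), (150, false, 10), (134, false, 9), (119, false, 8), (145, false, 9), (129, false, 8), (100, false, 7), (75, false, 6), (54, false, 5), (150, false, 8), (119, false, 7), (152, false, 7), (104, false, 6), (149, false, 8), (133, false, 7), (118, false, 6), (150, false, 9), (134, false, 8), (119, false, 7), (151, false, 8), (135, false, 7), (162, false, 8), (145, false, 7), (100, false, 6), (75, false, 5), (150, false, 9), (119, false, 8), (152, false, 8), (104, false, 7), (118, false, 7), (119, false, 8), (164, false, 9), (147, false, 8), (102, false,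 7), (77, false, 6), (152, false, 7), (118, false, 6), (119, false, 7), (165, false, 8), (148, false, 7), (103, false, 6), (149, false, 8), (104, false, 7), (150, false, 7), (152, false, 8), (169, false, 8), (166, false, 9), (149, false, 8), (118, false, 7), (168, false, 10), (151, false, 9), (170, false, 11), (151, false, 10), (135, false, 9), (152, false, 9), (162, false, 9), (114, false, 8), (100, false, 7), (87, false, 6), (54, false, 5), (150, false, 8), (119, false, 7), (152, false, 7), (118, false, 7), (104, false, 6), (119, false, 6), (166, false, 7), (149, false, 6), (167, false, 8), (150, false, 7), (169, false, 9), (152, false, 8), (160, false, 8), (112, false, 7), (98, false, 6), (85, false, 5), (43, false, 4), (35, false, 3), (99, false, 3), (150, false, 5), (119, false, 4), (152, false, 4), (165, false, 4), (167, false, 8), (150, false, 7), (119, false, 6), (169, false, 7), (152, false, 6), (166, false, 6), (104, false, 5), (167, false, 5), (166, false, 6), (118, false, 5), (167, false, 7), (119, false, 6), (169, false, 6), (170, false, 7), (144, false, 6), (99, false, 5), (86, false, 4), (44, false, 3), (148, false, 4), (103, false, 3), (149, false, 5), (104, false, 4), (151, false, 4), (167, false,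 6), (150, false, 5), (134, false, 4), (169, false, 7), (152, false, 6), (166, false, 6), (133, false, 5), (118, false, 4), (167, false, 7), (134, false, 6), (119, false, 5), (164, false, 6), (131, false, 5), (102, false, 4), (89, false, 3), (151, false, 6), (149, false, 7), (133, false, 6), (118, false, 5), (150, false, 8), (134, false, 7), (119, false, 6), (152, false, 7), (165, false, 7), (132, false, 6), (103, false, 5), (90, false, 4), (149, false, 6), (118, false, 5), (104, false, 4), (149, false, 5), (118, false, 4), (150, false, 6), (119, false, 5), (151, false, 5), (152, false, 6), (133, false, 5), (104, false, 4), (134, false, 4), (168, false, 7), (151, false, 6), (135, false, 5), (166, false, 6), (149, false, 5), (118, false, 4), (169, false, 7), (152, false, 6), (166, false, 6), (118, false, 5), (104, false, 4), (168, false, 5), (170, false, 6), (133, false, 5), (118, false, 4), (124, false, 6), (109, false, 5), (95, false, 4), (70, false, 3), (25, false, 2), (19, false, 1), (14, false, 0), (125, false, 2), (71, false, 1), (50, false, 0), (167, false, 6), (150, false, 5), (134, false, 4), (170, false, 7), (149, false, 6), (133, false, 5), (118, false, 4), (104, false, 3), (150, false, 5), (134, false,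 4), (119, false, 3), (151, false, 4), (135, false, 3), (143, false, 3), (73, false, 2), (52, false, 1), (147, false, 4), (131, false, 3), (149, false, 5), (133, false, 4), (169, false, 7), (152, false, 6), (161, false, 6), (128, false, 5), (99, false, 4), (74, false, 3), (53, false, 2), (164, false, 6), (147, false, 5), (116, false, 4), (152, false, 6), (104, false, 5), (167, false, 7), (150, false, 6), (119, false, 5), (168, false, 6), (151, false, 5), (170, false, 7), (150, false, 6), (134, false, 5), (152, false, 7), (135, false, 6), (118, false, 5), (119, false, 6), (165, false, 7), (148, false, 6), (103, false, 5), (149, false, 7), (104, false, 6), (150, false, 6), (152, false, 7), (166, false, 7), (118, false, 6), (169, false, 8), (170, false, 9), (147, false, 8), (116, false, 7), (102, false, 6), (89, false, 5), (77, false, 4), (149, false, 6), (118, false, 5), (152, false, 7), (149, false, 7), (118, false, 6), (104, false, 5), (168, false, 7), (151, false, 6), (169, false, 8), (152, false, 7), (170, false, 7), (133, false, 6), (118, false, 5), (135, false, 7), (118, false, 6), (104, false, 5), (158, false, 7), (125, false, 6), (110, false, 5), (83, false, 4), (50, false, 3), (41, false, 2), (33, false,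 1), (20, false, 0), (159, false, 2), (97, false, 1), (51, false, 0), (166, false, 5), (149, false, 4), (133, false, 3), (104, false, 2), (170, false, 4), (144, false, 3), (128, false, 2), (53, false, 1), (168, false, 5), (151, false, 4), (166, false, 6), (149, false, 5), (133, false, 4), (118, false, 3), (167, false, 7), (150, false, 6), (134, false, 5), (119, false, 4), (165, false, 6), (148, false, 5), (132, false, 4), (103, false, 3), (104, false, 4), (152, false, 6), (133, false, 5), (118, false, 4), (134, false, 6), (119, false, 5), (167, false, 7), (150, false, 6), (134, false, 5), (168, false, 8), (151, false, 7), (135, false, 6), (169, false, 7), (152, false, 6), (170, false, 6), (113, false, 5), (99, false, 4), (86, false, 3), (53, false, 2), (44, false, 1), (145, false, 2), (100, false, 1), (149, false, 3), (118, false, 2), (150, false, 4), (119, false, 3), (150, false, 3), (152, false, 4), (165, false, 4), (117, false, 3), (103, false, 2), (118, false, 4), (104, false, 3), (119, false, 3), (166, false, 4), (149, false, 3), (168, false, 5), (151, false, 4), (170, false, 6), (150, false, 5), (134, false, 4), (152, false, 6), (134, false, 5), (119, false, 4), (129, false, 4), (100, false, 3), (87, false,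 2), (54, false, 1), (150, false, 4), (119, false, 3), (152, false, 3), (104, false, 2), (151, false, 4), (135, false, 3), (162, false, 4), (145, false, 3), (114, false, 2), (87, false, 1), (150, false, 5), (119, false, 4), (149, false, 4), (104, false, 3), (150, false, 3), (149, false, 4), (118, false, 3), (150, false, 5), (119, false, 4), (152, false, 4), (164, false, 4), (102, false, 3), (89, false, 2), (149, false, 5), (118, false, 4), (150, false, 6), (119, false, 5), (152, false, 5), (165, false, 5), (103, false, 4), (90, false, 3), (149, false, 5), (118, false, 4), (104, false, 3), (149, false, 4), (118, false, 3), (150, false, 5), (119, false, 4), (152, false, 4), (169, false, 4), (166, false, 5), (149, false, 4), (104, false, 3), (167, false, 4), (150, false, 3), (170, false, 5), (150, false, 4), (119, false, 3), (168, false, 4), (151, false, 3), (169, false, 5), (152, false, 4), (170, false, 4), (126, false, 3), (72, false, 2), (51, false, 1), (27, false, 0), (162, false, 0), (166, false, 4), (149, false, 3), (118, false, 2), (104, false, 1), (168, false, 3), (151, false, 2), (169, false, 4), (152, false, 3), (170, false, 3), (131, false, 2), (116, false, 1), (151, false, 3), (149, false, 4), (133, false,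 3), (104, false, 2), (150, false, 3), (134, false, 2), (151, false, 4), (135, false, 3), (151, false, 3), (150, false, 4), (134, false, 3), (119, false, 2), (151, false, 3), (135, false, 2)], [(159, false, 7), (142, false, 6), (126, false, 5), (51, false, 4), (42, false, 3), (34, false, 2), (27, false, 1), (160, false, 1), (166, false, 5), (149, false, 4), (118, false, 3), (104, false, 2), (167, false, 4), (150, false, 3), (119, false, 2), (168, false, 3), (151, false, 2), (170, false, 4), (144, false, 3), (128, false, 2), (133, false, 3), (134, false, 4), (145, false, 6), (129, false, 5), (114, false, 4), (100, false, 3), (150, false, 5), (119, false, 4), (149, false, 4), (150, false, 5), (151, false, 6), (152, false, 7), (133, false, 6), (118, false, 5), (104, false, 4), (134, false, 5), (119, false, 4), (133, false, 4), (135, false, 5), (168, false, 6), (151, false, 5), (166, false, 7), (149, false, 6), (133, false, 5), (104, false, 4), (167, false, 6), (150, false, 5), (134, false, 4), (170, false, 7), (143, false, 6), (127, false, 5), (112, false, 4), (52, false, 3), (43, false, 2), (35, false, 1), (99, false, 1), (150, false, 3), (119, false, 2), (152, false, 2), (162, false, 2), (168, false, 6), (151,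 false, 5), (169, false, 7), (152, false, 6), (167, false, 6), (134, false, 5), (119, false, 4), (166, false, 5), (133, false, 4), (104, false, 3), (167, false, 4), (134, false, 3), (168, false, 5), (135, false, 4), (169, false, 4), (169, false, 5), (152, false, 4), (161, false, 4), (113, false, 3), (53, false, 2), (44, false, 1), (145, false, 2), (100, false, 1), (149, false, 3), (118, false, 2), (150, false, 4), (119, false, 3), (150, false, 3), (152, false, 4), (167, false, 4), (119, false, 3), (166, false, 3), (104, false, 2), (167, false, 2), (169, false, 3), (170, false, 4), (145, false, 3), (114, false, 2), (54, false, 1), (118, false, 1), (119, false, 2), (170, true, 4), (169, true, 3), (168, true, 2), (152, true, 2), (119, true, 2), (150, true, 3), (210, false, 0), (211, false, 3), (212, false, 7), (214, false, 11), (149, false, 2), (118, false, 1), (104, false, 0), (151, false, 1), (152, false, 2), (164, false, 2), (131, false, 1), (116, false, 0), (151, false, 2), (149, false, 3), (133, false, 2), (104, false, 1), (150, false, 2), (134, false, 1), (152, false, 3), (165, false, 3), (132, false, 2), (117, false, 1), (118, false, 2), (119, false, 3), (149, false, 4), (133, false, 3), (104, false, 2), (150,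 false, 3), (134, false, 2), (152, false, 4), (167, false, 4), (134, false, 3), (119, false, 2), (169, false, 3), (162, false, 4), (145, false, 3), (129, false, 2), (87, false, 1), (75, false, 0), (148, false, 4), (117, false, 3), (103, false, 2), (149, false, 5), (118, false, 4), (104, false, 3), (150, false, 4), (119, false, 3), (152, false, 3), (149, false, 6), (133, false, 5), (118, false, 4), (104, false, 3), (150, false, 5), (134, false, 4), (119, false, 3), (149, false, 4), (133, false, 3), (150, false, 5), (134, false, 4), (152, false, 6), (165, false, 6), (132, false, 5), (117, false, 4), (103, false, 3), (90, false, 2), (149, false, 4), (118, false, 3), (104, false, 2), (150, false, 3), (119, false, 2), (149, false, 2), (150, false, 3), (151, false, 4), (152, false, 5), (133, false, 4), (118, false, 3), (104, false, 2), (134, false, 3), (119, false, 2), (168, false, 4), (151, false, 3), (135, false, 2)]),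
   ([4, 1, 0], [(11, false, 0), (136, false, 6), (120, false, 5), (105, false, 4), (45, false, 3), (15, false, 2), (10, false, 1), (1, false, 0), (140, false, 9), (95, false, 8), (82, false, 7), (70, false, 6), (49, false, 5), (40, false, 4), (32, false, 3), (25, false, 2), (160, false, 8), (143, false, 7), (98, false, 6), (85, false, 5), (43, false, 4), (35, false, 3), (99, false, 3), (150, false, 5), (119, false, 4), (152, false, 4), (165, false, 4), (167, false, 8), (150, false, 7), (119, false, 6), (169, false, 7), (152, false, 6), (166, false, 6), (104, false, 5), (169, false, 5), (166, false, 6), (149, false, 5), (167, false, 7), (150, false, 6), (169, false, 8), (152, false, 7), (170, false, 7), (114, false, 6), (100, false, 5), (87, false, 4), (150, false, 8), (119, false, 7), (152, false, 7), (116, false, 7), (102, false, 6), (89, false, 5), (149, false, 8), (118, false, 7), (152, false, 9), (159, false, 10), (126, false, 9), (111, false, 8), (97, false, 7), (84, false, 6), (72, false, 5), (51, false, 4), (42, false, 3), (145, false, 5), (118, false, 7), (104, false, 6), (164, false, 9), (147, false, 8), (131, false, 7), (116, false, 6), (151, false, 8), (152, false, 9), (133, false, 8), (104, false,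 7), (134, false, 7), (166, false, 10), (149, false, 9), (133, false, 8), (118, false, 7), (167, false, 11), (150, false, 10), (134, false, 9), (119, false, 8), (168, false, 10), (151, false, 9), (135, false, 8), (165, false, 9), (148, false, 8), (103, false, 7), (149, false, 9), (104, false, 8), (150, false, 8), (152, false, 9), (166, false, 9), (118, false, 8), (169, false, 10), (166, false, 11), (149, false, 10), (118, false, 9), (104, false, 8), (166, false, 10), (149, false, 9), (118, false, 8), (169, false, 11), (152, false, 10), (168, false, 10), (170, false, 11), (127, false, 10), (112, false, 9), (98, false, 8), (85, false, 7), (73, false, 6), (52, false, 5), (43, false, 4), (162, false, 8), (145, false, 7), (114, false, 6), (118, false, 7), (119, false, 8), (104, false, 7), (168, false, 9), (151, false, 8), (169, false, 10), (152, false, 9), (164, false, 9), (131, false, 8), (116, false, 7), (151, false, 9), (149, false, 10), (133, false, 9), (104, false, 8), (150, false, 9), (134, false, 8), (152, false, 10), (166, false, 10), (133, false, 9), (118, false, 8), (170, false, 11), (132, false, 10), (117, false, 9), (103, false, 8), (118, false, 10), (104, false, 9), (119, false, 9), (150, false, 10), (134,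 false, 9), (152, false, 11), (133, false, 10), (118, false, 9), (134, false, 11), (119, false, 10), (133, false, 10), (104, false, 9), (134, false, 9), (135, false, 10), (148, false, 10), (117, false, 9), (90, false, 8), (150, false, 10), (119, false, 9), (152, false, 9), (104, false, 8), (129, false, 8), (75, false, 7), (54, false, 6), (149, false, 9), (118, false, 8), (104, false, 7), (150, false, 8), (119, false, 7), (151, false, 7), (152, false, 8), (131, false, 7), (77, false, 6), (133, false, 6), (162, false, 8), (129, false, 7), (100, false, 6), (149, false, 8), (118, false, 7), (150, false, 9), (119, false, 8), (151, false, 8), (152, false, 9), (133, false, 8), (104, false, 7), (134, false, 7), (164, false, 10), (147, false, 9), (131, false, 8), (116, false, 7), (151, false, 9), (152, false, 10), (133, false, 9), (104, false, 8), (134, false, 8), (165, false, 11), (148, false, 10), (132, false, 9), (117, false, 8), (118, false, 9), (119, false, 10), (152, false, 11), (133, false, 10), (104, false, 9), (134, false, 9), (166, false, 12), (149, false, 11), (133, false, 10), (118, false, 9), (169, false, 13), (152, false, 12), (170, false, 12), (135, false, 11), (167, false, 12), (150, false, 11), (119, false,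 10), (170, false, 11), (142, false, 10), (97, false, 9), (84, false, 8), (72, false, 7), (51, false, 6), (42, false, 5), (34, false, 4), (27, false, 3), (160, false, 3), (166, false, 7), (149, false, 6), (118, false, 5), (104, false, 4), (167, false, 6), (150, false, 5), (119, false, 4), (168, false, 5), (151, false, 4), (170, false, 6), (144, false, 5), (128, false, 4), (133, false, 5), (134, false, 6), (145, false, 8), (129, false, 7), (114, false, 6), (100, false, 5), (150, false, 7), (119, false, 6), (149, false, 6), (150, false, 7), (151, false, 8), (152, false, 9), (133, false, 8), (118, false, 7), (104, false, 6), (134, false, 7), (119, false, 6), (133, false, 6), (135, false, 7), (164, false, 8), (147, false, 7), (102, false, 6), (152, false, 8), (118, false, 7), (119, false, 8), (166, false, 9), (149, false, 8), (104, false, 7), (167, false, 8), (150, false, 7), (168, false, 9), (151, false, 8), (165, false, 10), (148, false, 9), (132, false, 8), (117, false, 7), (118, false, 8), (119, false, 9), (152, false, 10), (133, false, 9), (104, false, 8), (134, false, 8), (166, false, 11), (149, false, 10), (133, false, 9), (118, false, 8), (169, false, 12), (152, false, 11), (166, false, 11), (133, false, 10),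 (118, false, 9), (104, false, 8), (166, false, 10), (133, false, 9), (118, false, 8), (167, false, 11), (134, false, 10), (119, false, 9), (160, false, 10), (127, false, 9), (98, false, 8), (85, false, 7), (73, false, 6), (52, false, 5), (43, false, 4), (35, false, 3), (99, false, 3), (150, false, 5), (119, false, 4), (152, false, 4), (162, false, 4), (168, false, 8), (151, false, 7), (169, false, 9), (152, false, 8), (164, false, 8), (131, false, 7), (116, false, 6), (102, false, 5), (149, false, 7), (118, false, 6), (152, false, 8), (133, false, 8), (118, false, 7), (104, false, 6), (134, false, 7), (119, false, 6), (166, false, 8), (149, false, 7), (133, false, 6), (170, false, 9), (148, false, 8), (132, false, 7), (103, false, 6), (104, false, 7), (152, false, 9), (134, false, 8), (119, false, 7), (149, false, 8), (133, false, 7), (149, false, 9), (133, false, 8), (104, false, 7), (150, false, 8), (134, false, 7), (151, false, 9), (135, false, 8), (152, false, 8), (118, false, 7), (119, false, 8), (161, false, 9), (144, false, 8), (99, false, 7), (86, false, 6), (74, false, 5), (53, false, 4), (44, false, 3), (145, false, 4), (100, false, 3), (149, false, 5), (118, false, 4), (150, false, 6), (119, false,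 5), (150, false, 5), (152, false, 6), (164, false, 6), (116, false, 5), (102, false, 4), (149, false, 6), (118, false, 5), (152, false, 7), (118, false, 6), (104, false, 5), (119, false, 5), (167, false, 6), (150, false, 5), (168, false, 7), (151, false, 6), (170, false, 8), (148, false, 7), (132, false, 6), (117, false, 5), (118, false, 6), (119, false, 7), (152, false, 8), (133, false, 7), (104, false, 6), (135, false, 6), (167, false, 6), (169, false, 7), (166, false, 8), (149, false, 7), (118, false, 6), (167, false, 9), (150, false, 8), (119, false, 7), (166, false, 8), (149, false, 7), (104, false, 6), (167, false, 7), (150, false, 6), (169, false, 8), (152, false, 7), (170, false, 7), (114, false, 6), (87, false, 5), (75, false, 4), (54, false, 3), (148, false, 6), (117, false, 5), (103, false, 4), (149, false, 7), (118, false, 6), (104, false, 5), (150, false, 6), (119, false, 5), (152, false, 5), (117, false, 5), (90, false, 4), (150, false, 6), (119, false, 5), (152, false, 5), (158, false, 5), (96, false, 4), (71, false, 3), (166, false, 8), (149, false, 7), (133, false, 6), (104, false, 5), (168, false, 7), (151, false, 6), (135, false, 5), (169, false, 6), (152, false, 5), (168, false, 5), (169,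 false, 6), (170, false, 7), (145, false, 6), (129, false, 5), (75, false, 4), (149, false, 8), (118, false, 7), (104, false, 6), (150, false, 7), (119, false, 6), (151, false, 6), (152, false, 7), (133, false, 6), (134, false, 7), (133, false, 8), (118, false, 7), (104, false, 6), (134, false, 7), (119, false, 6), (145, false, 7), (129, false, 6), (75, false, 5), (54, false, 4), (149, false, 7), (118, false, 6), (104, false, 5), (150, false, 6), (119, false, 5), (151, false, 5), (152, false, 6), (133, false, 5), (134, false, 6), (133, false, 7), (118, false, 6), (104, false, 5), (149, false, 7), (133, false, 6), (118, false, 5), (151, false, 8), (135, false, 7), (167, false, 8), (150, false, 7), (119, false, 6), (170, false, 7)], [(1, false, 1), (10, false, 0), (154, false, 8), (137, false, 7), (79, false, 6), (46, false, 5), (37, false, 4), (29, false, 3), (22, false, 2), (11, false, 1), (142, false, 7), (126, false, 6), (111, false, 5), (51, false, 4), (166, false, 9), (149, false, 8), (133, false, 7), (104, false, 6), (169, false, 8), (152, false, 7), (168, false, 7), (135, false, 6), (166, false, 6), (167, false, 7), (161, false, 8), (113, false, 7), (99, false, 6), (53, false, 5), (167, false, 9), (150,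 false, 8), (119, false, 7), (169, false, 8), (152, false, 7), (167, false, 7), (166, false, 8), (118, false, 7), (167, false, 9), (119, false, 8), (169, false, 8), (170, false, 9), (145, false, 8), (100, false, 7), (54, false, 6), (149, false, 7), (118, false, 6), (150, false, 8), (119, false, 7), (146, false, 7), (101, false, 6), (149, false, 8), (104, false, 7), (150, false, 7), (143, false, 8), (112, false, 7), (62, false, 6), (43, false, 5), (163, false, 9), (146, false, 8), (115, false, 7), (169, false, 10), (152, false, 9), (167, false, 9), (119, false, 8), (169, false, 8), (161, false, 9), (144, false, 8), (63, false, 7), (44, false, 6), (146, false, 7), (101, false, 6), (149, false, 8), (104, false, 7), (150, false, 7), (166, false, 9), (149, false, 8), (118, false, 7), (167, false, 10), (150, false, 9), (119, false, 8), (166, false, 9), (149, false, 8), (104, false, 7), (167, false, 8), (150, false, 7), (169, false, 9), (152, false, 8), (170, false, 8), (116, false, 7), (149, false, 9), (104, false, 8), (151, false, 8), (161, false, 10), (144, false, 9), (128, false, 8), (74, false, 7), (63, false, 6), (164, false, 10), (116, false, 9), (102, false, 8), (149, false, 10), (118, false, 9), (152, false,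 11), (118, false, 10), (104, false, 9), (119, false, 9), (167, false, 10), (150, false, 9), (168, false, 11), (151, false, 10), (170, false, 12), (151, false, 11), (135, false, 10), (149, false, 10), (118, false, 9), (150, false, 11), (119, false, 10), (149, false, 10), (104, false, 9), (150, false, 9), (152, false, 10), (162, false, 10), (114, false, 9), (75, false, 8), (64, false, 7), (150, false, 12), (119, false, 11), (149, false, 11), (104, false, 10), (150, false, 10), (152, false, 11), (166, false, 11), (118, false, 10), (167, false, 12), (119, false, 11), (170, false, 11), (100, false, 10), (75, false, 9), (64, false, 8), (54, false, 7), (150, false, 11), (119, false, 10), (152, false, 10), (145, false, 11), (129, false, 10), (100, false, 9), (75, false, 8), (64, false, 7), (150, false, 12), (119, false, 11), (152, false, 11), (104, false, 10), (149, false, 12), (133, false, 11), (118, false, 10), (150, false, 13), (134, false, 12), (119, false, 11), (146, false, 12), (130, false, 11), (101, false, 10), (76, false, 9), (65, false, 8), (104, false, 9), (152, false, 11), (131, false, 10), (116, false, 9), (77, false, 8), (151, false, 9), (148, false, 10), (132, false, 9), (103, false, 8), (104, false, 9),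 (152, false, 11), (133, false, 10), (118, false, 9), (134, false, 11), (119, false, 10), (135, false, 10), (150, false, 10), (151, false, 11), (149, false, 12), (133, false, 11), (118, false, 10), (104, false, 9), (150, false, 11), (134, false, 10), (119, false, 9), (151, false, 10), (135, false, 9), (152, false, 9), (84, false, 8), (51, false, 7), (42, false, 6), (34, false, 5), (27, false, 4), (160, false, 4), (166, false, 8), (149, false, 7), (118, false, 6), (104, false, 5), (167, false, 7), (150, false, 6), (119, false, 5), (168, false, 6), (151, false, 5), (170, false, 7), (144, false, 6), (128, false, 5), (133, false, 6), (134, false, 7), (145, false, 9), (129, false, 8), (114, false, 7), (100, false, 6), (150, false, 8), (119, false, 7), (149, false, 7), (150, false, 8), (151, false, 9), (152, false, 10), (133, false, 9), (118, false, 8), (104, false, 7), (134, false, 8), (119, false, 7), (133, false, 7), (135, false, 8), (165, false, 9), (148, false, 8), (103, false, 7), (149, false, 9), (104, false, 8), (150, false, 8), (152, false, 9), (166, false, 9), (118, false, 8), (169, false, 10), (160, false, 11), (143, false, 10), (112, false, 9), (98, false, 8), (85, false, 7), (52, false, 6), (43, false,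 5), (35, false, 4), (99, false, 4), (150, false, 6), (119, false, 5), (152, false, 5), (162, false, 5), (168, false, 9), (151, false, 8), (169, false, 10), (152, false, 9), (165, false, 9), (132, false, 8), (117, false, 7), (103, false, 6), (118, false, 8), (104, false, 7), (119, false, 7), (149, false, 8), (133, false, 7), (150, false, 9), (134, false, 8), (152, false, 10), (167, false, 10), (134, false, 9), (119, false, 8), (169, false, 9), (166, false, 10), (149, false, 9), (133, false, 8), (104, false, 7), (167, false, 9), (150, false, 8), (134, false, 7), (169, false, 10), (152, false, 9), (166, false, 9), (133, false, 8), (118, false, 7), (167, false, 10), (134, false, 9), (119, false, 8), (169, false, 9), (170, false, 10), (144, false, 9), (128, false, 8), (99, false, 7), (86, false, 6), (53, false, 5), (44, false, 4), (145, false, 5), (100, false, 4), (149, false, 6), (118, false, 5), (150, false, 7), (119, false, 6), (150, false, 6), (152, false, 7), (165, false, 7), (117, false, 6), (103, false, 5), (118, false, 7), (104, false, 6), (119, false, 6), (166, false, 7), (149, false, 6), (168, false, 8), (151, false, 7), (170, false, 9), (150, false, 8), (134, false, 7), (152, false, 9), (135, false, 8),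 (118, false, 7), (104, false, 6), (119, false, 6), (87, false, 5), (54, false, 4), (147, false, 7), (116, false, 6), (102, false, 5), (89, false, 4), (149, false, 7), (118, false, 6), (152, false, 8), (148, false, 8), (117, false, 7), (103, false, 6), (90, false, 5), (149, false, 7), (118, false, 6), (104, false, 5), (150, false, 6), (119, false, 5), (152, false, 5)])]

def p2Eqs_18 : List (List ℕ × List Step × List Step) :=
  [([4, 3, 0], [(13, false, 0), (153, false, 7), (120, false, 6), (91, false, 5), (66, false, 4), (36, false, 3), (21, false, 2), (10, false, 1), (6, false, 0), (95, false, 9), (82, false, 8), (70, false, 7), (59, false, 6), (40, false, 5), (25, false, 4), (19, false, 3), (127, false, 7), (112, false, 6), (98, false, 5), (118, false, 7), (104, false, 6), (119, false, 6), (144, false, 7), (128, false, 6), (133, false, 7), (134, false, 8), (132, false, 9), (117, false, 8), (103, false, 7), (118, false, 9), (104, false, 8), (119, false, 8), (149, false, 9), (133, false, 8), (152, false, 10), (159, false, 10), (126, false, 9), (97, false, 8), (84, false, 7), (42, false, 6), (34, false, 5), (161, false, 10), (128, false, 9), (113, false, 8), (99, false, 7), (150, false, 9), (119, false, 8), (151,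 false, 8), (149, false, 9), (133, false, 8), (150, false, 10), (134, false, 9), (152, false, 11), (169, false, 11), (165, false, 12), (148, false, 11), (132, false, 10), (117, false, 9), (103, false, 8), (118, false, 10), (104, false, 9), (119, false, 9), (152, false, 10), (133, false, 9), (134, false, 10), (166, false, 13), (149, false, 12), (133, false, 11), (118, false, 10), (104, false, 9), (169, false, 12), (152, false, 11), (166, false, 11), (133, false, 10), (118, false, 9), (168, false, 12), (135, false, 11), (170, false, 11), (112, false, 10), (98, false, 9), (85, false, 8), (43, false, 7), (35, false, 6), (99, false, 6), (150, false, 8), (119, false, 7), (152, false, 7), (165, false, 7), (167, false, 11), (150, false, 10), (119, false, 9), (169, false, 10), (152, false, 9), (166, false, 9), (104, false, 8), (167, false, 8), (165, false, 9), (117, false, 8), (90, false, 7), (150, false, 9), (119, false, 8), (149, false, 8), (104, false, 7), (150, false, 7), (152, false, 8), (166, false, 8), (118, false, 7), (168, false, 9), (163, false, 10), (130, false, 9), (115, false, 8), (101, false, 7), (118, false, 9), (104, false, 8), (119, false, 8), (164, false, 10), (147, false, 9), (131, false, 8), (149, false,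 10), (133, false, 9), (150, false, 11), (134, false, 10), (152, false, 12), (166, false, 12), (133, false, 11), (118, false, 10), (104, false, 9), (167, false, 11), (134, false, 10), (119, false, 9), (164, false, 10), (131, false, 9), (77, false, 8), (133, false, 8), (134, false, 9), (166, false, 12), (149, false, 11), (133, false, 10), (118, false, 9), (104, false, 8), (170, false, 11), (145, false, 10), (129, false, 9), (114, false, 8), (64, false, 7), (118, false, 9), (119, false, 10), (149, false, 11), (133, false, 10), (104, false, 9), (150, false, 10), (134, false, 9), (147, false, 11), (131, false, 10), (116, false, 9), (151, false, 11), (152, false, 12), (132, false, 11), (103, false, 10), (104, false, 11), (149, false, 13), (133, false, 12), (118, false, 11), (152, false, 14), (168, false, 14), (135, false, 13), (169, false, 13), (170, false, 14), (142, false, 13), (111, false, 12), (97, false, 11), (84, false, 10), (72, false, 9), (61, false, 8), (51, false, 7), (42, false, 6), (27, false, 5), (161, false, 5), (169, false, 9), (152, false, 8), (162, false, 8), (114, false, 7), (100, false, 6), (150, false, 8), (119, false, 7), (149, false, 7), (150, false, 8), (152, false, 9), (166, false, 9), (118,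 false, 8), (104, false, 7), (168, false, 8), (169, false, 9), (170, false, 10), (146, false, 9), (130, false, 8), (115, false, 7), (118, false, 8), (119, false, 9), (152, false, 10), (133, false, 9), (104, false, 8), (131, false, 8), (133, false, 9), (134, false, 10), (135, false, 11), (117, false, 10), (103, false, 9), (118, false, 11), (104, false, 10), (149, false, 11), (118, false, 10), (149, false, 12), (118, false, 11), (104, false, 10), (152, false, 11), (118, false, 10), (119, false, 11), (98, false, 10), (85, false, 9), (73, false, 8), (62, false, 7), (52, false, 6), (43, false, 5), (162, false, 9), (145, false, 8), (114, false, 7), (118, false, 8), (119, false, 9), (104, false, 8), (168, false, 10), (151, false, 9), (169, false, 11), (152, false, 10), (163, false, 10), (130, false, 9), (115, false, 8), (118, false, 9), (119, false, 10), (169, false, 12), (152, false, 11), (164, false, 11), (131, false, 10), (102, false, 9), (151, false, 11), (149, false, 12), (133, false, 11), (118, false, 10), (150, false, 13), (134, false, 12), (119, false, 11), (152, false, 12), (166, false, 12), (133, false, 11), (104, false, 10), (170, false, 11), (132, false, 10), (150, false, 14), (134, false, 13), (119, false,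 12), (152, false, 13), (133, false, 12), (104, false, 11), (128, false, 11), (86, false, 10), (74, false, 9), (63, false, 8), (53, false, 7), (44, false, 6), (145, false, 7), (100, false, 6), (149, false, 8), (118, false, 7), (150, false, 9), (119, false, 8), (150, false, 8), (152, false, 9), (163, false, 9), (115, false, 8), (101, false, 7), (166, false, 10), (118, false, 9), (104, false, 8), (167, false, 9), (119, false, 8), (170, false, 8), (165, false, 11), (132, false, 10), (117, false, 9), (118, false, 10), (119, false, 11), (149, false, 12), (133, false, 11), (104, false, 10), (150, false, 11), (134, false, 10), (152, false, 12), (166, false, 12), (133, false, 11), (118, false, 10), (168, false, 13), (135, false, 12), (170, false, 12), (129, false, 12), (114, false, 11), (100, false, 10), (87, false, 9), (75, false, 8), (64, false, 7), (54, false, 6), (148, false, 10), (117, false, 9), (103, false, 8), (149, false, 11), (118, false, 10), (104, false, 9), (150, false, 10), (119, false, 9), (152, false, 9), (150, false, 10), (119, false, 9), (149, false, 9), (150, false, 10), (151, false, 11), (152, false, 12), (132, false, 11), (117, false, 10), (103, false, 9), (90, false, 8), (149, false, 10), (118, false,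 9), (104, false, 8), (150, false, 9), (119, false, 8), (149, false, 8), (150, false, 9), (151, false, 10), (152, false, 11), (160, false, 12), (143, false, 11), (127, false, 10), (112, false, 9), (98, false, 8), (73, false, 7), (62, false, 6), (35, false, 5), (101, false, 5), (147, false, 7), (102, false, 6), (152, false, 8), (118, false, 7), (166, false, 9), (118, false, 8), (104, false, 7), (167, false, 8), (119, false, 7), (166, false, 7), (167, false, 8), (168, false, 9), (169, false, 10), (169, false, 11), (152, false, 10), (166, false, 10), (133, false, 9), (118, false, 8), (104, false, 7), (167, false, 9), (134, false, 8), (119, false, 7), (169, false, 8), (170, false, 9), (144, false, 8), (128, false, 7), (74, false, 6), (63, false, 5), (164, false, 9), (116, false, 8), (102, false, 7), (149, false, 9), (118, false, 8), (152, false, 10), (118, false, 9), (104, false, 8), (119, false, 8), (167, false, 9), (150, false, 8), (168, false, 10), (151, false, 9), (170, false, 11), (151, false, 10), (135, false, 9), (149, false, 9), (118, false, 8), (150, false, 10), (119, false, 9), (147, false, 9), (102, false, 8), (77, false, 7), (152, false, 8), (117, false, 7), (128, false, 9), (113, false, 8), (86, false,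 7), (63, false, 6), (44, false, 5), (146, false, 6), (101, false, 5), (149, false, 7), (104, false, 6), (150, false, 6), (165, false, 8), (148, false, 7), (117, false, 6), (149, false, 8), (118, false, 7), (150, false, 9), (119, false, 8), (152, false, 8), (166, false, 8), (104, false, 7), (168, false, 7), (170, false, 8), (134, false, 7), (135, false, 8), (118, false, 7), (131, false, 9), (116, false, 8), (102, false, 7), (89, false, 6), (149, false, 9), (118, false, 8), (152, false, 10), (166, false, 11), (133, false, 10), (118, false, 9), (104, false, 8), (168, false, 10), (135, false, 9), (170, false, 9), (118, false, 8)], [(6, false, 1), (10, false, 0), (155, false, 8), (138, false, 7), (80, false, 6), (47, false, 5), (38, false, 4), (30, false, 3), (23, false, 2), (12, false, 1), (52, false, 3), (144, false, 6), (128, false, 5), (53, false, 4), (168, false, 8), (151, false, 7), (166, false, 9), (149, false, 8), (133, false, 7), (118, false, 6), (167, false, 10), (150, false, 9), (134, false, 8), (119, false, 7), (162, false, 9), (145, false, 8), (129, false, 7), (100, false, 6), (54, false, 5), (149, false, 6), (118, false, 5), (150, false, 7), (119, false, 6), (151, false, 6), (152, false, 7), (133, false,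 6), (104, false, 5), (134, false, 5), (133, false, 6), (118, false, 5), (134, false, 7), (119, false, 6), (164, false, 8), (147, false, 7), (131, false, 6), (102, false, 5), (151, false, 7), (152, false, 8), (133, false, 7), (118, false, 6), (134, false, 8), (119, false, 7), (165, false, 9), (148, false, 8), (132, false, 7), (103, false, 6), (104, false, 7), (152, false, 9), (133, false, 8), (118, false, 7), (134, false, 9), (119, false, 8), (168, false, 10), (151, false, 9), (135, false, 8), (169, false, 9), (152, false, 8), (170, false, 8), (97, false, 7), (84, false, 6), (72, false, 5), (42, false, 4), (34, false, 3), (161, false, 8), (128, false, 7), (113, false, 6), (99, false, 5), (150, false, 7), (119, false, 6), (151, false, 6), (149, false, 7), (133, false, 6), (150, false, 8), (134, false, 7), (152, false, 9), (169, false, 9), (164, false, 10), (147, false, 9), (131, false, 8), (116, false, 7), (102, false, 6), (149, false, 8), (118, false, 7), (152, false, 9), (149, false, 10), (133, false, 9), (118, false, 8), (104, false, 7), (150, false, 9), (134, false, 8), (119, false, 7), (152, false, 8), (166, false, 8), (133, false, 7), (167, false, 9), (134, false, 8), (168, false, 10), (135, false, 9), (165,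 false, 9), (117, false, 8), (103, false, 7), (118, false, 9), (104, false, 8), (119, false, 8), (166, false, 9), (149, false, 8), (169, false, 10), (152, false, 9), (166, false, 9), (104, false, 8), (161, false, 8), (86, false, 7), (74, false, 6), (44, false, 5), (147, false, 6), (102, false, 5), (152, false, 7), (119, false, 6), (165, false, 7), (132, false, 6), (149, false, 10), (133, false, 9), (118, false, 8), (104, false, 7), (150, false, 9), (134, false, 8), (119, false, 7), (152, false, 8), (166, false, 8), (133, false, 7), (168, false, 9), (135, false, 8), (170, false, 8), (104, false, 7), (165, false, 9), (148, false, 8), (117, false, 7), (90, false, 6), (150, false, 8), (119, false, 7), (152, false, 7), (104, false, 6), (168, false, 8), (151, false, 7), (169, false, 9), (152, false, 8), (170, false, 8), (128, false, 7), (113, false, 6), (74, false, 5), (167, false, 9), (134, false, 8), (119, false, 7), (168, false, 8), (135, false, 7), (162, false, 7), (75, false, 6), (149, false, 10), (118, false, 9), (104, false, 8), (150, false, 9), (119, false, 8), (152, false, 8), (167, false, 8), (168, false, 9), (169, false, 10), (162, false, 11), (145, false, 10), (129, false, 9), (114, false, 8), (75, false,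 7), (54, false, 6), (150, false, 9), (119, false, 8), (149, false, 8), (104, false, 7), (150, false, 7), (151, false, 8), (152, false, 9), (133, false, 8), (118, false, 7), (134, false, 9), (119, false, 8), (133, false, 8), (104, false, 7), (134, false, 7), (166, false, 10), (149, false, 9), (133, false, 8), (118, false, 7), (168, false, 11), (151, false, 10), (135, false, 9), (169, false, 10), (152, false, 9), (170, false, 9), (116, false, 8), (102, false, 7), (77, false, 6), (149, false, 7), (118, false, 6), (152, false, 8), (117, false, 7), (103, false, 6), (119, false, 8), (167, false, 10), (150, false, 9), (134, false, 8), (168, false, 11), (151, false, 10), (135, false, 9), (169, false, 10), (152, false, 9), (170, false, 9), (156, false, 11), (139, false, 10), (123, false, 9), (108, false, 8), (94, false, 7), (81, false, 6), (39, false, 5), (31, false, 4), (24, false, 3), (13, false, 2), (159, false, 9), (126, false, 8), (97, false, 7), (72, false, 6), (42, false, 5), (27, false, 4), (161, false, 4), (169, false, 8), (152, false, 7), (164, false, 7), (116, false, 6), (102, false, 5), (149, false, 7), (118, false, 6), (152, false, 8), (118, false, 7), (104, false, 6), (119, false, 6), (166, false, 7), (149,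 false, 6), (167, false, 8), (150, false, 7), (168, false, 9), (151, false, 8), (166, false, 10), (149, false, 9), (133, false, 8), (118, false, 7), (104, false, 6), (168, false, 9), (151, false, 8), (135, false, 7), (170, false, 8), (160, false, 8), (143, false, 7), (112, false, 6), (73, false, 5), (43, false, 4), (164, false, 8), (147, false, 7), (116, false, 6), (152, false, 8), (104, false, 7), (166, false, 9), (149, false, 8), (118, false, 7), (170, false, 10), (150, false, 9), (119, false, 8), (152, false, 8), (104, false, 7), (169, false, 9), (152, false, 8), (161, false, 8), (113, false, 7), (74, false, 6), (44, false, 5), (147, false, 6), (102, false, 5), (152, false, 7), (119, false, 6), (167, false, 7), (134, false, 6), (166, false, 8), (133, false, 7), (118, false, 6), (167, false, 9), (134, false, 8), (119, false, 7), (169, false, 8), (170, false, 9), (149, false, 8), (133, false, 7), (104, false, 6), (150, false, 7), (134, false, 6), (165, false, 9), (148, false, 8), (132, false, 7), (117, false, 6), (118, false, 7), (119, false, 8), (152, false, 9), (133, false, 8), (104, false, 7), (134, false, 7), (169, false, 10), (152, false, 9), (166, false, 9), (133, false, 8), (118, false, 7), (167, false,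 10), (134, false, 9), (119, false, 8), (168, false, 9), (135, false, 8), (169, false, 8), (170, false, 9), (141, false, 8), (96, false, 7), (83, false, 6), (71, false, 5), (33, false, 4), (164, false, 11), (147, false, 10), (131, false, 9), (116, false, 8), (89, false, 7), (151, false, 10), (152, false, 11), (133, false, 10), (104, false, 9), (134, false, 9), (166, false, 12), (149, false, 11), (133, false, 10), (118, false, 9), (168, false, 13), (151, false, 12), (135, false, 11), (169, false, 12), (152, false, 11), (170, false, 11), (116, false, 10), (102, false, 9), (89, false, 8), (77, false, 7), (149, false, 9), (118, false, 8), (152, false, 10), (117, false, 9), (103, false, 8), (90, false, 7), (149, false, 9), (118, false, 8), (104, false, 7), (150, false, 8), (119, false, 7), (152, false, 7), (149, false, 9), (133, false, 8), (104, false, 7), (151, false, 8), (135, false, 7), (159, false, 8), (142, false, 7), (42, false, 6), (27, false, 5), (161, false, 5), (169, false, 9), (152, false, 8), (166, false, 8), (118, false, 7), (104, false, 6), (167, false, 7), (119, false, 6), (170, false, 6), (44, false, 5), (146, false, 6), (101, false, 5), (147, false, 7), (102, false, 6), (152, false, 8), (117, false,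 7), (118, false, 8)]),
   ([19, 6, 7, 9, 10, 6, 7, 9, 10], [(190, false, 0), (190, false, 9), (120, false, 8), (91, false, 7), (55, false, 6), (36, false, 5), (28, false, 4), (21, false, 3), (3, false, 2), (1, false, 1), (0, false, 0), (138, false, 8), (93, false, 7), (80, false, 6), (68, false, 5), (47, false, 4), (38, false, 3), (30, false, 2), (23, false, 1), (159, false, 9), (142, false, 8), (126, false, 7), (84, false, 6), (72, false, 5), (51, false, 4), (42, false, 3), (34, false, 2), (161, false, 7), (128, false, 6), (113, false, 5), (99, false, 4), (150, false, 6), (119, false, 5), (151, false, 5), (149, false, 6), (133, false, 5), (150, false, 7), (134, false, 6), (152, false, 8), (169, false, 8), (162, false, 9), (145, false, 8), (129, false, 7), (114, false, 6), (100, false, 5), (150, false, 7), (119, false, 6), (149, false, 6), (150, false, 7), (151, false, 8), (152, false, 9), (133, false, 8), (118, false, 7), (104, false, 6), (134, false, 7), (119, false, 6), (133, false, 6), (134, false, 7), (166, false, 10), (149, false, 9), (133, false, 8), (118, false, 7), (104, false, 6), (168, false, 9), (151, false, 8), (135, false, 7), (169, false, 8), (152, false, 7), (170, false, 7), (116, false, 6), (149,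 false, 8), (104, false, 7), (150, false, 7), (151, false, 8), (148, false, 9), (132, false, 8), (117, false, 7), (118, false, 8), (119, false, 9), (152, false, 10), (133, false, 9), (104, false, 8), (151, false, 9), (135, false, 8), (149, false, 8), (150, false, 9), (161, false, 11), (144, false, 10), (113, false, 9), (99, false, 8), (86, false, 7), (74, false, 6), (53, false, 5), (44, false, 4), (145, false, 5), (100, false, 4), (149, false, 6), (118, false, 5), (150, false, 7), (119, false, 6), (150, false, 6), (152, false, 7), (164, false, 7), (116, false, 6), (102, false, 5), (149, false, 7), (118, false, 6), (152, false, 8), (118, false, 7), (104, false, 6), (119, false, 6), (167, false, 7), (150, false, 6), (168, false, 8), (151, false, 7), (170, false, 9), (148, false, 8), (132, false, 7), (117, false, 6), (118, false, 7), (119, false, 8), (152, false, 9), (133, false, 8), (104, false, 7), (135, false, 7), (167, false, 7), (169, false, 8), (167, false, 9), (150, false, 8), (119, false, 7), (166, false, 8), (149, false, 7), (167, false, 9), (150, false, 8), (166, false, 10), (149, false, 9), (118, false, 8), (104, false, 7), (167, false, 9), (150, false, 8), (119, false, 7), (169, false, 8), (152, false,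 7), (170, false, 7), (90, false, 6), (151, false, 8), (152, false, 9), (161, false, 9), (128, false, 8), (113, false, 7), (99, false, 6), (74, false, 5), (53, false, 4), (164, false, 8), (147, false, 7), (116, false, 6), (152, false, 8), (104, false, 7), (167, false, 9), (150, false, 8), (119, false, 7), (168, false, 8), (151, false, 7), (170, false, 9), (150, false, 8), (134, false, 7), (152, false, 9), (134, false, 8), (119, false, 7), (135, false, 7), (162, false, 10), (145, false, 9), (114, false, 8), (100, false, 7), (75, false, 6), (54, false, 5), (150, false, 8), (119, false, 7), (152, false, 7), (118, false, 7), (104, false, 6), (119, false, 6), (167, false, 9), (150, false, 8), (119, false, 7), (168, false, 8), (151, false, 7), (169, false, 9), (152, false, 8), (162, false, 8), (129, false, 7), (100, false, 6), (75, false, 5), (150, false, 9), (119, false, 8), (152, false, 8), (104, false, 7), (149, false, 9), (133, false, 8), (118, false, 7), (150, false, 10), (134, false, 9), (119, false, 8), (152, false, 9), (166, false, 9), (133, false, 8), (104, false, 7), (168, false, 8), (135, false, 7), (169, false, 7), (170, false, 8), (147, false, 7), (77, false, 6), (147, false, 6), (148, false, 7), (150,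 false, 8), (151, false, 9), (152, false, 10), (167, false, 10), (134, false, 9), (119, false, 8), (168, false, 9), (135, false, 8), (167, false, 8), (168, false, 9), (169, false, 10), (170, false, 11), (142, false, 10), (126, false, 9), (111, false, 8), (84, false, 7), (72, false, 6), (51, false, 5), (42, false, 4), (34, false, 3), (27, false, 2), (160, false, 2), (166, false, 6), (149, false, 5), (118, false, 4), (104, false, 3), (167, false, 5), (150, false, 4), (119, false, 3), (168, false, 4), (151, false, 3), (170, false, 5), (144, false, 4), (128, false, 3), (133, false, 4), (134, false, 5), (145, false, 7), (129, false, 6), (114, false, 5), (100, false, 4), (150, false, 6), (119, false, 5), (149, false, 5), (150, false, 6), (151, false, 7), (152, false, 8), (133, false, 7), (118, false, 6), (104, false, 5), (134, false, 6), (119, false, 5), (133, false, 5), (135, false, 6), (164, false, 7), (147, false, 6), (102, false, 5), (152, false, 7), (118, false, 6), (119, false, 7), (166, false, 8), (149, false, 7), (104, false, 6), (167, false, 7), (150, false, 6), (168, false, 8), (151, false, 7), (165, false, 9), (148, false, 8), (132, false, 7), (117, false, 6), (118, false, 7), (119, false, 8), (152, false,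 9), (133, false, 8), (104, false, 7), (134, false, 7), (166, false, 10), (149, false, 9), (133, false, 8), (118, false, 7), (169, false, 11), (152, false, 10), (166, false, 10), (133, false, 9), (118, false, 8), (104, false, 7), (169, false, 9), (168, false, 10), (151, false, 9), (135, false, 8), (166, false, 9), (149, false, 8), (118, false, 7), (167, false, 10), (150, false, 9), (119, false, 8), (160, false, 9), (143, false, 8), (98, false, 7), (85, false, 6), (73, false, 5), (52, false, 4), (43, false, 3), (35, false, 2), (99, false, 2), (150, false, 4), (119, false, 3), (152, false, 3), (162, false, 3), (168, false, 7), (151, false, 6), (169, false, 8), (152, false, 7), (164, false, 7), (131, false, 6), (116, false, 5), (102, false, 4), (149, false, 6), (118, false, 5), (152, false, 7), (133, false, 7), (118, false, 6), (104, false, 5), (134, false, 6), (119, false, 5), (166, false, 7), (149, false, 6), (133, false, 5), (170, false, 8), (148, false, 7), (132, false, 6), (103, false, 5), (104, false, 6), (152, false, 8), (134, false, 7), (119, false, 6), (149, false, 7), (133, false, 6), (152, false, 8), (133, false, 7), (104, false, 6), (134, false, 6), (161, false, 9), (144, false, 8), (128, false, 7), (113,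 false, 6), (86, false, 5), (74, false, 4), (53, false, 3), (44, false, 2), (145, false, 3), (100, false, 2), (149, false, 4), (118, false, 3), (150, false, 5), (119, false, 4), (150, false, 4), (152, false, 5), (164, false, 5), (116, false, 4), (102, false, 3), (149, false, 5), (118, false, 4), (152, false, 6), (118, false, 5), (104, false, 4), (119, false, 4), (167, false, 5), (150, false, 4), (168, false, 6), (151, false, 5), (170, false, 7), (148, false, 6), (132, false, 5), (117, false, 4), (118, false, 5), (119, false, 6), (152, false, 7), (133, false, 6), (104, false, 5), (135, false, 5), (167, false, 5), (168, false, 6), (166, false, 7), (133, false, 6), (118, false, 5), (167, false, 8), (134, false, 7), (119, false, 6), (166, false, 7), (133, false, 6), (104, false, 5), (167, false, 6), (134, false, 5), (169, false, 7), (170, false, 8), (147, false, 7), (131, false, 6), (116, false, 5), (89, false, 4), (77, false, 3), (151, false, 5), (152, false, 6), (132, false, 5), (103, false, 4), (90, false, 3), (149, false, 5), (118, false, 4), (104, false, 3), (149, false, 4), (118, false, 3), (150, false, 5), (119, false, 4), (151, false, 4), (152, false, 5), (133, false, 4), (104, false, 3), (160, false, 4),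 (127, false, 3), (52, false, 2), (149, false, 5), (133, false, 4), (150, false, 6), (134, false, 5), (151, false, 7), (135, false, 6), (152, false, 6), (118, false, 5), (104, false, 4), (119, false, 4), (161, false, 5), (144, false, 4), (53, false, 3), (166, false, 7), (149, false, 6), (118, false, 5), (167, false, 8), (150, false, 7), (119, false, 6), (166, false, 7), (149, false, 6), (104, false, 5), (167, false, 6), (150, false, 5), (169, false, 7), (152, false, 6), (170, false, 6), (116, false, 5), (148, false, 7), (103, false, 6), (151, false, 8), (142, false, 9), (126, false, 8), (97, false, 7), (84, false, 6), (72, false, 5), (51, false, 4), (42, false, 3), (34, false, 2), (161, false, 7), (128, false, 6), (113, false, 5), (99, false, 4), (150, false, 6), (119, false, 5), (151, false, 5), (149, false, 6), (133, false, 5), (150, false, 7), (134, false, 6), (152, false, 8), (169, false, 8), (162, false, 9), (145, false, 8), (129, false, 7), (114, false, 6), (100, false, 5), (150, false, 7), (119, false, 6), (149, false, 6), (150, false, 7), (151, false, 8), (152, false, 9), (133, false, 8), (118, false, 7), (104, false, 6), (134, false, 7), (119, false, 6), (133, false, 6), (134, false, 7), (166, false,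 10), (149, false, 9), (133, false, 8), (118, false, 7), (104, false, 6), (168, false, 9), (151, false, 8), (135, false, 7), (169, false, 8), (152, false, 7), (170, false, 7), (116, false, 6), (149, false, 8), (104, false, 7), (150, false, 7), (151, false, 8), (148, false, 9), (132, false, 8), (117, false, 7), (118, false, 8), (119, false, 9), (152, false, 10), (133, false, 9), (104, false, 8), (149, false, 9), (133, false, 8), (151, false, 10), (135, false, 9), (149, false, 9), (104, false, 8), (150, false, 8), (144, false, 9), (113, false, 8), (86, false, 7), (74, false, 6), (53, false, 5), (44, false, 4), (145, false, 5), (100, false, 4), (149, false, 6), (118, false, 5), (150, false, 7), (119, false, 6), (150, false, 6), (152, false, 7), (164, false, 7), (116, false, 6), (102, false, 5), (149, false, 7), (118, false, 6), (152, false, 8), (118, false, 7), (104, false, 6), (119, false, 6), (167, false, 7), (150, false, 6), (168, false, 8), (151, false, 7), (170, false, 9), (148, false, 8), (132, false, 7), (117, false, 6), (118, false, 7), (119, false, 8), (152, false, 9), (133, false, 8), (104, false, 7), (135, false, 7), (167, false, 7), (166, false, 8), (118, false, 7), (167, false, 9), (119, false, 8), (162,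 false, 8), (100, false, 7), (87, false, 6), (75, false, 5), (54, false, 4), (148, false, 7), (117, false, 6), (103, false, 5), (149, false, 8), (118, false, 7), (104, false, 6), (150, false, 7), (119, false, 6), (152, false, 6), (149, false, 7), (118, false, 6), (150, false, 8), (119, false, 7), (152, false, 7), (164, false, 7), (102, false, 6), (89, false, 5), (77, false, 4), (149, false, 6), (118, false, 5), (150, false, 7), (119, false, 6), (152, false, 6), (165, false, 6), (103, false, 5), (90, false, 4), (149, false, 6), (118, false, 5), (104, false, 4), (149, false, 5), (118, false, 4), (150, false, 6), (119, false, 5), (152, false, 5), (167, false, 5), (168, false, 6), (169, false, 7), (161, false, 8), (144, false, 7), (128, false, 6), (113, false, 5), (99, false, 4), (150, false, 6), (119, false, 5), (151, false, 5), (149, false, 6), (133, false, 5), (150, false, 7), (134, false, 6), (149, false, 8), (133, false, 7), (118, false, 6), (104, false, 5), (150, false, 7), (134, false, 6), (119, false, 5), (152, false, 6), (166, false, 6), (133, false, 5), (168, false, 7), (135, false, 6), (163, false, 6), (101, false, 5), (167, false, 7), (169, false, 8), (170, false, 9), (166, false, 9), (149, false, 8),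 (118, false, 7), (104, false, 6), (168, false, 8), (151, false, 7), (170, false, 9), (137, false, 8), (121, false, 7), (106, false, 6), (56, false, 5), (37, false, 4), (29, false, 3), (22, false, 2), (4, false, 1), (2, false, 0), (122, false, 3), (93, false, 2), (68, false, 1), (38, false, 0), (147, false, 5), (131, false, 4), (116, false, 3), (151, false, 5), (152, false, 6), (134, false, 5), (135, false, 6), (118, false, 5), (104, false, 4), (159, false, 6), (142, false, 5), (111, false, 4), (72, false, 3), (51, false, 2), (42, false, 1), (145, false, 3), (118, false, 5), (104, false, 4), (164, false, 7), (147, false, 6), (131, false, 5), (116, false, 4), (151, false, 6), (152, false, 7), (133, false, 6), (104, false, 5), (134, false, 5), (166, false, 8), (149, false, 7), (133, false, 6), (118, false, 5), (167, false, 9), (150, false, 8), (134, false, 7), (119, false, 6), (168, false, 8), (151, false, 7), (135, false, 6), (166, false, 7), (149, false, 6), (104, false, 5), (169, false, 6), (152, false, 5), (166, false, 5), (167, false, 6), (170, false, 7), (112, false, 6), (98, false, 5), (73, false, 4), (52, false, 3), (43, false, 2), (162, false, 6), (145, false, 5), (114, false, 4), (118, false, 5), (119,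 false, 6), (104, false, 5), (168, false, 7), (151, false, 6), (169, false, 8), (152, false, 7), (164, false, 7), (131, false, 6), (116, false, 5), (151, false, 7), (149, false, 8), (133, false, 7), (104, false, 6), (150, false, 7), (134, false, 6), (152, false, 8), (166, false, 8), (133, false, 7), (118, false, 6), (170, false, 9), (133, false, 8), (118, false, 7), (104, false, 6), (134, false, 7), (119, false, 6), (129, false, 6), (75, false, 5), (54, false, 4), (149, false, 7), (118, false, 6), (104, false, 5), (150, false, 6), (119, false, 5), (151, false, 5), (152, false, 6), (131, false, 5), (77, false, 4), (132, false, 4), (151, false, 8), (135, false, 7), (152, false, 7), (159, false, 7), (111, false, 6), (97, false, 5), (84, false, 4), (42, false, 3), (34, false, 2), (27, false, 1), (160, false, 1), (166, false, 5), (149, false, 4), (118, false, 3), (104, false, 2), (167, false, 4), (150, false, 3), (119, false, 2), (168, false, 3), (151, false, 2), (170, false, 4), (144, false, 3), (128, false, 2), (133, false, 3), (134, false, 4), (148, false, 6), (132, false, 5), (117, false, 4), (103, false, 3), (118, false, 5), (104, false, 4), (119, false, 4), (152, false, 5), (133, false, 4), (149, false, 6), (133,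 false, 5), (104, false, 4), (149, false, 5), (133, false, 4), (152, false, 6), (161, false, 6), (128, false, 5), (99, false, 4), (86, false, 3), (44, false, 2), (148, false, 3), (103, false, 2), (149, false, 4), (104, false, 3), (151, false, 3), (167, false, 5), (150, false, 4), (134, false, 3), (169, false, 6), (152, false, 5), (168, false, 5), (135, false, 4), (166, false, 4), (118, false, 3), (167, false, 5), (119, false, 4), (169, false, 4), (170, false, 5), (145, false, 4), (100, false, 3), (87, false, 2), (150, false, 6), (119, false, 5), (152, false, 5), (104, false, 4), (115, false, 4), (88, false, 3), (150, false, 7), (119, false, 6), (149, false, 6), (104, false, 5), (150, false, 5), (143, false, 6), (112, false, 5), (85, false, 4), (62, false, 3), (52, false, 2), (35, false, 1), (100, false, 1), (151, false, 3), (152, false, 4), (130, false, 3), (115, false, 2), (118, false, 3), (119, false, 4), (152, false, 5), (132, false, 4), (103, false, 3), (104, false, 4), (150, false, 6), (134, false, 5), (119, false, 4), (152, false, 5), (134, false, 4), (144, false, 6), (128, false, 5), (113, false, 4), (86, false, 3), (63, false, 2), (53, false, 1), (163, false, 5), (146, false, 4), (115, false, 3), (166,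 false, 6), (149, false, 5), (118, false, 4), (167, false, 7), (150, false, 6), (119, false, 5), (170, false, 6), (148, false, 5), (103, false, 4), (149, false, 6), (104, false, 5), (151, false, 5), (167, false, 7), (150, false, 6), (134, false, 5), (168, false, 8), (151, false, 7), (135, false, 6), (166, false, 7), (149, false, 6), (118, false, 5), (167, false, 8), (150, false, 7), (119, false, 6), (164, false, 7), (147, false, 6), (102, false, 5), (89, false, 4), (152, false, 7), (118, false, 6), (119, false, 7), (166, false, 8), (149, false, 7), (104, false, 6), (168, false, 7), (151, false, 6), (170, false, 8), (144, false, 7), (128, false, 6), (86, false, 5), (74, false, 4), (63, false, 3), (53, false, 2), (44, false, 1), (145, false, 2), (100, false, 1), (149, false, 3), (118, false, 2), (150, false, 4), (119, false, 3), (150, false, 3), (152, false, 4), (163, false, 4), (115, false, 3), (101, false, 2), (166, false, 5), (118, false, 4), (104, false, 3), (167, false, 4), (119, false, 3), (170, false, 3), (165, false, 6), (132, false, 5), (117, false, 4), (118, false, 5), (119, false, 6), (149, false, 7), (133, false, 6), (104, false, 5), (150, false, 6), (134, false, 5), (152, false, 7), (166, false, 7),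 (133, false, 6), (118, false, 5), (168, false, 8), (135, false, 7), (170, false, 7), (133, false, 7), (118, false, 6), (104, false, 5), (134, false, 6), (119, false, 5), (129, false, 5), (87, false, 4), (75, false, 3), (64, false, 2), (54, false, 1), (148, false, 5), (117, false, 4), (103, false, 3), (149, false, 6), (118, false, 5), (104, false, 4), (150, false, 5), (119, false, 4), (152, false, 4), (149, false, 7), (133, false, 6), (118, false, 5), (104, false, 4), (150, false, 6), (134, false, 5), (119, false, 4), (162, false, 6), (145, false, 5), (129, false, 4), (87, false, 3), (75, false, 2), (64, false, 1), (148, false, 6), (117, false, 5), (103, false, 4), (149, false, 7), (118, false, 6), (104, false, 5), (150, false, 6), (119, false, 5), (152, false, 5), (149, false, 8), (133, false, 7), (118, false, 6), (104, false, 5), (150, false, 7), (134, false, 6), (119, false, 5), (149, false, 6), (133, false, 5), (150, false, 7), (134, false, 6), (152, false, 8), (163, false, 8), (130, false, 7), (115, false, 6), (101, false, 5), (88, false, 4), (76, false, 3), (65, false, 2), (149, false, 6), (118, false, 5), (104, false, 4), (150, false, 5), (119, false, 4), (149, false, 4), (150, false, 5), (151, false, 6),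 (152, false, 7), (166, false, 7), (133, false, 6), (118, false, 5), (104, false, 4), (168, false, 6), (135, false, 5), (170, false, 5), (166, false, 6), (149, false, 5), (118, false, 4), (167, false, 7), (150, false, 6), (119, false, 5), (169, false, 6), (152, false, 5), (170, false, 5), (122, false, 6), (107, false, 5), (93, false, 4), (80, false, 3), (68, false, 2), (47, false, 1), (5, false, 0), (162, false, 5), (100, false, 4), (87, false, 3), (150, false, 7), (119, false, 6), (152, false, 6), (104, false, 5), (166, false, 7), (149, false, 6), (118, false, 5), (168, false, 8), (151, false, 7), (169, false, 9), (152, false, 8), (170, false, 8), (131, false, 7), (116, false, 6), (102, false, 5), (89, false, 4), (149, false, 7), (118, false, 6), (152, false, 8), (131, false, 8), (116, false, 7), (102, false, 6), (89, false, 5), (77, false, 4), (149, false, 6), (118, false, 5), (152, false, 7), (132, false, 7), (117, false, 6), (103, false, 5), (90, false, 4), (149, false, 6), (118, false, 5), (104, false, 4), (150, false, 5), (119, false, 4), (149, false, 4), (150, false, 5), (151, false, 6), (152, false, 7), (134, false, 6), (119, false, 5), (135, false, 5), (167, false, 6), (150, false, 5), (168, false, 7),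 (151, false, 6), (166, false, 8), (149, false, 7), (133, false, 6), (118, false, 5), (104, false, 4), (167, false, 7), (150, false, 6), (134, false, 5), (119, false, 4), (170, false, 6), (149, false, 5), (133, false, 4), (152, false, 6), (159, false, 6), (126, false, 5), (97, false, 4), (51, false, 3), (42, false, 2), (34, false, 1), (27, false, 0), (160, false, 0), (166, false, 4), (149, false, 3), (118, false, 2), (104, false, 1), (167, false, 3), (150, false, 2), (119, false, 1), (168, false, 2), (151, false, 1), (170, false, 3), (144, false, 2), (128, false, 1), (133, false, 2), (134, false, 3), (145, false, 5), (129, false, 4), (114, false, 3), (100, false, 2), (150, false, 4), (119, false, 3), (149, false, 3), (150, false, 4), (151, false, 5), (152, false, 6), (133, false, 5), (118, false, 4), (104, false, 3), (134, false, 4), (119, false, 3), (133, false, 3), (135, false, 4), (166, false, 5), (149, false, 4), (104, false, 3), (168, false, 4), (151, false, 3), (170, false, 5), (143, false, 4), (127, false, 3), (52, false, 2), (43, false, 1), (35, false, 0), (99, false, 0), (150, false, 2), (119, false, 1), (152, false, 1), (162, false, 1), (168, false, 5), (151, false, 4), (169, false, 6), (152, false,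 5), (166, false, 5), (133, false, 4), (118, false, 3), (104, false, 2), (167, false, 4), (134, false, 3), (119, false, 2), (168, false, 3), (135, false, 2), (169, false, 2), (169, false, 3), (152, false, 2), (161, false, 2), (53, false, 1), (44, false, 0), (145, false, 1), (100, false, 0), (149, false, 2), (118, false, 1), (150, false, 3), (119, false, 2), (150, false, 2), (152, false, 3), (166, false, 3), (118, false, 2), (104, false, 1), (167, false, 2), (119, false, 1), (169, false, 1), (170, false, 2), (146, false, 1), (149, false, 2), (151, false, 3)], [(61, false, 4), (51, false, 3), (34, false, 2), (27, false, 1), (160, false, 1), (166, false, 5), (149, false, 4), (118, false, 3), (104, false, 2), (167, false, 4), (150, false, 3), (119, false, 2), (168, false, 3), (151, false, 2), (170, false, 4), (145, false, 3), (129, false, 2), (149, false, 6), (133, false, 5), (118, false, 4), (104, false, 3), (150, false, 5), (134, false, 4), (119, false, 3), (149, false, 4), (133, false, 3), (151, false, 5), (135, false, 4), (152, false, 4), (163, false, 4), (101, false, 3), (166, false, 5), (104, false, 4), (160, false, 4), (62, false, 3), (52, false, 2), (35, false, 1), (100, false, 1), (151, false, 3), (152, false,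 4), (130, false, 3), (115, false, 2), (118, false, 3), (119, false, 4), (152, false, 5), (133, false, 4), (104, false, 3), (134, false, 3), (162, false, 6), (145, false, 5), (129, false, 4), (114, false, 3), (64, false, 2), (54, false, 1), (118, false, 2), (119, false, 3), (149, false, 4), (133, false, 3), (104, false, 2), (150, false, 3), (134, false, 2), (149, false, 4), (133, false, 3), (118, false, 2), (150, false, 5), (134, false, 4), (119, false, 3), (152, false, 4), (163, false, 4), (130, false, 3), (101, false, 2), (65, false, 1), (104, false, 1), (170, true, 4), (169, true, 3), (152, true, 3), (169, true, 4), (151, true, 2), (168, true, 3), (197, false, 0), (198, false, 2), (199, false, 5), (200, false, 10), (162, false, 1), (100, false, 0), (149, false, 2), (118, false, 1), (150, false, 3), (119, false, 2), (152, false, 2), (166, false, 2), (104, false, 1), (168, false, 1), (162, false, 2), (129, false, 1), (54, false, 0), (149, false, 3), (133, false, 2), (118, false, 1), (104, false, 0), (150, false, 2), (134, false, 1), (119, false, 0), (152, false, 1), (166, false, 1), (133, false, 0), (168, false, 2), (135, false, 1), (169, false, 1), (170, false, 2), (145, false, 1), (100, false, 0), (149, false,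 2), (118, false, 1), (150, false, 3), (119, false, 2), (146, false, 2), (101, false, 1), (151, false, 3)]),
   ([21, 6, 11, 12, 14, 15, 16, 0, 1, 2, 3, 6, 7, 9, 10, 14, 15], [(218, false, 0), (215, false, 5), (136, false, 4), (78, false, 3), (55, false, 2), (36, false, 1), (10, false, 0), (161, false, 8), (144, false, 7), (86, false, 6), (53, false, 5), (44, false, 4), (145, false, 5), (100, false, 4), (149, false, 6), (118, false, 5), (150, false, 7), (119, false, 6), (150, false, 6), (152, false, 7), (165, false, 7), (117, false, 6), (103, false, 5), (118, false, 7), (104, false, 6), (119, false, 6), (166, false, 7), (149, false, 6), (168, false, 8), (151, false, 7), (170, false, 9), (149, false, 8), (133, false, 7), (104, false, 6), (150, false, 7), (134, false, 6), (149, false, 8), (133, false, 7), (118, false, 6), (150, false, 9), (134, false, 8), (119, false, 7), (152, false, 8), (166, false, 8), (133, false, 7), (104, false, 6), (168, false, 7), (135, false, 6), (163, false, 6), (88, false, 5), (167, false, 10), (150, false, 9), (119, false, 8), (169, false, 9), (152, false, 8), (170, false, 8), (100, false, 7), (87, false, 6), (64, false, 5), (54, false, 4), (150, false, 8), (119, false, 7), (152, false,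 7), (103, false, 6), (90, false, 5), (149, false, 7), (118, false, 6), (104, false, 5), (150, false, 6), (119, false, 5), (151, false, 5), (152, false, 6), (134, false, 5), (154, false, 7), (121, false, 6), (106, false, 5), (56, false, 4), (29, false, 3), (22, false, 2), (11, false, 1), (142, false, 7), (126, false, 6), (111, false, 5), (51, false, 4), (166, false, 9), (149, false, 8), (133, false, 7), (104, false, 6), (169, false, 8), (152, false, 7), (168, false, 7), (135, false, 6), (166, false, 6), (167, false, 7), (161, false, 8), (113, false, 7), (99, false, 6), (53, false, 5), (167, false, 9), (150, false, 8), (119, false, 7), (169, false, 8), (152, false, 7), (167, false, 7), (166, false, 8), (118, false, 7), (167, false, 9), (119, false, 8), (169, false, 8), (170, false, 9), (145, false, 8), (100, false, 7), (54, false, 6), (149, false, 7), (118, false, 6), (150, false, 8), (119, false, 7), (146, false, 7), (101, false, 6), (149, false, 8), (104, false, 7), (150, false, 7), (143, false, 8), (112, false, 7), (62, false, 6), (43, false, 5), (163, false, 9), (146, false, 8), (115, false, 7), (169, false, 10), (152, false, 9), (167, false, 9), (119, false, 8), (169, false, 8), (161, false, 9), (144, false,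 8), (63, false, 7), (44, false, 6), (146, false, 7), (101, false, 6), (149, false, 8), (104, false, 7), (150, false, 7), (166, false, 9), (149, false, 8), (118, false, 7), (167, false, 10), (150, false, 9), (119, false, 8), (166, false, 9), (149, false, 8), (104, false, 7), (167, false, 8), (150, false, 7), (169, false, 9), (152, false, 8), (170, false, 8), (116, false, 7), (149, false, 9), (104, false, 8), (151, false, 8), (162, false, 10), (145, false, 9), (129, false, 8), (75, false, 7), (64, false, 6), (149, false, 11), (118, false, 10), (104, false, 9), (150, false, 10), (119, false, 9), (151, false, 9), (152, false, 10), (133, false, 9), (134, false, 10), (133, false, 11), (118, false, 10), (104, false, 9), (134, false, 10), (119, false, 9), (163, false, 11), (146, false, 10), (130, false, 9), (76, false, 8), (65, false, 7), (152, false, 11), (166, false, 11), (133, false, 10), (118, false, 9), (104, false, 8), (168, false, 10), (135, false, 9), (170, false, 9), (166, false, 10), (149, false, 9), (118, false, 8), (167, false, 11), (150, false, 10), (119, false, 9), (169, false, 10), (152, false, 9), (170, false, 9), (104, false, 8), (139, false, 10), (123, false, 9), (108, false, 8), (69, false, 7), (48,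 false, 6), (31, false, 5), (24, false, 4), (18, false, 3), (13, false, 2), (158, false, 9), (125, false, 8), (96, false, 7), (71, false, 6), (41, false, 5), (26, false, 4), (144, false, 10), (86, false, 9), (74, false, 8), (53, false, 7), (44, false, 6), (145, false, 7), (100, false, 6), (149, false, 8), (118, false, 7), (150, false, 9), (119, false, 8), (150, false, 8), (152, false, 9), (164, false, 9), (116, false, 8), (102, false, 7), (149, false, 9), (118, false, 8), (152, false, 10), (118, false, 9), (104, false, 8), (119, false, 8), (167, false, 9), (150, false, 8), (168, false, 10), (151, false, 9), (170, false, 11), (148, false, 10), (132, false, 9), (117, false, 8), (118, false, 9), (119, false, 10), (152, false, 11), (133, false, 10), (104, false, 9), (135, false, 9), (166, false, 9), (167, false, 10), (162, false, 11), (114, false, 10), (100, false, 9), (87, false, 8), (75, false, 7), (54, false, 6), (148, false, 9), (117, false, 8), (103, false, 7), (149, false, 10), (118, false, 9), (104, false, 8), (150, false, 9), (119, false, 8), (152, false, 8), (150, false, 9), (119, false, 8), (149, false, 8), (150, false, 9), (152, false, 10), (168, false, 10), (170, false, 11), (131, false, 10), (116, false,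 9), (102, false, 8), (89, false, 7), (77, false, 6), (149, false, 8), (118, false, 7), (152, false, 9), (133, false, 9), (118, false, 8), (104, false, 7), (135, false, 8), (166, false, 9), (149, false, 8), (118, false, 7), (168, false, 10), (151, false, 9), (169, false, 11), (152, false, 10), (167, false, 10), (134, false, 9), (119, false, 8), (170, false, 9), (135, false, 8), (159, false, 9), (142, false, 8), (97, false, 7), (84, false, 6), (34, false, 5), (165, false, 10), (132, false, 9), (117, false, 8), (103, false, 7), (118, false, 9), (104, false, 8), (119, false, 8), (149, false, 9), (133, false, 8), (150, false, 10), (134, false, 9), (152, false, 11), (166, false, 11), (133, false, 10), (118, false, 9), (104, false, 8), (169, false, 10), (166, false, 11), (149, false, 10), (133, false, 9), (118, false, 8), (166, false, 12), (149, false, 11), (133, false, 10), (118, false, 9), (104, false, 8), (167, false, 11), (150, false, 10), (134, false, 9), (119, false, 8), (170, false, 10), (143, false, 9), (127, false, 8), (85, false, 7), (35, false, 6), (103, false, 6), (149, false, 9), (118, false, 8), (104, false, 7), (150, false, 8), (119, false, 7), (151, false, 7), (152, false, 8), (145, false, 8), (129,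 false, 7), (87, false, 6), (149, false, 10), (118, false, 9), (104, false, 8), (150, false, 9), (119, false, 8), (151, false, 8), (152, false, 9), (133, false, 8), (134, false, 9), (130, false, 10), (115, false, 9), (101, false, 8), (88, false, 7), (149, false, 11), (118, false, 10), (104, false, 9), (150, false, 10), (119, false, 9), (149, false, 9), (150, false, 10), (151, false, 11), (152, false, 12), (131, false, 11), (116, false, 10), (102, false, 9), (89, false, 8), (149, false, 11), (118, false, 10), (152, false, 12), (132, false, 12), (117, false, 11), (103, false, 10), (90, false, 9), (149, false, 11), (118, false, 10), (104, false, 9), (150, false, 10), (119, false, 9), (149, false, 9), (150, false, 10), (151, false, 11), (152, false, 12), (133, false, 11), (118, false, 10), (104, false, 9), (135, false, 10), (159, false, 10), (111, false, 9), (72, false, 8), (61, false, 7), (51, false, 6), (27, false, 5), (162, false, 5), (166, false, 9), (149, false, 8), (118, false, 7), (104, false, 6), (168, false, 8), (151, false, 7), (169, false, 9), (152, false, 8), (170, false, 8), (130, false, 7), (115, false, 6), (118, false, 7), (119, false, 8), (149, false, 9), (133, false, 8), (104, false, 7), (147, false,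 8), (131, false, 7), (149, false, 9), (133, false, 8), (150, false, 10), (134, false, 9), (151, false, 11), (135, false, 10), (149, false, 10), (118, false, 9), (104, false, 8), (152, false, 9), (170, false, 9), (112, false, 8), (73, false, 7), (62, false, 6), (52, false, 5), (146, false, 8), (130, false, 7), (152, false, 11), (147, false, 11), (131, false, 10), (116, false, 9), (102, false, 8), (149, false, 10), (118, false, 9), (152, false, 11), (149, false, 12), (133, false, 11), (118, false, 10), (104, false, 9), (167, false, 12), (150, false, 11), (134, false, 10), (119, false, 9), (169, false, 11), (152, false, 10), (162, false, 10), (129, false, 9), (75, false, 8), (64, false, 7), (54, false, 6), (149, false, 10), (118, false, 9), (104, false, 8), (150, false, 9), (119, false, 8), (151, false, 8), (152, false, 9), (133, false, 8), (134, false, 9), (166, false, 12), (149, false, 11), (133, false, 10), (118, false, 9), (104, false, 8), (167, false, 11), (150, false, 10), (134, false, 9), (119, false, 8), (170, false, 10), (147, false, 9), (131, false, 8), (77, false, 7), (152, false, 8), (134, false, 7), (135, false, 8), (140, false, 8), (109, false, 7), (59, false, 6), (32, false, 5), (19, false, 4), (14,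 false, 3), (125, false, 5), (71, false, 4), (50, false, 3), (167, false, 9), (150, false, 8), (134, false, 7), (170, false, 10), (149, false, 9), (133, false, 8), (118, false, 7), (104, false, 6), (150, false, 8), (134, false, 7), (119, false, 6), (151, false, 7), (135, false, 6), (143, false, 6), (73, false, 5), (52, false, 4), (147, false, 7), (131, false, 6), (149, false, 8), (133, false, 7), (169, false, 10), (152, false, 9), (162, false, 9), (129, false, 8), (100, false, 7), (75, false, 6), (54, false, 5), (150, false, 8), (119, false, 7), (152, false, 7), (104, false, 6), (149, false, 8), (133, false, 7), (118, false, 6), (150, false, 9), (134, false, 8), (119, false, 7), (152, false, 8), (164, false, 8), (131, false, 7), (102, false, 6), (77, false, 5), (151, false, 6), (149, false, 7), (133, false, 6), (118, false, 5), (150, false, 8), (134, false, 7), (119, false, 6), (152, false, 7), (168, false, 7), (135, false, 6), (170, false, 6), (101, false, 5), (102, false, 6), (149, false, 8), (118, false, 7), (150, false, 9), (119, false, 8), (149, false, 8), (104, false, 7), (151, false, 7), (150, false, 8), (134, false, 7), (158, false, 10), (141, false, 9), (125, false, 8), (110, false, 7), (71, false, 6),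 (60, false, 5), (33, false, 4), (20, false, 3), (159, false, 5), (97, false, 4), (51, false, 3), (166, false, 8), (149, false, 7), (133, false, 6), (104, false, 5), (170, false, 7), (144, false, 6), (128, false, 5), (53, false, 4), (168, false, 8), (151, false, 7), (166, false, 9), (149, false, 8), (133, false, 7), (118, false, 6), (167, false, 10), (150, false, 9), (134, false, 8), (119, false, 7), (165, false, 9), (148, false, 8), (132, false, 7), (103, false, 6), (104, false, 7), (152, false, 9), (133, false, 8), (118, false, 7), (134, false, 9), (119, false, 8), (167, false, 10), (150, false, 9), (134, false, 8), (168, false, 11), (151, false, 10), (135, false, 9), (169, false, 10), (152, false, 9), (170, false, 9), (114, false, 8), (100, false, 7), (87, false, 6), (54, false, 5), (150, false, 8), (119, false, 7), (152, false, 7), (115, false, 7), (101, false, 6), (88, false, 5), (149, false, 9), (118, false, 8), (104, false, 7), (150, false, 8), (119, false, 7), (149, false, 7), (164, false, 9), (147, false, 8), (102, false, 7), (89, false, 6), (152, false, 9), (118, false, 8), (119, false, 9), (166, false, 10), (149, false, 9), (104, false, 8), (168, false, 9), (151, false, 8), (169, false, 10), (152, false,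 9), (170, false, 9), (133, false, 8), (134, false, 9), (167, false, 11), (134, false, 10), (119, false, 9), (170, false, 10), (133, false, 9), (104, false, 8), (135, false, 8), (168, false, 8), (169, false, 9), (170, false, 10), (143, false, 9), (127, false, 8), (85, false, 7), (73, false, 6), (62, false, 5), (43, false, 4), (163, false, 8), (146, false, 7), (115, false, 6), (169, false, 9), (152, false, 8), (164, false, 8), (116, false, 7), (149, false, 9), (104, false, 8), (150, false, 8), (152, false, 9), (166, false, 9), (118, false, 8), (170, false, 10), (117, false, 9), (103, false, 8), (119, false, 10), (149, false, 10), (104, false, 9), (150, false, 9), (151, false, 10), (152, false, 11), (144, false, 11), (128, false, 10), (113, false, 9), (86, false, 8), (74, false, 7), (63, false, 6), (44, false, 5), (146, false, 6), (101, false, 5), (149, false, 7), (104, false, 6), (150, false, 6), (164, false, 8), (147, false, 7), (116, false, 6), (152, false, 8), (104, false, 7), (167, false, 9), (150, false, 8), (119, false, 7), (168, false, 8), (151, false, 7), (170, false, 9), (148, false, 8), (132, false, 7), (152, false, 11), (133, false, 10), (118, false, 9), (104, false, 8), (135, false, 9), (167, false,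 9), (119, false, 8), (168, false, 8), (166, false, 9), (133, false, 8), (167, false, 10), (134, false, 9), (165, false, 11), (132, false, 10), (117, false, 9), (103, false, 8), (90, false, 7), (149, false, 9), (118, false, 8), (104, false, 7), (150, false, 8), (119, false, 7), (149, false, 7), (150, false, 8), (151, false, 9), (152, false, 10), (133, false, 9), (118, false, 8), (104, false, 7), (134, false, 8), (119, false, 7), (166, false, 9), (149, false, 8), (133, false, 7), (167, false, 10), (150, false, 9), (134, false, 8), (168, false, 11), (151, false, 10), (135, false, 9)], [(136, false, 6), (120, false, 5), (105, false, 4), (78, false, 3), (66, false, 2), (21, false, 1), (131, false, 6), (89, false, 5), (77, false, 4), (129, false, 5), (87, false, 4), (149, false, 8), (118, false, 7), (104, false, 6), (150, false, 7), (119, false, 6), (151, false, 6), (152, false, 7), (132, false, 6), (90, false, 5), (149, false, 7), (118, false, 6), (104, false, 5), (150, false, 6), (119, false, 5), (151, false, 5), (152, false, 6), (134, false, 5), (135, false, 6), (149, false, 6), (118, false, 5), (152, false, 7), (118, false, 6), (104, false, 5), (167, false, 7), (134, false, 6), (119, false, 5), (170, false, 6),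 (121, false, 5), (46, false, 4), (37, false, 3), (29, false, 2), (161, false, 8), (128, false, 7), (99, false, 6), (74, false, 5), (44, false, 4), (147, false, 5), (102, false, 4), (152, false, 6), (119, false, 5), (167, false, 6), (134, false, 5), (169, false, 7), (168, false, 8), (151, false, 7), (135, false, 6), (166, false, 7), (149, false, 6), (118, false, 5), (167, false, 8), (150, false, 7), (119, false, 6), (169, false, 7), (152, false, 6), (170, false, 6), (100, false, 5), (75, false, 4), (150, false, 8), (119, false, 7), (152, false, 7), (104, false, 6), (162, false, 7), (114, false, 6), (75, false, 5), (54, false, 4), (150, false, 7), (119, false, 6), (149, false, 6), (104, false, 5), (150, false, 5), (152, false, 6), (168, false, 6), (169, false, 7), (166, false, 8), (149, false, 7), (133, false, 6), (118, false, 5), (167, false, 9), (150, false, 8), (134, false, 7), (119, false, 6), (169, false, 8), (152, false, 7), (170, false, 7), (122, false, 6), (93, false, 5), (68, false, 4), (30, false, 3), (164, false, 9), (147, false, 8), (131, false, 7), (89, false, 6), (149, false, 9), (133, false, 8), (150, false, 10), (134, false, 9), (152, false, 11), (167, false, 11), (134, false, 10), (119, false,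 9), (168, false, 10), (135, false, 9), (166, false, 9), (104, false, 8), (169, false, 8), (170, false, 9), (139, false, 8), (81, false, 7), (69, false, 6), (39, false, 5), (24, false, 4), (161, false, 6), (166, false, 10), (149, false, 9), (118, false, 8), (104, false, 7), (167, false, 9), (150, false, 8), (119, false, 7), (170, false, 8), (147, false, 7), (152, false, 8), (152, false, 9), (84, false, 8), (72, false, 7), (42, false, 6), (27, false, 5), (161, false, 5), (169, false, 9), (152, false, 8), (164, false, 8), (116, false, 7), (102, false, 6), (149, false, 8), (118, false, 7), (152, false, 9), (118, false, 8), (104, false, 7), (119, false, 7), (166, false, 8), (149, false, 7), (167, false, 9), (150, false, 8), (168, false, 10), (151, false, 9), (165, false, 11), (148, false, 10), (132, false, 9), (117, false, 8), (103, false, 7), (118, false, 9), (104, false, 8), (119, false, 8), (152, false, 9), (133, false, 8), (134, false, 9), (166, false, 12), (149, false, 11), (133, false, 10), (118, false, 9), (104, false, 8), (169, false, 11), (152, false, 10), (160, false, 10), (127, false, 9), (112, false, 8), (85, false, 7), (73, false, 6), (43, false, 5), (164, false, 9), (147, false, 8), (116, false, 7),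 (152, false, 9), (104, false, 8), (166, false, 10), (149, false, 9), (118, false, 8), (170, false, 11), (148, false, 10), (117, false, 9), (103, false, 8), (150, false, 11), (119, false, 10), (152, false, 10), (118, false, 10), (104, false, 9), (119, false, 9), (149, false, 10), (133, false, 9), (150, false, 11), (134, false, 10), (152, false, 12), (162, false, 12), (129, false, 11), (114, false, 10), (100, false, 9), (87, false, 8), (75, false, 7), (148, false, 11), (117, false, 10), (103, false, 9), (149, false, 12), (118, false, 11), (104, false, 10), (150, false, 11), (119, false, 10), (152, false, 10), (150, false, 11), (119, false, 10), (149, false, 10), (150, false, 11), (151, false, 12), (152, false, 13), (133, false, 12), (118, false, 11), (104, false, 10), (134, false, 11), (119, false, 10), (163, false, 12), (146, false, 11), (130, false, 10), (88, false, 9), (76, false, 8), (149, false, 13), (118, false, 12), (104, false, 11), (150, false, 12), (119, false, 11), (151, false, 11), (152, false, 12), (167, false, 13), (150, false, 12), (134, false, 11), (168, false, 14), (151, false, 13), (135, false, 12), (169, true, 12), (152, true, 12), (150, true, 11), (104, true, 11), (149, true, 12), (119, true,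 12), (150, true, 13), (170, true, 12), (135, true, 12), (168, true, 13), (133, true, 11), (166, true, 12), (152, true, 12), (119, true, 11), (134, true, 12), (150, true, 13), (104, true, 11), (118, true, 12), (133, true, 13), (149, true, 14), (132, true, 10), (165, true, 11), (119, true, 10), (152, true, 11), (102, true, 9), (147, true, 10), (170, true, 11), (119, true, 10), (150, true, 11), (167, true, 12), (118, true, 9), (149, true, 10), (166, true, 11), (115, true, 8), (146, true, 9), (163, true, 10), (53, true, 6), (63, true, 7), (74, true, 8), (86, true, 9), (99, true, 10), (113, true, 11), (161, true, 12), (152, true, 12), (169, true, 13), (135, true, 12), (151, true, 13), (168, true, 14), (134, true, 11), (150, true, 12), (167, true, 13), (119, true, 11), (134, true, 12), (118, true, 10), (133, true, 11), (152, true, 12), (104, true, 10), (103, true, 9), (132, true, 10), (148, true, 11), (165, true, 12), (119, true, 10), (134, true, 11), (118, true, 9), (133, true, 10), (152, true, 11), (151, true, 10), (102, true, 8), (131, true, 9), (147, true, 10), (164, true, 11), (151, true, 9), (168, true, 10), (169, true, 9), (166, true, 8), (104, true, 8), (166, true, 9), (101, true, 7), (163, true, 8), (152,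 true, 8), (135, true, 8), (151, true, 9), (133, true, 7), (149, true, 8), (119, true, 7), (134, true, 8), (150, true, 9), (104, true, 7), (118, true, 8), (133, true, 9), (149, true, 10), (129, true, 6), (145, true, 7), (170, true, 8), (151, true, 6), (168, true, 7), (119, true, 6), (150, true, 7), (167, true, 8), (104, true, 6), (118, true, 7), (149, true, 8), (166, true, 9), (160, true, 5), (27, true, 5), (34, true, 6), (51, true, 7), (61, true, 8), (111, true, 9), (126, true, 10), (215, false, 0), (218, false, 11), (220, false, 16), (124, false, 10), (109, false, 9), (95, false, 8), (82, false, 7), (40, false, 6), (32, false, 5), (19, false, 4), (14, false, 3), (125, false, 5), (71, false, 4), (50, false, 3), (167, false, 9), (150, false, 8), (134, false, 7), (170, false, 10), (149, false, 9), (133, false, 8), (118, false, 7), (104, false, 6), (150, false, 8), (134, false, 7), (119, false, 6), (151, false, 7), (135, false, 6), (143, false, 6), (73, false, 5), (52, false, 4), (147, false, 7), (131, false, 6), (149, false, 8), (133, false, 7), (169, false, 10), (152, false, 9), (162, false, 9), (129, false, 8), (100, false, 7), (75, false, 6), (54, false, 5), (150, false, 8), (119, false, 7), (152, false, 7),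 (104, false, 6), (149, false, 8), (133, false, 7), (118, false, 6), (150, false, 9), (134, false, 8), (119, false, 7), (152, false, 8), (164, false, 8), (131, false, 7), (102, false, 6), (77, false, 5), (151, false, 6), (149, false, 7), (133, false, 6), (118, false, 5), (150, false, 8), (134, false, 7), (119, false, 6), (152, false, 7), (168, false, 7), (135, false, 6), (170, false, 6), (97, false, 5), (34, false, 4), (166, false, 9), (133, false, 8), (118, false, 7), (104, false, 6), (160, false, 8), (127, false, 7), (112, false, 6), (35, false, 5), (118, false, 6), (104, false, 5), (119, false, 5), (149, false, 6), (133, false, 5), (150, false, 7), (134, false, 6), (152, false, 8), (165, false, 8), (132, false, 7), (117, false, 6), (103, false, 5), (118, false, 7), (104, false, 6), (119, false, 6), (149, false, 7), (133, false, 6), (150, false, 8), (134, false, 7), (152, false, 9), (166, false, 9), (133, false, 8), (118, false, 7), (104, false, 6), (168, false, 8), (135, false, 7), (162, false, 7), (114, false, 6), (87, false, 5), (150, false, 9), (119, false, 8), (149, false, 8), (104, false, 7), (150, false, 7), (152, false, 8), (164, false, 8), (116, false, 7), (89, false, 6), (149, false, 9), (104, false,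 8), (150, false, 8), (152, false, 9), (165, false, 9), (117, false, 8), (90, false, 7), (150, false, 9), (119, false, 8), (149, false, 8), (104, false, 7), (150, false, 7), (152, false, 8), (166, false, 8), (118, false, 7), (169, false, 9), (170, false, 10), (151, false, 9), (152, false, 10), (166, false, 10), (133, false, 9), (118, false, 8), (104, false, 7), (168, false, 9), (135, false, 8), (166, false, 8), (118, false, 7), (168, false, 9), (170, false, 10), (128, false, 9), (113, false, 8), (99, false, 7), (74, false, 6), (53, false, 5), (164, false, 9), (147, false, 8), (116, false, 7), (152, false, 9), (104, false, 8), (167, false, 10), (150, false, 9), (119, false, 8), (168, false, 9), (151, false, 8), (170, false, 10), (150, false, 9), (134, false, 8), (152, false, 10), (134, false, 9), (119, false, 8), (135, false, 8), (76, false, 7), (141, false, 10), (83, false, 9), (71, false, 8), (60, false, 7), (50, false, 6), (41, false, 5), (26, false, 4), (20, false, 3), (160, false, 5), (98, false, 4), (52, false, 3), (149, false, 6), (133, false, 5), (149, false, 7), (133, false, 6), (104, false, 5), (150, false, 6), (134, false, 5), (152, false, 7), (161, false, 7), (128, false, 6), (113, false, 5), (53, false,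 4), (167, false, 8), (150, false, 7), (119, false, 6), (168, false, 7), (151, false, 6), (166, false, 8), (149, false, 7), (133, false, 6), (167, false, 9), (150, false, 8), (134, false, 7), (169, false, 10), (152, false, 9), (170, false, 9), (129, false, 8), (114, false, 7), (100, false, 6), (54, false, 5), (150, false, 6), (119, false, 5), (149, false, 5), (150, false, 6), (151, false, 7), (152, false, 8), (131, false, 7), (116, false, 6), (102, false, 5), (149, false, 7), (118, false, 6), (152, false, 8), (132, false, 8), (117, false, 7), (103, false, 6), (118, false, 8), (104, false, 7), (119, false, 7), (152, false, 8), (128, false, 7), (86, false, 6), (74, false, 5), (44, false, 4), (147, false, 5), (102, false, 4), (152, false, 6), (119, false, 5), (165, false, 6), (132, false, 5), (149, false, 9), (133, false, 8), (118, false, 7), (104, false, 6), (150, false, 8), (134, false, 7), (119, false, 6), (152, false, 7), (166, false, 7), (133, false, 6), (168, false, 8), (135, false, 7), (170, false, 7), (129, false, 7), (100, false, 6), (87, false, 5), (75, false, 4), (148, false, 8), (117, false, 7), (103, false, 6), (149, false, 9), (118, false, 8), (104, false, 7), (150, false, 8), (119, false, 7), (152,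 false, 7), (149, false, 8), (118, false, 7), (150, false, 9), (119, false, 8), (151, false, 8), (152, false, 9), (135, false, 8), (162, false, 8), (100, false, 7), (87, false, 6), (75, false, 5), (54, false, 4), (148, false, 7), (117, false, 6), (103, false, 5), (149, false, 8), (118, false, 7), (104, false, 6), (150, false, 7), (119, false, 6), (152, false, 6), (149, false, 7), (118, false, 6), (150, false, 8), (119, false, 7), (152, false, 7), (162, false, 7), (100, false, 6), (87, false, 5), (75, false, 4), (148, false, 8), (117, false, 7), (103, false, 6), (149, false, 9), (118, false, 8), (104, false, 7), (150, false, 8), (119, false, 7), (152, false, 7), (149, false, 8), (118, false, 7), (150, false, 9), (119, false, 8), (152, false, 8), (163, false, 8), (101, false, 7), (88, false, 6), (76, false, 5), (149, false, 10), (118, false, 9), (104, false, 8), (166, false, 10), (149, false, 9), (118, false, 8), (170, false, 11), (147, false, 10), (116, false, 9), (102, false, 8), (89, false, 7), (77, false, 6), (149, false, 8), (118, false, 7), (152, false, 9), (149, false, 9), (118, false, 8), (104, false, 7), (151, false, 8), (152, false, 9), (164, false, 9), (131, false, 8), (116, false, 7), (89, false, 6),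 (151, false, 9), (149, false, 10), (133, false, 9), (104, false, 8), (150, false, 9), (134, false, 8), (152, false, 10), (165, false, 10), (132, false, 9), (117, false, 8), (90, false, 7), (150, false, 9), (119, false, 8), (149, false, 8), (104, false, 7), (150, false, 7), (151, false, 8), (152, false, 9), (133, false, 8), (118, false, 7), (134, false, 9), (119, false, 8), (169, false, 10), (152, false, 9), (166, false, 9), (133, false, 8), (104, false, 7), (168, false, 8), (135, false, 7), (170, false, 7), (72, false, 6), (61, false, 5), (51, false, 4), (34, false, 3), (162, false, 8), (129, false, 7), (114, false, 6), (100, false, 5), (150, false, 7), (119, false, 6), (149, false, 6), (150, false, 7), (151, false, 8), (152, false, 9), (133, false, 8), (118, false, 7), (104, false, 6), (134, false, 7), (119, false, 6), (166, false, 8), (149, false, 7), (133, false, 6), (168, false, 9), (151, false, 8), (135, false, 7), (169, false, 8), (152, false, 7), (170, false, 7), (101, false, 6), (104, false, 7), (129, false, 10), (114, false, 9), (100, false, 8), (75, false, 7), (64, false, 6), (54, false, 5), (150, false, 9), (119, false, 8), (152, false, 8), (118, false, 8), (104, false, 7), (119, false, 7), (149, false,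 8), (133, false, 7), (150, false, 9), (134, false, 8), (151, false, 10), (135, false, 9)]),
   ([18, 8, 10, 11, 12, 13, 16, 17, 0, 1, 2, 3, 5, 6, 9, 10, 11, 14, 16], [(176, false, 0), (171, false, 6), (66, false, 5), (45, false, 4), (21, false, 3), (15, false, 2), (6, false, 1), (3, false, 0), (155, false, 8), (93, false, 7), (80, false, 6), (68, false, 5), (38, false, 4), (30, false, 3), (23, false, 2), (5, false, 1), (160, false, 6), (98, false, 5), (85, false, 4), (43, false, 3), (35, false, 2), (99, false, 2), (150, false, 4), (119, false, 3), (152, false, 3), (165, false, 3), (167, false, 7), (150, false, 6), (119, false, 5), (169, false, 6), (152, false, 5), (166, false, 5), (104, false, 4), (166, false, 4), (167, false, 5), (169, false, 6), (170, false, 7), (144, false, 6), (113, false, 5), (99, false, 4), (86, false, 3), (44, false, 2), (148, false, 3), (103, false, 2), (149, false, 4), (104, false, 3), (151, false, 3), (167, false, 5), (150, false, 4), (134, false, 3), (169, false, 6), (152, false, 5), (167, false, 5), (134, false, 4), (119, false, 3), (166, false, 4), (133, false, 3), (167, false, 5), (134, false, 4), (162, false, 6), (129, false, 5), (114, false, 4), (100, false, 3), (87, false, 2),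 (150, false, 6), (119, false, 5), (152, false, 5), (118, false, 5), (104, false, 4), (119, false, 4), (149, false, 5), (133, false, 4), (150, false, 6), (134, false, 5), (152, false, 7), (164, false, 7), (131, false, 6), (116, false, 5), (102, false, 4), (89, false, 3), (149, false, 6), (118, false, 5), (152, false, 7), (133, false, 7), (118, false, 6), (104, false, 5), (134, false, 6), (119, false, 5), (165, false, 7), (148, false, 6), (132, false, 5), (90, false, 4), (149, false, 6), (118, false, 5), (104, false, 4), (150, false, 5), (119, false, 4), (151, false, 4), (152, false, 5), (149, false, 5), (133, false, 4), (150, false, 6), (134, false, 5), (152, false, 7), (168, false, 7), (135, false, 6), (169, false, 6), (170, false, 7), (142, false, 6), (111, false, 5), (97, false, 4), (72, false, 3), (51, false, 2), (27, false, 1), (162, false, 1), (166, false, 5), (149, false, 4), (118, false, 3), (104, false, 2), (168, false, 4), (151, false, 3), (169, false, 5), (152, false, 4), (170, false, 4), (131, false, 3), (116, false, 2), (151, false, 4), (149, false, 5), (133, false, 4), (104, false, 3), (150, false, 4), (134, false, 3), (151, false, 5), (135, false, 4), (149, false, 4), (118, false, 3), (149, false,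 5), (118, false, 4), (104, false, 3), (152, false, 4), (118, false, 3), (119, false, 4), (99, false, 3), (74, false, 2), (53, false, 1), (164, false, 5), (147, false, 4), (116, false, 3), (152, false, 5), (104, false, 4), (167, false, 6), (150, false, 5), (119, false, 4), (168, false, 5), (151, false, 4), (170, false, 6), (150, false, 5), (134, false, 4), (152, false, 6), (132, false, 5), (117, false, 4), (118, false, 5), (119, false, 6), (151, false, 7), (135, false, 6), (152, false, 6), (161, false, 6), (99, false, 5), (86, false, 4), (74, false, 3), (53, false, 2), (44, false, 1), (145, false, 2), (100, false, 1), (149, false, 3), (118, false, 2), (150, false, 4), (119, false, 3), (150, false, 3), (152, false, 4), (164, false, 4), (116, false, 3), (102, false, 2), (149, false, 4), (118, false, 3), (152, false, 5), (118, false, 4), (104, false, 3), (119, false, 3), (167, false, 4), (150, false, 3), (168, false, 5), (151, false, 4), (170, false, 6), (148, false, 5), (132, false, 4), (117, false, 3), (118, false, 4), (119, false, 5), (152, false, 6), (133, false, 5), (104, false, 4), (135, false, 4), (167, false, 4), (169, false, 5), (166, false, 6), (149, false, 5), (118, false, 4), (167, false, 7), (150, false,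 6), (119, false, 5), (169, false, 6), (152, false, 5), (170, false, 5), (100, false, 4), (87, false, 3), (75, false, 2), (54, false, 1), (148, false, 4), (117, false, 3), (103, false, 2), (149, false, 5), (118, false, 4), (104, false, 3), (150, false, 4), (119, false, 3), (152, false, 3), (150, false, 4), (119, false, 3), (151, false, 3), (152, false, 4), (131, false, 3), (89, false, 2), (77, false, 1), (131, false, 2), (89, false, 1), (132, false, 3), (90, false, 2), (149, false, 4), (118, false, 3), (104, false, 2), (150, false, 3), (119, false, 2), (151, false, 2), (152, false, 3), (134, false, 2), (135, false, 3), (167, false, 4), (150, false, 3), (119, false, 2), (168, false, 3), (151, false, 2), (168, false, 4), (151, false, 3), (135, false, 2), (169, false, 3), (152, false, 2), (170, false, 2), (69, false, 1), (141, false, 3), (71, false, 2), (166, false, 7), (149, false, 6), (133, false, 5), (104, false, 4), (168, false, 6), (151, false, 5), (135, false, 4), (170, false, 5), (142, false, 4), (72, false, 3), (133, false, 7), (118, false, 6), (104, false, 5), (134, false, 6), (119, false, 5), (128, false, 5), (74, false, 4), (168, false, 8), (135, false, 7), (163, false, 7), (115, false, 6), (76, false,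 5), (164, false, 8), (116, false, 7), (77, false, 6), (149, false, 7), (104, false, 6), (150, false, 6), (152, false, 7), (165, false, 7), (117, false, 6), (118, false, 7), (119, false, 8), (166, false, 9), (149, false, 8), (104, false, 7), (158, false, 8), (141, false, 7), (83, false, 6), (60, false, 5), (41, false, 4), (26, false, 3), (20, false, 2), (160, false, 4), (98, false, 3), (52, false, 2), (149, false, 5), (133, false, 4), (149, false, 6), (133, false, 5), (104, false, 4), (150, false, 5), (134, false, 4), (152, false, 6), (161, false, 6), (128, false, 5), (113, false, 4), (53, false, 3), (167, false, 7), (150, false, 6), (119, false, 5), (168, false, 6), (151, false, 5), (166, false, 7), (149, false, 6), (133, false, 5), (167, false, 8), (150, false, 7), (134, false, 6), (169, false, 9), (152, false, 8), (170, false, 8), (129, false, 7), (114, false, 6), (100, false, 5), (54, false, 4), (150, false, 5), (119, false, 4), (149, false, 4), (150, false, 5), (151, false, 6), (152, false, 7), (131, false, 6), (116, false, 5), (102, false, 4), (149, false, 6), (118, false, 5), (152, false, 7), (132, false, 7), (117, false, 6), (103, false, 5), (118, false, 7), (104, false, 6), (119, false, 6), (152, false,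 7), (128, false, 6), (86, false, 5), (74, false, 4), (44, false, 3), (147, false, 4), (102, false, 3), (152, false, 5), (119, false, 4), (165, false, 5), (132, false, 4), (149, false, 8), (133, false, 7), (118, false, 6), (104, false, 5), (150, false, 7), (134, false, 6), (119, false, 5), (152, false, 6), (166, false, 6), (133, false, 5), (168, false, 7), (135, false, 6), (170, false, 6), (129, false, 6), (100, false, 5), (87, false, 4), (75, false, 3), (148, false, 7), (117, false, 6), (103, false, 5), (149, false, 8), (118, false, 7), (104, false, 6), (150, false, 7), (119, false, 6), (152, false, 6), (149, false, 7), (118, false, 6), (150, false, 8), (119, false, 7), (151, false, 7), (152, false, 8), (135, false, 7), (162, false, 7), (100, false, 6), (87, false, 5), (75, false, 4), (54, false, 3), (148, false, 6), (117, false, 5), (103, false, 4), (149, false, 7), (118, false, 6), (104, false, 5), (150, false, 6), (119, false, 5), (152, false, 5), (149, false, 6), (118, false, 5), (150, false, 7), (119, false, 6), (152, false, 6), (163, false, 6), (101, false, 5), (88, false, 4), (76, false, 3), (149, false, 8), (118, false, 7), (104, false, 6), (166, false, 8), (149, false, 7), (118, false, 6), (170, false,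 9), (147, false, 8), (116, false, 7), (102, false, 6), (89, false, 5), (77, false, 4), (149, false, 6), (118, false, 5), (152, false, 7), (148, false, 7), (117, false, 6), (103, false, 5), (90, false, 4), (149, false, 6), (118, false, 5), (104, false, 4), (150, false, 5), (119, false, 4), (152, false, 4), (149, false, 4), (151, false, 5), (168, false, 7), (151, false, 6), (135, false, 5), (169, false, 6), (152, false, 5), (170, false, 5), (100, false, 4), (64, false, 3), (149, false, 6), (118, false, 5), (150, false, 7), (119, false, 6), (152, false, 6), (98, false, 5), (62, false, 4), (52, false, 3), (35, false, 2), (100, false, 2), (151, false, 4), (152, false, 5), (130, false, 4), (115, false, 3), (118, false, 4), (119, false, 5), (152, false, 6), (133, false, 5), (104, false, 4), (128, false, 4), (63, false, 3), (53, false, 2), (163, false, 6), (146, false, 5), (115, false, 4), (166, false, 7), (149, false, 6), (118, false, 5), (167, false, 8), (150, false, 7), (119, false, 6), (170, false, 7), (151, false, 6), (147, false, 7), (131, false, 6), (102, false, 5), (151, false, 7), (152, false, 8), (132, false, 7), (117, false, 6), (118, false, 7), (119, false, 8), (151, false, 9), (135, false, 8), (145, false,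 8), (100, false, 7), (87, false, 6), (75, false, 5), (64, false, 4), (54, false, 3), (148, false, 7), (117, false, 6), (103, false, 5), (149, false, 8), (118, false, 7), (104, false, 6), (150, false, 7), (119, false, 6), (152, false, 6), (149, false, 7), (118, false, 6), (150, false, 8), (119, false, 7), (147, false, 7), (102, false, 6), (89, false, 5), (77, false, 4), (152, false, 6), (106, false, 5), (79, false, 4), (56, false, 3), (37, false, 2), (7, false, 1), (161, false, 10), (113, false, 9), (99, false, 8), (53, false, 7), (44, false, 6), (145, false, 7), (100, false, 6), (149, false, 8), (118, false, 7), (150, false, 9), (119, false, 8), (150, false, 8), (152, false, 9), (167, false, 9), (119, false, 8), (169, false, 8), (167, false, 9), (150, false, 8), (166, false, 10), (149, false, 9), (118, false, 8), (104, false, 7), (167, false, 9), (150, false, 8), (119, false, 7), (169, false, 8), (152, false, 7), (170, false, 7), (54, false, 6), (162, false, 8), (114, false, 7), (100, false, 6), (150, false, 8), (119, false, 7), (149, false, 7), (150, false, 8), (152, false, 9), (163, false, 9), (115, false, 8), (101, false, 7), (166, false, 10), (118, false, 9), (104, false, 8), (168, false, 9), (170, false,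 10), (129, false, 9), (114, false, 8), (64, false, 7), (54, false, 6), (118, false, 7), (119, false, 8), (146, false, 9), (130, false, 8), (101, false, 7), (65, false, 6), (104, false, 6), (152, false, 8), (131, false, 7), (116, false, 6), (151, false, 8), (148, false, 9), (132, false, 8), (103, false, 7), (104, false, 8), (152, false, 10), (133, false, 9), (118, false, 8), (134, false, 10), (119, false, 9), (135, false, 9), (152, false, 9), (158, false, 9), (96, false, 8), (83, false, 7), (71, false, 6), (33, false, 5), (20, false, 4), (159, false, 6), (97, false, 5), (51, false, 4), (166, false, 9), (149, false, 8), (133, false, 7), (104, false, 6), (170, false, 8), (144, false, 7), (128, false, 6), (53, false, 5), (168, false, 9), (151, false, 8), (166, false, 10), (149, false, 9), (133, false, 8), (118, false, 7), (167, false, 11), (150, false, 10), (134, false, 9), (119, false, 8), (165, false, 10), (148, false, 9), (132, false, 8), (103, false, 7), (104, false, 8), (152, false, 10), (133, false, 9), (118, false, 8), (134, false, 10), (119, false, 9), (167, false, 11), (150, false, 10), (134, false, 9), (168, false, 12), (151, false, 11), (135, false, 10), (169, false, 11), (152, false, 10), (170, false,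 10), (116, false, 9), (102, false, 8), (89, false, 7), (149, false, 10), (118, false, 9), (152, false, 11), (118, false, 10), (104, false, 9), (164, false, 12), (147, false, 11), (131, false, 10), (116, false, 9), (89, false, 8), (77, false, 7), (151, false, 9), (152, false, 10), (133, false, 9), (104, false, 8), (134, false, 8), (165, false, 11), (148, false, 10), (132, false, 9), (117, false, 8), (90, false, 7), (150, false, 9), (119, false, 8), (149, false, 8), (104, false, 7), (150, false, 7), (151, false, 8), (152, false, 9), (149, false, 9), (133, false, 8), (118, false, 7), (150, false, 10), (134, false, 9), (119, false, 8), (152, false, 9), (169, false, 9), (166, false, 10), (149, false, 9), (133, false, 8), (104, false, 7), (168, false, 9), (151, false, 8), (135, false, 7), (169, false, 8), (152, false, 7), (168, false, 7), (169, false, 8), (170, false, 9), (142, false, 8), (126, false, 7), (51, false, 6), (42, false, 5), (27, false, 4), (161, false, 4), (169, false, 8), (152, false, 7), (162, false, 7), (114, false, 6), (100, false, 5), (150, false, 7), (119, false, 6), (149, false, 6), (150, false, 7), (152, false, 8), (166, false, 8), (118, false, 7), (104, false, 6), (168, false, 7), (169, false,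 8), (170, false, 9), (151, false, 8), (135, false, 7), (149, false, 7), (118, false, 6), (150, false, 8), (119, false, 7), (144, false, 7), (99, false, 6), (53, false, 5), (44, false, 4), (145, false, 5), (100, false, 4), (149, false, 6), (118, false, 5), (150, false, 7), (119, false, 6), (150, false, 6), (152, false, 7), (167, false, 7), (119, false, 6), (169, false, 6), (166, false, 7), (149, false, 6), (104, false, 5), (167, false, 6), (150, false, 5), (166, false, 7), (149, false, 6), (118, false, 5), (167, false, 8), (150, false, 7), (119, false, 6), (169, false, 7), (152, false, 6), (170, false, 6)], [(153, false, 7), (136, false, 6), (91, false, 5), (78, false, 4), (66, false, 3), (55, false, 2), (36, false, 1), (130, false, 4), (101, false, 3), (104, false, 4), (150, false, 6), (134, false, 5), (119, false, 4), (152, false, 5), (164, false, 5), (131, false, 4), (133, false, 5), (134, false, 6), (162, false, 9), (145, false, 8), (129, false, 7), (114, false, 6), (100, false, 5), (75, false, 4), (64, false, 3), (150, false, 8), (119, false, 7), (152, false, 7), (118, false, 7), (104, false, 6), (119, false, 6), (149, false, 7), (133, false, 6), (150, false, 8), (134, false, 7), (149, false, 9), (133, false,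 8), (118, false, 7), (104, false, 6), (150, false, 8), (134, false, 7), (119, false, 6), (152, false, 7), (165, false, 7), (132, false, 6), (149, false, 10), (133, false, 9), (118, false, 8), (104, false, 7), (150, false, 9), (134, false, 8), (119, false, 7), (152, false, 8), (167, false, 8), (134, false, 7), (168, false, 9), (135, false, 8), (169, false, 8), (170, false, 9), (150, false, 8), (119, false, 7), (166, false, 8), (149, false, 7), (154, false, 9), (137, false, 8), (92, false, 7), (79, false, 6), (67, false, 5), (56, false, 4), (46, false, 3), (37, false, 2), (162, false, 7), (114, false, 6), (100, false, 5), (54, false, 4), (150, false, 5), (119, false, 4), (149, false, 4), (150, false, 5), (152, false, 6), (168, false, 6), (169, false, 7), (162, false, 8), (145, false, 7), (129, false, 6), (114, false, 5), (100, false, 4), (150, false, 6), (119, false, 5), (149, false, 5), (150, false, 6), (151, false, 7), (152, false, 8), (133, false, 7), (118, false, 6), (104, false, 5), (134, false, 6), (119, false, 5), (133, false, 5), (134, false, 6), (163, false, 9), (146, false, 8), (130, false, 7), (115, false, 6), (101, false, 5), (118, false, 7), (104, false, 6), (119, false, 6), (152, false, 7), (166,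 false, 7), (133, false, 6), (168, false, 8), (135, false, 7), (170, false, 7), (100, false, 6), (64, false, 5), (54, false, 4), (147, false, 6), (116, false, 5), (152, false, 7), (104, false, 6), (162, false, 7), (114, false, 6), (75, false, 5), (64, false, 4), (150, false, 9), (119, false, 8), (149, false, 8), (104, false, 7), (150, false, 7), (152, false, 8), (163, false, 8), (115, false, 7), (76, false, 6), (65, false, 5), (164, false, 7), (116, false, 6), (77, false, 5), (149, false, 6), (104, false, 5), (150, false, 5), (152, false, 6), (165, false, 6), (117, false, 5), (118, false, 6), (119, false, 7), (166, false, 8), (149, false, 7), (104, false, 6), (167, false, 7), (150, false, 6), (168, false, 8), (151, false, 7), (169, false, 9), (152, false, 8), (166, false, 8), (133, false, 7), (118, false, 6), (168, false, 9), (135, false, 8), (170, false, 8), (119, false, 7), (133, false, 7), (104, false, 6), (134, false, 6), (135, false, 7), (138, false, 7), (107, false, 6), (80, false, 5), (47, false, 4), (38, false, 3), (145, false, 8), (129, false, 7), (114, false, 6), (54, false, 5), (118, false, 5), (119, false, 6), (149, false, 7), (133, false, 6), (104, false, 5), (150, false, 6), (134, false, 5), (149,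 false, 7), (133, false, 6), (118, false, 5), (151, false, 8), (135, false, 7), (152, false, 7), (164, false, 7), (116, false, 6), (102, false, 5), (149, false, 7), (118, false, 6), (152, false, 8), (118, false, 7), (104, false, 6), (119, false, 6), (165, false, 7), (148, false, 6), (149, false, 7), (150, false, 8), (152, false, 9), (167, false, 9), (119, false, 8), (168, false, 8), (169, false, 9), (170, false, 10), (149, false, 9), (133, false, 8), (104, false, 7), (150, false, 8), (134, false, 7), (167, false, 10), (150, false, 9), (134, false, 8), (119, false, 7), (168, false, 9), (151, false, 8), (135, false, 7), (169, false, 8), (152, false, 7), (170, false, 7), (81, false, 6), (69, false, 5), (39, false, 4), (164, false, 8), (116, false, 7), (102, false, 6), (149, false, 8), (118, false, 7), (152, false, 9), (118, false, 8), (104, false, 7), (119, false, 7), (169, false, 8), (152, false, 7), (165, false, 7), (169, false, 11), (152, false, 10), (158, false, 10), (110, false, 9), (96, false, 8), (83, false, 7), (71, false, 6), (41, false, 5), (164, false, 9), (131, false, 8), (133, false, 9), (134, false, 10), (166, false, 13), (149, false, 12), (133, false, 11), (118, false, 10), (104, false, 9), (168, false,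 12), (151, false, 11), (135, false, 10), (169, false, 11), (152, false, 10), (170, false, 10), (116, false, 9), (77, false, 8), (148, false, 9), (103, false, 8), (152, false, 10), (104, false, 9), (149, false, 10), (133, false, 9), (150, false, 11), (134, false, 10), (168, false, 13), (151, false, 12), (135, false, 11), (169, false, 12), (152, false, 11), (170, false, 11), (111, false, 10), (97, false, 9), (84, false, 8), (51, false, 7), (42, false, 6), (145, false, 8), (118, false, 10), (104, false, 9), (165, false, 12), (148, false, 11), (132, false, 10), (117, false, 9), (118, false, 10), (119, false, 11), (152, false, 12), (133, false, 11), (104, false, 10), (134, false, 10), (166, false, 13), (149, false, 12), (133, false, 11), (118, false, 10), (169, false, 14), (152, false, 13), (166, false, 13), (133, false, 12), (118, false, 11), (104, false, 10), (166, false, 12), (133, false, 11), (118, false, 10), (169, false, 13), (162, false, 14), (145, false, 13), (129, false, 12), (114, false, 11), (100, false, 10), (87, false, 9), (54, false, 8), (150, false, 11), (119, false, 10), (152, false, 10), (118, false, 10), (104, false, 9), (119, false, 9), (149, false, 10), (133, false, 9), (150, false, 11), (134,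 false, 10), (149, false, 12), (133, false, 11), (118, false, 10), (104, false, 9), (150, false, 11), (134, false, 10), (119, false, 9), (152, false, 10), (163, false, 10), (130, false, 9), (88, false, 8), (149, false, 12), (118, false, 11), (104, false, 10), (150, false, 11), (119, false, 10), (151, false, 10), (152, false, 11), (164, false, 11), (131, false, 10), (89, false, 9), (133, false, 11), (134, false, 12), (167, false, 15), (150, false, 14), (134, false, 13), (119, false, 12), (169, false, 14), (152, false, 13), (119, true, 12), (152, true, 13), (118, true, 11), (149, true, 12), (89, true, 9), (102, true, 10), (116, true, 11), (170, true, 12), (152, true, 12), (169, true, 13), (135, true, 12), (151, true, 13), (168, true, 14), (134, true, 11), (150, true, 12), (167, true, 13), (133, true, 10), (149, true, 11), (166, true, 12), (152, true, 11), (151, true, 10), (119, true, 10), (150, true, 11), (104, true, 10), (118, true, 11), (149, true, 12), (88, true, 8), (130, true, 9), (146, true, 10), (163, true, 11), (119, true, 9), (104, true, 9), (118, true, 10), (152, true, 10), (119, true, 10), (150, true, 11), (54, true, 8), (87, true, 9), (100, true, 10), (114, true, 11), (129, true, 12), (170, true, 13),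 (152, true, 13), (169, true, 14), (118, true, 10), (133, true, 11), (149, true, 12), (166, true, 13), (134, true, 10), (104, true, 10), (133, true, 11), (152, true, 12), (119, true, 11), (118, true, 10), (117, true, 9), (132, true, 10), (148, true, 11), (165, true, 12), (134, true, 9), (104, true, 9), (133, true, 10), (152, true, 11), (151, true, 10), (77, true, 9), (116, true, 10), (131, true, 11), (147, true, 12), (164, true, 13), (104, true, 10), (65, true, 9), (76, true, 10), (101, true, 11), (130, true, 12), (163, true, 13), (119, true, 12), (134, true, 13), (167, true, 14), (118, true, 11), (133, true, 12), (166, true, 13), (134, true, 11), (167, true, 12), (119, true, 11), (152, true, 12), (102, true, 10), (147, true, 11), (170, true, 12), (119, true, 11), (150, true, 12), (167, true, 13), (118, true, 10), (149, true, 11), (166, true, 12), (115, true, 9), (146, true, 10), (163, true, 11), (53, true, 7), (63, true, 8), (74, true, 9), (113, true, 10), (144, true, 11), (171, false, 0), (176, false, 9), (177, false, 15), (178, false, 19), (179, false, 24), (155, false, 8), (138, false, 7), (107, false, 6), (93, false, 5), (38, false, 4), (23, false, 3), (17, false, 2), (160, false, 12), (143, false, 11), (112,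 false, 10), (98, false, 9), (85, false, 8), (52, false, 7), (43, false, 6), (35, false, 5), (99, false, 5), (150, false, 7), (119, false, 6), (152, false, 6), (162, false, 6), (168, false, 10), (151, false, 9), (169, false, 11), (152, false, 10), (165, false, 10), (132, false, 9), (117, false, 8), (103, false, 7), (118, false, 9), (104, false, 8), (119, false, 8), (149, false, 9), (133, false, 8), (150, false, 10), (134, false, 9), (152, false, 11), (167, false, 11), (134, false, 10), (119, false, 9), (169, false, 10), (166, false, 11), (149, false, 10), (133, false, 9), (104, false, 8), (167, false, 10), (150, false, 9), (134, false, 8), (169, false, 11), (152, false, 10), (166, false, 10), (133, false, 9), (118, false, 8), (167, false, 11), (134, false, 10), (119, false, 9), (169, false, 10), (170, false, 11), (144, false, 10), (128, false, 9), (99, false, 8), (86, false, 7), (53, false, 6), (44, false, 5), (145, false, 6), (100, false, 5), (149, false, 7), (118, false, 6), (150, false, 8), (119, false, 7), (150, false, 7), (152, false, 8), (165, false, 8), (117, false, 7), (103, false, 6), (118, false, 8), (104, false, 7), (119, false, 7), (166, false, 8), (149, false, 7), (168, false, 9), (151, false, 8),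 (170, false, 10), (150, false, 9), (134, false, 8), (152, false, 10), (135, false, 9), (118, false, 8), (104, false, 7), (119, false, 7), (87, false, 6), (54, false, 5), (147, false, 8), (116, false, 7), (102, false, 6), (89, false, 5), (149, false, 8), (118, false, 7), (152, false, 9), (148, false, 9), (117, false, 8), (103, false, 7), (90, false, 6), (149, false, 8), (118, false, 7), (104, false, 6), (150, false, 7), (119, false, 6), (152, false, 6), (161, false, 8), (144, false, 7), (128, false, 6), (74, false, 5), (168, false, 9), (135, false, 8), (166, false, 8), (118, false, 7), (167, false, 9), (119, false, 8), (166, false, 8), (104, false, 7), (167, false, 7), (169, false, 8), (170, false, 9), (145, false, 8), (114, false, 7), (75, false, 6), (150, false, 10), (119, false, 9), (149, false, 9), (104, false, 8), (150, false, 8), (150, false, 9), (119, false, 8), (151, false, 8), (152, false, 9), (134, false, 8), (135, false, 9), (118, false, 8), (119, false, 9), (167, false, 9), (168, false, 10), (169, false, 11), (170, false, 12), (151, false, 11), (135, false, 10), (152, false, 10), (156, false, 10), (108, false, 9), (94, false, 8), (69, false, 7), (48, false, 6), (39, false, 5), (24, false, 4), (18,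 false, 3), (159, false, 13), (126, false, 12), (97, false, 11), (84, false, 10), (72, false, 9), (61, false, 8), (51, false, 7), (34, false, 6), (27, false, 5), (160, false, 5), (166, false, 9), (149, false, 8), (118, false, 7), (104, false, 6), (167, false, 8), (150, false, 7), (119, false, 6), (168, false, 7), (151, false, 6), (170, false, 8), (145, false, 7), (129, false, 6), (149, false, 10), (133, false, 9), (118, false, 8), (104, false, 7), (150, false, 9), (134, false, 8), (119, false, 7), (149, false, 8), (133, false, 7), (151, false, 9), (135, false, 8), (152, false, 8), (163, false, 8), (101, false, 7), (166, false, 9), (104, false, 8), (164, false, 8), (166, false, 12), (149, false, 11), (118, false, 10), (104, false, 9), (167, false, 11), (150, false, 10), (119, false, 9), (168, false, 10), (151, false, 9), (165, false, 11), (148, false, 10), (132, false, 9), (152, false, 13), (133, false, 12), (118, false, 11), (104, false, 10), (134, false, 11), (119, false, 10), (166, false, 12), (149, false, 11), (133, false, 10), (169, false, 13), (152, false, 12), (166, false, 12), (133, false, 11), (104, false, 10), (168, false, 11), (135, false, 10), (170, false, 10), (161, false, 10), (86, false, 9), (74,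 false, 8), (63, false, 7), (53, false, 6), (163, false, 10), (146, false, 9), (115, false, 8), (166, false, 11), (149, false, 10), (118, false, 9), (167, false, 12), (150, false, 11), (119, false, 10), (170, false, 11), (147, false, 10), (102, false, 9), (152, false, 11), (119, false, 10), (165, false, 11), (132, false, 10), (149, false, 14), (133, false, 13), (118, false, 12), (104, false, 11), (150, false, 13), (134, false, 12), (119, false, 11), (152, false, 12), (166, false, 12), (133, false, 11), (168, false, 13), (135, false, 12), (170, false, 12), (104, false, 11), (166, false, 13), (149, false, 12), (118, false, 11), (167, false, 14), (150, false, 13), (119, false, 12), (170, false, 13), (145, false, 12), (100, false, 11), (87, false, 10), (75, false, 9), (64, false, 8), (54, false, 7), (148, false, 11), (117, false, 10), (103, false, 9), (149, false, 12), (118, false, 11), (104, false, 10), (150, false, 11), (119, false, 10), (152, false, 10), (149, false, 11), (118, false, 10), (150, false, 12), (119, false, 11), (149, false, 11), (104, false, 10), (150, false, 10), (164, false, 12), (147, false, 11), (116, false, 10), (89, false, 9), (77, false, 8), (152, false, 10), (104, false, 9), (169, false, 11),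 (152, false, 10), (166, false, 10), (118, false, 9), (167, false, 11), (119, false, 10), (170, false, 10), (96, false, 9), (83, false, 8), (60, false, 7), (41, false, 6), (33, false, 5), (20, false, 4), (159, false, 6), (97, false, 5), (51, false, 4), (166, false, 9), (149, false, 8), (133, false, 7), (104, false, 6), (170, false, 8), (144, false, 7), (128, false, 6), (53, false, 5), (168, false, 9), (151, false, 8), (166, false, 10), (149, false, 9), (133, false, 8), (118, false, 7), (167, false, 11), (150, false, 10), (134, false, 9), (119, false, 8), (165, false, 10), (148, false, 9), (132, false, 8), (103, false, 7), (104, false, 8), (152, false, 10), (133, false, 9), (118, false, 8), (134, false, 10), (119, false, 9), (167, false, 11), (150, false, 10), (134, false, 9), (168, false, 12), (151, false, 11), (135, false, 10), (169, false, 11), (152, false, 10), (170, false, 10), (113, false, 9), (99, false, 8), (86, false, 7), (53, false, 6), (44, false, 5), (145, false, 6), (100, false, 5), (149, false, 7), (118, false, 6), (150, false, 8), (119, false, 7), (150, false, 7), (152, false, 8), (165, false, 8), (117, false, 7), (103, false, 6), (118, false, 8), (104, false, 7), (119, false, 7), (166, false, 8),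 (149, false, 7), (168, false, 9), (151, false, 8), (170, false, 10), (150, false, 9), (134, false, 8), (152, false, 10), (134, false, 9), (119, false, 8), (129, false, 8), (100, false, 7), (87, false, 6), (54, false, 5), (150, false, 8), (119, false, 7), (152, false, 7), (104, false, 6), (151, false, 8), (135, false, 7), (162, false, 8), (145, false, 7), (114, false, 6), (87, false, 5), (150, false, 9), (119, false, 8), (149, false, 8), (104, false, 7), (150, false, 7), (149, false, 8), (118, false, 7), (150, false, 9), (119, false, 8), (152, false, 8), (163, false, 8), (101, false, 7), (88, false, 6), (149, false, 10), (118, false, 9), (104, false, 8), (166, false, 10), (149, false, 9), (118, false, 8), (170, false, 11), (147, false, 10), (116, false, 9), (102, false, 8), (89, false, 7), (149, false, 10), (118, false, 9), (152, false, 11), (148, false, 11), (117, false, 10), (103, false, 9), (90, false, 8), (149, false, 10), (118, false, 9), (104, false, 8), (150, false, 9), (119, false, 8), (152, false, 8), (149, false, 8), (151, false, 9), (152, false, 10), (126, false, 9), (97, false, 8), (72, false, 7), (61, false, 6), (51, false, 5), (27, false, 4), (162, false, 4), (166, false, 8), (149, false, 7), (118,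 false, 6), (104, false, 5), (168, false, 7), (151, false, 6), (169, false, 8), (152, false, 7), (170, false, 7), (130, false, 6), (115, false, 5), (118, false, 6), (119, false, 7), (149, false, 8), (133, false, 7), (104, false, 6), (147, false, 7), (131, false, 6), (149, false, 8), (133, false, 7), (150, false, 9), (134, false, 8), (151, false, 10), (135, false, 9), (149, false, 9), (118, false, 8), (104, false, 7), (151, false, 8), (145, false, 9), (129, false, 8), (114, false, 7), (75, false, 6), (64, false, 5), (54, false, 4), (150, false, 8), (119, false, 7), (149, false, 7), (104, false, 6), (150, false, 6), (151, false, 7), (152, false, 8), (133, false, 7), (118, false, 6), (134, false, 8), (119, false, 7), (131, false, 7), (102, false, 6), (77, false, 5), (151, false, 6), (146, false, 7), (130, false, 6), (115, false, 5), (65, false, 4), (118, false, 4), (119, false, 5), (152, false, 6), (134, false, 5), (135, false, 6), (146, false, 6), (115, false, 5), (101, false, 4), (147, false, 7), (116, false, 6), (102, false, 5), (149, false, 7), (118, false, 6), (152, false, 8), (148, false, 8), (117, false, 7), (103, false, 6), (150, false, 9), (119, false, 8), (162, false, 9), (145, false, 8), (100, false, 7),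 (87, false, 6), (75, false, 5), (64, false, 4), (148, false, 9), (117, false, 8), (103, false, 7), (149, false, 10), (118, false, 9), (104, false, 8), (150, false, 9), (119, false, 8), (152, false, 8), (149, false, 9), (118, false, 8), (150, false, 10), (119, false, 9), (149, false, 9), (104, false, 8), (150, false, 8), (152, false, 9), (163, false, 9), (115, false, 8), (88, false, 7), (76, false, 6), (65, false, 5), (150, false, 9), (119, false, 8), (164, false, 9), (147, false, 8), (102, false, 7), (89, false, 6), (77, false, 5), (152, false, 7), (118, false, 6), (119, false, 7), (165, false, 8), (148, false, 7), (103, false, 6), (90, false, 5), (149, false, 7), (118, false, 6), (104, false, 5), (152, false, 6), (118, false, 5), (119, false, 6), (169, false, 7), (152, false, 6), (170, false, 6)]),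
   ([21, 12, 13, 15, 16, 0, 1, 2, 3, 6, 7, 9, 10, 14, 15], [(222, false, 0), (215, false, 11), (153, false, 10), (105, false, 9), (91, false, 8), (66, false, 7), (55, false, 6), (45, false, 5), (36, false, 4), (28, false, 3), (21, false, 2), (15, false, 1), (10, false, 0), (158, false, 8), (141, false, 7), (83, false, 6), (50, false, 5), (41, false, 4), (33, false, 3), (26, false, 2), (142, false, 8), (84, false, 7), (72, false, 6), (51, false, 5), (42, false, 4), (34, false, 3), (161, false, 8), (128, false, 7), (113, false, 6), (99, false, 5), (150, false, 7), (119, false, 6), (151, false, 6), (149, false, 7), (133, false, 6), (150, false, 8), (134, false, 7), (152, false, 9), (169, false, 9), (162, false, 10), (145, false, 9), (129, false, 8), (114, false, 7), (100, false, 6), (150, false, 8), (119, false, 7), (149, false, 7), (150, false, 8), (151, false, 9), (152, false, 10), (133, false, 9), (118, false, 8), (104, false, 7), (134, false, 8), (119, false, 7), (133, false, 7), (134, false, 8), (166, false, 11), (149, false, 10), (133, false, 9), (118, false, 8), (104, false, 7), (168, false, 10), (151, false, 9), (135, false, 8), (169, false, 9), (152, false, 8), (170, false, 8), (116, false, 7), (149, false,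 9), (104, false, 8), (150, false, 8), (151, false, 9), (148, false, 10), (132, false, 9), (117, false, 8), (118, false, 9), (119, false, 10), (152, false, 11), (133, false, 10), (104, false, 9), (149, false, 10), (133, false, 9), (150, false, 11), (134, false, 10), (144, false, 12), (128, false, 11), (113, false, 10), (99, false, 9), (86, false, 8), (74, false, 7), (53, false, 6), (44, false, 5), (145, false, 6), (100, false, 5), (149, false, 7), (118, false, 6), (150, false, 8), (119, false, 7), (150, false, 7), (152, false, 8), (164, false, 8), (116, false, 7), (102, false, 6), (149, false, 8), (118, false, 7), (152, false, 9), (118, false, 8), (104, false, 7), (119, false, 7), (167, false, 8), (150, false, 7), (168, false, 9), (151, false, 8), (170, false, 10), (148, false, 9), (132, false, 8), (117, false, 7), (118, false, 8), (119, false, 9), (152, false, 10), (133, false, 9), (104, false, 8), (135, false, 8), (167, false, 8), (169, false, 9), (167, false, 10), (150, false, 9), (119, false, 8), (168, false, 9), (151, false, 8), (166, false, 10), (149, false, 9), (133, false, 8), (167, false, 11), (150, false, 10), (134, false, 9), (165, false, 12), (148, false, 11), (132, false, 10), (117, false, 9), (103,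 false, 8), (90, false, 7), (149, false, 9), (118, false, 8), (104, false, 7), (150, false, 8), (119, false, 7), (149, false, 7), (150, false, 8), (151, false, 9), (152, false, 10), (149, false, 10), (133, false, 9), (118, false, 8), (104, false, 7), (150, false, 9), (134, false, 8), (119, false, 7), (152, false, 8), (167, false, 8), (134, false, 7), (168, false, 9), (135, false, 8), (169, false, 8), (170, false, 9), (144, false, 8), (113, false, 7), (74, false, 6), (53, false, 5), (164, false, 9), (147, false, 8), (116, false, 7), (152, false, 9), (104, false, 8), (167, false, 10), (150, false, 9), (119, false, 8), (168, false, 9), (151, false, 8), (170, false, 10), (150, false, 9), (134, false, 8), (149, false, 10), (133, false, 9), (118, false, 8), (150, false, 11), (134, false, 10), (119, false, 9), (145, false, 10), (129, false, 9), (100, false, 8), (75, false, 7), (54, false, 6), (150, false, 9), (119, false, 8), (152, false, 8), (104, false, 7), (149, false, 9), (133, false, 8), (118, false, 7), (150, false, 10), (134, false, 9), (119, false, 8), (151, false, 9), (135, false, 8), (162, false, 9), (145, false, 8), (100, false, 7), (75, false, 6), (150, false, 10), (119, false, 9), (152, false, 9), (104,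 false, 8), (118, false, 8), (119, false, 9), (164, false, 10), (147, false, 9), (102, false, 8), (77, false, 7), (152, false, 8), (118, false, 7), (119, false, 8), (165, false, 9), (148, false, 8), (103, false, 7), (149, false, 9), (104, false, 8), (150, false, 8), (152, false, 9), (169, false, 9), (166, false, 10), (149, false, 9), (118, false, 8), (168, false, 11), (151, false, 10), (170, false, 12), (151, false, 11), (135, false, 10), (152, false, 10), (162, false, 10), (114, false, 9), (100, false, 8), (87, false, 7), (54, false, 6), (150, false, 9), (119, false, 8), (152, false, 8), (118, false, 8), (104, false, 7), (119, false, 7), (166, false, 8), (149, false, 7), (167, false, 9), (150, false, 8), (169, false, 10), (152, false, 9), (160, false, 9), (112, false, 8), (98, false, 7), (85, false, 6), (43, false, 5), (35, false, 4), (99, false, 4), (150, false, 6), (119, false, 5), (152, false, 5), (165, false, 5), (167, false, 9), (150, false, 8), (119, false, 7), (169, false, 8), (152, false, 7), (166, false, 7), (104, false, 6), (167, false, 6), (166, false, 7), (118, false, 6), (167, false, 8), (119, false, 7), (169, false, 7), (170, false, 8), (144, false, 7), (99, false, 6), (86, false, 5), (44, false,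 4), (148, false, 5), (103, false, 4), (149, false, 6), (104, false, 5), (151, false, 5), (167, false, 7), (150, false, 6), (134, false, 5), (169, false, 8), (152, false, 7), (166, false, 7), (133, false, 6), (118, false, 5), (167, false, 8), (134, false, 7), (119, false, 6), (164, false, 7), (131, false, 6), (102, false, 5), (89, false, 4), (151, false, 7), (149, false, 8), (133, false, 7), (118, false, 6), (150, false, 9), (134, false, 8), (119, false, 7), (152, false, 8), (165, false, 8), (132, false, 7), (103, false, 6), (90, false, 5), (149, false, 7), (118, false, 6), (104, false, 5), (149, false, 6), (118, false, 5), (150, false, 7), (119, false, 6), (151, false, 6), (152, false, 7), (133, false, 6), (104, false, 5), (134, false, 5), (168, false, 8), (151, false, 7), (135, false, 6), (159, false, 7), (142, false, 6), (111, false, 5), (72, false, 4), (27, false, 3), (164, false, 3), (166, false, 7), (149, false, 6), (118, false, 5), (104, false, 4), (167, false, 6), (150, false, 5), (119, false, 4), (168, false, 5), (151, false, 4), (166, false, 6), (149, false, 5), (133, false, 4), (169, false, 7), (152, false, 6), (166, false, 6), (133, false, 5), (104, false, 4), (167, false, 5), (134, false, 4), (170,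 false, 6), (128, false, 5), (113, false, 4), (74, false, 3), (167, false, 7), (134, false, 6), (119, false, 5), (168, false, 6), (135, false, 5), (162, false, 5), (75, false, 4), (149, false, 8), (118, false, 7), (104, false, 6), (150, false, 7), (119, false, 6), (152, false, 6), (164, false, 6), (77, false, 5), (165, false, 8), (148, false, 7), (117, false, 6), (103, false, 5), (149, false, 8), (118, false, 7), (104, false, 6), (150, false, 7), (119, false, 6), (152, false, 6), (167, false, 6), (168, false, 7), (169, false, 8), (161, false, 9), (144, false, 8), (128, false, 7), (113, false, 6), (86, false, 5), (53, false, 4), (44, false, 3), (145, false, 4), (100, false, 3), (149, false, 5), (118, false, 4), (150, false, 6), (119, false, 5), (150, false, 5), (152, false, 6), (165, false, 6), (117, false, 5), (103, false, 4), (118, false, 6), (104, false, 5), (119, false, 5), (166, false, 6), (149, false, 5), (168, false, 7), (151, false, 6), (170, false, 8), (150, false, 7), (134, false, 6), (151, false, 8), (135, false, 7), (149, false, 7), (118, false, 6), (104, false, 5), (150, false, 6), (119, false, 5), (149, false, 5), (150, false, 6), (152, false, 7), (166, false, 7), (118, false, 6), (104, false, 5),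 (168, false, 6), (162, false, 7), (129, false, 6), (114, false, 5), (87, false, 4), (54, false, 3), (150, false, 6), (119, false, 5), (149, false, 5), (104, false, 4), (150, false, 4), (151, false, 5), (152, false, 6), (133, false, 5), (118, false, 4), (134, false, 6), (119, false, 5), (163, false, 7), (146, false, 6), (130, false, 5), (101, false, 4), (88, false, 3), (149, false, 7), (118, false, 6), (104, false, 5), (149, false, 6), (118, false, 5), (150, false, 7), (119, false, 6), (151, false, 6), (152, false, 7), (167, false, 8), (150, false, 7), (134, false, 6), (169, false, 9), (152, false, 8), (170, false, 8), (131, false, 7), (116, false, 6), (102, false, 5), (89, false, 4), (149, false, 7), (118, false, 6), (152, false, 8), (166, false, 9), (133, false, 8), (118, false, 7), (104, false, 6), (169, false, 8), (166, false, 9), (149, false, 8), (133, false, 7), (118, false, 6), (154, false, 10), (137, false, 9), (121, false, 8), (106, false, 7), (92, false, 6), (79, false, 5), (67, false, 4), (56, false, 3), (16, false, 2), (11, false, 1), (141, false, 7), (125, false, 6), (110, false, 5), (50, false, 4), (20, false, 3), (162, false, 5), (100, false, 4), (54, false, 3), (149, false, 4), (118, false, 3),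 (150, false, 5), (119, false, 4), (152, false, 4), (166, false, 4), (104, false, 3), (167, false, 3), (170, false, 4), (119, false, 3), (166, false, 3), (168, false, 4), (170, false, 5), (126, false, 4), (97, false, 3), (127, false, 5), (98, false, 4), (104, false, 5), (144, false, 7), (128, false, 6), (113, false, 5), (133, false, 7), (118, false, 6), (134, false, 8), (119, false, 7), (129, false, 7), (100, false, 6), (149, false, 8), (118, false, 7), (150, false, 9), (119, false, 8), (151, false, 8), (152, false, 9), (132, false, 8), (103, false, 7), (104, false, 8), (149, false, 10), (133, false, 9), (118, false, 8), (150, false, 11), (134, false, 10), (119, false, 9), (151, false, 10), (135, false, 9), (152, false, 9), (100, false, 8), (87, false, 7), (54, false, 6), (150, false, 9), (119, false, 8), (152, false, 8), (101, false, 7), (88, false, 6), (149, false, 10), (118, false, 9), (104, false, 8), (149, false, 9), (118, false, 8), (151, false, 10), (162, false, 12), (145, false, 11), (129, false, 10), (114, false, 9), (100, false, 8), (87, false, 7), (64, false, 6), (150, false, 11), (119, false, 10), (152, false, 10), (118, false, 10), (104, false, 9), (119, false, 9), (149, false, 10), (133, false, 9),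 (150, false, 11), (134, false, 10), (149, false, 12), (133, false, 11), (118, false, 10), (104, false, 9), (150, false, 11), (134, false, 10), (119, false, 9), (152, false, 10), (164, false, 10), (131, false, 9), (89, false, 8), (133, false, 10), (134, false, 11), (166, false, 14), (149, false, 13), (133, false, 12), (118, false, 11), (104, false, 10), (167, false, 13), (150, false, 12), (134, false, 11), (119, false, 10), (170, false, 12), (145, false, 11), (129, false, 10), (87, false, 9), (75, false, 8), (64, false, 7), (54, false, 6), (148, false, 10), (117, false, 9), (103, false, 8), (149, false, 11), (118, false, 10), (104, false, 9), (150, false, 10), (119, false, 9), (152, false, 9), (149, false, 12), (133, false, 11), (118, false, 10), (104, false, 9), (150, false, 11), (134, false, 10), (119, false, 9), (146, false, 10), (130, false, 9), (88, false, 8), (76, false, 7), (65, false, 6), (149, false, 10), (118, false, 9), (104, false, 8), (150, false, 9), (119, false, 8), (151, false, 8), (152, false, 9), (147, false, 9), (131, false, 8), (89, false, 7), (77, false, 6), (148, false, 8), (132, false, 7), (90, false, 6), (149, false, 8), (118, false, 7), (104, false, 6), (150, false, 7), (119, false, 6),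 (151, false, 6), (152, false, 7), (149, false, 7), (133, false, 6), (150, false, 8), (134, false, 7), (151, false, 9), (135, false, 8), (152, false, 8), (118, false, 7), (104, false, 6), (169, false, 8), (170, false, 9), (149, false, 8), (133, false, 7), (118, false, 6), (150, false, 9), (134, false, 8), (119, false, 7), (152, false, 8), (167, false, 8), (134, false, 7), (168, false, 9), (135, false, 8), (166, false, 8), (118, false, 7), (104, false, 6), (167, false, 7), (119, false, 6), (168, false, 6), (169, false, 7), (156, false, 8), (139, false, 7), (123, false, 6), (39, false, 5), (31, false, 4), (24, false, 3), (13, false, 2), (159, false, 9), (126, false, 8), (97, false, 7), (72, false, 6), (42, false, 5), (27, false, 4), (161, false, 4), (169, false, 8), (152, false, 7), (164, false, 7), (116, false, 6), (102, false, 5), (149, false, 7), (118, false, 6), (152, false, 8), (118, false, 7), (104, false, 6), (119, false, 6), (166, false, 7), (149, false, 6), (167, false, 8), (150, false, 7), (168, false, 9), (151, false, 8), (166, false, 10), (149, false, 9), (133, false, 8), (118, false, 7), (104, false, 6), (168, false, 9), (151, false, 8), (135, false, 7), (170, false, 8), (160, false, 8), (143, false,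 7), (112, false, 6), (73, false, 5), (43, false, 4), (164, false, 8), (147, false, 7), (116, false, 6), (152, false, 8), (104, false, 7), (166, false, 9), (149, false, 8), (118, false, 7), (170, false, 10), (150, false, 9), (119, false, 8), (152, false, 8), (104, false, 7), (169, false, 9), (152, false, 8), (161, false, 8), (113, false, 7), (74, false, 6), (44, false, 5), (147, false, 6), (102, false, 5), (152, false, 7), (119, false, 6), (167, false, 7), (134, false, 6), (166, false, 8), (133, false, 7), (118, false, 6), (167, false, 9), (134, false, 8), (119, false, 7), (169, false, 8), (170, false, 9), (149, false, 8), (133, false, 7), (104, false, 6), (150, false, 7), (134, false, 6), (168, false, 9), (151, false, 8), (135, false, 7), (169, false, 8), (152, false, 7), (170, false, 7), (109, false, 6), (70, false, 5), (32, false, 4), (14, false, 3), (127, false, 5), (73, false, 4), (52, false, 3), (147, false, 6), (131, false, 5), (149, false, 7), (133, false, 6), (166, false, 9), (149, false, 8), (133, false, 7), (104, false, 6), (167, false, 8), (150, false, 7), (134, false, 6), (168, false, 9), (151, false, 8), (135, false, 7), (169, false, 8), (152, false, 7), (162, false, 7), (114, false, 6), (75, false,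 5), (54, false, 4), (150, false, 7), (119, false, 6), (149, false, 6), (104, false, 5), (150, false, 5), (152, false, 6), (164, false, 6), (116, false, 5), (77, false, 4), (149, false, 5), (104, false, 4), (150, false, 4), (152, false, 5), (168, false, 5), (170, false, 6), (131, false, 5), (116, false, 4), (151, false, 6), (149, false, 7), (133, false, 6), (104, false, 5), (166, false, 7), (149, false, 6), (133, false, 5), (168, false, 8), (151, false, 7), (135, false, 6), (158, false, 7), (141, false, 6), (96, false, 5), (71, false, 4), (33, false, 3), (164, false, 10), (147, false, 9), (131, false, 8), (116, false, 7), (89, false, 6), (151, false, 9), (152, false, 10), (133, false, 9), (104, false, 8), (134, false, 8), (166, false, 11), (149, false, 10), (133, false, 9), (118, false, 8), (168, false, 12), (151, false, 11), (135, false, 10), (169, false, 11), (152, false, 10), (170, false, 10), (118, false, 9), (104, false, 8), (149, false, 10), (133, false, 9), (118, false, 8), (151, false, 11), (135, false, 10), (168, false, 11), (151, false, 10), (169, false, 12), (152, false, 11), (170, false, 11), (127, false, 10), (112, false, 9), (98, false, 8), (85, false, 7), (73, false, 6), (43, false, 5), (164, false,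 9), (147, false, 8), (116, false, 7), (152, false, 9), (104, false, 8), (166, false, 10), (149, false, 9), (118, false, 8), (170, false, 11), (148, false, 10), (117, false, 9), (103, false, 8), (150, false, 11), (119, false, 10), (152, false, 10), (104, false, 9), (118, false, 9), (119, false, 10), (144, false, 11), (128, false, 10), (99, false, 9), (86, false, 8), (74, false, 7), (44, false, 6), (147, false, 7), (102, false, 6), (152, false, 8), (119, false, 7), (165, false, 8), (132, false, 7), (149, false, 11), (133, false, 10), (118, false, 9), (104, false, 8), (150, false, 10), (134, false, 9), (119, false, 8), (152, false, 9), (166, false, 9), (133, false, 8), (168, false, 10), (135, false, 9), (170, false, 9), (151, false, 10), (149, false, 11), (133, false, 10), (118, false, 9), (104, false, 8), (150, false, 10), (134, false, 9), (119, false, 8), (148, false, 9), (132, false, 8), (90, false, 7), (149, false, 9), (118, false, 8), (104, false, 7), (150, false, 8), (119, false, 7), (151, false, 7), (152, false, 8), (149, false, 8), (133, false, 7), (150, false, 9), (134, false, 8), (151, false, 10), (135, false, 9)], [(136, false, 4), (120, false, 3), (91, false, 2), (78, false, 1), (166, false, 7), (149,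 false, 6), (133, false, 5), (118, false, 4), (168, false, 8), (151, false, 7), (135, false, 6), (170, false, 7), (150, false, 6), (119, false, 5), (154, false, 6), (137, false, 5), (92, false, 4), (79, false, 3), (46, false, 2), (145, false, 5), (129, false, 4), (54, false, 3), (149, false, 6), (133, false, 5), (118, false, 4), (104, false, 3), (150, false, 5), (134, false, 4), (119, false, 3), (146, false, 4), (130, false, 3), (152, false, 7), (131, false, 6), (116, false, 5), (102, false, 4), (149, false, 6), (118, false, 5), (152, false, 7), (132, false, 7), (117, false, 6), (103, false, 5), (118, false, 7), (104, false, 6), (119, false, 6), (149, false, 7), (133, false, 6), (150, false, 8), (134, false, 7), (151, false, 9), (135, false, 8), (152, false, 8), (118, false, 7), (104, false, 6), (167, false, 8), (134, false, 7), (119, false, 6), (168, false, 7), (135, false, 6), (166, false, 6), (167, false, 7), (168, false, 8), (169, false, 9), (155, false, 10), (138, false, 9), (122, false, 8), (107, false, 7), (93, false, 6), (80, false, 5), (68, false, 4), (57, false, 3), (131, false, 7), (116, false, 6), (151, false, 8), (147, false, 9), (131, false, 8), (102, false, 7), (77, false, 6), (151, false, 7), (152,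 false, 8), (132, false, 7), (117, false, 6), (118, false, 7), (119, false, 8), (150, false, 9), (134, false, 8), (151, false, 10), (135, false, 9), (152, false, 9), (167, false, 9), (119, false, 8), (168, false, 8), (166, false, 9), (133, false, 8), (104, false, 7), (167, false, 8), (134, false, 7), (170, false, 9), (133, false, 8), (118, false, 7), (167, false, 11), (150, false, 10), (134, false, 9), (119, false, 8), (168, false, 10), (151, false, 9), (135, false, 8), (169, false, 9), (152, false, 8), (170, false, 8), (156, false, 10), (139, false, 9), (123, false, 8), (94, false, 7), (81, false, 6), (58, false, 5), (48, false, 4), (163, false, 8), (115, false, 7), (101, false, 6), (165, false, 9), (117, false, 8), (103, false, 7), (118, false, 9), (104, false, 8), (119, false, 8), (169, false, 9), (152, false, 8), (166, false, 8), (168, false, 9), (169, false, 10), (170, false, 11), (142, false, 10), (126, false, 9), (97, false, 8), (84, false, 7), (61, false, 6), (51, false, 5), (163, false, 10), (146, false, 9), (130, false, 8), (101, false, 7), (104, false, 8), (152, false, 10), (166, false, 10), (133, false, 9), (118, false, 8), (165, false, 11), (132, false, 10), (117, false, 9), (103, false, 8), (118,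 false, 10), (104, false, 9), (119, false, 9), (149, false, 10), (133, false, 9), (150, false, 11), (134, false, 10), (152, false, 12), (166, false, 12), (133, false, 11), (118, false, 10), (104, false, 9), (169, false, 11), (166, false, 12), (149, false, 11), (133, false, 10), (118, false, 9), (168, false, 13), (151, false, 12), (135, false, 11), (166, false, 12), (149, false, 11), (118, false, 10), (104, false, 9), (167, false, 11), (150, false, 10), (119, false, 9), (160, false, 10), (143, false, 9), (85, false, 8), (62, false, 7), (52, false, 6), (146, false, 9), (130, false, 8), (152, false, 12), (148, false, 12), (132, false, 11), (117, false, 10), (103, false, 9), (118, false, 11), (104, false, 10), (119, false, 10), (152, false, 11), (134, false, 10), (152, false, 12), (133, false, 11), (118, false, 10), (134, false, 12), (119, false, 11), (162, false, 13), (145, false, 12), (129, false, 11), (100, false, 10), (87, false, 9), (64, false, 8), (54, false, 7), (150, false, 11), (119, false, 10), (152, false, 10), (104, false, 9), (149, false, 11), (133, false, 10), (118, false, 9), (150, false, 12), (134, false, 11), (119, false, 10), (149, false, 11), (133, false, 10), (104, false, 9), (150, false, 10),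 (134, false, 9), (152, false, 11), (163, false, 11), (130, false, 10), (115, false, 9), (88, false, 8), (65, false, 7), (150, false, 10), (119, false, 9), (149, false, 9), (104, false, 8), (150, false, 8), (151, false, 9), (152, false, 10), (167, false, 10), (134, false, 9), (119, false, 8), (168, false, 9), (135, false, 8), (152, true, 8), (119, true, 8), (104, true, 8), (118, true, 9), (152, true, 10), (135, true, 10), (151, true, 11), (118, true, 8), (133, true, 9), (149, true, 10), (104, true, 8), (103, true, 7), (132, true, 8), (119, true, 8), (134, true, 9), (118, true, 7), (133, true, 8), (152, true, 9), (104, true, 7), (65, true, 7), (101, true, 8), (130, true, 9), (146, true, 10), (119, true, 9), (118, true, 8), (54, true, 7), (64, true, 8), (114, true, 9), (129, true, 10), (215, false, 0), (221, false, 11), (222, false, 21), (223, false, 32), (226, false, 41), (125, false, 10), (110, false, 9), (96, false, 8), (83, false, 7), (41, false, 6), (33, false, 5), (20, false, 4), (159, false, 6), (97, false, 5), (51, false, 4), (166, false, 9), (149, false, 8), (133, false, 7), (104, false, 6), (170, false, 8), (144, false, 7), (128, false, 6), (53, false, 5), (168, false, 9), (151, false, 8), (166, false,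 10), (149, false, 9), (133, false, 8), (118, false, 7), (167, false, 11), (150, false, 10), (134, false, 9), (119, false, 8), (165, false, 10), (148, false, 9), (132, false, 8), (103, false, 7), (104, false, 8), (152, false, 10), (133, false, 9), (118, false, 8), (134, false, 10), (119, false, 9), (167, false, 11), (150, false, 10), (134, false, 9), (168, false, 12), (151, false, 11), (135, false, 10), (169, false, 11), (152, false, 10), (170, false, 10), (113, false, 9), (99, false, 8), (86, false, 7), (53, false, 6), (44, false, 5), (145, false, 6), (100, false, 5), (149, false, 7), (118, false, 6), (150, false, 8), (119, false, 7), (150, false, 7), (152, false, 8), (165, false, 8), (117, false, 7), (103, false, 6), (118, false, 8), (104, false, 7), (119, false, 7), (166, false, 8), (149, false, 7), (168, false, 9), (151, false, 8), (170, false, 10), (150, false, 9), (134, false, 8), (152, false, 10), (134, false, 9), (119, false, 8), (129, false, 8), (100, false, 7), (87, false, 6), (54, false, 5), (150, false, 8), (119, false, 7), (152, false, 7), (104, false, 6), (151, false, 8), (135, false, 7), (164, false, 8), (147, false, 7), (116, false, 6), (89, false, 5), (152, false, 8), (104, false, 7), (165, false,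 9), (148, false, 8), (117, false, 7), (90, false, 6), (150, false, 8), (119, false, 7), (152, false, 7), (104, false, 6), (169, false, 8), (152, false, 7), (166, false, 7), (118, false, 6), (168, false, 8), (169, false, 9), (166, false, 10), (149, false, 9), (133, false, 8), (118, false, 7), (104, false, 6), (167, false, 9), (150, false, 8), (134, false, 7), (119, false, 6), (170, false, 8), (150, false, 7), (134, false, 6), (160, false, 9), (143, false, 8), (127, false, 7), (112, false, 6), (73, false, 5), (167, false, 8), (166, false, 9), (118, false, 8), (104, false, 7), (167, false, 8), (119, false, 7), (168, false, 7), (169, false, 8), (169, false, 9), (152, false, 8), (166, false, 8), (133, false, 7), (167, false, 9), (134, false, 8), (169, false, 10), (170, false, 11), (144, false, 10), (128, false, 9), (113, false, 8), (99, false, 7), (74, false, 6), (167, false, 10), (134, false, 9), (119, false, 8), (169, false, 9), (167, false, 10), (150, false, 9), (134, false, 8), (168, false, 11), (151, false, 10), (135, false, 9), (166, false, 10), (149, false, 9), (118, false, 8), (167, false, 11), (150, false, 10), (119, false, 9), (162, false, 10), (145, false, 9), (100, false, 8), (75, false, 7), (150, false,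 11), (119, false, 10), (152, false, 10), (104, false, 9), (118, false, 9), (119, false, 10), (164, false, 11), (147, false, 10), (102, false, 9), (77, false, 8), (152, false, 9), (118, false, 8), (119, false, 9), (165, false, 10), (148, false, 9), (103, false, 8), (149, false, 10), (104, false, 9), (150, false, 9), (152, false, 10), (166, false, 10), (118, false, 9), (167, false, 11), (119, false, 10), (168, false, 10), (170, false, 11), (124, false, 10), (95, false, 9), (82, false, 8), (49, false, 7), (40, false, 6), (32, false, 5), (25, false, 4), (14, false, 3), (127, false, 5), (73, false, 4), (52, false, 3), (147, false, 6), (131, false, 5), (149, false, 7), (133, false, 6), (166, false, 9), (149, false, 8), (133, false, 7), (104, false, 6), (167, false, 8), (150, false, 7), (134, false, 6), (168, false, 9), (151, false, 8), (135, false, 7), (169, false, 8), (152, false, 7), (161, false, 7), (113, false, 6), (74, false, 5), (53, false, 4), (164, false, 8), (147, false, 7), (116, false, 6), (152, false, 8), (104, false, 7), (167, false, 9), (150, false, 8), (119, false, 7), (168, false, 8), (151, false, 7), (170, false, 9), (150, false, 8), (134, false, 7), (149, false, 9), (133, false, 8), (118, false, 7),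 (150, false, 10), (134, false, 9), (119, false, 8), (152, false, 9), (165, false, 9), (132, false, 8), (103, false, 7), (104, false, 8), (149, false, 10), (133, false, 9), (118, false, 8), (150, false, 11), (134, false, 10), (119, false, 9), (152, false, 10), (166, false, 10), (133, false, 9), (104, false, 8), (169, false, 9), (170, false, 10), (143, false, 9), (127, false, 8), (85, false, 7), (73, false, 6), (52, false, 5), (43, false, 4), (35, false, 3), (99, false, 3), (150, false, 5), (119, false, 4), (152, false, 4), (162, false, 4), (168, false, 8), (151, false, 7), (169, false, 9), (152, false, 8), (164, false, 8), (131, false, 7), (116, false, 6), (102, false, 5), (149, false, 7), (118, false, 6), (152, false, 8), (133, false, 8), (118, false, 7), (104, false, 6), (134, false, 7), (119, false, 6), (166, false, 8), (149, false, 7), (133, false, 6), (170, false, 9), (148, false, 8), (132, false, 7), (103, false, 6), (104, false, 7), (152, false, 9), (134, false, 8), (119, false, 7), (149, false, 8), (133, false, 7), (150, false, 9), (134, false, 8), (151, false, 10), (135, false, 9), (152, false, 9), (145, false, 9), (114, false, 8), (100, false, 7), (87, false, 6), (75, false, 5), (54, false, 4), (148,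 false, 7), (117, false, 6), (103, false, 5), (149, false, 8), (118, false, 7), (104, false, 6), (150, false, 7), (119, false, 6), (152, false, 6), (150, false, 7), (119, false, 6), (149, false, 6), (150, false, 7), (147, false, 8), (116, false, 7), (102, false, 6), (89, false, 5), (77, false, 4), (149, false, 6), (118, false, 5), (152, false, 7), (151, false, 7), (159, false, 9), (142, false, 8), (126, false, 7), (111, false, 6), (97, false, 5), (84, false, 4), (42, false, 3), (148, false, 5), (149, false, 6), (152, false, 7), (104, false, 6), (151, false, 7), (149, false, 8), (133, false, 7), (104, false, 6), (150, false, 7), (134, false, 6), (160, false, 9), (143, false, 8), (127, false, 7), (112, false, 6), (85, false, 5), (43, false, 4), (165, false, 8), (148, false, 7), (117, false, 6), (149, false, 8), (118, false, 7), (150, false, 9), (119, false, 8), (152, false, 8), (167, false, 8), (169, false, 9), (167, false, 10), (150, false, 9), (119, false, 8), (166, false, 9), (149, false, 8), (104, false, 7), (167, false, 8), (150, false, 7), (168, false, 9), (151, false, 8), (169, false, 10), (152, false, 9), (169, false, 9), (166, false, 10), (149, false, 9), (133, false, 8), (118, false, 7), (167, false, 11),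 (150, false, 10), (134, false, 9), (119, false, 8), (169, false, 10), (152, false, 9), (170, false, 9), (132, false, 8), (103, false, 7), (90, false, 6), (149, false, 8), (118, false, 7), (104, false, 6), (149, false, 7), (118, false, 6), (150, false, 8), (119, false, 7), (151, false, 7), (152, false, 8), (133, false, 7), (104, false, 6), (135, false, 6), (54, false, 6), (168, false, 10), (151, false, 9), (169, false, 11), (152, false, 10), (170, false, 10), (133, false, 9), (104, false, 8), (135, false, 8), (158, false, 8), (83, false, 7), (71, false, 6), (41, false, 5), (33, false, 4), (26, false, 3), (142, false, 9), (84, false, 8), (72, false, 7), (51, false, 6), (42, false, 5), (34, false, 4), (161, false, 9), (128, false, 8), (113, false, 7), (99, false, 6), (150, false, 8), (119, false, 7), (151, false, 7), (149, false, 8), (133, false, 7), (150, false, 9), (134, false, 8), (152, false, 10), (169, false, 10), (162, false, 11), (145, false, 10), (129, false, 9), (114, false, 8), (100, false, 7), (150, false, 9), (119, false, 8), (149, false, 8), (150, false, 9), (151, false, 10), (152, false, 11), (133, false, 10), (118, false, 9), (104, false, 8), (134, false, 9), (119, false, 8), (133, false, 8), (134,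 false, 9), (166, false, 12), (149, false, 11), (133, false, 10), (118, false, 9), (104, false, 8), (168, false, 11), (151, false, 10), (135, false, 9), (169, false, 10), (152, false, 9), (170, false, 9), (116, false, 8), (149, false, 10), (104, false, 9), (150, false, 9), (151, false, 10), (148, false, 11), (132, false, 10), (117, false, 9), (118, false, 10), (119, false, 11), (152, false, 12), (133, false, 11), (104, false, 10), (149, false, 11), (133, false, 10), (150, false, 12), (134, false, 11), (144, false, 13), (128, false, 12), (113, false, 11), (99, false, 10), (86, false, 9), (74, false, 8), (53, false, 7), (44, false, 6), (145, false, 7), (100, false, 6), (149, false, 8), (118, false, 7), (150, false, 9), (119, false, 8), (150, false, 8), (152, false, 9), (164, false, 9), (116, false, 8), (102, false, 7), (149, false, 9), (118, false, 8), (152, false, 10), (118, false, 9), (104, false, 8), (119, false, 8), (167, false, 9), (150, false, 8), (168, false, 10), (151, false, 9), (170, false, 11), (148, false, 10), (132, false, 9), (117, false, 8), (118, false, 9), (119, false, 10), (152, false, 11), (133, false, 10), (104, false, 9), (135, false, 9), (167, false, 9), (169, false, 10), (167, false, 11),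 (150, false, 10), (119, false, 9), (168, false, 10), (151, false, 9), (166, false, 11), (149, false, 10), (133, false, 9), (167, false, 12), (150, false, 11), (134, false, 10), (165, false, 13), (148, false, 12), (132, false, 11), (117, false, 10), (103, false, 9), (90, false, 8), (149, false, 10), (118, false, 9), (104, false, 8), (150, false, 9), (119, false, 8), (149, false, 8), (150, false, 9), (151, false, 10), (152, false, 11), (149, false, 11), (133, false, 10), (118, false, 9), (104, false, 8), (150, false, 10), (134, false, 9), (119, false, 8), (152, false, 9), (167, false, 9), (134, false, 8), (168, false, 10), (135, false, 9), (169, false, 9), (170, false, 10), (144, false, 9), (113, false, 8), (74, false, 7), (53, false, 6), (164, false, 10), (147, false, 9), (116, false, 8), (152, false, 10), (104, false, 9), (167, false, 11), (150, false, 10), (119, false, 9), (168, false, 10), (151, false, 9), (170, false, 11), (150, false, 10), (134, false, 9), (149, false, 11), (133, false, 10), (118, false, 9), (150, false, 12), (134, false, 11), (119, false, 10), (145, false, 11), (129, false, 10), (100, false, 9), (75, false, 8), (54, false, 7), (150, false, 10), (119, false, 9), (152, false, 9), (104, false,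 8), (149, false, 10), (133, false, 9), (118, false, 8), (150, false, 11), (134, false, 10), (119, false, 9), (151, false, 10), (135, false, 9), (164, false, 10), (147, false, 9), (102, false, 8), (77, false, 7), (152, false, 8), (118, false, 7), (119, false, 8), (166, false, 9), (149, false, 8), (104, false, 7), (168, false, 8), (151, false, 7), (169, false, 9), (152, false, 8), (170, false, 8), (131, false, 7), (132, false, 8), (152, false, 12), (135, false, 11), (159, false, 12), (142, false, 11), (111, false, 10), (97, false, 9), (84, false, 8), (72, false, 7), (42, false, 6), (34, false, 5), (27, false, 4), (160, false, 4), (166, false, 8), (149, false, 7), (118, false, 6), (104, false, 5), (167, false, 7), (150, false, 6), (119, false, 5), (168, false, 6), (151, false, 5), (170, false, 7), (144, false, 6), (128, false, 5), (133, false, 6), (134, false, 7), (147, false, 9), (131, false, 8), (116, false, 7), (102, false, 6), (149, false, 8), (118, false, 7), (152, false, 9), (149, false, 10), (133, false, 9), (118, false, 8), (104, false, 7), (150, false, 9), (134, false, 8), (119, false, 7), (151, false, 8), (135, false, 7), (148, false, 7), (149, false, 8), (152, false, 9), (104, false, 8), (149, false,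 9), (104, false, 8), (150, false, 8), (160, false, 10), (143, false, 9), (112, false, 8), (85, false, 7), (73, false, 6), (43, false, 5), (35, false, 4), (99, false, 4), (150, false, 6), (119, false, 5), (152, false, 5), (164, false, 5), (166, false, 9), (149, false, 8), (118, false, 7), (104, false, 6), (170, false, 8), (148, false, 7), (117, false, 6), (150, false, 8), (119, false, 7), (152, false, 7), (149, false, 8), (118, false, 7), (150, false, 9), (119, false, 8), (152, false, 8), (161, false, 8), (99, false, 7), (86, false, 6), (74, false, 5), (44, false, 4), (147, false, 5), (102, false, 4), (152, false, 6), (119, false, 5), (165, false, 6), (132, false, 5), (149, false, 9), (133, false, 8), (118, false, 7), (104, false, 6), (150, false, 8), (134, false, 7), (119, false, 6), (152, false, 7), (166, false, 7), (133, false, 6), (168, false, 8), (135, false, 7), (170, false, 7), (149, false, 8), (118, false, 7), (104, false, 6), (150, false, 7), (119, false, 6), (152, false, 6), (162, false, 6), (87, false, 5), (75, false, 4), (148, false, 8), (117, false, 7), (103, false, 6), (149, false, 9), (118, false, 8), (104, false, 7), (150, false, 8), (119, false, 7), (152, false, 7), (163, false, 10), (146, false,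 9), (115, false, 8), (101, false, 7), (88, false, 6), (76, false, 5), (149, false, 10), (118, false, 9), (104, false, 8), (150, false, 9), (119, false, 8), (152, false, 8), (164, false, 8), (89, false, 7), (77, false, 6), (166, false, 10), (149, false, 9), (118, false, 8), (104, false, 7), (167, false, 9), (150, false, 8), (119, false, 7), (170, false, 8), (142, false, 7), (84, false, 6), (61, false, 5), (51, false, 4), (163, false, 9), (146, false, 8), (130, false, 7), (101, false, 6), (104, false, 7), (152, false, 9), (166, false, 9), (133, false, 8), (118, false, 7), (165, false, 10), (132, false, 9), (117, false, 8), (103, false, 7), (118, false, 9), (104, false, 8), (119, false, 8), (149, false, 9), (133, false, 8), (150, false, 10), (134, false, 9), (152, false, 11), (166, false, 11), (133, false, 10), (118, false, 9), (104, false, 8), (169, false, 10), (166, false, 11), (149, false, 10), (133, false, 9), (118, false, 8), (167, false, 12), (150, false, 11), (134, false, 10), (119, false, 9), (160, false, 11), (143, false, 10), (127, false, 9), (98, false, 8), (85, false, 7), (62, false, 6), (52, false, 5), (146, false, 8), (130, false, 7), (152, false, 11), (148, false, 11), (132, false, 10), (117, false,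 9), (103, false, 8), (118, false, 10), (104, false, 9), (119, false, 9), (152, false, 10), (134, false, 9), (149, false, 11), (133, false, 10), (118, false, 9), (149, false, 12), (133, false, 11), (118, false, 10), (104, false, 9), (150, false, 11), (134, false, 10), (119, false, 9), (151, false, 10), (135, false, 9), (152, false, 9), (149, false, 9), (150, false, 10), (152, false, 11), (161, false, 11), (113, false, 10), (99, false, 9), (86, false, 8), (63, false, 7), (53, false, 6), (163, false, 10), (146, false, 9), (115, false, 8), (166, false, 11), (149, false, 10), (118, false, 9), (167, false, 12), (150, false, 11), (119, false, 10), (170, false, 11), (148, false, 10), (103, false, 9), (149, false, 11), (104, false, 10), (151, false, 10), (167, false, 12), (150, false, 11), (134, false, 10), (169, false, 13), (152, false, 12), (167, false, 12), (134, false, 11), (119, false, 10), (166, false, 11), (133, false, 10), (167, false, 12), (134, false, 11), (169, false, 13), (170, false, 14), (147, false, 13), (131, false, 12), (116, false, 11), (102, false, 10), (89, false, 9), (149, false, 12), (118, false, 11), (152, false, 13), (148, false, 14), (132, false, 13), (117, false, 12), (103, false, 11), (90, false,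 10), (149, false, 12), (118, false, 11), (104, false, 10), (150, false, 11), (119, false, 10), (149, false, 10), (150, false, 11), (151, false, 12), (152, false, 13), (150, false, 13), (134, false, 12), (119, false, 11), (151, false, 12), (135, false, 11), (152, false, 11), (161, false, 11), (99, false, 10), (74, false, 9), (63, false, 8), (53, false, 7), (44, false, 6), (145, false, 7), (100, false, 6), (149, false, 8), (118, false, 7), (150, false, 9), (119, false, 8), (150, false, 8), (152, false, 9), (163, false, 9), (115, false, 8), (101, false, 7), (166, false, 10), (118, false, 9), (104, false, 8), (167, false, 9), (119, false, 8), (170, false, 8), (167, false, 11), (134, false, 10), (119, false, 9), (169, false, 10), (166, false, 11), (149, false, 10), (133, false, 9), (167, false, 12), (150, false, 11), (134, false, 10), (169, false, 13), (152, false, 12), (170, false, 12), (129, false, 11), (114, false, 10), (100, false, 9), (75, false, 8), (64, false, 7), (54, false, 6), (150, false, 10), (119, false, 9), (152, false, 9), (118, false, 9), (104, false, 8), (119, false, 8), (146, false, 9), (130, false, 8), (76, false, 7), (65, false, 6), (152, false, 10), (135, false, 9)])]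

def p2Eqs : List (List ℕ × List Step × List Step) :=
  p2Eqs_0 ++ p2Eqs_1 ++ p2Eqs_2 ++ p2Eqs_3 ++ p2Eqs_4 ++ p2Eqs_5 ++ p2Eqs_6 ++ p2Eqs_7 ++ p2Eqs_8 ++ p2Eqs_9 ++ p2Eqs_10 ++ p2Eqs_11 ++ p2Eqs_12 ++ p2Eqs_13 ++ p2Eqs_14 ++ p2Eqs_15 ++ p2Eqs_16 ++ p2Eqs_17 ++ p2Eqs_18

def p2D_0 : List (List ℕ) :=
  [[0, 0, 0, 0, 0, 0, 0, 0, 0, 0, 0, 0, 0, 0, 0, 0, 0, 0, 0, 0, 0, 0, 0, 0, 0, 0, 0, 0, 0, 0, 0, 0, 0, 0, 0, 0, 0, 0, 0, 0, 0, 0, 0, 0, 0, 0, 0, 0, 0, 0, 0, 0, 0, 0, 0, 0, 0, 0, 0, 0, 0, 0, 0, 0, 0, 0, 0, 0, 0, 0, 0, 0, 0, 0, 0, 0, 0, 0, 0, 0, 0, 0, 0, 0, 0, 0, 0, 0, 0, 0, 0, 0, 0, 0, 0, 0, 0, 0, 0, 0, 0, 0, 0, 0, 0, 0, 0, 0, 0, 0, 0, 0, 0, 0, 0, 0, 0, 0, 0, 0, 0, 0, 0, 0, 0, 0, 0, 0, 0, 0, 0, 0, 0, 0, 0, 0, 0, 0, 0, 0, 0, 0, 0, 0, 0, 0, 0, 0, 0, 0, 0, 0, 0, 0, 0, 0, 0, 0, 0, 0, 0, 0, 0, 0, 0, 0, 0, 0, 0, 0, 0, 0, 0, 0, 0, 0, 0, 0, 0, 0, 0, 0, 0, 0, 0, 0, 0, 0, 0, 0, 0, 0, 0, 0, 0, 0, 0, 0, 0, 0, 0, 0, 0, 0, 0, 0, 0, 0, 0, 0, 0, 0, 0, 0, 0, 0, 0, 0, 0, 0, 0, 0, 0, 0, 0, 0, 0, 0],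
   [0, 0, 0, 0, 0, 0, 0, 0, 0, 0, 0, 0, 0, 0, 0, 0, 0, 0, 0, 0, 0, 0, 0, 0, 0, 0, 0, 0, 0, 0, 0, 0, 0, 0, 0, 0, 0, 0, 0, 0, 0, 0, 0, 0, 0, 0, 0, 0, 0, 0, 0, 0, 0, 0, 0, 0, 0, 0, 0, 0, 0, 0, 0, 0, 0, 0, 0, 0, 0, 0, 0, 0, 0, 0, 0, 0, 0, 0, 0, 0, 0, 0, 0, 0, 0, 0, 0, 0, 0, 0, 0, 0, 0, 0, 0, 0, 0, 0, 0, 0, 0, 0, 0, 0, 0, 0, 0, 0, 0, 0, 0, 0, 0, 0, 0, 0, 0, 0, 0, 0, 0, 0, 0, 0, 0, 0, 0, 0, 0, 0, 0, 0, 0, 0, 0, 0, 0, 0, 0, 0, 0, 0, 0, 0, 0, 0, 0, 0, 0, 0, 0, 0, 0, 0, 0, 0, 0, 0, 0, 0, 0, 0, 0, 0, 0, 0, 0, 0, 0, 0, 0, 0, 0, 0, 0, 0, 0, 0, 0, 0, 0, 0, 0, 0, 0, 0, 0, 0, 0, 0, 0, 0, 0, 0, 0, 0, 0, 0, 0, 0, 0, 0, 0, 0, 0, 0, 0, 0, 0, 0, 0, 0, 0, 0, 0, 0, 0, 0, 0, 0, 0, 0, 0, 0, 0, 0, 0, 0],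
   [0, 0, 0, 0, 0, 0, 0, 1, 0, 0, 0, 0, 0, 0, 0, 0, 0, 0, 0, 0, 0, 0, 0, 0, 0, 0, 0, 0, 0, 0, 0, 0, 0, 0, 0, 0, 0, 0, 0, 0, 0, 0, 0, 0, 0, 0, 0, 0, 0, 0, 0, 0, 0, 0, 0, 0, 0, 0, 0, 0, 0, 0, 0, 0, 0, 0, 0, 0, 0, 0, 0, 0, 0, 0, 0, 0, 0, 0, 0, 0, 0, 0, 0, 0, 0, 0, 0, 0, 0, 0, 0, 0, 0, 0, 0, 0, 0, 0, 0, 0, 0, 0, 0, 0, 0, 0, 0, 0, 0, 0, 0, 0, 0, 0, 0, 0, 0, 0, 0, 0, 0, 0, 0, 0, 0, 0, 0, 0, 0, 0, 0, 0, 0, 0, 0, 0, 0, 0, 0, 0, 0, 0, 0, 0, 0, 0, 0, 0, 0, 0, 0, 0, 0, 0, 0, 0, 0, 0, 0, 0, 0, 0, 0, 0, 0, 0, 0, 0, 0, 0, 0, 0, 0, 0, 0, 0, 0, 0, 0, 0, 0, 0, 0, 0, 0, 0, 0, 0, 0, 0, 0, 0, 0, 0, 0, 0, 0, 0, 0, 1, 0, 0, 0, 0, 0, 0, 0, 1, 0, 0, 0, 0, 0, 1, 1, 0, 0, 0, 0, 0, 0, 1, 0, 0, 0, 1, 0, 0],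
   [0, 0, 0, 0, 0, 0, 0, 0, 0, 0, 0, 0, 0, 0, 0, 0, 0, 0, 0, 0, 0, 0, 0, 0, 0, 0, 0, 0, 0, 0, 0, 0, 0, 0, 0, 0, 0, 0, 0, 0, 0, 0, 0, 0, 0, 0, 0, 0, 0, 0, 0, 0, 0, 0, 0, 0, 0, 0, 0, 0, 0, 0, 0, 0, 0, 0, 0, 0, 0, 0, 0, 0, 0, 0, 0, 0, 0, 0, 0, 0, 0, 0, 0, 0, 0, 0, 0, 0, 0, 0, 0, 0, 0, 0, 0, 0, 0, 0, 0, 0, 0, 0, 0, 0, 0, 0, 0, 0, 0, 0, 0, 0, 0, 0, 0, 0, 0, 0, 0, 0, 0, 0, 0, 0, 0, 0, 0, 0, 0, 0, 0, 0, 0, 0, 0, 0, 0, 0, 0, 0, 0, 0, 0, 0, 0, 0, 0, 0, 0, 0, 0, 0, 0, 0, 0, 0, 0, 0, 0, 0, 0, 0, 0, 0, 0, 0, 0, 0, 0, 0, 0, 0, 0, 0, 0, 0, 0, 0, 0, 0, 0, 0, 0, 0, 0, 0, 0, 0, 0, 0, 0, 0, 0, 0, 0, 0, 0, 0, 0, 0, 0, 0, 0, 0, 0, 0, 0, 0, 0, 0, 0, 0, 0, 0, 0, 0, 0, 0, 0, 0, 0, 0, 0, 0, 0, 0, 0, 0],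
   [0, 0, 0, 0, 0, 0, 0, 0, 0, 0, 0, 0, 0, 0, 0, 0, 0, 0, 0, 0, 0, 0, 0, 0, 0, 0, 0, 0, 0, 0, 0, 0, 0, 0, 0, 0, 0, 0, 0, 0, 0, 0, 0, 0, 0, 0, 0, 0, 0, 0, 0, 0, 0, 0, 0, 0, 0, 0, 0, 0, 0, 0, 0, 0, 0, 0, 0, 0, 0, 0, 0, 0, 0, 0, 0, 0, 0, 0, 0, 0, 0, 0, 0, 0, 0, 0, 0, 0, 0, 0, 0, 0, 0, 0, 0, 0, 0, 0, 0, 0, 0, 0, 0, 0, 0, 0, 0, 0, 0, 0, 0, 0, 0, 0, 0, 0, 0, 0, 0, 0, 0, 0, 0, 0, 0, 0, 0, 0, 0, 0, 0, 0, 0, 0, 0, 0, 0, 0, 0, 0, 0, 0, 0, 0, 0, 0, 0, 0, 0, 0, 0, 0, 0, 0, 0, 0, 0, 0, 0, 0, 0, 0, 0, 0, 0, 0, 0, 0, 0, 0, 0, 0, 0, 0, 0, 0, 0, 0, 0, 0, 0, 0, 0, 0, 0, 0, 0, 0, 0, 0, 0, 0, 0, 0, 0, 0, 0, 0, 0, 0, 0, 0, 0, 0, 0, 0, 0, 0, 0, 0, 0, 0, 0, 0, 0, 0, 0, 0, 0, 0, 0, 0, 0, 0, 0, 0, 0, 0]]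

def p2D_1 : List (List ℕ) :=
  [[0, 0, 0, 0, 0, 0, 0, 0, 0, 0, 0, 0, 0, 0, 0, 0, 0, 0, 0, 0, 0, 0, 0, 0, 0, 0, 0, 0, 0, 0, 0, 0, 0, 0, 0, 0, 0, 0, 0, 0, 0, 0, 0, 0, 0, 0, 0, 0, 0, 0, 0, 0, 0, 0, 0, 0, 0, 0, 0, 0, 0, 0, 0, 0, 0, 0, 0, 0, 0, 0, 0, 0, 0, 0, 0, 0, 0, 0, 0, 0, 0, 0, 0, 0, 0, 0, 0, 0, 0, 0, 0, 0, 0, 0, 0, 0, 0, 0, 0, 0, 0, 0, 0, 0, 0, 0, 0, 0, 0, 0, 0, 0, 0, 0, 0, 0, 0, 0, 0, 0, 0, 0, 0, 0, 0, 0, 0, 0, 0, 0, 0, 0, 0, 0, 0, 0, 0, 0, 0, 0, 0, 0, 0, 0, 0, 0, 0, 0, 0, 0, 0, 0, 0, 0, 0, 0, 0, 0, 0, 0, 0, 0, 0, 0, 0, 0, 0, 0, 0, 0, 0, 0, 0, 0, 0, 0, 0, 0, 0, 0, 0, 0, 0, 0, 0, 0, 0, 0, 0, 0, 0, 0, 0, 0, 0, 0, 0, 0, 0, 0, 0, 0, 0, 0, 0, 0, 0, 0, 0, 0, 0, 0, 0, 1, 0, 0, 0, 0, 0, 0, 0, 1, 0, 1, 0, 0, 1, 1],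
   [0, 0, 0, 0, 0, 0, 0, 0, 0, 0, 0, 0, 0, 0, 0, 0, 0, 0, 0, 0, 0, 0, 0, 0, 0, 0, 0, 0, 0, 0, 0, 0, 0, 0, 0, 0, 0, 0, 0, 0, 0, 0, 0, 0, 0, 0, 0, 0, 0, 0, 0, 0, 0, 0, 0, 0, 0, 0, 0, 0, 0, 0, 0, 0, 0, 0, 0, 0, 0, 0, 0, 0, 0, 0, 0, 0, 0, 0, 0, 0, 0, 0, 0, 0, 0, 0, 0, 0, 0, 0, 0, 0, 0, 0, 0, 0, 0, 0, 0, 0, 0, 0, 0, 0, 0, 0, 0, 0, 0, 0, 0, 0, 0, 0, 0, 0, 0, 0, 0, 0, 0, 0, 0, 0, 0, 0, 0, 0, 0, 0, 0, 0, 0, 0, 0, 0, 0, 0, 0, 0, 0, 0, 0, 0, 0, 0, 0, 0, 0, 0, 0, 0, 0, 0, 0, 0, 0, 0, 0, 0, 0, 0, 0, 0, 0, 0, 0, 0, 0, 0, 0, 0, 0, 0, 0, 0, 0, 0, 0, 0, 0, 0, 0, 0, 0, 0, 0, 0, 0, 0, 0, 0, 0, 0, 0, 0, 0, 0, 0, 1, 0, 0, 0, 0, 0, 0, 0, 1, 0, 0, 0, 0, 0, 1, 1, 0, 0, 0, 0, 0, 0, 0, 0, 0, 0, 1, 1, 1],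
   [0, 0, 0, 0, 0, 0, 0, 0, 0, 0, 0, 0, 0, 0, 0, 0, 0, 0, 0, 0, 0, 0, 0, 0, 0, 0, 0, 0, 0, 0, 0, 0, 0, 0, 0, 0, 0, 0, 0, 0, 0, 0, 0, 0, 0, 0, 0, 0, 0, 0, 0, 0, 0, 0, 0, 0, 0, 0, 0, 0, 0, 0, 0, 0, 0, 0, 0, 0, 0, 0, 0, 0, 0, 0, 0, 0, 0, 0, 0, 0, 0, 0, 0, 0, 0, 0, 0, 0, 0, 0, 0, 0, 0, 0, 0, 0, 0, 0, 0, 0, 0, 0, 0, 0, 0, 0, 0, 0, 0, 0, 0, 0, 0, 0, 0, 0, 0, 0, 0, 0, 0, 0, 0, 0, 0, 0, 0, 0, 0, 0, 0, 0, 0, 0, 0, 0, 0, 0, 0, 0, 0, 0, 0, 0, 0, 0, 0, 0, 0, 0, 0, 0, 0, 0, 0, 0, 0, 0, 0, 0, 0, 0, 0, 0, 0, 0, 0, 0, 0, 0, 0, 0, 0, 0, 0, 0, 0, 0, 0, 0, 0, 0, 0, 0, 0, 0, 0, 0, 0, 0, 0, 0, 0, 0, 0, 0, 0, 0, 0, 1, 0, 0, 0, 0, 0, 0, 1, 0, 0, 0, 0, 0, 1, 0, 1, 0, 0, 0, 0, 0, 1, 1, 0, 0, 0, 0, 1, 1],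
   [0, 0, 0, 0, 0, 0, 0, 0, 0, 0, 0, 0, 0, 0, 0, 0, 0, 0, 0, 0, 0, 0, 0, 0, 0, 0, 0, 0, 0, 0, 0, 0, 0, 0, 0, 0, 0, 0, 0, 0, 0, 0, 0, 0, 0, 0, 0, 0, 0, 0, 0, 0, 0, 0, 0, 0, 0, 0, 0, 0, 0, 0, 0, 0, 0, 0, 0, 0, 0, 0, 0, 0, 0, 0, 0, 0, 0, 0, 0, 0, 0, 0, 0, 0, 0, 0, 0, 0, 0, 0, 0, 0, 0, 0, 0, 0, 0, 0, 0, 0, 0, 0, 0, 0, 0, 0, 0, 0, 0, 0, 0, 0, 0, 0, 0, 0, 0, 0, 0, 0, 0, 0, 0, 0, 0, 0, 0, 0, 0, 0, 0, 0, 0, 0, 0, 0, 0, 0, 0, 0, 0, 0, 0, 0, 0, 0, 0, 0, 0, 0, 0, 0, 0, 0, 0, 0, 0, 0, 0, 0, 0, 0, 0, 0, 0, 0, 0, 0, 0, 0, 0, 0, 0, 0, 0, 0, 0, 0, 0, 0, 0, 0, 0, 0, 0, 0, 0, 0, 0, 0, 0, 0, 0, 0, 0, 0, 0, 0, 0, 0, 0, 0, 0, 0, 0, 0, 0, 1, 0, 0, 0, 0, 0, 0, 1, 0, 0, 0, 0, 0, 0, 0, 0, 0, 0, 0, 1, 0],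
   [0, 0, 0, 0, 0, 0, 0, 0, 0, 0, 0, 0, 0, 0, 0, 0, 0, 0, 0, 0, 0, 0, 0, 0, 0, 0, 0, 0, 0, 0, 0, 0, 0, 0, 0, 0, 0, 0, 0, 0, 0, 0, 0, 0, 0, 0, 0, 0, 0, 0, 0, 0, 0, 0, 0, 0, 0, 0, 0, 0, 0, 0, 0, 0, 0, 0, 0, 0, 0, 0, 0, 0, 0, 0, 0, 0, 0, 0, 0, 0, 0, 0, 0, 0, 0, 0, 0, 0, 0, 0, 0, 0, 0, 0, 0, 0, 0, 0, 0, 0, 0, 0, 0, 0, 0, 0, 0, 0, 0, 0, 0, 0, 0, 0, 0, 0, 0, 0, 0, 0, 0, 0, 0, 0, 0, 0, 0, 0, 0, 0, 0, 0, 0, 0, 0, 0, 0, 0, 0, 0, 0, 0, 0, 0, 0, 0, 0, 0, 0, 0, 0, 0, 0, 0, 0, 0, 0, 0, 0, 0, 0, 0, 0, 0, 0, 0, 0, 0, 0, 0, 0, 0, 0, 0, 0, 0, 0, 0, 0, 0, 0, 0, 0, 0, 0, 0, 0, 0, 0, 0, 0, 0, 0, 0, 0, 0, 0, 0, 0, 0, 0, 0, 0, 0, 0, 0, 1, 0, 0, 0, 0, 0, 1, 0, 1, 0, 0, 0, 0, 0, 1, 1, 0, 0, 1, 1, 1, 0]]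

def p2D_2 : List (List ℕ) :=
  [[0, 0, 0, 0, 0, 0, 0, 0, 0, 0, 0, 0, 0, 0, 0, 0, 0, 0, 0, 0, 0, 0, 0, 0, 0, 0, 0, 0, 0, 0, 0, 0, 0, 0, 0, 0, 0, 0, 0, 0, 0, 0, 0, 0, 0, 0, 0, 0, 0, 0, 0, 0, 0, 0, 0, 0, 0, 0, 0, 0, 0, 0, 0, 0, 0, 0, 0, 0, 0, 0, 0, 0, 0, 0, 0, 0, 0, 0, 0, 0, 0, 0, 0, 0, 0, 0, 0, 0, 0, 0, 0, 0, 0, 0, 0, 0, 0, 0, 0, 0, 0, 0, 0, 0, 0, 0, 0, 0, 0, 0, 0, 0, 0, 0, 0, 0, 0, 0, 0, 0, 0, 0, 0, 0, 0, 0, 0, 0, 0, 0, 0, 0, 0, 0, 0, 0, 0, 0, 0, 0, 0, 0, 0, 0, 0, 0, 0, 0, 0, 0, 0, 0, 0, 0, 0, 0, 0, 0, 0, 0, 0, 0, 0, 0, 0, 0, 0, 0, 0, 0, 0, 0, 0, 0, 0, 0, 0, 0, 0, 0, 0, 0, 0, 0, 0, 0, 0, 0, 0, 0, 0, 0, 0, 0, 0, 0, 0, 0, 0, 0, 0, 0, 0, 0, 0, 0, 1, 1, 0, 0, 0, 0, 0, 1, 1, 0, 0, 0, 0, 0, 1, 1, 0, 0, 1, 0, 1, 0],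
   [0, 0, 0, 0, 0, 0, 0, 0, 0, 0, 0, 0, 0, 0, 0, 0, 0, 0, 0, 0, 0, 0, 0, 0, 0, 0, 0, 0, 0, 0, 0, 0, 0, 0, 0, 0, 0, 0, 0, 0, 0, 0, 0, 0, 0, 0, 0, 0, 0, 0, 0, 0, 0, 0, 0, 0, 0, 0, 0, 0, 0, 0, 0, 0, 0, 0, 0, 0, 0, 0, 0, 0, 0, 0, 0, 0, 0, 0, 0, 0, 0, 0, 0, 0, 0, 0, 0, 0, 0, 0, 0, 0, 0, 0, 0, 0, 0, 0, 0, 0, 0, 0, 0, 0, 0, 0, 0, 0, 0, 0, 0, 0, 0, 0, 0, 0, 0, 0, 0, 0, 0, 0, 0, 0, 0, 0, 0, 0, 0, 0, 0, 0, 0, 0, 0, 0, 0, 0, 0, 0, 0, 0, 0, 0, 0, 0, 0, 0, 0, 0, 0, 0, 0, 0, 0, 0, 0, 0, 0, 0, 0, 0, 0, 0, 0, 0, 0, 0, 0, 0, 0, 0, 0, 0, 0, 0, 0, 0, 0, 0, 0, 0, 0, 0, 0, 0, 0, 0, 0, 0, 0, 0, 0, 0, 0, 0, 0, 0, 0, 1, 0, 0, 0, 0, 0, 0, 0, 0, 0, 0, 0, 0, 0, 1, 0, 0, 0, 0, 0, 0, 0, 0, 0, 1, 1, 1, 0, 0],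
   [0, 0, 0, 0, 0, 0, 0, 0, 0, 0, 0, 0, 0, 0, 0, 0, 0, 0, 0, 0, 0, 0, 0, 0, 0, 0, 0, 0, 0, 0, 0, 0, 0, 0, 0, 0, 0, 0, 0, 0, 0, 0, 0, 0, 0, 0, 0, 0, 0, 0, 0, 0, 0, 0, 0, 0, 0, 0, 0, 0, 0, 0, 0, 0, 0, 0, 0, 0, 0, 0, 0, 0, 0, 0, 0, 0, 0, 0, 0, 0, 0, 0, 0, 0, 0, 0, 0, 0, 0, 0, 0, 0, 0, 0, 0, 0, 0, 0, 0, 0, 0, 0, 0, 0, 0, 0, 0, 0, 0, 0, 0, 0, 0, 0, 0, 0, 0, 0, 0, 0, 0, 0, 0, 0, 0, 0, 0, 0, 0, 0, 0, 0, 0, 0, 0, 0, 0, 0, 0, 0, 0, 0, 0, 0, 0, 0, 0, 0, 0, 0, 0, 0, 0, 0, 0, 0, 0, 0, 0, 0, 0, 0, 0, 0, 0, 0, 0, 0, 0, 0, 0, 0, 0, 0, 0, 0, 0, 0, 0, 0, 0, 0, 0, 0, 0, 0, 0, 0, 0, 0, 0, 0, 0, 0, 0, 0, 0, 0, 0, 0, 0, 0, 0, 0, 0, 0, 0, 0, 0, 0, 0, 0, 0, 0, 0, 0, 0, 0, 0, 0, 0, 0, 0, 0, 0, 0, 0, 0],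
   [0, 0, 0, 0, 0, 0, 0, 0, 0, 0, 0, 0, 0, 0, 0, 0, 0, 0, 0, 0, 0, 0, 0, 0, 0, 0, 0, 0, 0, 0, 0, 0, 0, 0, 0, 0, 0, 0, 0, 0, 0, 0, 0, 0, 0, 0, 0, 0, 0, 0, 0, 0, 0, 0, 0, 0, 0, 0, 0, 0, 0, 0, 0, 0, 0, 0, 0, 0, 0, 0, 0, 0, 0, 0, 0, 0, 0, 0, 0, 0, 0, 0, 0, 0, 0, 0, 0, 0, 0, 0, 0, 0, 0, 0, 0, 0, 0, 0, 0, 0, 0, 0, 0, 0, 0, 0, 0, 0, 0, 0, 0, 0, 0, 0, 0, 0, 0, 0, 0, 0, 0, 0, 0, 0, 0, 0, 0, 0, 0, 0, 0, 0, 0, 0, 0, 0, 0, 0, 0, 0, 0, 0, 0, 0, 0, 0, 0, 0, 0, 0, 0, 0, 0, 0, 0, 0, 0, 0, 0, 0, 0, 0, 0, 0, 0, 0, 0, 0, 0, 0, 0, 0, 0, 0, 0, 0, 0, 0, 0, 0, 0, 0, 0, 0, 0, 0, 0, 0, 0, 0, 0, 0, 0, 0, 0, 0, 0, 0, 0, 1, 0, 0, 0, 0, 0, 0, 1, 0, 0, 0, 0, 0, 0, 1, 0, 0, 0, 0, 0, 0, 1, 1, 0, 0, 1, 1, 1, 0],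
   [0, 0, 0, 0, 0, 0, 0, 0, 0, 0, 0, 0, 0, 0, 0, 0, 0, 0, 0, 0, 0, 0, 0, 0, 0, 0, 0, 0, 0, 0, 0, 0, 0, 0, 0, 0, 0, 0, 0, 0, 0, 0, 0, 0, 0, 0, 0, 0, 0, 0, 0, 0, 0, 0, 0, 0, 0, 0, 0, 0, 0, 0, 0, 0, 0, 0, 0, 0, 0, 0, 0, 0, 0, 0, 0, 0, 0, 0, 0, 0, 0, 0, 0, 0, 0, 0, 0, 0, 0, 0, 0, 0, 0, 0, 0, 0, 0, 0, 0, 0, 0, 0, 0, 0, 0, 0, 0, 0, 0, 0, 0, 0, 0, 0, 0, 0, 0, 0, 0, 0, 0, 0, 0, 0, 0, 0, 0, 0, 0, 0, 0, 0, 0, 0, 0, 0, 0, 0, 0, 0, 0, 0, 0, 0, 0, 0, 0, 0, 0, 0, 0, 0, 0, 0, 0, 0, 0, 0, 0, 0, 0, 0, 0, 0, 0, 0, 0, 0, 0, 0, 0, 0, 0, 0, 0, 0, 0, 0, 0, 0, 0, 0, 0, 0, 0, 0, 0, 0, 0, 0, 0, 0, 0, 0, 0, 0, 0, 0, 0, 1, 0, 0, 0, 0, 0, 0, 1, 0, 0, 0, 0, 0, 0, 1, 0, 0, 0, 0, 0, 0, 1, 1, 0, 1, 0, 0, 1, 0]]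

def p2D_3 : List (List ℕ) :=
  [[0, 0, 0, 0, 0, 0, 0, 0, 0, 0, 0, 0, 0, 0, 0, 0, 0, 0, 0, 0, 0, 0, 0, 0, 0, 0, 0, 0, 0, 0, 0, 0, 0, 0, 0, 0, 0, 0, 0, 0, 0, 0, 0, 0, 0, 0, 0, 0, 0, 0, 0, 0, 0, 0, 0, 0, 0, 0, 0, 0, 0, 0, 0, 0, 0, 0, 0, 0, 0, 0, 0, 0, 0, 0, 0, 0, 0, 0, 0, 0, 0, 0, 0, 0, 0, 0, 0, 0, 0, 0, 0, 0, 0, 0, 0, 0, 0, 0, 0, 0, 0, 0, 0, 0, 0, 0, 0, 0, 0, 0, 0, 0, 0, 0, 0, 0, 0, 0, 0, 0, 0, 0, 0, 0, 0, 0, 0, 0, 0, 0, 0, 0, 0, 0, 0, 0, 0, 0, 0, 0, 0, 0, 0, 0, 0, 0, 0, 0, 0, 0, 0, 0, 0, 0, 0, 0, 0, 0, 0, 0, 0, 0, 0, 0, 0, 0, 0, 0, 0, 0, 0, 0, 0, 0, 0, 0, 0, 0, 0, 0, 0, 0, 0, 0, 0, 0, 0, 0, 0, 0, 0, 0, 0, 0, 0, 0, 0, 0, 0, 0, 0, 0, 0, 0, 0, 0, 0, 0, 0, 0, 0, 0, 1, 1, 1, 0, 0, 0, 0, 0, 0, 0, 0, 0, 0, 0, 0, 0],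
   [0, 0, 0, 0, 0, 0, 0, 0, 0, 0, 0, 0, 0, 0, 0, 0, 0, 0, 0, 0, 0, 0, 0, 0, 0, 0, 0, 0, 0, 0, 0, 0, 0, 0, 0, 0, 0, 0, 0, 0, 0, 0, 0, 0, 0, 0, 0, 0, 0, 0, 0, 0, 0, 0, 0, 0, 0, 0, 0, 0, 0, 0, 0, 0, 0, 0, 0, 0, 0, 0, 0, 0, 0, 0, 0, 0, 0, 0, 0, 0, 0, 0, 0, 0, 0, 0, 0, 0, 0, 0, 0, 0, 0, 0, 0, 0, 0, 0, 0, 0, 0, 0, 0, 0, 0, 0, 0, 0, 0, 0, 0, 0, 0, 0, 0, 0, 0, 0, 0, 0, 0, 0, 0, 0, 0, 0, 0, 0, 0, 0, 0, 0, 0, 0, 0, 0, 0, 0, 0, 0, 0, 0, 0, 0, 0, 0, 0, 0, 0, 0, 0, 0, 0, 0, 0, 0, 0, 0, 0, 0, 0, 0, 0, 0, 0, 0, 0, 0, 0, 0, 0, 0, 0, 0, 0, 0, 0, 0, 0, 0, 0, 0, 0, 0, 0, 0, 0, 0, 0, 0, 0, 0, 0, 0, 0, 0, 0, 0, 0, 1, 0, 0, 0, 0, 0, 0, 1, 0, 0, 0, 0, 0, 0, 1, 0, 0, 0, 0, 0, 0, 0, 0, 0, 0, 0, 0, 0, 0],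
   [0, 0, 0, 0, 0, 0, 0, 0, 0, 0, 0, 0, 0, 0, 0, 0, 0, 0, 0, 0, 0, 0, 0, 0, 0, 0, 0, 0, 0, 0, 0, 0, 0, 0, 0, 0, 0, 0, 0, 0, 0, 0, 0, 0, 0, 0, 0, 0, 0, 0, 0, 0, 0, 0, 0, 0, 0, 0, 0, 0, 0, 0, 0, 0, 0, 0, 0, 0, 0, 0, 0, 0, 0, 0, 0, 0, 0, 0, 0, 0, 0, 0, 0, 0, 0, 0, 0, 0, 0, 0, 0, 0, 0, 0, 0, 0, 0, 0, 0, 0, 0, 0, 0, 0, 0, 0, 0, 0, 0, 0, 0, 0, 0, 0, 0, 0, 0, 0, 0, 0, 0, 0, 0, 0, 0, 0, 0, 0, 0, 0, 0, 0, 0, 0, 0, 0, 0, 0, 0, 0, 0, 0, 0, 0, 0, 0, 0, 0, 0, 0, 0, 0, 0, 0, 0, 0, 0, 0, 0, 0, 0, 0, 0, 0, 0, 0, 0, 0, 0, 0, 0, 0, 0, 0, 0, 0, 0, 0, 0, 0, 0, 0, 0, 0, 0, 0, 0, 0, 0, 0, 0, 0, 0, 0, 0, 0, 0, 0, 0, 0, 0, 0, 0, 0, 0, 0, 0, 0, 0, 0, 0, 0, 0, 0, 0, 0, 0, 0, 0, 0, 0, 0, 0, 0, 0, 1, 0, 0]]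

def p2D : List (List ℕ) :=
  p2D_0 ++ p2D_1 ++ p2D_2 ++ p2D_3

def p2Sol_0 : List (ℕ × List (ℕ × ℕ)) :=
  [(0, [(0, 1), (3, 1), (4, 1), (5, 1), (12, 1), (14, 1), (16, 1), (18, 1), (19, 1), (24, 1), (25, 1), (27, 1), (29, 1), (33, 1), (34, 1), (35, 1), (36, 1), (39, 1), (41, 1), (43, 1), (44, 1), (45, 1), (47, 1), (48, 1), (49, 1), (51, 1), (53, 1), (55, 1), (59, 1), (60, 1), (63, 1), (64, 1), (65, 1), (67, 1), (68, 1), (69, 1), (72, 1), (73, 1), (75, 1), (79, 1), (86, 1), (87, 1), (89, 1), (92, 1), (97, 1), (101, 1), (102, 1), (103, 1), (105, 1), (106, 1), (107, 1), (110, 1), (111, 1), (119, 1), (122, 1), (123, 1), (124, 1), (126, 1), (129, 1), (130, 1), (132, 1), (138, 1), (161, 1), (170, 1), (179, 1)]),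
   (0, [(0, 1), (4, 1), (5, 1), (7, 1), (8, 1), (9, 1), (11, 1), (12, 1), (15, 1), (18, 1), (20, 1), (21, 1), (22, 1), (23, 1), (24, 1), (26, 1), (27, 1), (29, 1), (32, 1), (33, 1), (35, 1), (36, 1), (38, 1), (40, 1), (42, 1), (46, 1), (49, 1), (51, 1), (54, 1), (55, 1), (56, 1), (57, 1), (59, 1), (61, 1), (63, 1), (64, 1), (65, 1), (66, 1), (68, 1), (70, 1), (72, 1), (77, 1), (78, 1), (80, 1), (81, 1), (84, 1), (85, 1), (87, 1), (89, 1), (93, 1), (95, 1), (96, 1), (98, 1), (100, 1), (101, 1), (102, 1), (103, 1), (104, 1), (105, 1), (106, 1), (107, 1), (108, 1), (110, 1), (111, 1), (113, 1), (114, 1), (115, 1), (117, 1), (118, 1), (121, 1), (124, 1), (125, 1), (129, 1), (130, 1), (131, 1), (132, 1), (133, 1), (134, 1), (136, 1), (138, 1), (146, 1), (148, 1), (149, 1), (150, 1), (156, 1), (159, 1), (161, 1), (166, 1), (169, 1), (170, 1), (171, 1), (173, 1), (174, 1), (175, 1), (176, 1), (177, 1), (179, 1), (180, 1), (181, 1), (182, 1), (184, 1)]),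
   (0, [(0, 1), (2, 1), (3, 1), (4, 1), (6, 1), (8, 1), (9, 1), (10, 1), (12, 1), (15, 1), (17, 1), (18, 1), (19, 1), (20, 1), (21, 1), (23, 1), (27, 1), (28, 1), (30, 1), (32, 1), (33, 1), (36, 1), (37, 1), (43, 1), (46, 1), (47, 1), (49, 1), (53, 1), (55, 1), (56, 1), (57, 1), (58, 1), (59, 1), (63, 1), (65, 1), (67, 1), (69, 1), (71, 1), (74, 1), (75, 1), (76, 1), (78, 1), (79, 1), (83, 1), (84, 1), (85, 1), (88, 1), (89, 1), (91, 1), (92, 1), (96, 1), (98, 1), (99, 1), (100, 1), (101, 1), (106, 1), (108, 1), (111, 1), (113, 1), (115, 1), (117, 1), (119, 1), (123, 1), (124, 1), (125, 1), (129, 1), (132, 1), (133, 1), (134, 1), (135, 1), (136, 1), (138, 1), (139, 1), (140, 1), (142, 1), (143, 1), (147, 1), (149, 1), (151, 1), (152, 1), (155, 1), (156, 1), (157, 1), (158, 1), (159, 1), (160, 1), (163, 1), (172, 1), (173, 1), (175, 1), (176, 1), (179, 1), (180, 1), (182, 1), (184, 1)]),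
   (0, [(2, 1), (3, 1), (7, 1), (8, 1), (10, 1), (13, 1), (17, 1), (21, 1), (24, 1), (27, 1), (28, 1), (32, 1), (35, 1), (36, 1), (38, 1), (39, 1), (40, 1), (41, 1), (42, 1), (43, 1), (44, 1), (46, 1), (47, 1), (49, 1), (51, 1), (54, 1), (56, 1), (58, 1), (61, 1), (65, 1), (67, 1), (69, 1), (71, 1), (73, 1), (74, 1), (75, 1), (77, 1), (78, 1), (80, 1), (84, 1), (85, 1), (86, 1), (91, 1), (92, 1), (93, 1), (94, 1), (95, 1), (97, 1), (99, 1), (100, 1), (104, 1), (107, 1), (108, 1), (113, 1), (114, 1), (120, 1), (121, 1), (128, 1), (130, 1), (131, 1), (133, 1), (135, 1), (139, 1), (140, 1), (142, 1), (143, 1), (144, 1), (145, 1), (146, 1), (147, 1), (148, 1), (156, 1), (157, 1), (159, 1), (163, 1), (169, 1), (171, 1), (176, 1), (177, 1), (179, 1), (180, 1)]),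
   (0, [(0, 1), (1, 1), (2, 1), (3, 1), (4, 1), (5, 1), (9, 1), (14, 1), (19, 1), (20, 1), (24, 1), (26, 1), (34, 1), (35, 1), (38, 1), (39, 1), (40, 1), (42, 1), (44, 1), (45, 1), (46, 1), (47, 1), (50, 1), (51, 1), (54, 1), (56, 1), (57, 1), (59, 1), (61, 1), (64, 1), (65, 1), (66, 1), (67, 1), (68, 1), (69, 1), (71, 1), (72, 1), (74, 1), (79, 1), (82, 1), (84, 1), (86, 1), (88, 1), (89, 1), (93, 1), (96, 1), (98, 1), (99, 1), (103, 1), (104, 1), (107, 1), (109, 1), (113, 1), (114, 1), (115, 1), (117, 1), (118, 1), (119, 1), (120, 1), (122, 1), (123, 1), (126, 1), (128, 1), (129, 1), (130, 1), (131, 1), (133, 1), (135, 1), (136, 1), (138, 1), (139, 1), (140, 1), (142, 1), (144, 1), (145, 1), (146, 1), (150, 1), (151, 1), (156, 1), (157, 1), (158, 1), (163, 1), (166, 1), (171, 1), (172, 1), (174, 1), (176, 1), (177, 1), (180, 1)]),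
   (0, [(0, 1), (1, 1), (2, 1), (3, 1), (5, 1), (6, 1), (8, 1), (15, 1), (16, 1), (19, 1), (21, 1), (26, 1), (28, 1), (32, 1), (34, 1), (35, 1), (37, 1), (41, 1), (42, 1), (43, 1), (44, 1), (45, 1), (46, 1), (47, 1), (48, 1), (50, 1), (51, 1), (52, 1), (54, 1), (60, 1), (61, 1), (65, 1), (66, 1), (69, 1), (71, 1), (73, 1), (74, 1), (81, 1), (82, 1), (83, 1), (84, 1), (87, 1), (91, 1), (101, 1), (102, 1), (103, 1), (104, 1), (105, 1), (106, 1), (107, 1), (108, 1), (109, 1), (110, 1), (112, 1), (113, 1), (117, 1), (119, 1), (122, 1), (124, 1), (125, 1), (130, 1), (131, 1), (135, 1), (139, 1), (140, 1), (141, 1), (146, 1), (148, 1), (150, 1), (157, 1), (163, 1), (165, 1), (171, 1), (177, 1)]),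
   (0, [(0, 1), (2, 1), (5, 1), (10, 1), (11, 1), (12, 1), (15, 1), (16, 1), (19, 1), (20, 1), (21, 1), (22, 1), (23, 1), (24, 1), (25, 1), (26, 1), (29, 1), (30, 1), (32, 1), (33, 1), (34, 1), (35, 1), (36, 1), (38, 1), (41, 1), (44, 1), (45, 1), (49, 1), (50, 1), (52, 1), (53, 1), (54, 1), (56, 1), (59, 1), (61, 1), (65, 1), (66, 1), (67, 1), (68, 1), (69, 1), (72, 1), (78, 1), (80, 1), (81, 1), (82, 1), (83, 1), (89, 1), (95, 1), (97, 1), (98, 1), (99, 1), (100, 1), (101, 1), (104, 1), (110, 1), (113, 1), (114, 1), (115, 1), (122, 1), (125, 1), (130, 1), (131, 1), (132, 1), (135, 1), (136, 1), (139, 1), (140, 1), (148, 1), (150, 1), (152, 1), (154, 1), (162, 1), (164, 1), (169, 1), (175, 1), (183, 1)]),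
   (0, []),
   (0, [(0, 1), (2, 1), (4, 1), (5, 1), (6, 1), (7, 1), (8, 1), (14, 1), (15, 1), (17, 1), (18, 1), (20, 1), (21, 1), (22, 1), (24, 1), (26, 1), (27, 1), (28, 1), (30, 1), (31, 1), (36, 1), (38, 1), (39, 1), (41, 1), (42, 1), (44, 1), (46, 1), (47, 1), (48, 1), (51, 1), (52, 1), (53, 1), (54, 1), (58, 1), (60, 1), (62, 1), (63, 1), (64, 1), (65, 1), (66, 1), (67, 1), (69, 1), (73, 1), (75, 1), (77, 1), (78, 1), (79, 1), (80, 1), (82, 1), (83, 1), (85, 1), (86, 1), (87, 1), (88, 1), (89, 1), (91, 1), (92, 1), (95, 1), (98, 1), (100, 1), (103, 1), (108, 1), (112, 1), (114, 1), (120, 1), (123, 1), (124, 1), (125, 1), (126, 1), (128, 1), (133, 1), (135, 1), (136, 1), (137, 1), (138, 1), (139, 1), (140, 1), (142, 1), (143, 1), (144, 1), (146, 1), (147, 1), (150, 1), (151, 1), (154, 1), (163, 1), (171, 1), (175, 1)]),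
   (0, [(0, 1), (2, 1), (3, 1), (4, 1), (5, 1), (6, 1), (7, 1), (8, 1), (9, 1), (12, 1), (15, 1), (18, 1), (20, 1), (21, 1), (23, 1), (25, 1), (26, 1), (28, 1), (31, 1), (32, 1), (34, 1), (35, 1), (38, 1), (41, 1), (42, 1), (45, 1), (46, 1), (47, 1), (48, 1), (50, 1), (53, 1), (54, 1), (59, 1), (61, 1), (63, 1), (64, 1), (65, 1), (67, 1), (68, 1), (71, 1), (75, 1), (80, 1), (81, 1), (83, 1), (86, 1), (88, 1), (89, 1), (91, 1), (96, 1), (97, 1), (100, 1), (103, 1), (107, 1), (115, 1), (121, 1), (127, 1), (130, 1), (135, 1), (137, 1), (139, 1), (140, 1), (141, 1), (147, 1), (149, 1), (156, 1), (167, 1), (171, 1), (177, 1)])]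

def p2Sol_1 : List (ℕ × List (ℕ × ℕ)) :=
  [(0, [(0, 1), (2, 1), (3, 1), (6, 1), (7, 1), (9, 1), (12, 1), (15, 1), (16, 1), (17, 1), (19, 1), (20, 1), (26, 1), (27, 1), (30, 1), (31, 1), (33, 1), (35, 1), (37, 1), (38, 1), (39, 1), (40, 1), (41, 1), (43, 1), (46, 1), (47, 1), (48, 1), (49, 1), (51, 1), (54, 1), (57, 1), (59, 1), (60, 1), (61, 1), (69, 1), (71, 1), (73, 1), (76, 1), (79, 1), (82, 1), (84, 1), (90, 1), (95, 1), (96, 1), (97, 1), (99, 1), (100, 1), (110, 1), (111, 1), (113, 1), (114, 1), (116, 1), (117, 1), (120, 1), (123, 1), (124, 1), (125, 1), (126, 1), (128, 1), (129, 1), (131, 1), (133, 1), (134, 1), (135, 1), (136, 1), (138, 1), (139, 1), (140, 1), (145, 1), (146, 1), (147, 1), (148, 1), (149, 1), (150, 1), (151, 1), (153, 1), (154, 1), (156, 1), (157, 1), (170, 1), (176, 1), (178, 1), (180, 1)]),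
   (0, [(1, 1), (2, 1), (4, 1), (7, 1), (8, 1), (9, 1), (13, 1), (15, 1), (16, 1), (17, 1), (18, 1), (21, 1), (22, 1), (23, 1), (24, 1), (25, 1), (27, 1), (28, 1), (29, 1), (30, 1), (33, 1), (34, 1), (35, 1), (36, 1), (38, 1), (39, 1), (41, 1), (42, 1), (43, 1), (44, 1), (45, 1), (46, 1), (47, 1), (49, 1), (51, 1), (53, 1), (54, 1), (56, 1), (57, 1), (58, 1), (63, 1), (64, 1), (65, 1), (66, 1), (67, 1), (68, 1), (71, 1), (72, 1), (73, 1), (75, 1), (78, 1), (79, 1), (80, 1), (81, 1), (85, 1), (89, 1), (91, 1), (93, 1), (96, 1), (97, 1), (98, 1), (99, 1), (101, 1), (102, 1), (103, 1), (105, 1), (106, 1), (107, 1), (108, 1), (109, 1), (112, 1), (114, 1), (116, 1), (119, 1), (121, 1), (123, 1), (125, 1), (126, 1), (130, 1), (133, 1), (136, 1), (137, 1), (141, 1), (145, 1), (147, 1), (148, 1), (150, 1), (151, 1), (152, 1), (153, 1), (154, 1), (159, 1), (165, 1), (166, 1), (168, 1), (170, 1), (178, 1), (179, 1), (180, 1), (184, 1)]),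
   (0, [(6, 1), (8, 1), (10, 1), (13, 1), (17, 1), (19, 1), (21, 1), (22, 1), (24, 1), (26, 1), (29, 1), (32, 1), (33, 1), (34, 1), (36, 1), (37, 1), (38, 1), (41, 1), (42, 1), (43, 1), (50, 1), (51, 1), (53, 1), (55, 1), (57, 1), (58, 1), (62, 1), (65, 1), (66, 1), (67, 1), (70, 1), (72, 1), (76, 1), (77, 1), (78, 1), (82, 1), (83, 1), (84, 1), (85, 1), (90, 1), (94, 1), (96, 1), (97, 1), (98, 1), (99, 1), (100, 1), (101, 1), (102, 1), (103, 1), (104, 1), (106, 1), (108, 1), (110, 1), (111, 1), (113, 1), (116, 1), (118, 1), (119, 1), (123, 1), (125, 1), (126, 1), (128, 1), (129, 1), (130, 1), (132, 1), (135, 1), (138, 1), (139, 1), (140, 1), (142, 1), (144, 1), (145, 1), (146, 1), (148, 1), (149, 1), (150, 1), (151, 1), (156, 1), (157, 1), (163, 1), (165, 1), (166, 1), (174, 1), (175, 1), (176, 1), (179, 1), (182, 1), (184, 1)]),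
   (0, [(1, 1), (2, 1), (7, 1), (10, 1), (12, 1), (13, 1), (18, 1), (22, 1), (23, 1), (24, 1), (27, 1), (28, 1), (30, 1), (31, 1), (33, 1), (37, 1), (38, 1), (41, 1), (42, 1), (45, 1), (46, 1), (47, 1), (55, 1), (59, 1), (60, 1), (62, 1), (63, 1), (65, 1), (67, 1), (70, 1), (71, 1), (72, 1), (73, 1), (77, 1), (78, 1), (80, 1), (82, 1), (83, 1), (85, 1), (87, 1), (88, 1), (91, 1), (94, 1), (95, 1), (97, 1), (99, 1), (100, 1), (103, 1), (104, 1), (105, 1), (107, 1), (109, 1), (111, 1), (112, 1), (114, 1), (115, 1), (116, 1), (118, 1), (120, 1), (121, 1), (123, 1), (124, 1), (125, 1), (126, 1), (131, 1), (132, 1), (133, 1), (134, 1), (136, 1), (137, 1), (138, 1), (142, 1), (144, 1), (145, 1), (147, 1), (151, 1), (156, 1), (163, 1), (165, 1), (166, 1), (168, 1), (174, 1), (175, 1), (176, 1), (179, 1), (182, 1), (184, 1)]),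
   (0, [(1, 1), (10, 1), (12, 1), (13, 1), (15, 1), (16, 1), (17, 1), (18, 1), (19, 1), (22, 1), (23, 1), (25, 1), (26, 1), (28, 1), (29, 1), (31, 1), (32, 1), (33, 1), (35, 1), (36, 1), (39, 1), (41, 1), (45, 1), (47, 1), (48, 1), (49, 1), (50, 1), (51, 1), (52, 1), (57, 1), (59, 1), (60, 1), (62, 1), (64, 1), (65, 1), (66, 1), (69, 1), (70, 1), (72, 1), (73, 1), (75, 1), (76, 1), (78, 1), (79, 1), (80, 1), (82, 1), (87, 1), (90, 1), (91, 1), (95, 1), (96, 1), (98, 1), (99, 1), (100, 1), (102, 1), (105, 1), (107, 1), (108, 1), (111, 1), (115, 1), (117, 1), (118, 1), (120, 1), (123, 1), (124, 1), (126, 1), (128, 1), (129, 1), (131, 1), (132, 1), (134, 1), (138, 1), (141, 1), (142, 1), (144, 1), (145, 1), (147, 1), (148, 1), (151, 1), (152, 1), (153, 1), (154, 1), (163, 1), (165, 1), (166, 1), (174, 1), (175, 1), (179, 1), (182, 1), (184, 1)]),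
   (0, [(2, 1), (5, 1), (9, 1), (10, 1), (11, 1), (14, 1), (16, 1), (17, 1), (19, 1), (20, 1), (23, 1), (26, 1), (27, 1), (29, 1), (30, 1), (33, 1), (34, 1), (35, 1), (37, 1), (41, 1), (42, 1), (43, 1), (44, 1), (45, 1), (50, 1), (52, 1), (54, 1), (55, 1), (56, 1), (57, 1), (58, 1), (59, 1), (60, 1), (61, 1), (62, 1), (68, 1), (70, 1), (72, 1), (75, 1), (79, 1), (81, 1), (82, 1), (85, 1), (88, 1), (89, 1), (91, 1), (93, 1), (94, 1), (95, 1), (96, 1), (97, 1), (98, 1), (99, 1), (100, 1), (101, 1), (103, 1), (104, 1), (105, 1), (107, 1), (108, 1), (110, 1), (111, 1), (115, 1), (116, 1), (117, 1), (118, 1), (120, 1), (121, 1), (123, 1), (125, 1), (126, 1), (128, 1), (132, 1), (135, 1), (138, 1), (139, 1), (140, 1), (141, 1), (142, 1), (143, 1), (144, 1), (145, 1), (146, 1), (147, 1), (148, 1), (149, 1), (150, 1), (159, 1), (163, 1), (166, 1), (174, 1), (175, 1), (182, 1), (184, 1)]),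
   (0, [(5, 1), (13, 1), (14, 1), (15, 1), (16, 1), (17, 1), (18, 1), (25, 1), (26, 1), (30, 1), (33, 1), (37, 1), (39, 1), (42, 1), (45, 1), (47, 1), (49, 1), (51, 1), (52, 1), (57, 1), (60, 1), (61, 1), (63, 1), (67, 1), (69, 1), (70, 1), (71, 1), (76, 1), (77, 1), (79, 1), (80, 1), (82, 1), (84, 1), (85, 1), (86, 1), (91, 1), (92, 1), (95, 1), (96, 1), (98, 1), (99, 1), (103, 1), (104, 1), (108, 1), (110, 1), (113, 1), (115, 1), (119, 1), (122, 1), (125, 1), (128, 1), (131, 1), (132, 1), (135, 1), (136, 1), (139, 1), (140, 1), (143, 1), (149, 1), (150, 1), (151, 1), (157, 1), (165, 1), (166, 1)]),
   (0, [(0, 1), (2, 1), (6, 1), (8, 1), (11, 1), (13, 1), (15, 1), (17, 1), (20, 1), (21, 1), (23, 1), (25, 1), (28, 1), (33, 1), (37, 1), (38, 1), (42, 1), (44, 1), (48, 1), (49, 1), (53, 1), (55, 1), (56, 1), (57, 1), (58, 1), (66, 1), (68, 1), (69, 1), (70, 1), (74, 1), (76, 1), (77, 1), (83, 1), (84, 1), (86, 1), (91, 1), (92, 1), (94, 1), (95, 1), (96, 1), (98, 1), (99, 1), (100, 1), (101, 1), (103, 1), (104, 1), (105, 1), (106, 1), (113, 1), (114, 1), (116, 1), (119, 1), (122, 1), (132, 1), (136, 1), (145, 1), (151, 1), (154, 1), (157, 1), (163, 1)]),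
   (0, [(0, 1), (1, 1), (3, 1), (6, 1), (10, 1), (15, 1), (16, 1), (18, 1), (19, 1), (22, 1), (23, 1), (25, 1), (27, 1), (28, 1), (29, 1), (30, 1), (32, 1), (34, 1), (37, 1), (39, 1), (41, 1), (43, 1), (49, 1), (50, 1), (51, 1), (52, 1), (61, 1), (64, 1), (67, 1), (73, 1), (78, 1), (79, 1), (80, 1), (85, 1), (86, 1), (88, 1), (89, 1), (94, 1), (95, 1), (97, 1), (99, 1), (100, 1), (102, 1), (104, 1), (105, 1), (106, 1), (107, 1), (109, 1), (112, 1), (114, 1), (115, 1), (118, 1), (122, 1), (128, 1), (130, 1), (132, 1), (133, 1), (136, 1), (141, 1), (143, 1), (146, 1), (148, 1), (152, 1), (154, 1), (156, 1), (163, 1), (165, 1), (175, 1)]),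
   (0, [(2, 1), (4, 1), (9, 1), (11, 1), (14, 1), (15, 1), (16, 1), (17, 1), (18, 1), (20, 1), (21, 1), (23, 1), (27, 1), (28, 1), (30, 1), (34, 1), (35, 1), (39, 1), (40, 1), (41, 1), (42, 1), (43, 1), (45, 1), (50, 1), (51, 1), (52, 1), (55, 1), (56, 1), (58, 1), (59, 1), (61, 1), (66, 1), (67, 1), (73, 1), (74, 1), (77, 1), (79, 1), (80, 1), (82, 1), (83, 1), (87, 1), (89, 1), (94, 1), (99, 1), (100, 1), (101, 1), (104, 1), (106, 1), (107, 1), (108, 1), (110, 1), (122, 1), (128, 1), (130, 1), (131, 1), (132, 1), (135, 1), (136, 1), (139, 1), (140, 1), (143, 1), (145, 1), (146, 1), (148, 1), (149, 1), (150, 1), (154, 1), (165, 1)])]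

def p2Sol_2 : List (ℕ × List (ℕ × ℕ)) :=
  [(0, [(3, 1), (4, 1), (5, 1), (8, 1), (11, 1), (14, 1), (17, 1), (18, 1), (21, 1), (23, 1), (25, 1), (26, 1), (28, 1), (29, 1), (31, 1), (33, 1), (34, 1), (36, 1), (38, 1), (39, 1), (42, 1), (43, 1), (45, 1), (46, 1), (47, 1), (48, 1), (49, 1), (51, 1), (52, 1), (53, 1), (55, 1), (57, 1), (60, 1), (63, 1), (64, 1), (66, 1), (68, 1), (69, 1), (70, 1), (71, 1), (72, 1), (73, 1), (74, 1), (75, 1), (76, 1), (77, 1), (78, 1), (79, 1), (80, 1), (82, 1), (83, 1), (85, 1), (89, 1), (95, 1), (96, 1), (97, 1), (98, 1), (99, 1), (100, 1), (102, 1), (103, 1), (104, 1), (108, 1), (114, 1), (122, 1), (123, 1), (125, 1), (126, 1), (128, 1), (131, 1), (132, 1), (135, 1), (136, 1), (138, 1), (139, 1), (140, 1), (142, 1), (143, 1), (144, 1), (145, 1), (149, 1), (150, 1), (154, 1), (165, 1)]),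
   (0, [(2, 1), (3, 1), (5, 1), (6, 1), (7, 1), (8, 1), (9, 1), (10, 1), (11, 1), (13, 1), (14, 1), (15, 1), (19, 1), (20, 1), (21, 1), (24, 1), (29, 1), (36, 1), (37, 1), (40, 1), (41, 1), (42, 1), (43, 1), (44, 1), (50, 1), (51, 1), (53, 1), (54, 1), (55, 1), (56, 1), (57, 1), (62, 1), (65, 1), (67, 1), (70, 1), (71, 1), (73, 1), (74, 1), (76, 1), (78, 1), (79, 1), (83, 1), (85, 1), (86, 1), (87, 1), (88, 1), (89, 1), (91, 1), (93, 1), (95, 1), (96, 1), (97, 1), (99, 1), (101, 1), (102, 1), (103, 1), (105, 1), (107, 1), (108, 1), (109, 1), (110, 1), (111, 1), (112, 1), (114, 1), (118, 1), (122, 1), (123, 1), (124, 1), (125, 1), (126, 1), (128, 1), (133, 1), (134, 1), (136, 1), (138, 1), (141, 1), (142, 1), (143, 1), (144, 1), (146, 1), (148, 1), (150, 1), (151, 1), (152, 1), (156, 1), (159, 1), (161, 1), (163, 1), (166, 1), (174, 1), (175, 1), (176, 1), (179, 1), (180, 1), (182, 1), (184, 1)]),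
   (0, [(1, 1), (2, 1), (3, 1), (6, 1), (7, 1), (9, 1), (10, 1), (12, 1), (16, 1), (17, 1), (18, 1), (19, 1), (25, 1), (27, 1), (29, 1), (31, 1), (32, 1), (33, 1), (34, 1), (40, 1), (45, 1), (46, 1), (47, 1), (52, 1), (53, 1), (55, 1), (58, 1), (59, 1), (61, 1), (63, 1), (64, 1), (66, 1), (68, 1), (74, 1), (76, 1), (78, 1), (80, 1), (81, 1), (82, 1), (83, 1), (85, 1), (86, 1), (89, 1), (91, 1), (92, 1), (94, 1), (98, 1), (100, 1), (105, 1), (107, 1), (110, 1), (112, 1), (114, 1), (116, 1), (117, 1), (118, 1), (120, 1), (121, 1), (122, 1), (128, 1), (132, 1), (133, 1), (143, 1), (150, 1), (156, 1), (159, 1), (174, 1), (176, 1), (180, 1)]),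
   (0, [(0, 1), (3, 1), (7, 1), (8, 1), (9, 1), (11, 1), (12, 1), (15, 1), (18, 1), (21, 1), (22, 1), (25, 1), (27, 1), (28, 1), (29, 1), (30, 1), (33, 1), (36, 1), (39, 1), (40, 1), (41, 1), (42, 1), (44, 1), (45, 1), (50, 1), (52, 1), (54, 1), (57, 1), (59, 1), (60, 1), (63, 1), (64, 1), (66, 1), (67, 1), (68, 1), (69, 1), (70, 1), (71, 1), (72, 1), (75, 1), (76, 1), (78, 1), (79, 1), (80, 1), (82, 1), (85, 1), (86, 1), (87, 1), (91, 1), (92, 1), (94, 1), (95, 1), (96, 1), (98, 1), (102, 1), (103, 1), (104, 1), (105, 1), (106, 1), (109, 1), (110, 1), (112, 1), (114, 1), (115, 1), (116, 1), (120, 1), (121, 1), (124, 1), (135, 1), (139, 1), (140, 1), (141, 1), (145, 1), (147, 1), (149, 1), (151, 1), (152, 1), (154, 1), (156, 1)]),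
   (0, [(0, 1), (2, 1), (5, 1), (7, 1), (8, 1), (9, 1), (19, 1), (20, 1), (22, 1), (23, 1), (24, 1), (25, 1), (28, 1), (31, 1), (36, 1), (37, 1), (38, 1), (39, 1), (40, 1), (41, 1), (42, 1), (44, 1), (46, 1), (48, 1), (49, 1), (50, 1), (51, 1), (53, 1), (54, 1), (55, 1), (58, 1), (62, 1), (64, 1), (65, 1), (66, 1), (69, 1), (72, 1), (73, 1), (89, 1), (91, 1), (92, 1), (94, 1), (97, 1), (98, 1), (102, 1), (103, 1), (104, 1), (108, 1), (118, 1), (120, 1), (121, 1), (125, 1), (130, 1), (132, 1), (133, 1), (136, 1), (147, 1), (148, 1), (150, 1), (152, 1), (165, 1)]),
   (0, [(2, 1), (3, 1), (9, 1), (12, 1), (13, 1), (15, 1), (16, 1), (17, 1), (19, 1), (20, 1), (24, 1), (25, 1), (27, 1), (29, 1), (31, 1), (34, 1), (39, 1), (44, 1), (45, 1), (46, 1), (47, 1), (48, 1), (49, 1), (52, 1), (53, 1), (54, 1), (55, 1), (57, 1), (58, 1), (59, 1), (60, 1), (62, 1), (65, 1), (72, 1), (76, 1), (78, 1), (84, 1), (88, 1), (89, 1), (94, 1), (95, 1), (96, 1), (98, 1), (99, 1), (100, 1), (101, 1), (102, 1), (104, 1), (106, 1), (109, 1), (113, 1), (115, 1), (119, 1), (121, 1), (123, 1), (125, 1), (126, 1), (128, 1), (132, 1), (135, 1), (136, 1), (138, 1), (139, 1), (140, 1), (142, 1), (143, 1), (144, 1), (145, 1), (146, 1), (149, 1),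 (151, 1), (152, 1), (154, 1), (157, 1), (165, 1)]),
   (0, [(3, 1), (6, 1), (7, 1), (9, 1), (11, 1), (12, 1), (13, 1), (14, 1), (15, 1), (16, 1), (21, 1), (24, 1), (25, 1), (28, 1), (30, 1), (32, 1), (33, 1), (43, 1), (47, 1), (48, 1), (49, 1), (51, 1), (52, 1), (55, 1), (56, 1), (59, 1), (63, 1), (64, 1), (65, 1), (67, 1), (68, 1), (70, 1), (71, 1), (72, 1), (73, 1), (75, 1), (76, 1), (78, 1), (80, 1), (81, 1), (82, 1), (83, 1), (88, 1), (92, 1), (98, 1), (101, 1), (102, 1), (104, 1), (108, 1), (114, 1), (115, 1), (124, 1), (125, 1), (128, 1), (130, 1), (131, 1), (132, 1), (135, 1), (136, 1), (139, 1), (140, 1), (143, 1), (145, 1), (148, 1), (149, 1), (150, 1), (151, 1), (154, 1), (165, 1)]),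
   (0, [(0, 1), (1, 1), (2, 1), (3, 1), (4, 1), (7, 1), (12, 1), (17, 1), (18, 1), (19, 1), (26, 1), (27, 1), (28, 1), (29, 1), (30, 1), (31, 1), (32, 1), (36, 1), (42, 1), (43, 1), (44, 1), (45, 1), (48, 1), (49, 1), (51, 1), (54, 1), (55, 1), (56, 1), (57, 1), (58, 1), (62, 1), (63, 1), (64, 1), (67, 1), (72, 1), (73, 1), (75, 1), (78, 1), (81, 1), (89, 1), (91, 1), (94, 1), (95, 1), (96, 1), (98, 1), (99, 1), (101, 1), (102, 1), (103, 1), (104, 1), (107, 1), (108, 1), (115, 1), (125, 1), (130, 1), (132, 1), (136, 1), (148, 1), (150, 1), (152, 1), (165, 1)]),
   (0, [(1, 1), (2, 1), (5, 1), (7, 1), (8, 1), (10, 1), (12, 1), (13, 1), (15, 1), (17, 1), (18, 1), (19, 1), (20, 1), (22, 1), (23, 1), (25, 1), (26, 1), (27, 1), (29, 1), (30, 1), (31, 1), (32, 1), (34, 1), (35, 1), (36, 1), (37, 1), (38, 1), (39, 1), (41, 1), (42, 1), (44, 1), (47, 1), (48, 1), (52, 1), (54, 1), (56, 1), (59, 1), (61, 1), (64, 1), (67, 1), (68, 1), (69, 1), (70, 1), (71, 1), (73, 1), (76, 1), (77, 1), (78, 1), (79, 1), (80, 1), (84, 1), (89, 1), (92, 1), (95, 1), (97, 1), (99, 1), (102, 1), (103, 1), (104, 1), (106, 1), (107, 1), (109, 1), (113, 1), (114, 1), (115, 1), (116, 1), (118, 1), (119, 1), (121, 1), (122, 1), (128, 1), (132,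 1), (133, 1), (136, 1), (141, 1), (143, 1), (148, 1), (156, 1), (157, 1), (163, 1), (165, 1), (166, 1), (174, 1), (175, 1), (176, 1), (179, 1), (180, 1), (182, 1), (184, 1)]),
   (0, [(0, 1), (3, 1), (5, 1), (6, 1), (8, 1), (11, 1), (12, 1), (13, 1), (14, 1), (16, 1), (17, 1), (18, 1), (19, 1), (20, 1), (23, 1), (24, 1), (26, 1), (27, 1), (28, 1), (31, 1), (33, 1), (36, 1), (37, 1), (38, 1), (39, 1), (40, 1), (42, 1), (43, 1), (44, 1), (46, 1), (47, 1), (51, 1), (52, 1), (55, 1), (56, 1), (58, 1), (60, 1), (64, 1), (65, 1), (66, 1), (69, 1), (72, 1), (79, 1), (81, 1), (82, 1), (83, 1), (85, 1), (88, 1), (91, 1), (92, 1), (95, 1), (97, 1), (99, 1), (101, 1), (103, 1), (109, 1), (111, 1), (117, 1), (124, 1), (129, 1), (131, 1), (133, 1), (135, 1), (136, 1), (139, 1), (140, 1), (141, 1), (143, 1), (147, 1), (148, 1), (149, 1), (150, 1), (151, 1), (152, 1), (156, 1), (158, 1), (163, 1), (165, 1), (166, 1), (175, 1), (176, 1), (179, 1), (180, 1), (182, 1), (184, 1)])]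

def p2Sol_3 : List (ℕ × List (ℕ × ℕ)) :=
  [(0, [(7, 1), (9, 1), (10, 1), (14, 1), (15, 1), (17, 1), (19, 1), (20, 1), (23, 1), (24, 1), (25, 1), (32, 1), (35, 1), (37, 1), (38, 1), (47, 1), (48, 1), (49, 1), (52, 1), (55, 1), (56, 1), (58, 1), (61, 1), (63, 1), (65, 1), (68, 1), (70, 1), (71, 1), (72, 1), (77, 1), (78, 1), (79, 1), (81, 1), (82, 1), (84, 1), (85, 1), (88, 1), (89, 1), (94, 1), (95, 1), (97, 1), (99, 1), (101, 1), (105, 1), (107, 1), (111, 1), (112, 1), (113, 1), (115, 1), (116, 1), (117, 1), (118, 1), (119, 1), (121, 1), (122, 1), (124, 1), (125, 1), (128, 1), (135, 1), (139, 1), (140, 1), (141, 1), (143, 1), (146, 1), (148, 1), (149, 1), (150, 1), (152, 1), (154, 1), (156, 1), (157, 1), (163, 1), (166, 1), (174, 1), (175, 1), (179, 1), (182, 1), (184, 1)]),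
   (0, [(0, 1), (1, 1), (6, 1), (7, 1), (8, 1), (9, 1), (14, 1), (15, 1), (16, 1), (17, 1), (18, 1), (21, 1), (22, 1), (24, 1), (25, 1), (29, 1), (30, 1), (32, 1), (34, 1), (36, 1), (42, 1), (43, 1), (46, 1), (49, 1), (52, 1), (58, 1), (60, 1), (62, 1), (65, 1), (66, 1), (67, 1), (69, 1), (71, 1), (72, 1), (74, 1), (78, 1), (79, 1), (80, 1), (85, 1), (86, 1), (88, 1), (91, 1), (92, 1), (94, 1), (95, 1), (97, 1), (98, 1), (100, 1), (103, 1), (108, 1), (110, 1), (112, 1), (114, 1), (117, 1), (118, 1), (120, 1), (121, 1), (122, 1), (123, 1), (124, 1), (126, 1), (128, 1), (131, 1), (133, 1), (135, 1), (137, 1), (138, 1), (139, 1), (140, 1), (142, 1), (143, 1), (144, 1), (149, 1), (151, 1)]),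
   (0, [(0, 1), (1, 1), (3, 1), (5, 1), (7, 1), (9, 1), (10, 1), (12, 1), (14, 1), (16, 1), (20, 1), (25, 1), (27, 1), (28, 1), (29, 1), (30, 1), (31, 1), (32, 1), (33, 1), (34, 1), (36, 1), (38, 1), (39, 1), (40, 1), (41, 1), (43, 1), (46, 1), (49, 1), (53, 1), (54, 1), (57, 1), (59, 1), (61, 1), (63, 1), (64, 1), (67, 1), (69, 1), (70, 1), (72, 1), (74, 1), (76, 1), (79, 1), (80, 1), (82, 1), (83, 1), (85, 1), (88, 1), (90, 1), (91, 1), (92, 1), (96, 1), (100, 1), (101, 1), (103, 1), (105, 1), (111, 1), (112, 1), (115, 1), (116, 1), (117, 1), (118, 1), (120, 1), (123, 1), (124, 1), (126, 1), (128, 1), (129, 1), (130, 1), (131, 1), (134, 1), (138, 1), (141, 1), (142, 1), (144, 1), (145, 1), (146, 1), (147, 1), (150, 1), (151, 1), (152, 1), (163, 1), (165, 1), (166, 1), (174, 1), (175, 1), (179, 1), (182, 1), (184, 1)]),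
   (0, [(1, 1), (4, 1), (5, 1), (8, 1), (9, 1), (11, 1), (16, 1), (18, 1), (19, 1), (24, 1), (25, 1), (26, 1), (30, 1), (31, 1), (32, 1), (37, 1), (40, 1), (44, 1), (45, 1), (46, 1), (48, 1), (52, 1), (53, 1), (55, 1), (56, 1), (58, 1), (60, 1), (61, 1), (65, 1), (66, 1), (68, 1), (71, 1), (74, 1), (75, 1), (79, 1), (81, 1), (83, 1), (84, 1), (85, 1), (86, 1), (87, 1), (88, 1), (94, 1), (99, 1), (100, 1), (101, 1), (102, 1), (103, 1), (104, 1), (105, 1), (106, 1), (107, 1), (108, 1), (112, 1), (113, 1), (114, 1), (116, 1), (119, 1), (122, 1), (123, 1), (126, 1), (130, 1), (136, 1), (138, 1), (142, 1), (144, 1), (145, 1), (151, 1), (152, 1), (154, 1), (157, 1)]),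
   (0, [(3, 1), (6, 1), (8, 1), (17, 1), (18, 1), (21, 1), (22, 1), (23, 1), (25, 1), (27, 1), (28, 1), (29, 1), (31, 1), (33, 1), (37, 1), (38, 1), (39, 1), (40, 1), (43, 1), (44, 1), (46, 1), (47, 1), (48, 1), (49, 1), (52, 1), (53, 1), (54, 1), (55, 1), (64, 1), (65, 1), (66, 1), (67, 1), (71, 1), (72, 1), (73, 1), (75, 1), (76, 1), (78, 1), (80, 1), (81, 1), (82, 1), (86, 1), (87, 1), (88, 1), (89, 1), (91, 1), (94, 1), (95, 1), (99, 1), (103, 1), (109, 1), (110, 1), (116, 1), (121, 1), (128, 1), (130, 1), (135, 1), (139, 1), (140, 1), (143, 1), (146, 1), (148, 1), (149, 1)]),
   (0, [(2, 1), (4, 1), (5, 1), (10, 1), (11, 1), (12, 1), (13, 1), (16, 1), (18, 1), (22, 1), (23, 1), (26, 1), (27, 1), (28, 1), (29, 1), (30, 1), (34, 1), (35, 1), (38, 1), (40, 1), (41, 1), (46, 1), (48, 1), (50, 1), (52, 1), (53, 1), (59, 1), (65, 1), (68, 1), (69, 1), (70, 1), (72, 1), (74, 1), (75, 1), (76, 1), (77, 1), (78, 1), (79, 1), (80, 1), (82, 1), (83, 1), (85, 1), (86, 1), (87, 1), (89, 1), (94, 1), (97, 1), (99, 1), (100, 1), (101, 1), (102, 1), (103, 1), (104, 1), (105, 1), (107, 1), (108, 1), (109, 1), (111, 1), (114, 1), (115, 1), (116, 1), (117, 1), (118, 1), (120, 1), (121, 1), (123, 1), (124, 1), (126, 1), (128,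 1), (131, 1), (132, 1), (134, 1), (135, 1), (138, 1), (139, 1), (140, 1), (141, 1), (142, 1), (143, 1), (144, 1), (145, 1), (147, 1), (148, 1), (149, 1), (151, 1), (152, 1), (163, 1), (165, 1), (166, 1), (174, 1), (175, 1), (179, 1), (182, 1), (184, 1)]),
   (0, [(4, 1), (5, 1), (7, 1), (9, 1), (10, 1), (11, 1), (12, 1), (13, 1), (15, 1), (16, 1), (17, 1), (18, 1), (22, 1), (23, 1), (27, 1), (28, 1), (29, 1), (31, 1), (32, 1), (35, 1), (40, 1), (41, 1), (43, 1), (45, 1), (47, 1), (51, 1), (52, 1), (53, 1), (54, 1), (56, 1), (58, 1), (59, 1), (60, 1), (62, 1), (65, 1), (69, 1), (70, 1), (71, 1), (73, 1), (74, 1), (75, 1), (78, 1), (80, 1), (83, 1), (87, 1), (89, 1), (91, 1), (92, 1), (93, 1), (98, 1), (99, 1), (101, 1), (102, 1), (106, 1), (107, 1), (108, 1), (110, 1), (111, 1), (112, 1), (113, 1), (115, 1), (116, 1), (117, 1), (118, 1), (120, 1), (121, 1), (122, 1), (123, 1), (124, 1), (126, 1), (131, 1), (132, 1), (136, 1), (138, 1), (141, 1), (142, 1), (144, 1), (145, 1), (147, 1), (148, 1), (151, 1), (152, 1), (159, 1), (161, 1), (163, 1), (165, 1), (166, 1), (174, 1), (175, 1), (179, 1), (182, 1), (184, 1)]),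
   (0, [(4, 1), (6, 1), (9, 1), (10, 1), (11, 1), (14, 1), (17, 1), (19, 1), (20, 1), (21, 1), (26, 1), (33, 1), (36, 1), (37, 1), (38, 1), (39, 1), (40, 1), (44, 1), (46, 1), (48, 1), (51, 1), (53, 1), (56, 1), (57, 1), (58, 1), (59, 1), (60, 1), (61, 1), (62, 1), (63, 1), (64, 1), (69, 1), (73, 1), (74, 1), (76, 1), (77, 1), (78, 1), (83, 1), (88, 1), (89, 1), (92, 1), (93, 1), (95, 1), (96, 1), (98, 1), (99, 1), (100, 1), (105, 1), (111, 1), (112, 1), (114, 1), (117, 1), (118, 1), (120, 1), (124, 1), (130, 1), (131, 1), (132, 1), (134, 1), (141, 1), (145, 1), (146, 1), (147, 1), (151, 1), (152, 1), (163, 1), (165, 1), (166, 1), (174, 1), (175, 1), (179, 1), (182, 1), (184, 1)]),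
   (0, [(0, 1), (1, 1), (2, 1), (3, 1), (4, 1), (6, 1), (7, 1), (8, 1), (12, 1), (14, 1), (15, 1), (16, 1), (17, 1), (21, 1), (22, 1), (26, 1), (27, 1), (28, 1), (32, 1), (35, 1), (38, 1), (39, 1), (41, 1), (42, 1), (44, 1), (45, 1), (47, 1), (49, 1), (50, 1), (53, 1), (54, 1), (57, 1), (58, 1), (61, 1), (63, 1), (64, 1), (66, 1), (67, 1), (68, 1), (69, 1), (70, 1), (73, 1), (75, 1), (78, 1), (81, 1), (82, 1), (85, 1), (86, 1), (87, 1), (88, 1), (91, 1), (92, 1), (94, 1), (96, 1), (97, 1), (99, 1), (102, 1), (103, 1), (104, 1), (107, 1), (108, 1), (110, 1), (112, 1), (114, 1), (116, 1), (121, 1), (124, 1), (125, 1), (128, 1), (131, 1), (132, 1), (134, 1), (135, 1), (139, 1), (140, 1), (143, 1), (146, 1), (149, 1), (150, 1), (151, 1), (152, 1), (165, 1)]),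
   (0, [(0, 1), (2, 1), (3, 1), (4, 1), (7, 1), (9, 1), (11, 1), (12, 1), (14, 1), (15, 1), (17, 1), (18, 1), (21, 1), (24, 1), (26, 1), (27, 1), (28, 1), (30, 1), (32, 1), (33, 1), (34, 1), (36, 1), (37, 1), (38, 1), (39, 1), (40, 1), (43, 1), (44, 1), (45, 1), (46, 1), (48, 1), (51, 1), (53, 1), (54, 1), (55, 1), (56, 1), (57, 1), (60, 1), (61, 1), (64, 1), (67, 1), (68, 1), (69, 1), (71, 1), (72, 1), (73, 1), (74, 1), (76, 1), (80, 1), (86, 1), (88, 1), (89, 1), (91, 1), (95, 1), (96, 1), (97, 1), (98, 1), (99, 1), (100, 1), (101, 1), (102, 1), (105, 1), (106, 1), (109, 1), (110, 1), (114, 1), (115, 1), (116, 1), (120, 1), (121, 1), (130, 1), (133, 1), (146, 1), (147, 1), (148, 1)])]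

def p2Sol_4 : List (ℕ × List (ℕ × ℕ)) :=
  [(0, [(0, 1), (1, 1), (3, 1), (4, 1), (9, 1), (12, 1), (14, 1), (17, 1), (19, 1), (22, 1), (25, 1), (26, 1), (27, 1), (29, 1), (32, 1), (33, 1), (35, 1), (36, 1), (37, 1), (40, 1), (41, 1), (43, 1), (44, 1), (48, 1), (52, 1), (53, 1), (56, 1), (57, 1), (60, 1), (67, 1), (69, 1), (71, 1), (72, 1), (76, 1), (79, 1), (83, 1), (84, 1), (85, 1), (87, 1), (91, 1), (95, 1), (96, 1), (97, 1), (105, 1), (110, 1), (113, 1), (115, 1), (119, 1), (122, 1), (124, 1), (128, 1), (130, 1), (131, 1), (135, 1), (139, 1), (140, 1), (143, 1), (145, 1), (146, 1), (148, 1), (149, 1), (154, 1), (157, 1)]),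
   (0, [(1, 1), (3, 1), (4, 1), (5, 1), (10, 1), (11, 1), (12, 1), (14, 1), (16, 1), (17, 1), (20, 1), (23, 1), (24, 1), (29, 1), (30, 1), (37, 1), (38, 1), (41, 1), (43, 1), (44, 1), (47, 1), (48, 1), (50, 1), (52, 1), (53, 1), (55, 1), (62, 1), (64, 1), (66, 1), (67, 1), (73, 1), (74, 1), (75, 1), (76, 1), (78, 1), (80, 1), (81, 1), (82, 1), (83, 1), (86, 1), (87, 1), (88, 1), (89, 1), (92, 1), (94, 1), (95, 1), (99, 1), (102, 1), (103, 1), (104, 1), (105, 1), (107, 1), (111, 1), (114, 1), (116, 1), (117, 1), (118, 1), (120, 1), (122, 1), (124, 1), (125, 1), (128, 1), (130, 1), (134, 1), (135, 1), (139, 1), (140, 1), (141, 1), (143, 1), (145, 1), (147, 1), (149, 1), (150, 1), (151, 1), (163, 1), (166, 1), (174, 1), (175, 1), (179, 1), (182, 1), (184, 1)]),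
   (0, [(0, 1), (1, 1), (2, 1), (3, 1), (5, 1), (7, 1), (9, 1), (13, 1), (14, 1), (16, 1), (19, 1), (22, 1), (24, 1), (27, 1), (28, 1), (30, 1), (32, 1), (33, 1), (37, 1), (38, 1), (40, 1), (45, 1), (46, 1), (47, 1), (49, 1), (50, 1), (51, 1), (54, 1), (57, 1), (58, 1), (59, 1), (63, 1), (64, 1), (66, 1), (67, 1), (73, 1), (76, 1), (78, 1), (79, 1), (80, 1), (82, 1), (83, 1), (87, 1), (89, 1), (91, 1), (92, 1), (96, 1), (97, 1), (98, 1), (101, 1), (102, 1), (107, 1), (108, 1), (114, 1), (122, 1), (123, 1), (124, 1), (126, 1), (128, 1), (131, 1), (135, 1), (138, 1), (139, 1), (140, 1), (142, 1), (143, 1), (144, 1), (149, 1), (151, 1)]),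
   (0, [(1, 1), (3, 1), (4, 1), (6, 1), (7, 1), (9, 1), (10, 1), (11, 1), (12, 1), (13, 1), (17, 1), (18, 1), (20, 1), (22, 1), (23, 1), (26, 1), (33, 1), (36, 1), (38, 1), (40, 1), (41, 1), (44, 1), (45, 1), (46, 1), (48, 1), (50, 1), (51, 1), (52, 1), (54, 1), (55, 1), (57, 1), (63, 1), (70, 1), (72, 1), (74, 1), (75, 1), (76, 1), (80, 1), (82, 1), (83, 1), (85, 1), (87, 1), (88, 1), (89, 1), (91, 1), (95, 1), (96, 1), (97, 1), (99, 1), (103, 1), (105, 1), (108, 1), (110, 1), (111, 1), (112, 1), (114, 1), (117, 1), (118, 1), (120, 1), (122, 1), (130, 1), (131, 1), (132, 1), (134, 1), (141, 1), (145, 1), (146, 1), (147, 1), (152, 1), (163, 1), (165, 1), (166, 1), (174, 1), (175, 1), (179, 1), (182, 1), (184, 1)]),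
   (0, [(0, 1), (1, 1), (5, 1), (7, 1), (8, 1), (10, 1), (13, 1), (14, 1), (17, 1), (20, 1), (23, 1), (25, 1), (26, 1), (29, 1), (34, 1), (35, 1), (37, 1), (38, 1), (39, 1), (43, 1), (48, 1), (49, 1), (51, 1), (53, 1), (54, 1), (56, 1), (57, 1), (66, 1), (67, 1), (70, 1), (73, 1), (74, 1), (80, 1), (81, 1), (82, 1), (83, 1), (86, 1), (88, 1), (91, 1), (92, 1), (94, 1), (96, 1), (97, 1), (98, 1), (100, 1), (101, 1), (102, 1), (106, 1), (107, 1), (110, 1), (111, 1), (112, 1), (115, 1), (117, 1), (118, 1), (120, 1), (122, 1), (131, 1), (132, 1), (134, 1), (141, 1), (145, 1), (147, 1), (148, 1), (152, 1), (163, 1), (165, 1), (166, 1), (174, 1), (175, 1), (179, 1), (182, 1), (184, 1)]),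
   (0, [(2, 1), (6, 1), (7, 1), (8, 1), (17, 1), (20, 1), (21, 1), (22, 1), (27, 1), (32, 1), (45, 1), (58, 1), (66, 1), (70, 1)]),
   (0, [(1, 1), (2, 1), (3, 1), (4, 1), (6, 1), (7, 1), (8, 1), (14, 1), (17, 1), (18, 1), (21, 1), (22, 1), (23, 1), (27, 1), (32, 1), (33, 1), (37, 1), (42, 1), (44, 1), (54, 1), (57, 1), (60, 1), (62, 1), (64, 1), (67, 1), (68, 1), (69, 1), (73, 1), (74, 1), (75, 1), (76, 1), (77, 1), (80, 1), (82, 1), (83, 1), (85, 1), (86, 1), (91, 1), (92, 1), (96, 1), (99, 1), (103, 1), (106, 1), (110, 1), (115, 1), (122, 1), (123, 1), (124, 1), (126, 1), (138, 1), (142, 1), (144, 1), (151, 1)]),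
   (0, [(1, 1), (2, 1), (6, 1), (9, 1), (10, 1), (11, 1), (16, 1), (19, 1), (21, 1), (22, 1), (24, 1), (25, 1), (26, 1), (27, 1), (28, 1), (30, 1), (33, 1), (35, 1), (36, 1), (40, 1), (41, 1), (42, 1), (43, 1), (44, 1), (45, 1), (47, 1), (48, 1), (50, 1), (51, 1), (52, 1), (53, 1), (54, 1), (55, 1), (56, 1), (62, 1), (64, 1), (65, 1), (67, 1), (68, 1), (69, 1), (70, 1), (74, 1), (75, 1), (76, 1), (77, 1), (81, 1), (83, 1), (86, 1), (88, 1), (89, 1), (92, 1), (94, 1), (95, 1), (98, 1), (102, 1), (104, 1), (106, 1), (107, 1), (110, 1), (111, 1), (114, 1), (115, 1), (117, 1), (118, 1), (120, 1), (122, 1), (125, 1), (128, 1), (130, 1), (134, 1), (135, 1), (136, 1), (139, 1), (140, 1), (141, 1), (143, 1), (145, 1), (147, 1), (149, 1), (150, 1), (163, 1), (166, 1), (174, 1), (175, 1), (179, 1), (182, 1), (184, 1)]),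
   (0, [(4, 1), (6, 1), (9, 1), (14, 1), (15, 1), (16, 1), (17, 1), (18, 1), (20, 1), (21, 1), (24, 1), (27, 1), (30, 1), (31, 1), (35, 1), (37, 1), (40, 1), (41, 1), (46, 1), (50, 1), (51, 1), (52, 1), (53, 1), (56, 1), (58, 1), (59, 1), (62, 1), (63, 1), (65, 1), (66, 1), (68, 1), (69, 1), (71, 1), (72, 1), (73, 1), (75, 1), (76, 1), (78, 1), (81, 1), (82, 1), (85, 1), (87, 1), (88, 1), (92, 1), (95, 1), (97, 1), (98, 1), (99, 1), (102, 1), (107, 1), (114, 1), (121, 1), (130, 1), (146, 1), (148, 1)]),
   (0, [(5, 1), (7, 1), (8, 1), (11, 1), (12, 1), (13, 1), (15, 1), (18, 1), (19, 1), (20, 1), (21, 1), (26, 1), (27, 1), (32, 1), (33, 1), (34, 1), (44, 1), (47, 1), (50, 1), (53, 1), (58, 1), (60, 1), (62, 1), (66, 1), (67, 1), (89, 1)])]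

def p2Sol_5 : List (ℕ × List (ℕ × ℕ)) :=
  [(0, [(5, 1), (6, 1), (15, 1), (22, 1), (23, 1), (27, 1), (30, 1), (66, 1), (71, 1), (73, 1)]),
   (0, [(0, 1), (1, 1), (2, 1), (5, 1), (9, 1), (10, 1), (11, 1), (13, 1), (15, 1), (16, 1), (20, 1), (21, 1), (24, 1), (25, 1), (27, 1), (33, 1), (34, 1), (35, 1), (36, 1), (39, 1), (42, 1), (45, 1), (47, 1), (50, 1), (52, 1), (55, 1), (56, 1), (58, 1), (59, 1), (62, 1), (64, 1), (65, 1), (67, 1), (68, 1), (70, 1), (72, 1), (87, 1), (91, 1), (92, 1), (94, 1), (97, 1), (98, 1), (99, 1), (100, 1), (102, 1), (103, 1), (104, 1), (106, 1), (107, 1), (110, 1), (111, 1), (114, 1), (117, 1), (118, 1), (120, 1), (122, 1), (125, 1), (128, 1), (130, 1), (134, 1), (135, 1), (136, 1), (139, 1), (140, 1), (141, 1), (143, 1), (145, 1), (147, 1), (149, 1), (150, 1), (163, 1), (166, 1), (174, 1), (175, 1), (179, 1), (182, 1), (184, 1)]),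
   (0, [(1, 1), (4, 1), (5, 1), (11, 1), (17, 1), (19, 1), (20, 1), (21, 1), (24, 1), (26, 1), (27, 1), (29, 1), (30, 1), (32, 1), (34, 1), (35, 1), (37, 1), (38, 1), (40, 1), (41, 1), (44, 1), (45, 1), (49, 1), (52, 1), (53, 1), (54, 1), (55, 1), (56, 1), (57, 1), (58, 1), (59, 1), (60, 1), (61, 1), (64, 1), (66, 1), (67, 1), (69, 1), (71, 1), (72, 1), (73, 1), (74, 1), (79, 1), (81, 1), (87, 1), (89, 1), (92, 1), (95, 1), (96, 1), (97, 1), (99, 1), (100, 1), (101, 1), (103, 1), (115, 1), (122, 1), (123, 1), (124, 1), (126, 1), (138, 1), (142, 1), (144, 1), (151, 1)]),
   (0, [(1, 1), (3, 1), (4, 1), (6, 1), (7, 1), (8, 1), (9, 1), (10, 1), (11, 1), (12, 1), (14, 1), (19, 1), (22, 1), (24, 1), (25, 1), (26, 1), (27, 1), (28, 1), (29, 1), (30, 1), (32, 1), (33, 1), (34, 1), (35, 1), (38, 1), (39, 1), (40, 1), (41, 1), (43, 1), (45, 1), (46, 1), (47, 1), (48, 1), (51, 1), (52, 1), (54, 1), (57, 1), (58, 1), (59, 1), (62, 1), (63, 1), (64, 1), (65, 1), (66, 1), (67, 1), (68, 1), (70, 1), (71, 1), (72, 1), (74, 1), (75, 1), (76, 1), (80, 1), (82, 1), (83, 1), (85, 1), (86, 1), (87, 1), (91, 1), (94, 1), (95, 1), (96, 1), (98, 1), (100, 1), (103, 1), (106, 1), (110, 1), (111, 1), (112, 1), (114, 1), (115, 1), (117,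 1), (118, 1), (120, 1), (122, 1), (130, 1), (131, 1), (132, 1), (134, 1), (141, 1), (145, 1), (146, 1), (147, 1), (152, 1), (163, 1), (165, 1), (166, 1), (174, 1), (175, 1), (179, 1), (182, 1), (184, 1)]),
   (0, [(5, 1), (6, 1), (17, 1), (19, 1), (21, 1), (27, 1), (29, 1), (32, 1), (58, 1), (66, 1)]),
   (0, [(1, 1), (2, 1), (3, 1), (5, 1), (6, 1), (8, 1), (10, 1), (11, 1), (14, 1), (16, 1), (19, 1), (21, 1), (22, 1), (23, 1), (24, 1), (25, 1), (26, 1), (28, 1), (29, 1), (32, 1), (34, 1), (37, 1), (38, 1), (40, 1), (42, 1), (44, 1), (47, 1), (48, 1), (50, 1), (54, 1), (57, 1), (59, 1), (63, 1), (64, 1), (65, 1), (72, 1), (77, 1), (80, 1), (81, 1), (82, 1), (86, 1), (87, 1), (88, 1), (91, 1), (94, 1), (95, 1), (96, 1), (98, 1), (99, 1), (100, 1), (101, 1), (106, 1), (110, 1), (111, 1), (112, 1), (114, 1), (115, 1), (117, 1), (118, 1), (119, 1), (120, 1), (122, 1), (123, 1), (126, 1), (130, 1), (131, 1), (132, 1), (134, 1), (138, 1), (141, 1), (145, 1), (146, 1), (147, 1), (152, 1), (163, 1), (165, 1), (166, 1), (174, 1), (175, 1), (179, 1), (182, 1), (184, 1)]),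
   (0, [(0, 1), (5, 1), (7, 1), (8, 1), (9, 1), (11, 1), (14, 1), (17, 1), (21, 1), (24, 1), (37, 1), (38, 1), (40, 1), (42, 1), (50, 1), (53, 1), (54, 1), (55, 1), (61, 1), (63, 1), (64, 1), (65, 1), (66, 1), (68, 1), (69, 1), (70, 1), (72, 1), (73, 1), (76, 1), (79, 1), (81, 1), (86, 1), (87, 1), (89, 1), (91, 1), (92, 1), (97, 1), (98, 1), (101, 1), (102, 1), (103, 1), (104, 1), (106, 1), (107, 1), (108, 1), (110, 1), (112, 1), (115, 1), (116, 1), (117, 1), (119, 1), (121, 1), (122, 1), (125, 1), (130, 1), (132, 1), (136, 1), (138, 1), (142, 1), (144, 1), (148, 1), (150, 1), (152, 1), (165, 1)]),
   (0, [(0, 1), (1, 1), (2, 1), (3, 1), (7, 1), (8, 1), (9, 1), (15, 1), (16, 1), (22, 1), (25, 1), (28, 1), (31, 1), (35, 1), (36, 1), (40, 1), (48, 1), (50, 1), (55, 1), (57, 1), (59, 1), (65, 1), (67, 1), (68, 1), (69, 1), (70, 1), (71, 1), (72, 1), (76, 1), (78, 1), (79, 1), (86, 1), (87, 1), (88, 1), (89, 1), (91, 1), (95, 1), (96, 1), (101, 1), (104, 1), (105, 1), (106, 1), (108, 1), (110, 1), (112, 1), (114, 1), (115, 1), (116, 1), (117, 1), (121, 1), (122, 1), (123, 1), (125, 1), (126, 1), (132, 1), (136, 1), (138, 1), (142, 1), (144, 1), (146, 1), (150, 1), (152, 1), (165, 1)]),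
   (0, [(1, 1), (2, 1), (4, 1), (5, 1), (7, 1), (9, 1), (10, 1), (20, 1), (22, 1), (24, 1), (25, 1), (28, 1), (34, 1), (35, 1), (36, 1), (39, 1), (40, 1), (42, 1), (43, 1), (44, 1), (47, 1), (53, 1), (57, 1), (59, 1), (61, 1), (64, 1), (66, 1), (67, 1), (68, 1), (72, 1), (75, 1), (80, 1), (81, 1), (83, 1), (86, 1), (87, 1), (88, 1), (89, 1), (91, 1), (95, 1), (96, 1), (97, 1), (99, 1), (100, 1), (115, 1), (120, 1)]),
   (0, [(0, 1), (1, 1), (2, 1), (4, 1), (5, 1), (6, 1), (7, 1), (8, 1), (11, 1), (15, 1), (17, 1), (18, 1), (19, 1), (20, 1), (21, 1), (23, 1), (24, 1), (26, 1), (28, 1), (29, 1), (30, 1), (31, 1), (34, 1), (35, 1), (37, 1), (38, 1), (40, 1), (41, 1), (45, 1), (46, 1), (47, 1), (51, 1), (53, 1), (54, 1), (55, 1), (59, 1), (63, 1), (65, 1), (66, 1), (67, 1), (71, 1), (73, 1), (74, 1), (77, 1), (78, 1), (79, 1), (84, 1), (88, 1), (89, 1), (92, 1), (94, 1), (101, 1), (102, 1), (103, 1), (104, 1), (105, 1), (110, 1), (113, 1), (114, 1), (119, 1), (122, 1), (124, 1), (128, 1), (131, 1), (135, 1), (139, 1), (140, 1), (143, 1), (145, 1), (149, 1), (157, 1)])]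

def p2Sol_6 : List (ℕ × List (ℕ × ℕ)) :=
  [(0, [(1, 1), (2, 1), (5, 1), (7, 1), (8, 1), (11, 1), (15, 1), (18, 1), (19, 1), (21, 1), (23, 1), (24, 1), (25, 1), (29, 1), (31, 1), (33, 1), (34, 1), (35, 1), (37, 1), (40, 1), (43, 1), (44, 1), (46, 1), (48, 1), (51, 1), (52, 1), (55, 1), (56, 1), (58, 1), (60, 1), (64, 1), (66, 1), (68, 1), (69, 1), (70, 1), (71, 1), (72, 1), (73, 1), (77, 1), (78, 1), (79, 1), (80, 1), (82, 1), (83, 1), (85, 1), (86, 1), (87, 1), (89, 1), (92, 1), (95, 1), (97, 1), (98, 1), (100, 1), (101, 1), (104, 1), (112, 1), (114, 1), (122, 1), (123, 1), (125, 1), (126, 1), (128, 1), (130, 1), (131, 1), (132, 1), (135, 1), (136, 1), (138, 1), (139, 1), (140, 1), (142, 1), (143, 1), (144, 1), (148, 1), (149, 1), (150, 1), (152, 1), (165, 1)]),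
   (0, [(1, 1), (4, 1), (5, 1), (8, 1), (9, 1), (10, 1), (11, 1), (15, 1), (16, 1), (17, 1), (18, 1), (19, 1), (20, 1), (22, 1), (23, 1), (24, 1), (29, 1), (35, 1), (36, 1), (38, 1), (40, 1), (43, 1), (44, 1), (47, 1), (48, 1), (49, 1), (51, 1), (52, 1), (54, 1), (61, 1), (63, 1), (66, 1), (69, 1), (70, 1), (76, 1), (78, 1), (79, 1), (80, 1), (81, 1), (82, 1), (85, 1), (88, 1), (91, 1), (94, 1), (95, 1), (97, 1), (101, 1), (103, 1), (105, 1), (108, 1), (111, 1), (112, 1), (114, 1), (115, 1), (116, 1), (117, 1), (118, 1), (120, 1), (123, 1), (124, 1), (126, 1), (128, 1), (132, 1), (134, 1), (135, 1), (138, 1), (139, 1), (140, 1), (141, 1), (142, 1), (143, 1), (144, 1), (145, 1), (147, 1), (148, 1), (149, 1), (151, 1), (152, 1), (163, 1), (165, 1), (166, 1), (174, 1), (175, 1), (179, 1), (182, 1), (184, 1)]),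
   (0, [(0, 1), (1, 1), (2, 1), (3, 1), (6, 1), (8, 1), (9, 1), (16, 1), (20, 1), (21, 1), (24, 1), (25, 1), (27, 1), (29, 1), (31, 1), (33, 1), (34, 1), (37, 1), (39, 1), (41, 1), (42, 1), (43, 1), (44, 1), (45, 1), (46, 1), (49, 1), (50, 1), (52, 1), (53, 1), (56, 1), (58, 1), (61, 1), (62, 1), (63, 1), (66, 1), (73, 1), (74, 1), (77, 1), (78, 1), (79, 1), (83, 1), (85, 1), (86, 1), (92, 1), (95, 1), (99, 1), (100, 1), (101, 1), (102, 1), (103, 1), (105, 1), (106, 1), (107, 1), (108, 1), (110, 1), (114, 1), (116, 1), (122, 1), (123, 1), (124, 1), (126, 1), (128, 1), (131, 1), (135, 1), (138, 1), (139, 1), (140, 1), (142, 1), (143, 1), (144, 1), (149, 1), (151, 1)]),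
   (0, [(0, 1), (2, 1), (3, 1), (4, 1), (5, 1), (6, 1), (7, 1), (9, 1), (11, 1), (14, 1), (15, 1), (16, 1), (17, 1), (18, 1), (20, 1), (24, 1), (26, 1), (28, 1), (30, 1), (31, 1), (36, 1), (37, 1), (40, 1), (41, 1), (42, 1), (44, 1), (45, 1), (52, 1), (53, 1), (56, 1), (58, 1), (59, 1), (63, 1), (65, 1), (66, 1), (68, 1), (71, 1), (72, 1), (73, 1), (76, 1), (81, 1), (85, 1), (87, 1), (88, 1), (92, 1), (95, 1), (97, 1), (98, 1), (101, 1), (102, 1), (103, 1), (107, 1), (114, 1), (130, 1), (146, 1), (148, 1)]),
   (0, [(6, 1), (11, 1), (17, 1), (20, 1), (22, 1), (23, 1), (40, 1), (50, 1), (58, 1), (67, 1)]),
   (0, [(2, 1), (5, 1), (6, 1), (11, 1), (14, 1), (15, 1), (17, 1), (20, 1), (22, 1), (26, 1), (28, 1), (29, 1), (32, 1), (64, 1), (66, 1), (67, 1)]),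
   (0, [(0, 1), (1, 1), (3, 1), (7, 1), (9, 1), (11, 1), (12, 1), (13, 1), (14, 1), (19, 1), (20, 1), (21, 1), (24, 1), (27, 1), (28, 1), (29, 1), (30, 1), (31, 1), (32, 1), (37, 1), (39, 1), (41, 1), (43, 1), (44, 1), (45, 1), (48, 1), (50, 1), (52, 1), (58, 1), (59, 1), (61, 1), (65, 1), (68, 1), (72, 1), (73, 1), (76, 1), (81, 1), (83, 1), (85, 1), (87, 1), (88, 1), (101, 1), (113, 1)]),
   (0, [(0, 1), (4, 1), (6, 1), (8, 1), (9, 1), (10, 1), (11, 1), (12, 1), (14, 1), (16, 1), (20, 1), (29, 1), (31, 1), (36, 1), (37, 1), (38, 1), (39, 1), (40, 1), (41, 1), (43, 1), (44, 1), (46, 1), (50, 1), (51, 1), (53, 1), (56, 1), (57, 1), (59, 1), (60, 1), (61, 1), (62, 1), (63, 1), (64, 1), (66, 1), (69, 1), (72, 1), (73, 1), (74, 1), (76, 1), (77, 1), (78, 1), (79, 1), (83, 1), (88, 1), (89, 1), (92, 1), (95, 1), (96, 1), (98, 1), (99, 1), (100, 1), (105, 1), (111, 1), (112, 1), (114, 1), (117, 1), (118, 1), (120, 1), (124, 1), (130, 1), (131, 1), (132, 1), (134, 1), (141, 1), (145, 1), (146, 1), (147, 1), (151, 1), (152, 1), (163, 1), (165, 1), (166, 1), (174, 1), (175, 1), (179, 1), (182, 1), (184, 1)]),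
   (0, [(1, 1), (2, 1), (3, 1), (5, 1), (6, 1), (14, 1), (16, 1), (18, 1), (19, 1), (21, 1), (22, 1), (24, 1), (26, 1), (27, 1), (28, 1), (32, 1), (33, 1), (34, 1), (35, 1), (39, 1), (41, 1), (43, 1), (44, 1), (45, 1), (46, 1), (47, 1), (50, 1), (53, 1), (58, 1), (60, 1), (61, 1), (65, 1), (66, 1), (67, 1), (69, 1), (72, 1), (74, 1), (75, 1), (77, 1), (87, 1), (88, 1), (89, 1), (94, 1), (99, 1), (101, 1), (115, 1)]),
   (0, [(5, 1), (7, 1), (8, 1), (9, 1), (10, 1), (11, 1), (13, 1), (16, 1), (17, 1), (18, 1), (19, 1), (20, 1), (21, 1), (22, 1), (23, 1), (24, 1), (26, 1), (27, 1), (28, 1), (29, 1), (30, 1), (31, 1), (32, 1), (39, 1), (41, 1), (43, 1), (48, 1), (49, 1), (50, 1), (52, 1), (53, 1), (54, 1), (56, 1), (57, 1), (58, 1), (59, 1), (62, 1), (63, 1), (64, 1), (65, 1), (66, 1), (69, 1), (72, 1), (73, 1), (74, 1), (76, 1), (77, 1), (78, 1), (79, 1), (85, 1), (87, 1), (88, 1), (89, 1), (92, 1), (94, 1), (95, 1), (96, 1), (99, 1), (102, 1), (103, 1), (105, 1), (106, 1), (107, 1), (108, 1), (109, 1), (110, 1), (114, 1), (115, 1), (116, 1), (122, 1), (123, 1), (124, 1), (126, 1), (128, 1), (131, 1), (135, 1), (138, 1), (139, 1), (140, 1), (142, 1), (143, 1), (144, 1), (149, 1), (151, 1)])]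

def p2Sol_7 : List (ℕ × List (ℕ × ℕ)) :=
  [(0, [(1, 1), (2, 1), (3, 1), (5, 1), (6, 1), (10, 1), (14, 1), (16, 1), (17, 1), (20, 1), (21, 1), (23, 1), (25, 1), (28, 1), (30, 1), (31, 1), (33, 1), (35, 1), (36, 1), (39, 1), (44, 1), (45, 1), (46, 1), (48, 1), (49, 1), (51, 1), (53, 1), (54, 1), (55, 1), (56, 1), (57, 1), (58, 1), (61, 1), (63, 1), (65, 1), (69, 1), (70, 1), (73, 1), (75, 1), (76, 1), (79, 1), (80, 1), (82, 1), (83, 1), (92, 1), (95, 1), (96, 1), (98, 1), (99, 1), (102, 1), (103, 1), (104, 1), (106, 1), (107, 1), (110, 1), (111, 1), (114, 1), (117, 1), (118, 1), (120, 1), (123, 1), (124, 1), (125, 1), (126, 1), (128, 1), (130, 1), (134, 1), (135, 1), (136, 1), (138, 1), (139, 1), (140, 1), (141, 1), (142, 1), (143, 1), (144, 1), (145, 1), (147, 1), (149, 1), (150, 1), (151, 1), (163, 1), (166, 1), (174, 1), (175, 1), (179, 1), (182, 1), (184, 1)]),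
   (0, [(3, 1), (4, 1), (5, 1), (8, 1), (9, 1), (10, 1), (11, 1), (12, 1), (13, 1), (14, 1), (15, 1), (19, 1), (20, 1), (21, 1), (24, 1), (27, 1), (31, 1), (33, 1), (35, 1), (37, 1), (39, 1), (40, 1), (41, 1), (43, 1), (44, 1), (46, 1), (47, 1), (48, 1), (51, 1), (55, 1), (56, 1), (58, 1), (61, 1), (64, 1), (65, 1), (67, 1), (68, 1), (70, 1), (71, 1), (72, 1), (76, 1), (80, 1), (81, 1), (82, 1), (83, 1), (85, 1), (87, 1), (89, 1), (92, 1), (94, 1), (95, 1), (98, 1), (99, 1), (101, 1), (102, 1), (104, 1), (106, 1), (107, 1), (110, 1), (111, 1), (114, 1), (117, 1), (118, 1), (120, 1), (122, 1), (125, 1), (128, 1), (130, 1), (134, 1), (135, 1), (136, 1), (139, 1), (140, 1), (141, 1), (143, 1), (145, 1), (147, 1), (149, 1), (150, 1), (163, 1), (166, 1), (174, 1), (175, 1), (179, 1), (182, 1), (184, 1)]),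
   (0, [(0, 1), (1, 1), (4, 1), (5, 1), (6, 1), (7, 1), (8, 1), (13, 1), (18, 1), (19, 1), (21, 1), (22, 1), (23, 1), (27, 1), (28, 1), (29, 1), (30, 1), (31, 1), (33, 1), (37, 1), (38, 1), (39, 1), (41, 1), (43, 1), (45, 1), (46, 1), (47, 1), (48, 1), (49, 1), (50, 1), (52, 1), (53, 1), (54, 1), (55, 1), (56, 1), (57, 1), (63, 1), (65, 1), (67, 1), (69, 1), (71, 1), (72, 1), (75, 1), (76, 1), (77, 1), (86, 1), (87, 1), (88, 1), (91, 1), (92, 1), (94, 1), (96, 1), (101, 1), (102, 1), (103, 1), (104, 1), (107, 1), (110, 1), (112, 1), (125, 1), (128, 1), (131, 1), (132, 1), (135, 1), (136, 1), (139, 1), (140, 1), (143, 1), (146, 1), (149, 1), (150, 1), (152, 1), (165, 1)]),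
   (0, [(1, 1), (5, 1), (7, 1), (8, 1), (9, 1), (10, 1), (11, 1), (17, 1), (19, 1), (22, 1), (23, 1), (26, 1), (27, 1), (28, 1), (29, 1), (32, 1), (33, 1), (34, 1), (37, 1), (38, 1), (40, 1), (41, 1), (42, 1), (43, 1), (44, 1), (47, 1), (48, 1), (49, 1), (51, 1), (53, 1), (55, 1), (57, 1), (59, 1), (61, 1), (67, 1), (68, 1), (70, 1), (71, 1), (72, 1), (73, 1), (74, 1), (75, 1), (76, 1), (79, 1), (83, 1), (86, 1), (87, 1), (88, 1), (91, 1), (95, 1), (96, 1), (97, 1), (98, 1), (99, 1), (100, 1), (101, 1), (102, 1), (103, 1), (104, 1), (106, 1), (107, 1), (110, 1), (111, 1), (114, 1), (117, 1), (118, 1), (120, 1), (123, 1), (124, 1), (125, 1), (126, 1), (128, 1), (130, 1), (134, 1), (135, 1), (136, 1), (138, 1), (139, 1), (140, 1), (141, 1), (142, 1), (143, 1), (144, 1), (145, 1), (147, 1), (149, 1), (150, 1), (151, 1), (163, 1), (166, 1), (174, 1), (175, 1), (179, 1), (182, 1), (184, 1)]),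
   (0, [(0, 1), (2, 1), (8, 1), (9, 1), (10, 1), (13, 1), (14, 1), (15, 1), (16, 1), (19, 1), (21, 1), (22, 1), (27, 1), (30, 1), (32, 1), (34, 1), (36, 1), (37, 1), (38, 1), (39, 1), (40, 1), (42, 1), (45, 1), (47, 1), (49, 1), (51, 1), (52, 1), (56, 1), (59, 1), (60, 1), (62, 1), (63, 1), (65, 1), (66, 1), (69, 1), (70, 1), (71, 1), (73, 1), (75, 1), (77, 1), (79, 1), (92, 1), (94, 1), (95, 1), (98, 1), (99, 1), (100, 1), (106, 1), (111, 1), (112, 1), (114, 1), (117, 1), (118, 1), (120, 1), (123, 1), (124, 1), (126, 1), (130, 1), (131, 1), (132, 1), (134, 1), (138, 1), (141, 1), (142, 1), (144, 1), (145, 1), (146, 1), (147, 1), (151, 1), (152, 1), (163, 1), (165, 1), (166, 1), (174, 1), (175, 1), (179, 1), (182, 1), (184, 1)]),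
   (0, [(3, 1), (4, 1), (8, 1), (11, 1), (12, 1), (13, 1), (14, 1), (15, 1), (16, 1), (19, 1), (22, 1), (24, 1), (28, 1), (32, 1), (33, 1), (34, 1), (35, 1), (36, 1), (37, 1), (42, 1), (45, 1), (46, 1), (47, 1), (49, 1), (52, 1), (53, 1), (54, 1), (55, 1), (59, 1), (60, 1), (61, 1), (63, 1), (64, 1), (66, 1), (67, 1), (68, 1), (71, 1), (72, 1), (73, 1), (75, 1), (77, 1), (79, 1), (80, 1), (82, 1), (85, 1), (86, 1), (87, 1), (89, 1), (100, 1), (101, 1), (102, 1), (104, 1), (107, 1), (112, 1), (122, 1), (123, 1), (124, 1), (125, 1), (126, 1), (128, 1), (131, 1), (132, 1), (135, 1), (136, 1), (138, 1), (139, 1), (140, 1), (142, 1), (143, 1), (144, 1), (146, 1), (149, 1), (150, 1), (151, 1), (152, 1), (165, 1)]),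
   (0, [(5, 1), (7, 1), (12, 1), (13, 1), (14, 1), (17, 1), (18, 1), (19, 1), (20, 1), (22, 1), (23, 1), (24, 1), (25, 1), (26, 1), (32, 1), (33, 1), (35, 1), (44, 1), (47, 1), (66, 1), (74, 1)]),
   (0, [(5, 1), (7, 1), (12, 1), (14, 1), (16, 1), (18, 1), (19, 1), (20, 1), (22, 1), (23, 1), (24, 1), (25, 1), (28, 1), (32, 1), (33, 1), (35, 1), (44, 1), (47, 1), (60, 1), (66, 1), (74, 1)]),
   (0, [(0, 1), (1, 1), (2, 1), (4, 1), (7, 1), (12, 1), (15, 1), (18, 1), (20, 1), (22, 1), (27, 1), (32, 1), (33, 1), (34, 1), (36, 1), (40, 1), (43, 1), (44, 1), (46, 1), (47, 1), (48, 1), (50, 1), (52, 1), (53, 1), (54, 1), (55, 1), (57, 1), (60, 1), (62, 1), (63, 1), (64, 1), (66, 1), (67, 1), (68, 1), (70, 1), (72, 1), (74, 1), (76, 1), (77, 1), (79, 1), (83, 1), (84, 1), (86, 1), (89, 1), (96, 1), (97, 1), (102, 1), (104, 1), (107, 1), (110, 1), (112, 1), (113, 1), (119, 1), (122, 1), (123, 1), (124, 1), (125, 1), (126, 1), (128, 1), (131, 1), (132, 1), (135, 1), (136, 1), (138, 1), (139, 1), (140, 1), (142, 1), (143, 1), (144, 1), (146, 1), (149, 1), (150, 1), (151, 1), (152, 1), (157, 1), (165, 1)]),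
   (0, [(0, 1), (1, 1), (3, 1), (4, 1), (5, 1), (8, 1), (11, 1), (13, 1), (16, 1), (17, 1), (20, 1), (21, 1), (23, 1), (24, 1), (25, 1), (26, 1), (29, 1), (32, 1), (34, 1), (35, 1), (36, 1), (37, 1), (41, 1), (43, 1), (44, 1), (45, 1), (47, 1), (48, 1), (50, 1), (51, 1), (52, 1), (53, 1), (56, 1), (57, 1), (61, 1), (64, 1), (70, 1), (71, 1), (72, 1), (78, 1), (79, 1), (80, 1), (82, 1), (85, 1), (88, 1), (89, 1), (91, 1), (92, 1), (96, 1), (97, 1), (98, 1), (99, 1), (100, 1), (102, 1), (103, 1), (104, 1), (105, 1), (107, 1), (108, 1), (109, 1), (112, 1), (115, 1), (116, 1), (117, 1), (122, 1), (124, 1), (125, 1), (128, 1), (129, 1), (130, 1), (132, 1), (135, 1), (136, 1), (139, 1), (140, 1), (145, 1), (148, 1), (149, 1), (150, 1), (151, 1), (152, 1), (158, 1), (165, 1)])]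

def p2Sol_8 : List (ℕ × List (ℕ × ℕ)) :=
  [(0, [(5, 1), (6, 1), (9, 1), (10, 1), (11, 1), (12, 1), (17, 1), (18, 1), (19, 1), (20, 1), (22, 1), (23, 1), (24, 1), (29, 1), (33, 1), (34, 1), (35, 1), (37, 1), (42, 1), (43, 1), (46, 1), (49, 1), (52, 1), (56, 1), (57, 1), (58, 1), (59, 1), (61, 1), (62, 1), (63, 1), (66, 1), (67, 1), (68, 1), (70, 1), (72, 1), (77, 1), (78, 1), (81, 1), (84, 1), (85, 1), (88, 1), (89, 1), (92, 1), (95, 1), (96, 1), (97, 1), (98, 1), (101, 1), (103, 1), (104, 1), (105, 1), (108, 1), (109, 1), (111, 1), (113, 1), (116, 1), (117, 1), (118, 1), (119, 1), (120, 1), (121, 1), (122, 1), (124, 1), (125, 1), (130, 1), (131, 1), (134, 1), (135, 1), (136, 1), (139, 1), (140, 1), (141, 1), (145, 1), (147, 1), (149, 1), (150, 1), (157, 1), (163, 1), (166, 1), (174, 1), (175, 1), (179, 1), (182, 1), (184, 1)]),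
   (0, [(1, 1), (4, 1), (7, 1), (8, 1), (10, 1), (14, 1), (17, 1), (19, 1), (20, 1), (22, 1), (24, 1), (26, 1), (30, 1), (34, 1), (37, 1), (43, 1), (44, 1), (46, 1), (47, 1), (51, 1), (52, 1), (55, 1), (56, 1), (58, 1), (60, 1), (63, 1), (65, 1), (66, 1), (67, 1), (71, 1), (72, 1), (74, 1), (76, 1), (79, 1), (80, 1), (81, 1), (85, 1), (86, 1), (87, 1), (88, 1), (91, 1), (92, 1), (94, 1), (97, 1), (100, 1), (102, 1), (105, 1), (106, 1), (107, 1), (108, 1), (109, 1), (110, 1), (114, 1), (116, 1), (117, 1), (120, 1), (121, 1), (122, 1), (123, 1), (124, 1), (126, 1), (128, 1), (131, 1), (135, 1), (137, 1), (138, 1), (139, 1), (140, 1), (142, 1), (143, 1), (144, 1), (149, 1), (151, 1)]),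
   (0, [(4, 1), (7, 1), (8, 1), (13, 1), (14, 1), (16, 1), (17, 1), (18, 1), (26, 1), (27, 1), (29, 1), (32, 1), (36, 1), (37, 1), (38, 1), (39, 1), (41, 1), (42, 1), (46, 1), (47, 1), (49, 1), (50, 1), (51, 1), (53, 1), (54, 1), (56, 1), (60, 1), (61, 1), (63, 1), (66, 1), (67, 1), (68, 1), (73, 1), (75, 1), (76, 1), (77, 1), (79, 1), (80, 1), (81, 1), (82, 1), (90, 1), (92, 1), (94, 1), (98, 1), (102, 1), (104, 1), (105, 1), (106, 1), (108, 1), (109, 1), (114, 1), (115, 1), (116, 1), (121, 1), (122, 1), (123, 1), (124, 1), (126, 1), (129, 1), (130, 1), (135, 1), (138, 1), (139, 1), (140, 1), (142, 1), (143, 1), (144, 1), (146, 1), (148, 1), (149, 1), (151, 1)]),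
   (0, [(0, 1), (6, 1), (9, 1), (12, 1), (14, 1), (15, 1), (16, 1), (17, 1), (18, 1), (20, 1), (21, 1), (22, 1), (23, 1), (29, 1), (32, 1), (33, 1), (35, 1), (37, 1), (40, 1), (41, 1), (42, 1), (44, 1), (45, 1), (47, 1), (50, 1), (52, 1), (54, 1), (56, 1), (58, 1), (60, 1), (61, 1), (63, 1), (64, 1), (65, 1), (68, 1), (71, 1), (75, 1), (77, 1), (78, 1), (79, 1), (84, 1), (85, 1), (86, 1), (88, 1), (89, 1), (91, 1), (99, 1), (100, 1), (101, 1), (103, 1), (105, 1), (106, 1), (107, 1), (112, 1), (113, 1), (114, 1), (115, 1), (119, 1), (122, 1), (123, 1), (125, 1), (126, 1), (132, 1), (136, 1), (138, 1), (142, 1), (144, 1), (146, 1), (150, 1), (151, 1), (152, 1), (157, 1), (165, 1)]),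
   (0, [(0, 1), (1, 1), (2, 1), (4, 1), (8, 1), (9, 1), (10, 1), (11, 1), (13, 1), (14, 1), (16, 1), (17, 1), (19, 1), (21, 1), (25, 1), (26, 1), (28, 1), (31, 1), (32, 1), (34, 1), (37, 1), (38, 1), (41, 1), (42, 1), (43, 1), (47, 1), (50, 1), (51, 1), (53, 1), (54, 1), (55, 1), (57, 1), (59, 1), (60, 1), (62, 1), (63, 1), (67, 1), (68, 1), (70, 1), (72, 1), (73, 1), (74, 1), (75, 1), (78, 1), (80, 1), (81, 1), (82, 1), (83, 1), (86, 1), (88, 1), (91, 1), (92, 1), (94, 1), (96, 1), (97, 1), (99, 1), (100, 1), (101, 1), (103, 1), (106, 1), (108, 1), (109, 1), (110, 1), (111, 1), (112, 1), (114, 1), (115, 1), (116, 1), (117, 1), (118, 1), (120, 1), (121, 1), (122, 1), (132, 1), (134, 1), (141, 1), (145, 1), (147, 1), (148, 1), (152, 1), (163, 1), (165, 1), (166, 1), (174, 1), (175, 1), (179, 1), (182, 1), (184, 1)]),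
   (0, [(0, 1), (2, 1), (3, 1), (4, 1), (5, 1), (6, 1), (7, 1), (8, 1), (10, 1), (11, 1), (12, 1), (13, 1), (15, 1), (18, 1), (19, 1), (25, 1), (31, 1), (33, 1), (34, 1), (35, 1), (37, 1), (39, 1), (41, 1), (43, 1), (44, 1), (45, 1), (46, 1), (47, 1), (51, 1), (52, 1), (53, 1), (54, 1), (58, 1), (61, 1), (64, 1), (65, 1), (67, 1), (68, 1), (69, 1), (70, 1), (73, 1), (76, 1), (77, 1), (78, 1), (80, 1), (81, 1), (82, 1), (85, 1), (86, 1), (89, 1), (91, 1), (94, 1), (97, 1), (99, 1), (100, 1), (103, 1), (105, 1), (107, 1), (108, 1), (109, 1), (110, 1), (111, 1), (115, 1), (116, 1), (117, 1), (118, 1), (120, 1), (121, 1), (122, 1), (125, 1), (134, 1), (136, 1), (141, 1), (145, 1), (146, 1), (147, 1), (148, 1), (150, 1), (163, 1), (166, 1), (174, 1), (175, 1), (179, 1), (182, 1), (184, 1)]),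
   (0, [(0, 1), (3, 1), (5, 1), (7, 1), (10, 1), (11, 1), (12, 1), (13, 1), (15, 1), (18, 1), (25, 1), (27, 1), (28, 1), (30, 1), (31, 1), (33, 1), (34, 1), (35, 1), (37, 1), (41, 1), (42, 1), (44, 1), (46, 1), (47, 1), (48, 1), (50, 1), (53, 1), (55, 1), (56, 1), (57, 1), (59, 1), (61, 1), (63, 1), (64, 1), (67, 1), (68, 1), (70, 1), (71, 1), (72, 1), (73, 1), (76, 1), (78, 1), (79, 1), (83, 1), (85, 1), (88, 1), (89, 1), (91, 1), (95, 1), (96, 1), (98, 1), (100, 1), (101, 1), (104, 1), (105, 1), (111, 1), (114, 1), (115, 1), (117, 1), (118, 1), (120, 1), (123, 1), (124, 1), (125, 1), (126, 1), (130, 1), (131, 1), (134, 1), (136, 1), (138, 1), (141, 1), (142, 1), (144, 1), (145, 1), (147, 1), (150, 1), (151, 1), (163, 1), (166, 1), (174, 1), (175, 1), (179, 1), (182, 1), (184, 1)]),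
   (0, [(1, 1), (2, 1), (3, 1), (6, 1), (7, 1), (11, 1), (14, 1), (15, 1), (18, 1), (22, 1), (24, 1), (26, 1), (28, 1), (34, 1), (35, 1), (36, 1), (37, 1), (41, 1), (42, 1), (43, 1), (44, 1), (45, 1), (46, 1), (49, 1), (52, 1), (53, 1), (55, 1), (58, 1), (59, 1), (60, 1), (61, 1), (63, 1), (64, 1), (67, 1), (68, 1), (69, 1), (72, 1), (73, 1), (75, 1), (76, 1), (77, 1), (79, 1), (80, 1), (81, 1), (82, 1), (83, 1), (85, 1), (86, 1), (87, 1), (89, 1), (100, 1), (101, 1), (102, 1), (104, 1), (107, 1), (112, 1), (122, 1), (123, 1), (124, 1), (125, 1), (126, 1), (128, 1), (131, 1), (132, 1), (135, 1), (136, 1), (138, 1), (139, 1), (140, 1), (142, 1), (143, 1), (144, 1), (146, 1), (149, 1), (150, 1), (151, 1), (152, 1), (165, 1)]),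
   (0, [(1, 1), (3, 1), (4, 1), (7, 1), (12, 1), (13, 1), (15, 1), (16, 1), (19, 1), (20, 1), (25, 1), (27, 1), (28, 1), (29, 1), (33, 1), (34, 1), (36, 1), (38, 1), (41, 1), (42, 1), (43, 1), (44, 1), (45, 1), (46, 1), (47, 1), (49, 1), (52, 1), (53, 1), (54, 1), (55, 1), (57, 1), (58, 1), (59, 1), (60, 1), (61, 1), (63, 1), (66, 1), (71, 1), (72, 1), (73, 1), (74, 1), (75, 1), (76, 1), (77, 1), (79, 1), (80, 1), (82, 1), (85, 1), (86, 1), (87, 1), (89, 1), (96, 1), (100, 1), (101, 1), (102, 1), (104, 1), (107, 1), (112, 1), (122, 1), (123, 1), (124, 1), (125, 1), (126, 1), (128, 1), (131, 1), (132, 1), (135, 1), (136, 1), (138, 1), (139, 1), (140, 1), (142, 1), (143, 1), (144, 1), (146, 1), (149, 1), (150, 1), (151, 1), (152, 1), (165, 1)]),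
   (0, [(2, 1), (5, 1), (6, 1), (7, 1), (8, 1), (13, 1), (14, 1), (15, 1), (16, 1), (17, 1), (18, 1), (19, 1), (20, 1), (21, 1), (22, 1), (23, 1), (24, 1), (25, 1), (26, 1), (27, 1), (28, 1), (32, 1), (33, 1), (35, 1), (37, 1), (38, 1), (44, 1), (47, 1), (50, 1), (54, 1), (60, 1), (66, 1), (71, 1), (74, 1), (83, 1)])]

def p2Sol_9 : List (ℕ × List (ℕ × ℕ)) :=
  [(0, [(1, 1), (2, 1), (3, 1), (4, 1), (7, 1), (8, 1), (11, 1), (12, 1), (16, 1), (22, 1), (23, 1), (24, 1), (27, 1), (29, 1), (32, 1), (34, 1), (35, 1), (36, 1), (38, 1), (41, 1), (42, 1), (43, 1), (44, 1), (45, 1), (46, 1), (47, 1), (49, 1), (50, 1), (52, 1), (53, 1), (55, 1), (59, 1), (60, 1), (61, 1), (62, 1), (63, 1), (64, 1), (66, 1), (67, 1), (68, 1), (72, 1), (73, 1), (75, 1), (76, 1), (77, 1), (79, 1), (80, 1), (82, 1), (83, 1), (85, 1), (86, 1), (87, 1), (89, 1), (100, 1), (101, 1), (102, 1), (104, 1), (107, 1), (112, 1), (122, 1), (123, 1), (124, 1), (125, 1), (126, 1), (128, 1), (131, 1), (132, 1), (135, 1), (136, 1), (138, 1), (139, 1), (140, 1), (142, 1), (143, 1), (144, 1), (146, 1), (149, 1), (150, 1), (151, 1), (152, 1), (165, 1)]),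
   (0, [(3, 1), (7, 1), (9, 1), (10, 1), (11, 1), (12, 1), (16, 1), (17, 1), (18, 1), (19, 1), (21, 1), (22, 1), (23, 1), (24, 1), (27, 1), (28, 1), (30, 1), (32, 1), (35, 1), (39, 1), (40, 1), (42, 1), (45, 1), (46, 1), (48, 1), (50, 1), (51, 1), (53, 1), (55, 1), (57, 1), (58, 1), (60, 1), (61, 1), (65, 1), (66, 1), (68, 1), (69, 1), (70, 1), (73, 1), (74, 1), (75, 1), (76, 1), (77, 1), (79, 1), (83, 1), (89, 1), (91, 1), (94, 1), (95, 1), (96, 1), (98, 1), (102, 1), (103, 1), (104, 1), (106, 1), (107, 1), (110, 1), (111, 1), (114, 1), (115, 1), (117, 1), (118, 1), (120, 1), (123, 1), (124, 1), (125, 1), (126, 1), (128, 1), (130, 1), (134, 1), (135, 1), (136, 1), (138, 1), (139, 1), (140, 1), (141, 1), (142, 1), (143, 1), (144, 1), (145, 1), (147, 1), (149, 1), (150, 1), (151, 1), (163, 1), (166, 1), (174, 1), (175, 1), (179, 1), (182, 1), (184, 1)]),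
   (0, [(1, 1), (3, 1), (4, 1), (5, 1), (9, 1), (11, 1), (13, 1), (14, 1), (16, 1), (17, 1), (23, 1), (24, 1), (25, 1), (26, 1), (28, 1), (29, 1), (30, 1), (31, 1), (33, 1), (34, 1), (37, 1), (40, 1), (43, 1), (46, 1), (48, 1), (49, 1), (50, 1), (55, 1), (57, 1), (61, 1), (65, 1), (68, 1), (69, 1), (73, 1), (81, 1), (83, 1), (85, 1), (88, 1), (89, 1), (91, 1), (95, 1), (96, 1), (97, 1), (98, 1), (99, 1), (100, 1), (104, 1), (105, 1), (106, 1), (110, 1), (112, 1), (114, 1), (115, 1), (125, 1), (128, 1), (130, 1), (131, 1), (132, 1), (135, 1), (136, 1), (139, 1), (140, 1), (143, 1), (148, 1), (149, 1), (150, 1), (152, 1), (165, 1)]),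
   (0, [(0, 1), (1, 1), (2, 1), (5, 1), (7, 1), (11, 1), (12, 1), (14, 1), (20, 1), (21, 1), (22, 1), (23, 1), (26, 1), (27, 1), (29, 1), (31, 1), (32, 1), (34, 1), (37, 1), (39, 1), (42, 1), (44, 1), (45, 1), (46, 1), (47, 1), (48, 1), (50, 1), (53, 1), (55, 1), (56, 1), (57, 1), (59, 1), (63, 1), (65, 1), (71, 1), (72, 1), (74, 1), (75, 1), (80, 1), (81, 1), (82, 1), (85, 1), (87, 1), (88, 1), (89, 1), (91, 1), (92, 1), (96, 1), (99, 1), (100, 1), (101, 1), (102, 1), (103, 1), (104, 1), (107, 1), (112, 1), (115, 1), (125, 1), (128, 1), (131, 1), (132, 1), (135, 1), (136, 1), (139, 1), (140, 1), (143, 1), (146, 1), (149, 1), (150, 1), (152, 1), (165, 1)]),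
   (0, [(11, 1), (12, 1), (14, 1), (23, 1), (24, 1), (25, 1), (26, 1)]),
   (0, [(0, 1), (1, 1), (4, 1), (5, 1), (6, 1), (7, 1), (8, 1), (9, 1), (10, 1), (11, 1), (13, 1), (14, 1), (15, 1), (16, 1), (17, 1), (18, 1), (19, 1), (20, 1), (21, 1), (26, 1), (30, 1), (33, 1), (41, 1), (42, 1), (43, 1), (45, 1), (47, 1), (51, 1), (52, 1), (54, 1), (55, 1), (56, 1), (64, 1), (66, 1), (68, 1), (69, 1), (70, 1), (74, 1), (75, 1), (76, 1), (77, 1), (81, 1), (83, 1), (86, 1), (88, 1), (89, 1), (91, 1), (92, 1), (95, 1), (98, 1), (102, 1), (104, 1), (106, 1), (107, 1), (110, 1), (111, 1), (114, 1), (115, 1), (117, 1), (118, 1), (120, 1), (122, 1), (125, 1), (128, 1), (130, 1), (134, 1), (135, 1), (136, 1), (139, 1), (140, 1), (141, 1), (143, 1), (145, 1), (147, 1), (149, 1), (150, 1), (163, 1), (166, 1), (174, 1), (175, 1), (179, 1), (182, 1), (184, 1)]),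
   (0, [(0, 1), (3, 1), (4, 1), (6, 1), (8, 1), (9, 1), (12, 1), (13, 1), (17, 1), (19, 1), (20, 1), (21, 1), (23, 1), (25, 1), (35, 1), (36, 1), (39, 1), (41, 1), (43, 1), (44, 1), (46, 1), (47, 1), (48, 1), (49, 1), (52, 1), (56, 1), (57, 1), (60, 1), (61, 1), (64, 1), (65, 1), (67, 1), (68, 1), (71, 1), (74, 1), (77, 1), (79, 1), (80, 1), (81, 1), (82, 1), (86, 1), (88, 1), (91, 1), (92, 1), (96, 1), (99, 1), (103, 1), (115, 1), (122, 1), (123, 1), (124, 1), (126, 1), (138, 1), (142, 1), (144, 1), (151, 1)]),
   (0, [(5, 1), (11, 1), (24, 1), (25, 1), (35, 1), (36, 1)]),
   (0, [(1, 1)]),
   (0, [(0, 1), (3, 1), (4, 1), (11, 1), (12, 1), (13, 1), (14, 1), (16, 1), (18, 1), (20, 1), (24, 1), (29, 1), (32, 1), (34, 1), (35, 1), (36, 1), (37, 1), (41, 1), (42, 1), (43, 1), (44, 1), (45, 1), (46, 1), (47, 1), (48, 1), (49, 1), (52, 1), (53, 1), (54, 1), (55, 1), (59, 1), (60, 1), (61, 1), (62, 1), (63, 1), (64, 1), (66, 1), (67, 1), (68, 1), (71, 1), (72, 1), (73, 1), (75, 1), (77, 1), (79, 1), (80, 1), (82, 1), (85, 1), (86, 1), (87, 1), (89, 1), (100, 1), (101, 1), (102, 1), (104, 1), (107, 1), (112, 1), (122, 1), (123, 1), (124, 1), (125, 1), (126, 1), (128, 1), (131, 1), (132, 1), (135, 1), (136, 1), (138,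 1), (139, 1), (140, 1), (142, 1), (143, 1), (144, 1), (146, 1), (149, 1), (150, 1), (151, 1), (152, 1), (165, 1)])]

def p2Sol_10 : List (ℕ × List (ℕ × ℕ)) :=
  [(0, [(3, 1), (4, 1), (5, 1), (6, 1), (8, 1), (11, 1), (13, 1), (14, 1), (15, 1), (16, 1), (17, 1), (19, 1), (22, 1), (24, 1), (26, 1), (28, 1), (29, 1), (33, 1), (34, 1), (35, 1), (36, 1), (37, 1), (42, 1), (45, 1), (46, 1), (49, 1), (52, 1), (53, 1), (54, 1), (55, 1), (59, 1), (60, 1), (61, 1), (63, 1), (64, 1), (67, 1), (68, 1), (71, 1), (72, 1), (73, 1), (75, 1), (77, 1), (79, 1), (80, 1), (82, 1), (85, 1), (86, 1), (87, 1), (89, 1), (100, 1), (101, 1), (102, 1), (104, 1), (107, 1), (112, 1), (122, 1), (123, 1), (124, 1), (125, 1), (126, 1), (128, 1), (131, 1), (132, 1), (135, 1), (136, 1), (138, 1), (139, 1), (140, 1), (142, 1), (143, 1), (144, 1), (146, 1), (149, 1), (150, 1), (151, 1), (152, 1), (165, 1)]),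
   (0, [(11, 1), (12, 1), (14, 1), (23, 1), (26, 1)]),
   (0, [(3, 1), (4, 1), (6, 1), (11, 1), (13, 1), (15, 1), (17, 1), (19, 1), (23, 1), (24, 1), (26, 1), (29, 1), (32, 1), (34, 1), (35, 1), (36, 1), (37, 1), (42, 1), (44, 1), (45, 1), (46, 1), (47, 1), (49, 1), (52, 1), (53, 1), (54, 1), (55, 1), (59, 1), (60, 1), (61, 1), (62, 1), (63, 1), (64, 1), (66, 1), (67, 1), (68, 1), (71, 1), (72, 1), (73, 1), (75, 1), (77, 1), (79, 1), (80, 1), (82, 1), (85, 1), (86, 1), (87, 1), (89, 1), (100, 1), (101, 1), (102, 1), (104, 1), (107, 1), (112, 1), (122, 1), (123, 1), (124, 1), (125, 1), (126, 1), (128, 1), (131, 1), (132, 1), (135, 1), (136, 1), (138, 1), (139, 1), (140, 1), (142, 1), (143, 1), (144, 1), (146, 1), (149, 1), (150, 1), (151, 1), (152, 1), (165, 1)]),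
   (0, [(1, 1), (6, 1), (8, 1), (12, 1), (14, 1), (15, 1), (18, 1), (22, 1), (23, 1), (26, 1), (41, 1), (43, 1)]),
   (0, [(12, 1), (14, 1), (23, 1), (26, 1)]),
   (0, [(3, 1), (4, 1), (5, 1), (7, 1), (17, 1), (22, 1), (25, 1), (26, 1), (32, 1), (34, 1), (37, 1), (44, 1), (45, 1), (47, 1), (52, 1), (53, 1), (54, 1), (55, 1), (60, 1), (61, 1), (62, 1), (63, 1), (64, 1), (66, 1), (67, 1), (68, 1), (71, 1), (72, 1), (73, 1), (77, 1), (79, 1), (80, 1), (82, 1), (85, 1), (86, 1), (87, 1), (89, 1), (100, 1), (101, 1), (102, 1), (104, 1), (107, 1), (112, 1), (122, 1), (123, 1), (124, 1), (125, 1), (126, 1), (128, 1), (131, 1), (132, 1), (135, 1), (136, 1), (138, 1), (139, 1), (140, 1), (142, 1), (143, 1), (144, 1), (146, 1), (149, 1), (150, 1), (151, 1), (152, 1), (165, 1)]),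
   (0, [(0, 1), (1, 1), (3, 1), (4, 1), (5, 1), (7, 1), (8, 1), (9, 1), (10, 1), (11, 1), (12, 1), (13, 1), (14, 1), (17, 1), (19, 1), (23, 1), (24, 1), (25, 1), (26, 1), (27, 1), (30, 1), (31, 1), (33, 1), (34, 1), (35, 1), (38, 1), (39, 1), (40, 1), (44, 1), (45, 1), (46, 1), (47, 1), (50, 1), (51, 1), (52, 1), (54, 1), (57, 1), (58, 1), (59, 1), (63, 1), (64, 1), (65, 1), (67, 1), (68, 1), (70, 1), (71, 1), (72, 1), (74, 1), (75, 1), (76, 1), (79, 1), (80, 1), (82, 1), (83, 1), (85, 1), (86, 1), (91, 1), (94, 1), (95, 1), (96, 1), (98, 1), (100, 1), (103, 1), (106, 1), (110, 1), (111, 1), (112, 1), (114, 1), (115, 1), (117, 1), (118, 1), (120, 1), (122, 1), (130, 1), (131, 1), (132, 1), (134, 1), (141, 1), (145, 1), (146, 1), (147, 1), (152, 1), (163, 1), (165, 1), (166, 1), (174, 1), (175, 1), (179, 1), (182, 1), (184, 1)]),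
   (0, [(1, 1), (2, 1), (5, 1), (9, 1), (10, 1), (11, 1), (12, 1), (14, 1), (16, 1), (17, 1), (18, 1), (19, 1), (20, 1), (22, 1), (27, 1), (29, 1), (30, 1), (31, 1), (32, 1), (33, 1), (36, 1), (40, 1), (42, 1), (46, 1), (47, 1), (48, 1), (49, 1), (51, 1), (53, 1), (55, 1), (57, 1), (58, 1), (60, 1), (62, 1), (70, 1), (72, 1), (73, 1), (74, 1), (76, 1), (77, 1), (79, 1), (83, 1), (87, 1), (88, 1), (89, 1), (91, 1), (94, 1), (95, 1), (96, 1), (98, 1), (101, 1), (102, 1), (103, 1), (104, 1), (106, 1), (107, 1), (110, 1), (111, 1), (114, 1), (115, 1), (117, 1), (118, 1), (120, 1), (123, 1), (124, 1), (125, 1), (126, 1), (128, 1), (130, 1), (134, 1), (135, 1), (136, 1), (138, 1), (139, 1), (140, 1), (141, 1), (142, 1), (143, 1), (144, 1), (145, 1), (147, 1), (149, 1), (150, 1), (151, 1), (163, 1), (166, 1), (174, 1), (175, 1), (179, 1), (182, 1), (184, 1)]),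
   (0, [(2, 1), (5, 1), (8, 1), (10, 1), (11, 1), (14, 1), (17, 1), (18, 1), (23, 1), (24, 1), (25, 1), (38, 1)]),
   (0, [(0, 1), (2, 1), (8, 1), (9, 1), (11, 1), (12, 1), (16, 1), (19, 1), (21, 1), (22, 1), (24, 1), (25, 1), (26, 1), (27, 1), (28, 1), (31, 1), (32, 1), (33, 1), (34, 1), (37, 1), (39, 1), (41, 1), (43, 1), (44, 1), (45, 1), (47, 1), (48, 1), (50, 1), (54, 1), (55, 1), (57, 1), (59, 1), (65, 1), (71, 1), (72, 1), (74, 1), (75, 1), (81, 1), (85, 1), (87, 1), (88, 1), (89, 1), (91, 1), (96, 1), (99, 1), (100, 1), (101, 1), (102, 1), (103, 1), (104, 1), (107, 1), (112, 1), (115, 1), (125, 1), (128, 1), (131, 1), (132, 1), (135, 1), (136, 1), (139, 1), (140, 1), (143, 1), (146, 1), (149, 1), (150, 1), (152, 1), (165, 1)])]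

def p2Sol_11 : List (ℕ × List (ℕ × ℕ)) :=
  [(0, [(0, 1), (7, 1), (8, 1), (10, 1), (11, 1), (12, 1), (13, 1), (17, 1), (19, 1), (20, 1), (24, 1), (25, 1), (26, 1), (27, 1), (28, 1), (30, 1), (31, 1), (32, 1), (36, 1), (37, 1), (40, 1), (44, 1), (47, 1), (49, 1), (50, 1), (51, 1), (52, 1), (53, 1), (54, 1), (55, 1), (57, 1), (58, 1), (60, 1), (62, 1), (66, 1), (70, 1), (72, 1), (74, 1), (76, 1), (77, 1), (79, 1), (83, 1), (85, 1), (87, 1), (88, 1), (89, 1), (91, 1), (94, 1), (95, 1), (96, 1), (98, 1), (101, 1), (102, 1), (103, 1), (104, 1), (106, 1), (107, 1), (110, 1), (111, 1), (114, 1), (115, 1), (117, 1), (118, 1), (120, 1), (123, 1), (124, 1), (125, 1), (126, 1), (128, 1), (130, 1), (134, 1), (135, 1), (136, 1), (138, 1), (139, 1), (140, 1), (141, 1), (142, 1), (143, 1), (144, 1), (145, 1), (147, 1), (149, 1), (150, 1), (151, 1), (163, 1), (166, 1), (174, 1), (175, 1), (179, 1), (182, 1), (184, 1)]),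
   (0, [(0, 1), (2, 1), (3, 1), (4, 1), (6, 1), (11, 1), (12, 1), (13, 1), (14, 1), (16, 1), (18, 1), (20, 1), (22, 1), (24, 1), (29, 1), (31, 1), (32, 1), (34, 1), (35, 1), (36, 1), (37, 1), (39, 1), (41, 1), (42, 1), (43, 1), (44, 1), (45, 1), (47, 1), (48, 1), (49, 1), (52, 1), (53, 1), (54, 1), (55, 1), (59, 1), (60, 1), (61, 1), (62, 1), (63, 1), (64, 1), (66, 1), (67, 1), (68, 1), (71, 1), (72, 1), (73, 1), (75, 1), (77, 1), (79, 1), (80, 1), (82, 1), (85, 1), (86, 1), (87, 1), (89, 1), (100, 1), (101, 1), (102, 1), (104, 1), (107, 1), (112, 1), (122, 1), (123, 1), (124, 1), (125, 1), (126, 1), (128, 1), (131, 1), (132, 1), (135, 1), (136, 1), (138, 1), (139, 1), (140, 1), (142, 1), (143, 1), (144, 1), (146, 1), (149, 1), (150, 1), (151, 1), (152, 1), (165, 1)]),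
   (0, [(1, 1), (6, 1), (8, 1), (11, 1), (14, 1), (18, 1), (22, 1), (23, 1), (25, 1), (43, 1)]),
   (0, [(6, 1), (31, 1), (42, 1)]),
   (0, [(5, 1), (6, 1), (14, 1), (15, 1), (17, 1), (23, 1), (29, 1), (32, 1), (66, 1)]),
   (0, [(11, 1), (12, 1), (14, 1), (23, 1), (28, 1)]),
   (0, [(3, 1), (4, 1), (6, 1), (11, 1), (15, 1), (16, 1), (17, 1), (19, 1), (23, 1), (24, 1), (26, 1), (29, 1), (32, 1), (34, 1), (35, 1), (36, 1), (37, 1), (42, 1), (44, 1), (45, 1), (46, 1), (47, 1), (49, 1), (52, 1), (53, 1), (54, 1), (55, 1), (59, 1), (60, 1), (61, 1), (62, 1), (63, 1), (64, 1), (66, 1), (67, 1), (68, 1), (71, 1), (72, 1), (73, 1), (75, 1), (77, 1), (79, 1), (80, 1), (82, 1), (85, 1), (86, 1), (87, 1), (89, 1), (100, 1), (101, 1), (102, 1), (104, 1), (107, 1), (112, 1), (122, 1), (123, 1), (124, 1), (125, 1), (126, 1), (128, 1), (131, 1), (132, 1), (135, 1), (136, 1), (138, 1), (139, 1), (140, 1), (142, 1), (143, 1), (144, 1), (146, 1), (149, 1), (150, 1), (151, 1), (152, 1), (165, 1)]),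
   (0, [(1, 1), (2, 1), (4, 1), (5, 1), (6, 1), (14, 1), (15, 1), (17, 1), (22, 1), (23, 1), (37, 1), (38, 1), (41, 1), (43, 1)]),
   (0, [(6, 1)]),
   (0, [(8, 1), (14, 1), (17, 1), (23, 1)])]

def p2Sol_12 : List (ℕ × List (ℕ × ℕ)) :=
  [(0, [(2, 1), (3, 1), (5, 1), (8, 1), (9, 1), (10, 1), (11, 1), (16, 1), (18, 1), (21, 1), (22, 1), (23, 1), (24, 1), (26, 1), (27, 1), (28, 1), (30, 1), (32, 1), (35, 1), (39, 1), (40, 1), (42, 1), (46, 1), (48, 1), (50, 1), (51, 1), (53, 1), (55, 1), (57, 1), (58, 1), (60, 1), (61, 1), (65, 1), (66, 1), (68, 1), (69, 1), (70, 1), (73, 1), (74, 1), (75, 1), (76, 1), (77, 1), (79, 1), (83, 1), (89, 1), (91, 1), (94, 1), (95, 1), (96, 1), (98, 1), (102, 1), (103, 1), (104, 1), (106, 1), (107, 1), (110, 1), (111, 1), (114, 1), (115, 1), (117, 1), (118, 1), (120, 1), (123, 1), (124, 1), (125, 1), (126, 1), (128, 1), (130, 1), (134, 1), (135, 1), (136, 1), (138, 1), (139, 1), (140, 1), (141, 1), (142, 1), (143, 1), (144, 1), (145, 1), (147, 1), (149, 1), (150, 1), (151, 1), (163, 1), (166, 1), (174, 1), (175, 1), (179, 1), (182, 1), (184, 1)]),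
   (0, [(0, 1), (1, 1), (2, 1), (5, 1), (6, 1), (8, 1), (9, 1), (13, 1), (16, 1), (18, 1), (19, 1), (20, 1), (21, 1), (22, 1), (25, 1), (27, 1), (28, 1), (29, 1), (30, 1), (33, 1), (35, 1), (36, 1), (40, 1), (41, 1), (42, 1), (44, 1), (45, 1), (47, 1), (52, 1), (53, 1), (54, 1), (57, 1), (59, 1), (60, 1), (62, 1), (63, 1), (64, 1), (65, 1), (67, 1), (69, 1), (71, 1), (75, 1), (77, 1), (80, 1), (81, 1), (82, 1), (83, 1), (86, 1), (87, 1), (88, 1), (91, 1), (95, 1), (96, 1), (97, 1), (98, 1), (99, 1), (101, 1), (102, 1), (105, 1), (106, 1), (107, 1), (110, 1), (114, 1), (115, 1), (122, 1), (123, 1), (124, 1), (126, 1), (130, 1), (138, 1), (142, 1), (144, 1), (146, 1), (148, 1), (151, 1)]),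
   (0, [(3, 1), (6, 1), (7, 1), (8, 1), (9, 1), (10, 1), (13, 1), (15, 1), (18, 1), (19, 1), (20, 1), (21, 1), (25, 1), (29, 1), (30, 1), (32, 1), (33, 1), (36, 1), (39, 1), (40, 1), (42, 1), (46, 1), (47, 1), (48, 1), (50, 1), (51, 1), (52, 1), (53, 1), (54, 1), (55, 1), (56, 1), (58, 1), (61, 1), (64, 1), (66, 1), (67, 1), (68, 1), (70, 1), (72, 1), (76, 1), (81, 1), (83, 1), (86, 1), (87, 1), (89, 1), (92, 1), (94, 1), (95, 1), (98, 1), (99, 1), (101, 1), (102, 1), (104, 1), (106, 1), (107, 1), (110, 1), (111, 1), (114, 1), (117, 1), (118, 1), (120, 1), (122, 1), (125, 1), (128, 1), (130, 1), (134, 1), (135, 1), (136, 1), (139, 1), (140, 1), (141, 1), (143, 1), (145, 1), (147, 1), (149, 1), (150, 1), (163, 1), (166, 1), (174, 1), (175, 1), (179, 1), (182, 1), (184, 1)]),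
   (0, [(0, 1), (2, 1), (5, 1), (7, 1), (10, 1), (11, 1), (12, 1), (16, 1), (17, 1), (18, 1), (20, 1), (23, 1), (24, 1), (25, 1), (26, 1), (29, 1), (31, 1), (33, 1), (35, 1), (36, 1), (38, 1), (41, 1), (43, 1), (46, 1), (48, 1), (82, 1)]),
   (0, [(1, 1), (3, 1), (5, 1), (6, 1), (8, 1), (10, 1), (11, 1), (12, 1), (13, 1), (14, 1), (15, 1), (16, 1), (17, 1), (18, 1), (19, 1), (23, 1), (25, 1), (26, 1), (27, 1), (28, 1), (30, 1), (31, 1), (32, 1), (35, 1), (36, 1), (39, 1), (45, 1), (46, 1), (47, 1), (48, 1), (49, 1), (50, 1), (51, 1), (54, 1), (55, 1), (56, 1), (57, 1), (60, 1), (61, 1), (62, 1), (63, 1), (65, 1), (66, 1), (67, 1), (69, 1), (70, 1), (73, 1), (75, 1), (76, 1), (79, 1), (80, 1), (82, 1), (83, 1), (89, 1), (92, 1), (95, 1), (96, 1), (98, 1), (99, 1), (102, 1), (103, 1), (104, 1), (106, 1), (107, 1), (110, 1), (111, 1), (114, 1), (117, 1), (118, 1), (120, 1), (123, 1), (124, 1), (125, 1), (126, 1), (128, 1), (130, 1), (134, 1), (135, 1), (136, 1), (138, 1), (139, 1), (140, 1), (141, 1), (142, 1), (143, 1), (144, 1), (145, 1), (147, 1), (149, 1), (150, 1), (151, 1), (163, 1), (166, 1), (174, 1), (175, 1), (179, 1), (182, 1), (184, 1)]),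
   (0, [(7, 1), (8, 1), (9, 1), (10, 1), (13, 1), (16, 1), (21, 1), (22, 1), (23, 1), (30, 1), (31, 1), (33, 1), (34, 1), (36, 1), (39, 1), (40, 1), (41, 1), (42, 1), (43, 1), (45, 1), (48, 1), (49, 1), (51, 1), (52, 1), (54, 1), (56, 1), (58, 1), (59, 1), (60, 1), (62, 1), (63, 1), (65, 1), (66, 1), (70, 1), (71, 1), (75, 1), (76, 1), (77, 1), (79, 1), (81, 1), (83, 1), (92, 1), (94, 1), (95, 1), (98, 1), (99, 1), (100, 1), (106, 1), (110, 1), (111, 1), (112, 1), (114, 1), (117, 1), (118, 1), (120, 1), (123, 1), (124, 1), (126, 1), (130, 1), (131, 1), (132, 1), (134, 1), (138, 1), (141, 1), (142, 1), (144, 1), (145, 1), (146, 1), (147, 1), (151, 1), (152, 1), (163, 1), (165, 1), (166, 1), (174, 1), (175, 1), (179, 1), (182, 1), (184, 1)]),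
   (0, [(2, 1), (5, 1), (8, 1), (16, 1), (21, 1), (22, 1), (23, 1), (24, 1), (28, 1), (29, 1), (31, 1), (32, 1), (35, 1), (36, 1), (37, 1), (38, 1), (41, 1), (42, 1), (43, 1), (47, 1), (55, 1), (62, 1), (66, 1), (69, 1), (78, 1)]),
   (0, [(3, 1), (4, 1), (5, 1), (8, 1), (12, 1), (13, 1), (15, 1), (16, 1), (17, 1), (19, 1), (21, 1), (22, 1), (24, 1), (25, 1), (28, 1), (29, 1), (33, 1), (34, 1), (35, 1), (36, 1), (37, 1), (42, 1), (45, 1), (46, 1), (49, 1), (52, 1), (53, 1), (54, 1), (59, 1), (60, 1), (61, 1), (63, 1), (64, 1), (67, 1), (68, 1), (71, 1), (72, 1), (73, 1), (75, 1), (77, 1), (79, 1), (80, 1), (82, 1), (85, 1), (86, 1), (87, 1), (89, 1), (100, 1), (101, 1), (102, 1), (104, 1), (107, 1), (112, 1), (122, 1), (123, 1), (124, 1), (125, 1), (126, 1), (128, 1), (131, 1), (132, 1), (135, 1), (136, 1), (138, 1), (139, 1), (140, 1), (142, 1), (143, 1), (144, 1), (146, 1), (149, 1), (150, 1), (151, 1), (152, 1), (165, 1)]),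
   (0, [(0, 1), (5, 1), (6, 1), (7, 1), (11, 1), (13, 1), (15, 1), (16, 1), (17, 1), (18, 1), (19, 1), (20, 1), (22, 1), (23, 1), (24, 1), (25, 1), (35, 1), (36, 1), (41, 1), (42, 1), (43, 1), (46, 1), (48, 1), (49, 1), (75, 1)]),
   (0, [(3, 1), (4, 1), (6, 1), (8, 1), (11, 1), (12, 1), (13, 1), (14, 1), (15, 1), (16, 1), (17, 1), (20, 1), (21, 1), (24, 1), (28, 1), (32, 1), (33, 1), (34, 1), (35, 1), (36, 1), (37, 1), (42, 1), (45, 1), (46, 1), (49, 1), (50, 1), (52, 1), (53, 1), (54, 1), (55, 1), (59, 1), (60, 1), (61, 1), (63, 1), (64, 1), (66, 1), (67, 1), (68, 1), (71, 1), (72, 1), (73, 1), (75, 1), (77, 1), (79, 1), (80, 1), (82, 1), (85, 1), (86, 1), (87, 1), (89, 1), (100, 1), (101, 1), (102, 1), (104, 1), (107, 1), (112, 1), (122, 1), (123, 1), (124, 1), (125, 1), (126, 1), (128, 1), (131, 1), (132, 1), (135, 1), (136, 1), (138, 1), (139, 1), (140, 1), (142, 1), (143, 1), (144, 1), (146, 1), (149, 1), (150, 1), (151, 1), (152, 1), (165, 1)])]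

def p2Sol_13 : List (ℕ × List (ℕ × ℕ)) :=
  [(0, [(3, 1), (4, 1), (6, 1), (11, 1), (12, 1), (13, 1), (14, 1), (16, 1), (17, 1), (19, 1), (22, 1), (24, 1), (26, 1), (27, 1), (28, 1), (32, 1), (33, 1), (34, 1), (35, 1), (36, 1), (37, 1), (40, 1), (42, 1), (45, 1), (46, 1), (49, 1), (52, 1), (53, 1), (54, 1), (55, 1), (59, 1), (60, 1), (61, 1), (63, 1), (64, 1), (66, 1), (67, 1), (68, 1), (71, 1), (72, 1), (73, 1), (75, 1), (77, 1), (79, 1), (80, 1), (82, 1), (85, 1), (86, 1), (87, 1), (89, 1), (100, 1), (101, 1), (102, 1), (104, 1), (107, 1), (112, 1), (122, 1), (123, 1), (124, 1), (125, 1), (126, 1), (128, 1), (131, 1), (132, 1), (135, 1), (136, 1), (138, 1), (139, 1), (140, 1), (142, 1), (143, 1), (144, 1), (146, 1), (149, 1), (150, 1), (151, 1), (152, 1), (165, 1)]),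
   (0, [(6, 1), (8, 1), (12, 1), (13, 1), (15, 1), (17, 1), (22, 1), (26, 1), (29, 1), (33, 1), (44, 1)]),
   (0, [(2, 1), (3, 1), (5, 1), (6, 1), (11, 1), (13, 1), (14, 1), (18, 1), (19, 1), (22, 1), (24, 1), (26, 1), (32, 1), (33, 1), (34, 1), (35, 1), (36, 1), (38, 1), (42, 1), (45, 1), (46, 1), (47, 1), (49, 1), (52, 1), (53, 1), (54, 1), (55, 1), (59, 1), (60, 1), (61, 1), (62, 1), (63, 1), (64, 1), (66, 1), (67, 1), (68, 1), (69, 1), (71, 1), (72, 1), (73, 1), (75, 1), (77, 1), (79, 1), (80, 1), (82, 1), (85, 1), (86, 1), (87, 1), (89, 1), (100, 1), (101, 1), (102, 1), (104, 1), (107, 1), (112, 1), (122, 1), (123, 1), (124, 1), (125, 1), (126, 1), (128, 1), (131, 1), (132, 1), (135, 1), (136, 1), (138, 1), (139, 1), (140, 1), (142, 1), (143, 1), (144, 1), (146, 1), (149, 1), (150, 1), (151, 1), (152, 1), (165, 1)]),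
   (0, [(8, 1), (17, 1), (19, 1), (20, 1), (22, 1)]),
   (0, [(8, 1), (14, 1), (17, 1), (20, 1), (22, 1)]),
   (0, [(12, 1), (20, 1), (22, 1), (26, 1)]),
   (0, [(4, 1), (5, 1), (8, 1), (9, 1), (10, 1), (11, 1), (14, 1), (16, 1), (17, 1), (18, 1), (19, 1), (21, 1), (22, 1), (24, 1), (25, 1), (27, 1), (28, 1), (29, 1), (30, 1), (34, 1), (35, 1), (37, 1), (39, 1), (40, 1), (42, 1), (44, 1), (46, 1), (47, 1), (48, 1), (50, 1), (51, 1), (52, 1), (54, 1), (57, 1), (58, 1), (62, 1), (63, 1), (64, 1), (65, 1), (67, 1), (69, 1), (70, 1), (71, 1), (72, 1), (74, 1), (75, 1), (76, 1), (80, 1), (82, 1), (83, 1), (85, 1), (86, 1), (87, 1), (91, 1), (94, 1), (95, 1), (96, 1), (98, 1), (100, 1), (101, 1), (103, 1), (106, 1), (110, 1), (111, 1), (112, 1), (114, 1), (115, 1), (117, 1), (118, 1), (120, 1), (122, 1), (130, 1), (131, 1), (132, 1), (134, 1), (141, 1), (145, 1), (146, 1), (147, 1), (152, 1), (163, 1), (165, 1), (166, 1), (174, 1), (175, 1), (179, 1), (182, 1), (184, 1)]),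
   (0, [(0, 1), (5, 1), (7, 1), (10, 1), (12, 1), (14, 1), (16, 1), (18, 1), (19, 1), (21, 1), (23, 1), (28, 1), (32, 1), (35, 1), (37, 1), (38, 1), (39, 1), (43, 1), (44, 1), (45, 1), (47, 1), (48, 1), (49, 1), (50, 1), (51, 1), (52, 1), (54, 1), (55, 1), (58, 1), (59, 1), (61, 1), (63, 1), (64, 1), (66, 1), (67, 1), (69, 1), (70, 1), (71, 1), (73, 1), (74, 1), (75, 1), (76, 1), (79, 1), (80, 1), (81, 1), (82, 1), (86, 1), (88, 1), (89, 1), (94, 1), (97, 1), (99, 1), (103, 1), (104, 1), (105, 1), (111, 1), (117, 1), (118, 1), (120, 1), (122, 1), (125, 1), (128, 1), (134, 1), (135, 1), (136, 1), (139, 1), (140, 1), (141, 1), (143, 1), (145, 1), (146, 1), (147, 1), (148, 1), (149, 1), (150, 1), (163, 1), (166, 1), (174, 1), (175, 1), (179, 1), (182, 1), (184, 1)]),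
   (0, [(0, 1), (2, 1), (6, 1), (8, 1), (9, 1), (10, 1), (15, 1), (20, 1), (22, 1), (23, 1), (26, 1), (29, 1), (30, 1), (34, 1), (36, 1), (37, 1), (39, 1), (40, 1), (45, 1), (49, 1), (50, 1), (51, 1), (52, 1), (56, 1), (58, 1), (59, 1), (60, 1), (62, 1), (63, 1), (65, 1), (70, 1), (71, 1), (73, 1), (75, 1), (76, 1), (77, 1), (79, 1), (80, 1), (81, 1), (82, 1), (83, 1), (85, 1), (92, 1), (94, 1), (95, 1), (98, 1), (99, 1), (100, 1), (106, 1), (110, 1), (111, 1), (112, 1), (114, 1), (117, 1), (118, 1), (120, 1), (123, 1), (124, 1), (126, 1), (130, 1), (131, 1), (132, 1), (134, 1), (138, 1), (141, 1), (142, 1), (144, 1), (145, 1), (146, 1), (147, 1), (151, 1), (152, 1), (163, 1), (165, 1), (166, 1), (174, 1), (175, 1), (179, 1), (182, 1), (184, 1)]),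
   (0, [(10, 1), (12, 1), (26, 1)])]

def p2Sol_14 : List (ℕ × List (ℕ × ℕ)) :=
  [(0, [(1, 1), (2, 1), (4, 1), (6, 1), (8, 1), (10, 1), (12, 1), (13, 1), (17, 1), (18, 1), (21, 1), (22, 1), (23, 1), (24, 1), (25, 1), (28, 1), (29, 1), (30, 1), (31, 1), (34, 1), (37, 1), (39, 1), (42, 1), (44, 1), (48, 1), (50, 1), (51, 1), (52, 1), (56, 1), (57, 1), (59, 1), (63, 1), (64, 1), (65, 1), (66, 1), (68, 1), (69, 1), (70, 1), (71, 1), (72, 1), (76, 1), (77, 1), (83, 1), (85, 1), (86, 1), (87, 1), (92, 1), (95, 1), (96, 1), (98, 1), (99, 1), (100, 1), (101, 1), (103, 1), (106, 1), (110, 1), (111, 1), (112, 1), (114, 1), (117, 1), (118, 1), (120, 1), (122, 1), (130, 1), (131, 1), (132, 1), (134, 1), (141, 1), (145, 1), (146, 1), (147, 1), (152, 1), (163, 1), (165, 1), (166, 1), (174, 1), (175, 1), (179, 1), (182, 1), (184, 1)]),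
   (0, [(2, 1), (3, 1), (4, 1), (6, 1), (8, 1), (9, 1), (10, 1), (11, 1), (12, 1), (14, 1), (17, 1), (18, 1), (19, 1), (20, 1), (21, 1), (22, 1), (23, 1), (24, 1), (28, 1), (30, 1), (31, 1), (32, 1), (35, 1), (37, 1), (39, 1), (40, 1), (41, 1), (43, 1), (46, 1), (48, 1), (51, 1), (53, 1), (55, 1), (56, 1), (58, 1), (61, 1), (62, 1), (64, 1), (65, 1), (66, 1), (67, 1), (68, 1), (70, 1), (72, 1), (76, 1), (80, 1), (81, 1), (82, 1), (83, 1), (85, 1), (86, 1), (87, 1), (89, 1), (92, 1), (94, 1), (95, 1), (98, 1), (99, 1), (101, 1), (102, 1), (104, 1), (106, 1), (107, 1), (110, 1), (111, 1), (114, 1), (117, 1), (118, 1), (120, 1), (122, 1), (125, 1), (128, 1), (130, 1), (134, 1), (135, 1), (136, 1), (139, 1), (140, 1), (141, 1), (143, 1), (145, 1), (147, 1), (149, 1), (150, 1), (163, 1), (166, 1), (174, 1), (175, 1), (179, 1), (182, 1), (184, 1)]),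
   (0, [(0, 1), (3, 1), (4, 1), (5, 1), (6, 1), (8, 1), (13, 1), (16, 1), (17, 1), (18, 1), (20, 1), (23, 1), (25, 1), (26, 1), (29, 1), (31, 1), (32, 1), (34, 1), (37, 1), (41, 1), (42, 1), (43, 1), (44, 1), (45, 1), (47, 1), (48, 1), (49, 1), (52, 1), (53, 1), (54, 1), (55, 1), (59, 1), (60, 1), (61, 1), (62, 1), (63, 1), (64, 1), (66, 1), (67, 1), (68, 1), (71, 1), (72, 1), (73, 1), (75, 1), (77, 1), (79, 1), (80, 1), (82, 1), (85, 1), (86, 1), (87, 1), (89, 1), (100, 1), (101, 1), (102, 1), (104, 1), (107, 1), (112, 1), (122, 1), (123, 1), (124, 1), (125, 1), (126, 1), (128, 1), (131, 1), (132, 1), (135, 1), (136, 1), (138, 1), (139, 1), (140, 1), (142, 1), (143, 1), (144, 1), (146, 1), (149, 1), (150, 1), (151, 1), (152, 1), (165, 1)]),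
   (0, [(11, 1), (14, 1), (23, 1), (25, 1)]),
   (0, [(0, 1), (3, 1), (4, 1), (6, 1), (8, 1), (11, 1), (12, 1), (13, 1), (15, 1), (16, 1), (18, 1), (20, 1), (23, 1), (24, 1), (29, 1), (31, 1), (32, 1), (34, 1), (35, 1), (36, 1), (37, 1), (41, 1), (42, 1), (43, 1), (44, 1), (45, 1), (46, 1), (47, 1), (48, 1), (49, 1), (52, 1), (53, 1), (54, 1), (55, 1), (59, 1), (60, 1), (61, 1), (62, 1), (63, 1), (64, 1), (66, 1), (67, 1), (68, 1), (71, 1), (72, 1), (73, 1), (75, 1), (77, 1), (79, 1), (80, 1), (82, 1), (85, 1), (86, 1), (87, 1), (89, 1), (100, 1), (101, 1), (102, 1), (104, 1), (107, 1), (112, 1), (122, 1), (123, 1), (124, 1), (125, 1), (126, 1), (128, 1), (131, 1), (132, 1), (135, 1), (136, 1), (138, 1), (139, 1), (140, 1), (142, 1), (143, 1), (144, 1), (146, 1), (149, 1), (150, 1), (151, 1), (152, 1), (165, 1)]),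
   (0, [(3, 1), (4, 1), (6, 1), (11, 1), (13, 1), (14, 1), (16, 1), (17, 1), (19, 1), (22, 1), (24, 1), (26, 1), (27, 1), (28, 1), (32, 1), (33, 1), (34, 1), (35, 1), (36, 1), (37, 1), (42, 1), (45, 1), (46, 1), (49, 1), (52, 1), (53, 1), (54, 1), (55, 1), (59, 1), (60, 1), (61, 1), (63, 1), (64, 1), (66, 1), (67, 1), (68, 1), (71, 1), (72, 1), (73, 1), (75, 1), (77, 1), (79, 1), (80, 1), (82, 1), (85, 1), (86, 1), (87, 1), (89, 1), (100, 1), (101, 1), (102, 1), (104, 1), (107, 1), (112, 1), (122, 1), (123, 1), (124, 1), (125, 1), (126, 1), (128, 1), (131, 1), (132, 1), (135, 1), (136, 1), (138, 1), (139, 1), (140, 1), (142, 1), (143, 1), (144, 1), (146, 1), (149, 1), (150, 1), (151, 1), (152, 1), (165, 1)]),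
   (0, [(26, 1)]),
   (0, [(12, 1), (13, 1), (26, 1)]),
   (0, [(2, 1), (5, 1), (8, 1), (12, 1), (17, 1), (18, 1), (26, 1), (37, 1), (38, 1)]),
   (0, [(8, 1)])]

def p2Sol_15 : List (ℕ × List (ℕ × ℕ)) :=
  [(0, [(8, 1), (15, 1), (17, 1)]),
   (0, [(8, 1), (17, 1), (19, 1), (20, 1), (21, 1), (22, 1)]),
   (0, [(12, 1), (26, 1)]),
   (0, [(7, 1), (9, 1), (10, 1), (11, 1), (12, 1), (16, 1), (17, 1), (18, 1), (19, 1), (21, 1), (22, 1), (23, 1), (24, 1), (27, 1), (28, 1), (30, 1), (32, 1), (35, 1), (39, 1), (40, 1), (42, 1), (45, 1), (46, 1), (48, 1), (50, 1), (51, 1), (53, 1), (55, 1), (57, 1), (58, 1), (60, 1), (61, 1), (65, 1), (66, 1), (68, 1), (69, 1), (70, 1), (73, 1), (74, 1), (75, 1), (76, 1), (77, 1), (79, 1), (83, 1), (89, 1), (91, 1), (94, 1), (95, 1), (96, 1), (98, 1), (102, 1), (103, 1), (104, 1), (106, 1), (107, 1), (110, 1), (111, 1), (114, 1), (115, 1), (117, 1), (118, 1), (120, 1), (123, 1), (124, 1), (125, 1), (126, 1), (128, 1), (130, 1), (134, 1), (135, 1), (136, 1), (138, 1), (139, 1), (140, 1), (141, 1), (142, 1), (143, 1), (144, 1), (145, 1), (147, 1), (149, 1), (150, 1), (151, 1), (163, 1), (166, 1), (174, 1), (175, 1), (179, 1), (182, 1), (184, 1)]),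
   (0, [(1, 1), (6, 1), (8, 1), (9, 1), (12, 1), (13, 1), (15, 1), (17, 1), (18, 1), (20, 1), (22, 1), (25, 1), (26, 1), (27, 1), (28, 1), (29, 1), (30, 1), (33, 1), (35, 1), (36, 1), (40, 1), (43, 1), (44, 1), (45, 1), (47, 1), (48, 1), (52, 1), (53, 1), (54, 1), (56, 1), (57, 1), (59, 1), (60, 1), (62, 1), (63, 1), (64, 1), (65, 1), (67, 1), (69, 1), (71, 1), (75, 1), (77, 1), (79, 1), (80, 1), (81, 1), (82, 1), (83, 1), (86, 1), (87, 1), (88, 1), (91, 1), (95, 1), (96, 1), (97, 1), (98, 1), (99, 1), (101, 1), (102, 1), (105, 1), (106, 1), (107, 1), (110, 1), (114, 1), (115, 1), (122, 1), (123, 1), (124, 1), (126, 1), (130, 1), (138, 1), (142, 1), (144, 1), (146, 1), (148, 1), (151, 1)]),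
   (0, [(0, 1), (1, 1), (2, 1), (3, 1), (4, 1), (5, 1), (7, 1), (8, 1), (13, 1), (14, 1), (15, 1), (16, 1), (19, 1), (21, 1), (24, 1), (26, 1), (27, 1), (28, 1), (31, 1), (32, 1), (33, 1), (35, 1), (36, 1), (39, 1), (44, 1), (48, 1), (49, 1), (50, 1), (52, 1), (54, 1), (56, 1), (57, 1), (60, 1), (64, 1), (65, 1), (66, 1), (67, 1), (68, 1), (73, 1), (74, 1), (77, 1), (79, 1), (81, 1), (86, 1), (88, 1), (91, 1), (92, 1), (96, 1), (99, 1), (103, 1), (115, 1), (122, 1), (123, 1), (124, 1), (126, 1), (138, 1), (142, 1), (144, 1), (151, 1)]),
   (0, [(2, 1), (9, 1), (12, 1), (14, 1), (23, 1), (26, 1)]),
   (0, [(0, 1), (1, 1), (3, 1), (6, 1), (9, 1), (10, 1), (13, 1), (14, 1), (16, 1), (17, 1), (18, 1), (19, 1), (22, 1), (23, 1), (24, 1), (28, 1), (29, 1), (30, 1), (34, 1), (35, 1), (36, 1), (37, 1), (41, 1), (43, 1), (46, 1), (47, 1), (49, 1), (53, 1), (56, 1), (59, 1), (60, 1), (61, 1), (67, 1), (69, 1), (70, 1), (71, 1), (72, 1), (73, 1), (74, 1), (76, 1), (79, 1), (80, 1), (81, 1), (82, 1), (83, 1), (85, 1), (87, 1), (88, 1), (91, 1), (92, 1), (95, 1), (98, 1), (100, 1), (101, 1), (106, 1), (110, 1), (111, 1), (112, 1), (114, 1), (115, 1), (117, 1), (118, 1), (120, 1), (123, 1), (124, 1), (126, 1), (130, 1), (131,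 1), (132, 1), (134, 1), (138, 1), (141, 1), (142, 1), (144, 1), (145, 1), (146, 1), (147, 1), (151, 1), (152, 1), (163, 1), (165, 1), (166, 1), (174, 1), (175, 1), (179, 1), (182, 1), (184, 1)]),
   (0, [(0, 1), (3, 1), (4, 1), (5, 1), (9, 1), (12, 1), (13, 1), (15, 1), (20, 1), (22, 1), (25, 1), (27, 1), (35, 1), (36, 1), (39, 1), (41, 1), (43, 1), (44, 1), (46, 1), (47, 1), (48, 1), (49, 1), (52, 1), (56, 1), (57, 1), (60, 1), (61, 1), (64, 1), (65, 1), (66, 1), (67, 1), (68, 1), (73, 1), (74, 1), (77, 1), (79, 1), (80, 1), (81, 1), (82, 1), (86, 1), (88, 1), (91, 1), (92, 1), (96, 1), (99, 1), (103, 1), (115, 1), (122, 1), (123, 1), (124, 1), (126, 1), (138, 1), (142, 1), (144, 1), (151, 1)]),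
   (0, [(0, 1)])]

def p2Sol_16 : List (ℕ × List (ℕ × ℕ)) :=
  [(0, [(0, 1), (1, 1), (2, 1), (3, 1), (4, 1), (5, 1), (11, 1), (13, 1), (16, 1), (20, 1), (22, 1), (23, 1), (24, 1), (26, 1), (29, 1), (32, 1), (34, 1), (35, 1), (36, 1), (37, 1), (41, 1), (42, 1), (44, 1), (45, 1), (46, 1), (47, 1), (48, 1), (49, 1), (52, 1), (53, 1), (54, 1), (55, 1), (59, 1), (60, 1), (61, 1), (62, 1), (63, 1), (64, 1), (66, 1), (67, 1), (68, 1), (71, 1), (72, 1), (73, 1), (75, 1), (79, 1), (80, 1), (82, 1), (85, 1), (86, 1), (87, 1), (89, 1), (100, 1), (101, 1), (102, 1), (104, 1), (107, 1), (112, 1), (122, 1), (123, 1), (124, 1), (125, 1), (126, 1), (128, 1), (131, 1), (132, 1), (135, 1), (136, 1), (138, 1), (139, 1), (140, 1), (142, 1), (143, 1), (144, 1), (146, 1), (149, 1), (150, 1), (151, 1), (152, 1), (165, 1)]),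
   (0, [(0, 1), (3, 1), (4, 1), (13, 1), (16, 1), (20, 1), (22, 1), (23, 1), (25, 1), (26, 1), (29, 1), (31, 1), (32, 1), (34, 1), (37, 1), (41, 1), (42, 1), (43, 1), (44, 1), (45, 1), (47, 1), (48, 1), (52, 1), (53, 1), (54, 1), (55, 1), (59, 1), (60, 1), (61, 1), (62, 1), (63, 1), (64, 1), (66, 1), (67, 1), (68, 1), (71, 1), (72, 1), (73, 1), (75, 1), (77, 1), (79, 1), (80, 1), (82, 1), (85, 1), (86, 1), (87, 1), (89, 1), (100, 1), (101, 1), (102, 1), (104, 1), (107, 1), (112, 1), (122, 1), (123, 1), (124, 1), (125, 1), (126, 1), (128, 1), (131, 1), (132, 1), (135, 1), (136, 1), (138, 1), (139, 1), (140, 1), (142, 1), (143, 1), (144, 1), (146, 1), (149, 1), (150, 1), (151, 1), (152, 1), (165, 1)]),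
   (0, [(3, 1), (4, 1), (5, 1), (6, 1), (8, 1), (11, 1), (12, 1), (13, 1), (16, 1), (17, 1), (19, 1), (23, 1), (24, 1), (28, 1), (32, 1), (33, 1), (34, 1), (35, 1), (36, 1), (37, 1), (42, 1), (45, 1), (46, 1), (49, 1), (52, 1), (53, 1), (54, 1), (55, 1), (59, 1), (60, 1), (61, 1), (63, 1), (64, 1), (67, 1), (68, 1), (71, 1), (72, 1), (73, 1), (75, 1), (77, 1), (79, 1), (80, 1), (82, 1), (85, 1), (86, 1), (87, 1), (89, 1), (100, 1), (101, 1), (102, 1), (104, 1), (107, 1), (112, 1), (122, 1), (123, 1), (124, 1), (125, 1), (126, 1), (128, 1), (131, 1), (132, 1), (135, 1), (136, 1), (138, 1), (139, 1), (140, 1), (142, 1), (143, 1), (144, 1), (146, 1), (149, 1), (150, 1), (151, 1), (152, 1), (165, 1)]),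
   (0, [(5, 1), (11, 1), (12, 1), (14, 1), (23, 1), (24, 1), (25, 1), (26, 1), (35, 1)]),
   (0, [(3, 1), (4, 1), (6, 1), (11, 1), (12, 1), (13, 1), (14, 1), (17, 1), (19, 1), (22, 1), (24, 1), (32, 1), (33, 1), (34, 1), (35, 1), (36, 1), (37, 1), (42, 1), (44, 1), (45, 1), (46, 1), (47, 1), (49, 1), (52, 1), (53, 1), (54, 1), (55, 1), (59, 1), (60, 1), (61, 1), (62, 1), (63, 1), (64, 1), (66, 1), (67, 1), (68, 1), (71, 1), (72, 1), (73, 1), (75, 1), (77, 1), (79, 1), (80, 1), (82, 1), (85, 1), (86, 1), (87, 1), (89, 1), (100, 1), (101, 1), (102, 1), (104, 1), (107, 1), (112, 1), (122, 1), (123, 1), (124, 1), (125, 1), (126, 1), (128, 1), (131, 1), (132, 1), (135, 1), (136, 1), (138, 1), (139, 1), (140, 1), (142, 1), (143, 1), (144, 1), (146, 1), (149, 1), (150, 1), (151, 1), (152, 1), (165, 1)]),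
   (0, [(1, 1), (3, 1), (4, 1), (8, 1), (11, 1), (13, 1), (15, 1), (16, 1), (17, 1), (19, 1), (23, 1), (24, 1), (26, 1), (29, 1), (32, 1), (34, 1), (35, 1), (36, 1), (37, 1), (41, 1), (42, 1), (43, 1), (44, 1), (45, 1), (46, 1), (47, 1), (49, 1), (52, 1), (53, 1), (54, 1), (55, 1), (59, 1), (60, 1), (61, 1), (62, 1), (63, 1), (64, 1), (66, 1), (67, 1), (71, 1), (72, 1), (73, 1), (75, 1), (77, 1), (79, 1), (80, 1), (82, 1), (85, 1), (86, 1), (87, 1), (89, 1), (100, 1), (101, 1), (102, 1), (104, 1), (107, 1), (112, 1), (122, 1), (123, 1), (124, 1), (125, 1), (126, 1), (128, 1), (131, 1), (132, 1), (135, 1), (136, 1), (138, 1), (139, 1), (140, 1), (142, 1), (143, 1), (144, 1), (146, 1), (149, 1), (150, 1), (151, 1), (152, 1), (165, 1)]),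
   (0, [(5, 1)]),
   (0, [(2, 1), (8, 1), (17, 1), (22, 1)]),
   (0, [(7, 1)]),
   (0, [(2, 1), (8, 1), (17, 1), (18, 1)])]

def p2Sol_17 : List (ℕ × List (ℕ × ℕ)) :=
  [(0, [(2, 1), (12, 1), (14, 1), (23, 1), (26, 1)])]

def p2Sol : List (ℕ × List (ℕ × ℕ)) :=
  p2Sol_0 ++ p2Sol_1 ++ p2Sol_2 ++ p2Sol_3 ++ p2Sol_4 ++ p2Sol_5 ++ p2Sol_6 ++ p2Sol_7 ++ p2Sol_8 ++ p2Sol_9 ++ p2Sol_10 ++ p2Sol_11 ++ p2Sol_12 ++ p2Sol_13 ++ p2Sol_14 ++ p2Sol_15 ++ p2Sol_16 ++ p2Sol_17

def p2Nf_0 : List (List ℕ) :=
  []

def p2Nf : List (List ℕ) :=
  p2Nf_0

/-- The certificate at 2. -/
def cert2 : CfsgLib.SchurCert.GCert :=
  ⟨2, 18, p2Rels, p2Eqs, p2D, [], p2Sol, p2Nf⟩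

def p3Mats : List (List ℕ) :=
  [[6613560132312233461351520289018217548743308518303617712036240120675989016455459032439964665946604911985882103821, 5411124677640994948511231571434077619036942533964313183507261389351617739393518345757953050147583343187303268359, 4208652527551828235992692157905936432717676976480611701750307355829978647440259685049446538639584150952100560905, 5411087981663130563418902114659423205559065110716028105299215978980614344950767214562835262495213203222581149703, 6613560132312233461351520289018217548743308518303617712036240120675989016455459032439964666094178864575558516741, 4208652527551828235992692157936290634151636604954614731617684707196482323274337850712552003236989394156012240905, 4208689223529684077136877931040261729270019282527752055771215208042223547766613415157304905667208109885690806281, 5411087981663139107367045798299752785645889681084699822406339291222917277658021090697827296864905588156593012743, 5411124677640994948380859279655724407200836439112338699632283857541553295352148486322809688213853077241923567623, 5411124678200931134055682624073438189179053603494724557815540655037494296085411989470347551028282198730704617479, 4208652527551836780071206144031673122318614790488156777556974445747490210730654677213932840125538818539464753161,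 5411124678200931134055680634780492550032484874125945301929621068698735004950484270074802960636284248268661784583, 5411124677640994948380861268948670509508694513807212800387098866993478929663152505434892413186266807580402057223, 4208652527551828235992694147198882071857178209752136231164248832147042077968369405863356700065311255899939602441, 5411087981663139107367043809006807146492253779136380366407588001948708437477727027548001869358145969399345381383, 4208652526991900594396384788906905442662390585160304242817055604758216130909450593192572339532432109200808149001, 4208652527551836779940835841546266475965791323534524938136562805857689321082198509830302883652845732328603451401, 4208652527551836779940837830869565853385029904692065754827541477178977559155569947900073016466233135811703406601, 5411124678200931134055682624073437726010696654229942888640390685717713206221317785506658777487198854409817096199, 5411124677640994948511231571403722954420491179707301359610487557795510573175490480514929784526348887684775608327, 5411124677640994948380861268948670509515762009904467476642263082229715580936473311100585130224460435870957633543, 4208652527551828235992692157936290634151636712796046929885588909568293425283650656965715455455079505602521137161,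 4208689222969747891722797180916662006921758804522230277222703043634347417164072103073260912009764595204471980041, 7816032282401400173870059702546358735069641464046432731111144226161389858219899477605815092376265056321972666379],
   [6613596828010125481697553372314676807400515886814345264856141426989330508803324265710653820500340596763217297421, 5411124677361031127713076892272912203715501411331672691091441506753302207553063653763724902532162090969200132103, 5411124677920958769309384261271943193763720414396157621821385597945612912637805661539385687075822675154229067783, 4208652527271855871246395784397387076448912516749178517084367555149485115091563606936017641400575351025434034185, 5411124677920967313257529934205218413004181210230863321286406594856179492477993665036945793327343015490247524359, 4208652527831800600738990520707431428125942669481923911272484302900164170281048014398773973625772829014372319241, 4208652527831800600738988531414485788972306659692172307221876446577157391626359960784727139156101118426826080265, 4208652527271864415194539468068071321145121160957180719038218829355766160253346585482191642833509553970128289801, 5411124677920958769309384261302297395204747538967415378160741059333812449078701826417950880753615716386150612999,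 4208652527271864415324909770553477967497944843590385895663748826581687746058848141962967308224223320176660774921, 4208652527271864415194539468068070857976764319532185693356454849386978624398491267265996105347022481067858133001, 5411124677920967313257527944912272773857612588701870759111453128732292810467799390563810593659577226163911196679, 5411124677920958769179013958786536084249607386436857650543007812929538147191105082122320353624730455768300060679, 5411124677920958769309386250564888832910289143763291373149600854356822355052868731004278660336095352457844555783, 5411124677920958769309384261302297395211814927226528915478691119605561100242660265245825805203995475717659099143, 4208652527271864415194537478744771480557525630534858182954510057850996185884192026251597967900533431468518998025, 4208652527271864415194539468068071321145121160955535214480514499428394720217329115904170347895977110948719296521, 4208652527271864415194539468068070857976764211692398999645488729172284423957605002696236379334949078956612452361, 4208652527831800600869360823162484336199028788547894009075734548722247864741419080381062832262455660716375867401, 5411124677920967313127157642426865201161007727119775300093478991082353295903141546768257230177385945860525326343,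 3006253769138409385094741903293986911129141725451119468078670612992944663969350983635328629724222591757204389899, 4208652527271864415324907781260532328351376114221606639777829251934941556293402703564409087269486386450583191561, 5411124677361022583764933208632582160460319891698219254592354342097772074295400188637538065916655254984922300423, 7815995586703508153524026619249899476412434095535705178291242919848048365872034244335125937822529371544637472779],
   [7214796207356816817545604844539584587149418423275481889079403344688432223627681296976781298092331581731714367500, 6012360752685578304705314137662499018289416321308284567345788718983298465799263522909081998491187167956734181382, 4809888602596411592186776713427303471116719493193362341474754260108227160372120990981509129898742833843880329224, 4809888602596403048369003332272381000551075339043104132963958816537773841570014363992943227146863052788787838984, 4809888603156347777731227766066664041258830562723773715783799773564536658770934873473806049184925817275977039880, 3607416452507253423746753275348199278154344337244096784278244542220331730126256138687609891508892405370859159562, 3607416451947308694254158539068509127925408589506872503708813937926409634540325534339237368277901104183679516682,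 3607453148485109264890937059189578472398828568596363087761151268074097104105662299977199483269392413225063415818, 3607453148485100720942793375518894227702619816550219696654038203580314892577422280820329465049195316139809964042, 4809888602596411592317147015912710580637900017253208048339752567230307724790754270624009335568046928017914069000, 4809888602596403048238633029786973891022827426725790393338714767379481373337763476081374737359600428012968083464, 4809888602596411592317147015912710580637900017249917039225110155145997786425681107988912142457808012261850611720, 4809888602596411592317147015912710580630832521152662362969945939909761135152360302323219425419614383971295035400, 6012324057267658649105581406430125729577659301329963549861774185443549721086064962221946628652315739872853098502, 4809888602596411592317147015912710580630832736832235649958250414152435720623090305759043476925350677087900925960, 4809888602036475406642325660787942900974608423662950967166475006114542111011297873251233284201483930094319173640, 4809888602596411592186776713396949732836982037465913906146626745825815764743149625010408306050661428989230841864, 4809888602596411592186776713457657209382322172402583702166981642155128152303651659925015128194330124596856487944,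 4809925298574267433330964475854573943647273471503068083937761279197384618770104028631066306499652702126645706760, 4809888602596411592317147015912710580630832628992449006464098177031187630868519426216780108211449212872822358024, 6012360753245505946301621506661530008344702712628592026279040470055060985052331550133463905305336069162172809222, 6012324057267650105157437722820150814100218696959190119332708396715172356281442402987194773040554869546457628678, 4809925298574267433461334778339981053175521383820381823563771564434096932784310744426731289000886586660780245000, 7214796207356816817675975147024991696663531559074568554067981002148946651047677213068998460230538386576140402700],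
   [6613560132032265368579295757360187415550229277302680201537075017884419564267970647351094926736767499160378605581, 5411124677920963041283456103092108215398378616390245719687424224341541785728941810283115908585997653581698236423, 5411124677920963041153085800606700642708841250908695996256070597105416565527446613839419776945929530150153158663, 4208652527271860143220467626247906299517530347220560653932425944996227599659633686985301420125868955930328498185, 5411124677361026855739007039745692821234479219124045238378182207689516285437816243285407372579232967315041878023, 5411124677920963041283458092415407592817617413227359873583521252998772313997811930839777414598811963006625841159, 4208689223249715984364653399351876931467556075527270754136288263501370183565482192227022596665185245638832095241, 4208652527831804872713062362527596449746466094959430439059560879217521135281623299920379145770550428614368100361, 4208652527271860143220467626217551634915213769481775904673084741216496725997404867064693232282088337380982849545, 5411087981943098656191126646317453338752144351716965565581567198678737686451940213990373673033781012925484957703, 5411087981943107200139270329957782918831901533828169300144492404207663475641124448385096011652253165768495661063,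 5411124677361026855608634747967340072559662793117525580072136941220598323597165306072436042161811005807853633543, 4208652527831796328764918678856912668218614400016209956498439705194721826415581904160170079242733617750947069961, 5411124677920963041283456103092107752230021774966896198563364574300125689910103962278766966151157724483548413959, 4208652527271868687298981612343288787684508640593889343366634168438916521299700565908695480206012261507426353161, 4208652527271868687168611309888235879611422413688132602069231685495584737084758621017978224523673535996129640457, 5411087981383171014594819277318422811865214909659794321483341217863085463458596300607751034747200891870828363783, 4208652527271868687168609320595289777289429454633599278625893728988917816172699201257975562188234171297839906825, 4208652527271860143220467626247906299517530455060347347643392065211100206062108197174028403404792910915557589001, 5411124677920963041283458092385053391369523008235129718862663638532879179350798508340335669517590314480097099783, 5411124677920963041153085800606701105877198200171832160874282484268259157062485124746032652314306401736386215943, 6613560132032265368579295757360187415550229277302680201537075029576432662915193992980573588467031656407838949381,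 4208689223249715984495021712574692603283194994789594961454722445672890993290083916718708434099610561069900562441, 7816032282681368266642284234204388868262720705047370241610309328952959310407387862694684831586102469147476164619],
   [6012342405256578025729529614725663078921302415923675945897351666531565512456634364127260743855004658446933426190, 4809906950585339512758868605363170400540119897738065115567409183846595239370292687176439274480424246954672390152, 6012342405256578025729529614725663078921302415923675945897351666531565512456634364127260744002578611036609839110, 3607434799936228070878106747333691812652600349845218580405321917385689702451143475947057220651458822354823020554, 4809870254607483671614682832198490902539683078860553467889195809974402151439084353362150460731184404491049238536, 4809906950585339512889238907848577046892943364691696954988587071506650667486339783088512099798745515834577649672, 4809870254607483671614682832198491365708040028125335137064345779294004835341631850715575227147117057655976624136, 3607434799936245158774394114614350972826249706262135402041500770607849278784006054338688765889973706799870115850, 4809906950585339512758870594656115576518331462162489314856246560436006633797765427849808382187915448554669604872,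 4809906950585339512889238907818222845451916347958580337585679529004519285372808618788799927226192887311797714952, 4809870254607483671614684821491436541686251808229332723775115396312983036612423827772562765377003419826498699272, 6012342404136705654640627509446941938637080276862853197280026899081570961974738428537180271164565911811129868294, 4809906950585339512758870594656116039686688411427271034248210412849055425664327837122188491094666554041453379592, 6012342405256578025729529614725663078921302415926966955011994078615875450821749065137226215586271818173630644230, 4809870254607483671745053134714252676670247676756438600268699547804284933478902359235297947266545715860396703752, 3607434799936245158774394114614350972840384482780362476678167150613792626910625924879868417440831855661859471370, 4809906950585339512889238907818223308620273297223362056978409629188001021668591739949623469345779354496133627912, 4809870254607483671614682832228845103980710095593670035074523233304667577084344304116434811623348264987922137096, 4809870254607483671745055123976844114375789173712527951763407105706046752420757320280705037510366317542583435272, 4809906950585339512889240897111168484598485077327359593471599103651087069176665812202225862434748634145826930696,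 4809870254607483671745055124007198315816816190445644518949500765114732023847973098919076209857518473354049880072, 4809870254607483671745055124007197852648459241180862849773584548024696395516287966426944567470806946364118401032, 4809906950585339512758870594625761838245661394694154416846069106425343889332752500706582482790216054831342813192, 8417250009457055609492050376838913204891647566426374497250032680305813362218724145918519014467865309860921344010],
   [7816032282401395901830802709483490390262105114862830581863549207675352638977248108564037448528925312829908123659, 5411124677640990676471972589078263635082837563251718421867899033340260823379321726843670160577918588006219186183, 5411124677640990676471974578371209274236473573039824571577616442829342269962048761173519321221904551796126580743, 4208652527551823964083807456621420836570822384626734284223947790855535574424486665899592673382450416465954144265, 5411087981663134835327788805206530239404393811266881286785519158491624472335862434267556956905832664178992152583, 4208652527551832508031949150999158978959172846296784732813423158633900012726400871267879954805995147403475746825, 4208652527551832508031949150968805240686502778830095339360950046242621809666929233074520327145132241130262822921,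 4208652527551832507901580837776343770311890984140674392939575643694658877771976259035064366568180839969938931721, 5411124677640990676471974578371208811068116623776688356742590672573053567740736402980453066914695332911972417543, 6613560132312237733390777282081085893550844867487219861283835139162026238420369336849250017500941514932092338181, 5411124677640990676471974578371209274229406184782356538816604453022519015757705272146786575272869007963483078663, 4208689223529688349176134924103130074077555631709708700461105896600889326973247314621070925835998374800067592201, 5411124678200926862016425631010569844371517254311122408567945636551278668158913440075929913875340613281936637959, 4208652527551823964083805467328475197431321259196641902861096633816837137941674839419890621683997222476941033481, 5411124677640990676602344880826262182309559692105794619164052805557979853736104441494476850892172126995991822343, 4208689223529688349045764621617722501388018050546940135267695829871883320969456678000905559124236815147148705801, 5411124677640990676471972589047909433641810546518601854681805362239384047343294357590678369347764171021847429127, 4208652527551823963953435164843068087910140735136796195996864574465189517952179194916106963392031170892403245065,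 5411087982223071020872237868583299371833895887743948633343926639347489460165356966273207960294924750249580363783, 5411124678200926862016425631010569844371517362150909052062097873672705163875072563969490596667175442183463960583, 4208652526991887778539354414719469291898594155664128815130874891644886151874629908966540757126526879242918756361, 4208652526991896322357127795844037097847786955557375199744896515351245403105932016975397027508107979824692658185, 5411087981663143379275932488877214020925178117949342727470985930623290588632404102250024827394007180850466717703, 6613560132312237733390777282081085893550844867487219861283835139162026235698110401481742309793944655477946646541],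
   [7816032282401395901830802709483490390265638916832996771403935581442973032655758757315558412755679856198947504139, 4208652527551823964083807456621420836581423574854368506525346154429979222307382342052724333438253963881805709321, 3006217072880585451113146447258928158200240840989184338990285314408888253063995276004747483739093703560662679563, 5411124677640990676471974578371209274232939878911090530089086636110341406074126460908448049125910046082012348423, 4208652527551832507901578848483397668000499107475634152861188143568558957746518040831458998514318514361876283401, 4208689223529688349176134924103129610905664988314547485239721790634914339146760047424553592386543276464884088841, 4208652527551823964083805467328475660596144514331044076207592597354124976275064897347885603895211935646980964361, 5411124677640999220550488564466591762399918064444632576028376374661349293530443287409828886014459470465464860679, 5411087981663134835327786815913584137085934546344372963729305785465255187419703803634834864170620778770330091527, 5411124678200926862016425631010569844375050948441501904397365890104204864118796759625198859797018613959516291079, 5411124677640990676471974578340855072791912862176328458346054882852704540392849040576152074555198958772905639943,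 5411124678200926862016423641717624205228482326912509342222412435672331278033566895414024942745963205393096441863, 5411124677640990676471972589078263635086371257380452463356428840059083281305655782123609146927731906828286099463, 4208689223529688349176134924103129610912732376575306527115376180834034433069036430206641426810036114157721813001, 4208652527551832508031949150999158978955639260007837385035859472129771755240953081191525994582369931441006641161, 5411124677640990676471974578371208811064582929646308860913170419020305780464700263783824114446195378580586299399, 5411124678200926862016425630980215642926956543449271799893322158731579434196552015542999136295372877475497967623, 5411124678200926862146795933495976490727874523233274932971805568051761455879041960146634694081488964977670291463, 5411124677640990676602342891563670744607551781440298170221427147181163845724330599507152331103949544224601997319, 4208689222969743619683540187823439460676729240575677700112586856413620803524811973498169445477002496665656426505, 5411087981663134835458159107722291550363067657929464065006424623699031170514907934853091942115798403345606311943, 5411124677640999220420118262011538854319764557117903436349471726948132406500614031390841809845045635993982795783,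 5411124677640990676471974578371208811057515541387195323595220347056544027931218005584094541937526358576837492743, 6613560132312237733390777282081085893547311065517053671743448765394405842019599752730221345567190112108907266061],
   [7214814555065776645410656361398474554678175080451688217475200574089386513981440463332060022690589196899454550028, 4809906950865307605596281272188145446493128824695856039168456797988500857821119879782920261072659927935197118472, 4809870254327515578907644446444814244393924638599621027337598905755478527591828363472486790356636840682739728392, 3607434800216213251481434489691327471552536504364204623788690282604664426841991524341473488461823460974356987914, 6012342404976609933022489239648686117019591280297711467439481994079341568255060153149312261145893678862242807814, 4809906950305371420051828230255839237204449025795019904416553627728685074567092637711570822191302070458175193096, 6012342404976609932892118937163279007505478144496979297893199994999621008113411666834727428086071460640995278854, 3607434800216213251611804792176734581080784416683163867971638649998493642424624781186716897202535558450533498890, 4809870254327515578907644446414460506128321851550612972935171651264137873687002358487663935042178283042878521352,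 4809906950865307605596281272188145446493128824695856039168456797988500857821119880416745561186776880483362406408, 4809870254887451764321723207275467864434326934068836557080205741433064029838109300485108227935423209871461842952, 4809870254327515578907642457121514403813396388596625385078454216863476751746875638319261173404279175385304530952, 3607434800216204707663661108536405000986892350213946415277894827342198009392661551089603623865567073723266760714, 4809906950305371420051828230255839237204449025798310913531196039812995015654466274089044001629566089639018102792, 4809870254887443220503949826150899595309709688811908272260585472379614948279468399079074974372560955275515265032, 4809870254887451764582463812246282083476687982185236961694793695822303869919535278002459362898573391229539057672, 6012342404976618476970632923289015697113483346763637911018583404651327265644167616970142470344479414368420102150, 6012342404976618476970632923289016160274772907769306093092597185100614307699548241785168993070584351476421361670, 3607434800216204707663661108536405464162316687737841671988574999489619904183473637694246045733090204581116641290, 4809870254327515578907644446414459579791607953021049634584105464854321158213440419024482948200349775450117505032,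 4809906950865307605596279282895199807339492707067963245964587151378171321483780428169764753355435161097419096072, 4809906950865307605596281272218499647934155733589185962860398231967951138140988125142341697956848646360608276488, 4809906950305362876103686535908455296264193076956986254042088111537640266628309440995242990133902525560600920072, 7214777859647856989810923630166101729134774901898362225672183772747992360693918046713719735632280771408400220172]]

def p3Inv : List (List ℕ) :=
  [[6613578480301161381923613175600557297747060567952859709957690948450215852143425571587345671871694236294375211021, 4208670875540756156564785044488276181714361637870740162353808111640443733317044439105648658269914857933273235465, 4208670875540756156564785044457921980273334621137623595167714452231758461889828660467277485922762702156167053321, 5411106329652067027808768382366330760512009960258516487835454678231633376299215035232647693393692997673940484103, 6613578480301161381923613175600557297747060567952859709957690948450215852143425571587345672019268188884051623941, 4208634179562900315420599271353950885154951943564486271014183951386017237397553096656349883606658687140480352265, 4208670875540756156564785044488276181707294249611626625035091803598262137723906826764198579227725729075032686601,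 4208670875540764700512930717391197199506727920875074568160757339120629181123198665383203163208009945178167509001, 4208670874980819971020333991848915611572250568340328788044762609876325739527042147861797657980848836422433964041, 4208670875540764700512928728128605298632829474654203547490133564128831736571875968838303859663444180224107282441, 5411106329652058483860624698726001180425185282048412572459660915847264800392840027957235208988426152089401753607, 4208670874980819971020335981141861250718819297709108043930682184522893523330899341275223593189404583290823442441, 4208670875540756156564787033781221820860930259398087270187871130930405085977536629662103563077976976194011594761, 5411106330211994669535446053850768860095544263897783190951654796697225111134957857677141287569582240326188859399, 5411106330212003213483589737491098903343658503110264229069239796582870141577692473934015325191100424162359443463, 5411106329652067027808768382366330760519077240676197826885500536131749331415490451801185030107306777169973805063, 5411106329652067027808766393073385584533798287992660090278713099270589283101800336932433290242438956784321888263, 5411143026189859054497405208170370365486200791560225642378893134406276133641015967164459670094050027920119365639,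 5411106329652067027939138684882092071474217393210046613833923829943346735203079173887029495487496524211560185863, 5411143025629914325135180774345733123337418551146439442156910882647814876033484531529952122368247145017096339463, 5411106329652067027939138684882092534649641838572083009481818157055078224141623843335663845461509392451783688199, 4208634179562900315420601260646896987462810126100792519820855527886740810182992645241347594277125202228428603401, 5411143025629922869083324457986062703424243121515111209480848066291550823502047844689436252912487543899435892743, 7816013934412472253297966815964018986065889414397190733189693398387163022531932938458434086451175732013479559179],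
   [6613560132312242005299664967320197280711643184405078315889810072241849256521411804103246793800343091076760272909, 5411124677640994948511230576772427930323789387496306016152778602441287632585229039220857758909352000080702930951, 5411124678200931134055681629442142701906927581599620651358117647750543658422965791407710421962951171874419441671, 5411124678200931134055681629411788037297543615601722364780060135928631189167599358511826854962868975518295326727, 5411124677640994948511232566065373569470358116863439767480993858852497075000292108685741060910641712940597182471, 5411124677640994948511232566095727307743028184333420170048875631098518160854099159777509593515609392437873147911, 4208689223529684077136878925701911417983172321154327075073841427903934124784314372574125204660564714589014917129, 5411124677640994948380860274317374559075278930906440711855662079257241252667584618558561769215940152018799755271, 4208652527551828235992693152567586584592119576114500357467837814666914697232525631561144395800880896025813254153, 5411087981663139107367044803668456835205406817762955385710214221810419014495427984964822168351502574102669492231, 5411087982223075292911495856277463203906490762722109003679138026107917628784837219447354161328898819269490966535,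 5411124677640994948511230576772427467155432438229878792203110420100688991998801980017816361611892657026129788935, 4208652527551828235992693152537232383144025171122270252963794083294467673271869133097902258159531047182194376713, 4208652527551828235992693152567586121423762626849718688291921597576879068900840499069012753414167117270427828233, 5411124677640994948511230576772427467162499934330424527789730942206694790970734679609416262309432914032485269511, 5411124677640994948380860274287020357634252022011465283606782563120852474018619141767196155538016716888100896775, 5411087981663139107236674501152695987418623614497179327268397192496180340939557911536191562230357084411024441351, 4208652527551828235992691163274640945438483674166180901468320277622272912623093933906437392437452600626645499913, 4208652526991892050448242099928226014442941118326620950397780323095973446515920915923043270596797254984649867273, 5411124678200931133925313316219326566922931713072514724647719613165974056831760119268776197000746507020293177351, 4208652527551828236123063455052993694113300100172700559775131791861623818892924044632983877446683931694926069769, 5411087981663139107367046792931048272910948422560476885256778346760800363227871295130504250840197914188132450311,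 3006217072880598267100546129300475931209558294197649853685221218119725111052091191486683660954920757118387159051, 7816032282401391629921915024244379003101306797944972127257574274595529618153946705942532964522526877231094497291],
   [7214796207076844452864492627642443066792007117304767576731655665229573421723286070027479571237082641940760363020, 4809888602876383956998259232809852100988243934961517814254141514870661894089673838592416849919573170176655753224, 6012360752965542125438282670888956293950619090910783371450651244450570422982762036515804421446244672930534916102, 3607416452227281058935270755935295983666368649058716181313815823887095381022329110169806343704101686274911895562, 6012324056987686284294098887077931764315518933397847552814472480560961567419514761631212989823753697664648609798, 4809888602876375412919745246684115411380238732694859201128758116910968735206141233452664840683873841781551005704, 4809888602316447771323437877685084421324952341374551742195506365839206215953073206862098562577282724291066331144, 4809888602876375413050115549169522520901419256754704907993756424032870893663227806484891367821468076035132751880, 4809888602876383956998259232809852100995311323222276856129795916761795086659173566370167717365774633201813553160,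 6012324056987686284424469189532984209227315383618362774832742825718885613422030693243573642569520086187600510982, 3607416452227281059065641058420703093194616561376029920939059861353374750607356652451896171761102405603084992522, 3607453148205136900209824842292436952048484650884762312732119908349432996441628030998826497186596759539810828298, 4809888602876375413050115549169522520901419148913272759941899856984251361150380521997108667869596478177710309384, 4809888602876375413050115549169522520901419256754704907992990176262616355195636877956448498975839893366088794120, 4809888602876375413050115549169522520901419364592846046930204331226925946621110525432932719375332771294316199944, 3607453148205136900079454539776675177917920052988877130135802287426104103715494639464347681832394144258000945162, 4809888602876383956998259232779498362715573867493182916243964072552012248271925795453537890873166177671423066120, 4809888602876383956998259232840205839260914002429852712264318968881324635832427830368144713016834873279048712200, 4809925298854231254194303311596792993439040623323524187774713503393777003225169282962323468872757703649406615560, 6012360752965542125568652973374363403464732226709870036439995149681517794831937126121596738028689146511830286342,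 4809888602316439227505664496530161950759308187224293533684710910576739798503743233610228697981024085274522157064, 4809888602876383956998259232809852100981176546704049781493129536755851738532553695195162765848375736181149007880, 4809925298294303612597995942597762003383754231999925719726819340237704548329245490095474126627781585138019336200, 7214796207636789182357087363922133217020942865045282866415728681607805452952072440018300187085787326367094407180],
   [6613578479741225196379163117607669315594055388473624376725561202425015408196273953904483365618034991795343392781, 5411106329652058483990994006564935701964327304312904766451817363188121066235098838759957649401535578462719901703, 5411143025629922869083323463339590115442204727562835399433614738809509069693262586414525642552371541862108168199, 4208634179562900315420598276707478297165846161354742428205938634097152229384382811613653877384034429215015632905, 4208670875540756156564786039134748769703467527921916203429957631301119843339527530401508116710629227339606065161, 4208670875540764700512929722775078349790292206130374614248047063758116979209885068098908977437346594312096776201, 4208670875540756156695156341620156342393004893406756935975953670621376595944549182870037434335783323605800517641,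 5411106329652067027808767387719858172522904070205694942201600828643764229480085322985094768196330374436483301383, 4208670875540756156564786039134748769703467527923561707987661961228491286097803935347037119355158529815161274377, 5411106329652067027939139679498210458029363654787219574826648362914327599895018577120577436950472436042183540743, 6613578480861097567468065222886390455878277527534447125342885969875009958678169889494563838308473738431146950661, 4208670875540756156564784049811448929115871889659807023852862870445356317683393020157103613315938992125173497865, 5411106329652058483860625693372474231582648013526229143775278745403921483066866596795851950440878044789439266823, 4208670875540756156564786039104394568262440511190445090584754418726181498022684526062192661036424714400332972041, 5411106329652067027939139679498210921190653323632674400394814380485041137666558325829174313874971370919282671623, 5411106329652067027808767387719858172529971458464808479519550888915512883366302697180477400353706993222138003463, 4208670875540764700512929722744724611517622138662039716237869609747454234744913679330541685254118527526006095881, 4208670875540756156564786039134748769703467420082129509718991511086247236937053020212790804838262189353414885385,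 4208634179562900315550970568455476844392568290207173120945154324157932764134368768574892377380150055748501962761, 5411143025629914325135179779699260535348312768935050094790961235431578427984296776909244492614647361069260537863, 5411106329652067027939137690235619483492179107095911942723904657425614575542026499089936113347982708505144000519, 5411106329652067027939137690205264818875727644999113475332978588748259319569427754938484450533520658403460448263, 5411143025629922869083323463339589652266780390038940142722934566662087174902450500443708520798960859952796205063, 7816013934972408438842416873956906968218894593876426066421823144412363466479084556141296392704834976512511377419],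
   [6012342404976614204931375930226147583893659220262699464151873626031998532812091615726059142979165112216236589070, 4809906950865311877505165973503015475654587663767713314420010536588465151722089311078807609611843729170843172872, 4809870254327519850816529147698975407512039883199576986143717769474835171794541604960948859855344858260352401416, 4809906950865303333557022289832331230958379127401143310734829712524249747037210067314249600649184737375098896392, 6012342404976614204931375930226147583893659220262699464151873626031998532812091615726059142979165112250596327430, 4809906950305367148012573226516270501403863588293054422292679087479264112321235358391215027477132068932521689096, 3607434800216208979572547799113866467853892901923111883786978811107416258428590340480933345272726796252849111050, 4809870254887447492412836516698006860735683223786311618809823819793571814986174599116776828022956603886673461256, 4809870254327519850816531136991921046658608504728569548318671235598721856526994814801601438489090471484556181512, 4809906950865303333557024279125276870104947748930135872909783166956123333122439930891588546179568528159769493512, 4809870254327511306868387453381946131181167900357796117789605446870344491722372255566839911470772684124762537992,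 4809906950305375691960714920833300704071449685343972016419789848615151416079809703003978041284217171903636701192, 4809870254887447492412838505990952499882251845315304231201591169010904607682684258617427727802008165210332463112, 6012342404976614204931375930226147583893659220265990473266516038116308471177206316736024614710432271942933807110, 4809870254327511306998755766544052936946395836889105421127074563025629942747005856880811354149120971048913338376, 3607434800216208979572547799113866467868027678441338958423645191113359606555168673281070018316671401892556308490, 4809906950305375691960716910126246343218018306872964628811557186140471110129096017508965907892988407105112899592, 4809870254887456036360980200368690179095178077302891621349056814784091200354537292515318901874923853951936364552, 4809906950865311877635538265251013559712952843357007842541014339486403094937036757133433234092008531528419508232, 4809870254887456036491352492116689189490257155421749487821126804092024262282375987650750091236101491340175867912, 6012342404976614204931375930226147583893659220262699464151873626031998532812091615726059142979162860416422903814, 3607434800216208979572547799113866467853892901923111883786212563336983313999369628592489912059889182721123549194,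 4809906950305367148142941539678378233505805423353927164414842156231436908875908850843670108088174021220179247112, 8417250009737019430290204061338428699919290762087350978995510720805380341863266894319720615343704856091618181130],
   [7816013934692440346005006196409699997527117524945844495778100280113276325117444980239076602733195079775985008651, 4208670875260796607805889347682924750347025593789658347901440722643076217765889912858975505900135581193752346633, 5411106329932035120646178065267064680053391578130608380988123783894818934863848069119008416784263545637776850951, 5411106329932035120646178065297418881494418702703511641884417327439956966911582530062010079401220491531163992071, 5411143025909890961790363838431743714885471339903551665780221068232536732490034396024970780952761480699594604551, 4208670875260788063727375361587541799004623070732221095468284706730284050813887976662719823553466626552585846793, 4208670875260788063727375361557188060731953003265531702015045334876559804678013819326306379422956240915504103433, 4208670875260788063857743674749649531106564797954952648436419737424522736572925255624719361492994098853545836553, 3006198725171629895287349934185137765461719664781605400569568370415490647644315133010553339787369962858630021131,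 4208670875260788063857745664042594707091843966318063722248325531621803478321401824223118773975444908613934055433, 4208634179842868408258010943547630443835834902547889387291760653580960426931140578185337515780539994585988399113, 5411106329372098935101727012658058311352307525331668069307467611612014769742785151567999586050246424838812663815, 4208634179282932222583189588422863227340900150384272836357185154590920844613377794459368170873089477832908013577, 5411106329932035120646180054560010319199960199659600943163077250018705619596301278959651324011452241828582457351, 5411106329932035120776548367782825991008531730662811613162795112456031732358283109479075412852312710917092999175, 5411106329372098935101727012658058311352307525333313573865171941539386212501061556513528588842347428138589814791, 4208670875260796607805889347682924750339958205530544810583490662371327563879672538663592873742758962442457907209, 4208670875260796607805889347682924287171601148425976447696608325066419331867730292975383348569646761184393232393, 4208670875260788063857743674749649067938207956528312118197717675298796702388972705976579647212772309280347193353, 5411106329372098935101727012627704109904213228180870112855280447288187278294934398583856241032182146167027990535,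 5411143025909882417842220154761059933357619644960331133002286011116291312937719152978298664227127106260357808135, 5411106329372090391283955620796081479933231992712047977746143835494252587748241243396125252585126433336435605511, 4208634179282932222713557901615324697722579549012380657302394222517186070980772705938762598490347464327535591433, 6613578480021193289216573795154876286285832457404205947369284066724102549557913529806703155589674888531869761549],
   [7816013934412467981323893979497381376449192764529287973863234054474384652394715269026375160755957500421924782091, 4208634179002959857902077371540898807711069902799733112657328780539348802253820630273494456883025328455069138953, 5411106329652062755834695545899693150902380590808295117775855075312417071964588168030457433230932101256335392775, 4208670875540760428538857880924559589890031378845312997988326033265784921781617209441599780184306193573310300169, 4208670875540760428538857880954913791331058287738642921679501207782789159025082935657967400893995337779845201929, 5411106329652062755965067837678045899563062348134728840382448116739879685787940061897548025836052137427604144135, 5411143025629918597109251621519425093807546579486995143865354842593645059767346223187137617596552145281808400391,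 5411106330211998941509518890317406932880597863030467619453264109929606162452422550720248993352705769892437622791, 5411106329652071299913209532025429840510385900914740374395390722085549825211503242693258458542863537223315554311, 4208670875540751884590714197314583748075876660265402791469447934604577923973756550957664528476007639115673042953, 5411106329652062755965065848385100260423561222704636459020363207471435787772719163946288842983227126107634991111, 5411143025629918596978883308326963623432934676957787503733014331522822620117142084588443007025071815972430086151, 4208670874980824242994406828315553221188947218208231547371221953788925700980412636941216590222886769902341259273, 4208670874980824242994406828285199019747920201476760434526018729522152662977934531957554758564599286607655665673, 3006198724891657530606237717272819144383794904365048878654702144776420568959997176812719612063951196578162212875, 4208634179562904587394672107820588494771648593435680039455285707383105545899885467098374281033144078493092085769, 4208634179562904587394672107790234756491911137706586099569453863173322707512637696181744454392961670373024661513, 4208670875540760428538857880954913328162701446313647895998503475584434564877106317212971031523718578424210980873,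 4208670875540760428538855891661968152184489666209650309287733870257469462253537685785462155024096373501149773833, 5411106329652071299913211521348729681090914150917736016654535410977373195094867722861351789749040015628703432711, 5411106330211998941379146598539053721037424379919379598260336506155779965877611970826428708823776944233348661255, 5411106329652062755834695545930047815504697276386866510530114763984007385772155285992036430126602488639725830151, 4208670875540751884721084499799991320765414133590030217726410094139707280258993777613587821558976381998772715529, 6613578480301165653897686012067194907363757217820762469284150292362994222280643241019404597566912467885929988109],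
   [7214796207356816817610790990413583629175067318940572384480547086270393049734639195510529378908722153202427363340, 4809888603156347777796411922678071645578937853592988216196083720123309172942137622436094064525081613193271836680, 4809925298574267433396146643173036371996236586206971872163110285807494322067921147604450904706955270842361577480, 4809888602596411592251960870008357337164156716594241943876860764348528434687122403415182193317642328377542311944, 3607416451947317238267486379289892110891313649689569986690307800805968911894508589192683245154049054425452511242, 4809888602596411592251962859331657177744684966597237586136005464932364903217710229212754186401656916620066947080, 4809888602596411592251962859331656714583395405591569404061991672791064762515106259402074302059402523012956946440, 3607416452507244879863793748288923100953667429272281992056152035925803119323914640259262159907694192940588597258, 4809888602596411592251962859331657177751752354857996628011659855131484997139945073619973742204123762142084595720, 4809888602596420136200106542941632556397550016331692916869903651237399153920492408331107870602889571433903030280, 4809888603156347777796413911940663546452836407653645880360859732236533113209577904499685772388030167502075461640,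 3607453148485109264956123205063577514431544744679134922212340879248008578014489177348962998162451490542228733962, 4809888602596411592382333161817063824104575929649769606369285649985595478213874888480087919076307474481360142344, 4809888602596411592251960870008356873995799767331105729041834994092239732465810045222106267751450145049666912264, 3607453147925164535333158166298480254681428472882064934778678215602617268400651173481939102385675324696918884362, 4809888602596403048303819175660973396223900659914776095233724798015239577587629830573301625478489387702847799304, 4809888602596411592121592556846249605062214881533369201754697695596355640854707846330234820413597235544030969864, 3607416452507244879733423445803515991425419516953322747873203656839960802371799102417032381729721078762806050826, 6012360753245505946366807652535529050370351608293682521680184211637021811159289448667211986121726640632885805062, 4809888602596411592251962859331657177758819743115464660772671833246295152697106754758280476336365608982947561480, 4809851906618555751107775096904386705214130880447745149962032325628513244378840926993437283788675897991509835784, 6012324057267658649040395260556126687552010513503014243613892234149090058623305168297571228208633419373600178182,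 3607453148485109264825752902578170404903296832363466687144034912246654605389076585501840648868483640016589422602, 7214796207356816817610789001150992654637882663409478058666837260566985824940719314535250379414147815105427406860]]

def p3Vec : ℕ := 5411087981943107200204456475862136625477535639638685626172551269477738286404425435869208495026642087824409034759

def p3Rels_0 : List (List ℕ × List ℕ) :=
  [([0, 0, 0], []),
   ([1, 0], [0, 1, 2, 2, 4]),
   ([1, 1, 1], [5, 5]),
   ([2, 0], [0, 2]),
   ([2, 1], [1, 2, 5]),
   ([2, 2, 2], []),
   ([3, 0], [0, 3]),
   ([3, 1], [1, 3, 4, 5, 5]),
   ([3, 2], [2, 3, 5]),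
   ([3, 3, 3], []),
   ([4, 0], [0, 4, 5]),
   ([4, 1], [1, 4, 5, 5]),
   ([4, 2], [2, 4]),
   ([4, 3], [3, 4, 5]),
   ([4, 4, 4], []),
   ([5, 0], [0, 5]),
   ([5, 1], [1, 5]),
   ([5, 2], [2, 5]),
   ([5, 3], [3, 5]),
   ([5, 4], [4, 5]),
   ([5, 5, 5], []),
   ([6, 0, 0, 1, 1, 2, 2, 3, 3, 4, 4, 5, 5], [0, 0, 1, 1, 2, 3, 4, 4, 5, 6]),
   ([6, 1, 1, 4, 4, 5, 5], [0, 1, 1, 2, 2, 3, 4, 5, 6]),
   ([6, 2, 2, 5, 5], [2, 4, 4, 5, 6]),
   ([6, 3, 3, 5, 5], [0, 0, 2, 3, 4, 5, 6]),
   ([6, 4, 4], [2, 2, 4, 4, 5, 6]),
   ([6, 5, 5], [5, 5, 6]),
   ([7, 0, 0, 1, 1, 2, 2, 3, 3, 4, 4, 5, 5], [1, 2, 2, 7]),
   ([7, 1, 1, 4, 4, 5, 5], [0, 1, 2, 2, 3, 3, 4, 5, 5, 7]),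
   ([7, 2, 2, 5, 5], [2, 4, 5, 5, 7]),
   ([7, 3, 3, 5, 5], [0, 0, 2, 2, 3, 3, 4, 5, 7]),
   ([7, 4, 4], [2, 7]),
   ([7, 5, 5], [5, 5, 7])]

def p3Rels : List (List ℕ × List ℕ) :=
  p3Rels_0

def p3Eqs_0 : List (List ℕ × List Step × List Step) :=
  [([1, 1, 1, 1], [(2, false, 0), (16, false, 1), (16, false, 0)], [(2, false, 1)]),
   ([7, 4, 4, 4, 4, 4, 4], [(31, false, 0), (31, false, 1), (31, false, 2), (5, false, 0)], [(14, false, 1), (14, false, 1)]),
   ([3, 2, 0], [(8, false, 0), (15, false, 2), (6, false, 1), (3, false, 0)], [(3, false, 1), (6, false, 0), (8, false, 1)]),
   ([4, 2, 0], [(12, false, 0), (10, false, 1), (3, false, 0)], [(3, false, 1), (10, false, 0), (17, false, 2), (12, false, 1)]),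
   ([4, 3, 0], [(13, false, 0), (15, false, 2), (10, false, 1), (6, false, 0)], [(6, false, 1), (10, false, 0), (18, false, 2), (13, false, 1)]),
   ([4, 3, 2], [(13, false, 0), (17, false, 2), (12, false, 1), (8, false, 0), (19, false, 2)], [(8, false, 1), (12, false, 0), (13, false, 1)]),
   ([2, 2, 2, 1], [(5, false, 0)], [(4, false, 2), (4, false, 1), (4, false, 0), (17, false, 2), (17, false, 4), (17, false, 3), (5, false, 1), (20, false, 1)]),
   ([2, 1, 0], [(4, false, 0), (15, false, 2), (3, false, 1), (1, false, 0), (12, false, 4), (5, false, 2)], [(1, false, 1), (3, false, 0), (4, false, 1), (17, false, 3), (17, false, 4), (5, false, 2), (19, false, 2)]),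
   ([3, 3, 3, 1], [(9, false, 0)], [(7, false, 2), (7, false, 1), (7, false, 0), (18, false, 4), (18, false, 3), (13, false, 2), (20, false, 4), (18, false, 6), (18, false, 5), (13, false, 4), (13, false, 3), (9, false, 1), (19, false, 2), (20, false, 3), (19, false, 3), (14, false, 1), (20, false, 1)]),
   ([3, 1, 0], [(7, false, 0), (15, false, 4), (15, false, 3), (10, false, 2), (6, false, 1), (1, false, 0), (13, false, 4), (19, false, 6), (20, false, 7)], [(1, false, 1), (6, false, 0), (7, false, 1), (17, false, 5), (17, false, 4), (12, false, 3), (8, false, 2), (19, false, 4), (20, false, 5), (12, false, 4), (8, false, 3), (19, false, 5), (19, false, 6)])]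

def p3Eqs_1 : List (List ℕ × List Step × List Step) :=
  [([7, 4, 4, 3, 3, 5, 5], [(31, false, 0), (30, false, 1), (3, false, 0), (3, false, 1), (5, false, 2)], [(13, false, 2), (13, false, 1), (19, false, 3), (18, false, 5), (18, false, 4), (13, false, 3), (13, false, 2), (19, false, 4), (20, false, 5), (20, false, 5), (20, true, 5), (20, true, 5), (19, true, 4), (19, true, 5), (19, true, 3), (19, true, 4), (30, false, 0), (31, false, 8), (32, false, 9), (32, false, 11), (17, false, 7), (12, false, 6), (8, false, 5), (8, false, 4), (5, false, 2), (18, false, 3), (19, false, 5), (19, false, 4), (20, false, 5), (20, false, 5)]),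
   ([7, 4, 4, 1, 1, 4, 4, 5, 5], [(31, false, 0), (28, false, 1), (3, false, 0), (4, false, 1), (17, false, 3), (17, false, 4), (5, false, 2), (18, false, 2), (18, false, 3), (19, false, 4), (20, false, 5)], [(11, false, 2), (11, false, 1), (19, false, 4), (19, false, 3), (20, false, 4), (16, false, 4), (11, false, 3), (11, false, 2), (19, false, 5), (19, false, 4), (20, false, 5), (19, false, 6), (19, false, 5), (14, false, 3), (19, false, 4), (19, false, 3), (20, false, 4), (20, true, 4), (19, true, 3), (19, true, 4), (14, true, 3), (19, true, 5), (19, true, 6), (28, false, 0), (31, false, 9), (32, false, 10), (17, false, 8), (17, false, 7), (12, false, 6), (8, false, 5), (8, false, 4), (5, false, 2), (18, false, 3), (19, false, 5), (19, false, 4), (20, false, 5), (20, false, 5)]),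
   ([7, 3, 3, 5, 5, 2, 2, 5, 5], [(30, false, 0), (29, false, 8), (17, false, 7), (12, false, 6), (8, false, 5), (8, false, 4), (5, false, 2), (18, false, 3), (19, false, 5), (19, false, 4), (20, false, 5)], [(17, false, 4), (17, false, 3), (8, false, 2), (8, false, 1), (18, false, 3), (20, false, 4), (17, false, 4), (8, false, 3), (8, false, 2), (18, false, 4), (20, false, 5), (20, true, 5), (20, true, 5), (18, true, 4), (18, true, 5), (18, true, 3), (18, true, 4), (29, false, 0), (30, false, 4), (32, false, 12), (32, false, 14), (15, false, 3), (15, false, 2), (10, false, 1), (3, false, 0), (20, false, 3), (10, false, 2), (3, false, 1), (17, false, 4), (12, false, 3), (17, false, 5), (12, false, 4), (5, false, 2), (18, false, 3), (13, false, 2), (18, false, 5), (18, false, 4), (13, false, 3), (20, false, 5), (20, false, 6)]),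
   ([6, 3, 3, 5, 5, 2, 2, 5, 5], [(24, false, 0), (23, false, 6), (17, false, 5), (12, false, 4), (8, false, 3), (19, false, 5), (19, false, 7), (19, false, 6), (19, false, 8), (19, false, 7), (14, false, 5), (20, false, 5)], [(17, false, 4), (17, false, 3), (8, false, 2), (8, false, 1), (18, false, 3), (20, false, 4), (17, false, 4), (8, false, 3), (8, false, 2), (18, false, 4), (20, false, 5), (20, true, 5), (20, true, 5), (18, true, 4), (18, true, 5), (18, true, 3), (18, true, 4), (23, false, 0), (24, false, 4), (26, false, 10), (26, false, 12), (15, false, 3), (10, false, 2), (10, false, 1), (3, false, 0), (19, false, 3), (20, false, 4), (10, false, 3), (10, false, 2), (3, false, 1), (19, false, 4), (17, false, 6), (17, false, 5), (12, false, 4), (12, false, 3), (18, false, 7), (18, false, 6), (13, false, 5), (13, false, 4), (19, false, 6), (20, false, 7), (19, false, 7), (14, false, 5), (20, false, 5), (20, false, 5)]),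
   ([7, 2, 2, 5, 5, 1, 1, 4, 4, 5, 5], [(29, false, 0), (28, false, 4), (15, false, 3), (15, false, 2), (10, false, 1), (3, false, 0), (20, false, 3), (11, false, 2), (4, false, 1), (19, false, 3), (20, false, 4), (12, false, 3), (12, false, 4), (5, false, 2), (13, false, 2), (18, false, 4), (13, false, 3), (19, false, 6), (19, false, 5), (20, false, 6)], [(16, false, 4), (16, false, 3), (4, false, 2), (4, false, 1), (17, false, 3), (20, false, 4), (16, false, 4), (4, false, 3), (4, false, 2), (17, false, 4), (20, false, 5), (20, true, 7), (20, true, 7), (12, true, 4), (12, true, 5), (17, true, 6), (17, true, 7), (12, true, 3), (12, true, 4), (17, true, 5), (17, true, 6), (28, false, 0), (29, false, 9), (32, false, 13), (32, false, 15), (17, false, 8), (17, false, 7), (12, false, 6), (8, false, 5), (8, false, 4), (5, false, 2), (18, false, 3), (19, false, 5), (19, false, 4), (20, false, 5), (19, false, 5), (20, false, 6), (20, false, 6)]),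
   ([6, 4, 4, 3, 3, 5, 5], [(25, false, 0), (24, false, 5), (15, false, 4), (10, false, 3), (10, false, 2), (3, false, 1), (3, false, 0), (19, false, 4), (20, false, 5), (10, false, 4), (10, false, 3), (3, false, 2), (3, false, 1), (19, false, 5), (17, false, 7), (17, false, 6), (12, false, 5), (12, false, 4), (5, false, 2), (18, false, 5), (18, false, 4), (13, false, 3), (13, false, 2), (19, false, 4), (20, false, 5), (19, false, 5), (14, false, 3)], [(13, false, 2), (13, false, 1), (19, false, 3), (18, false, 5), (18, false, 4), (13, false, 3), (13, false, 2), (19, false, 4), (20, false, 5), (20, false, 5), (20, true, 5), (20, true, 5), (19, true, 4), (19, true, 5), (19, true, 3), (19, true, 4), (24, false, 0), (25, false, 6), (26, false, 11), (26, false, 13), (17, false, 5), (12, false, 4), (8, false, 3), (19, false, 5), (17, false, 7), (17, false, 6), (12, false, 5), (8, false, 4), (5, false, 2), (19, false, 3), (20, false, 4), (14, false, 3), (20, false, 3)]),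
   ([6, 3, 3, 5, 5, 3, 3, 5, 5, 3, 3, 5, 5], [(24, false, 0), (24, false, 6), (24, false, 12), (15, false, 5), (10, false, 4), (6, false, 3), (3, false, 2), (0, false, 0), (15, false, 4), (15, false, 3), (10, false, 2), (6, false, 1), (3, false, 0), (20, false, 4), (12, false, 3), (8, false, 2), (19, false, 4), (18, false, 5), (13, false, 4), (19, false, 7), (19, false, 6), (20, false, 7), (10, false, 6), (10, false, 5), (6, false, 4), (6, false, 3), (3, false, 2), (3, false, 1), (19, false, 7), (15, false, 9), (15, false, 8), (10, false, 7), (10, false, 6), (6, false, 5), (6, false, 4), (3, false, 3), (3, false, 2), (0, false, 0), (19, false, 5), (20, false, 6), (17, false, 6), (12, false, 5), (12, false, 4), (8, false, 3), (8, false, 2), (5, false, 0), (18, false, 1), (19, false, 3), (19, false, 2), (19, false, 4), (19, false, 3), (20, false, 4), (13, false, 3), (13, false, 2), (9, false, 0), (19, false, 1), (19, false, 3), (19, false, 2), (14, false, 0), (20, false, 0)], [(18, false, 4), (18, false, 3), (9, false, 1), (18, false, 2), (18, false, 1), (20, false, 2), (18, false, 2), (18, false, 3), (9, false, 1), (20, false, 1)]),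
   ([7, 3, 3, 5, 5, 3, 3, 5, 5, 3, 3, 5, 5], [(30, false, 0), (30, false, 8), (30, false, 16), (15, false, 7), (10, false, 6), (6, false, 5), (6, false, 4), (3, false, 3), (3, false, 2), (0, false, 0), (15, false, 6), (15, false, 5), (10, false, 4), (6, false, 3), (6, false, 2), (3, false, 1), (3, false, 0), (20, false, 6), (12, false, 5), (8, false, 4), (8, false, 3), (5, false, 1), (18, false, 2), (19, false, 4), (19, false, 3), (17, false, 5), (17, false, 4), (12, false, 3), (8, false, 2), (8, false, 1), (18, false, 3), (19, false, 5), (19, false, 4), (20, false, 5), (18, false, 5), (13, false, 4), (9, false, 2), (18, false, 4), (18, false, 3), (13, false, 2), (20, false, 4), (15, false, 5), (10, false, 4), (10, false, 3), (6, false, 2), (3, false, 1), (19, false, 5), (20, false, 6), (10, false, 5), (10, false, 4), (6, false, 3), (3, false, 2), (0, false, 0), (19, false, 3), (17, false, 5), (17, false, 4), (12, false, 3), (12, false, 2), (8, false, 1), (19, false, 3), (19, false, 4), (20, false, 5), (12, false, 4), (12, false, 3), (8, false, 2), (5, false, 0), (19, false, 1), (19, false, 2), (18, false, 3), (13, false, 2), (13, false, 1), (19, false, 3), (20, false, 4), (13, false, 3), (13, false, 2), (9,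 false, 0), (19, false, 1), (19, false, 3), (19, false, 2), (14, false, 0), (20, false, 0)], [(18, false, 4), (18, false, 3), (9, false, 1), (18, false, 2), (18, false, 1), (20, false, 2), (18, false, 2), (18, false, 3), (9, false, 1), (20, false, 1)]),
   ([7, 3, 3, 5, 5, 0, 0, 1, 1, 2, 2, 3, 3, 4, 4, 5, 5], [(30, false, 0), (27, false, 8), (16, false, 7), (11, false, 6), (7, false, 5), (7, false, 4), (4, false, 3), (4, false, 2), (17, false, 4), (18, false, 6), (18, false, 5), (19, false, 7), (19, false, 6), (20, false, 7), (18, false, 7), (13, false, 6), (19, false, 9), (19, false, 8), (20, false, 9), (19, false, 9), (14, false, 7), (20, false, 7), (17, false, 7), (8, false, 6), (8, false, 5), (5, false, 3), (18, false, 4), (20, false, 5), (8, false, 4), (8, false, 3), (18, false, 5)], [(15, false, 4), (15, false, 3), (6, false, 2), (6, false, 1), (15, false, 5), (15, false, 4), (6, false, 3), (6, false, 2), (16, false, 6), (16, false, 5), (7, false, 4), (7, false, 3), (18, false, 7), (18, false, 6), (13, false, 5), (20, false, 7), (20, false, 8), (16, false, 8), (11, false, 7), (11, false, 6), (7, false, 5), (7, false, 4), (18, false, 8), (18, false, 7), (13, false, 6), (20, false, 8), (19, false, 10), (19,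 false, 9), (14, false, 7), (20, false, 7), (19, false, 7), (20, false, 8), (17, false, 8), (12, false, 7), (8, false, 6), (8, false, 5), (18, false, 7), (19, false, 9), (19, false, 8), (20, false, 9), (12, false, 8), (8, false, 7), (8, false, 6), (18, false, 8), (19, false, 10), (19, false, 9), (18, false, 11), (18, false, 10), (13, false, 9), (9, false, 7), (20, false, 8), (13, false, 7), (19, false, 9), (19, false, 10), (14, false, 8), (20, false, 8), (20, true, 8), (20, true, 8), (14, true, 8), (19, true, 10), (19, true, 11), (19, true, 9), (19, true, 10), (19, true, 8), (19, true, 9), (14, true, 8), (19, true, 10), (19, true, 11), (20, true, 10), (19, true, 9), (13, true, 7), (13, true, 8), (18, true, 9), (20, true, 9), (19, true, 8), (9, true, 7), (13, true, 9), (13, true, 10), (18, true, 11), (18, true, 12), (27, false, 0), (30, false, 3), (31, false, 11), (31, false, 12), (32, false, 13), (32, false, 15), (3, false, 2), (3, false, 1), (1, false, 0), (12, false, 4), (5, false, 2), (12, false, 2), (10, false, 3), (3, false, 2), (1, false, 1), (12, false, 5), (5, false, 3), (17, false, 5), (12, false, 4), (12, false, 3), (17, false, 6), (12, false, 5), (12, false, 4), (18, false, 7), (13, false, 6), (13,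 false, 5), (19, false, 7), (20, false, 8), (13, false, 7), (13, false, 6), (19, false, 8), (19, false, 10), (19, false, 9), (14, false, 7), (20, false, 7), (8, false, 6), (8, false, 5), (5, false, 3), (18, false, 4), (17, false, 6), (17, false, 5), (8, false, 4), (8, false, 3), (18, false, 5), (20, false, 6), (20, false, 6)]),
   ([7, 3, 3, 5, 5, 1, 1, 4, 4, 5, 5], [(30, false, 0), (28, false, 8), (15, false, 7), (10, false, 6), (6, false, 5), (6, false, 4), (3, false, 3), (3, false, 2), (0, false, 0), (16, false, 6), (16, false, 5), (11, false, 4), (7, false, 3), (7, false, 2), (4, false, 1), (4, false, 0), (17, false, 2), (18, false, 4), (18, false, 3), (19, false, 5), (19, false, 4), (20, false, 5), (18, false, 5), (13, false, 4), (19, false, 7), (19, false, 6), (20, false, 7), (19, false, 7), (14, false, 5), (20, false, 5), (17, false, 6), (17, false, 5), (8, false, 4), (8, false, 3), (5, false, 1), (18, false, 2), (20, false, 3), (17, false, 3), (8, false, 2), (8, false, 1), (18, false, 3), (20, false, 4), (9, false, 2)], [(16, false, 4), (16, false, 3), (7, false, 2), (7, false, 1), (18, false, 5), (18, false, 4), (13, false, 3), (20, false, 5), (20, false, 6), (16, false, 6), (11, false, 5), (11, false,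 4), (7, false, 3), (7, false, 2), (18, false, 6), (18, false, 5), (13, false, 4), (20, false, 6), (19, false, 8), (19, false, 7), (14, false, 5), (20, false, 5), (19, false, 5), (20, false, 6), (19, false, 6), (19, false, 7), (14, false, 5), (20, false, 5), (20, true, 5), (20, true, 5), (14, true, 5), (19, true, 7), (19, true, 8), (19, true, 6), (19, true, 7), (19, true, 5), (19, true, 6), (14, true, 5), (19, true, 7), (19, true, 8), (20, true, 7), (19, true, 6), (13, true, 4), (13, true, 5), (18, true, 6), (20, true, 6), (19, true, 5), (13, true, 3), (13, true, 4), (18, true, 5), (18, true, 6), (28, false, 0), (30, false, 9), (31, false, 17), (31, false, 18), (32, false, 19), (32, false, 21), (15, false, 8), (15, false, 7), (10, false, 6), (6, false, 5), (6, false, 4), (3, false, 3), (3, false, 2), (1, false, 1), (12, false, 5), (5, false, 3), (12, false, 3), (13, false, 4), (18, false, 6), (13, false, 5), (19, false, 8), (19, false, 7), (20, false, 8), (15, false, 9), (15, false, 8), (10, false, 7), (10, false, 6), (6, false, 5), (6, false, 4), (3, false, 3), (1, false, 2), (0, false, 0), (12, false, 3), (5, false, 1), (13, false, 1), (18, false, 3), (13, false, 2), (19, false, 5), (19, false, 4), (20, false,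 5), (14, false, 3), (20, false, 3), (8, false, 2), (8, false, 1), (18, false, 3), (17, false, 5), (17, false, 4), (8, false, 3), (8, false, 2), (18, false, 4), (20, false, 5), (18, false, 5), (9, false, 3), (18, false, 3), (19, false, 4), (17, false, 6), (17, false, 5), (12, false, 4), (8, false, 3), (5, false, 1), (19, false, 2), (20, false, 3), (12, false, 2), (8, false, 1), (19, false, 3), (20, false, 4)])]

def p3Eqs_2 : List (List ℕ × List Step × List Step) :=
  [([7, 1, 1, 4, 4, 5, 5, 1, 1, 4, 4, 5, 5, 1, 1, 4, 4, 5, 5], [(28, false, 0), (28, false, 9), (28, false, 18), (15, false, 8), (15, false, 7), (10, false, 6), (6, false, 5), (6, false, 4), (3, false, 3), (3, false, 2), (1, false, 1), (12, false, 5), (5, false, 3), (12, false, 3), (13, false, 4), (18, false, 6), (13, false, 5), (19, false, 8), (19, false, 7), (20, false, 8), (16, false, 9), (16, false, 8), (11, false, 7), (11, false, 6), (7, false, 5), (7, false, 4), (4, false, 3), (18, false, 5), (19, false, 6), (20, false, 7), (13, false, 6), (19, false, 8), (20, false, 9), (14, false, 7), (19, false, 8), (19, false, 7), (20, false, 8), (20, false, 8), (12, false, 7), (8, false, 6), (8, false, 5), (18, false, 7), (19, false, 9), (19, false, 8),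 (17, false, 10), (17, false, 9), (12, false, 8), (8, false, 7), (8, false, 6), (5, false, 4), (18, false, 5), (19, false, 7), (19, false, 6), (20, false, 7), (18, false, 7), (13, false, 6), (9, false, 4), (18, false, 6), (18, false, 5), (13, false, 4), (20, false, 6), (15, false, 8), (15, false, 7), (10, false, 6), (10, false, 5), (6, false, 4), (1, false, 3), (1, false, 2), (0, false, 0), (11, false, 3), (4, false, 2), (4, false, 1), (17, false, 3), (19, false, 5), (19, false, 4), (20, false, 5), (17, false, 5), (12, false, 4), (5, false, 2), (17, false, 3), (12, false, 2), (19, false, 4), (18, false, 5), (13, false, 4), (13, false, 3), (19, false, 5), (20, false, 6), (14, false, 4), (19, false, 4), (20, false, 5), (16, false, 5), (11, false, 4), (7, false, 3), (4, false, 2), (2, false, 0), (17, false, 1), (17, false, 0), (20, false, 1), (19, false, 4), (19, false, 3), (20, false, 4), (17, false, 5), (17, false, 4), (12, false, 3), (12, false, 2), (8, false, 1), (19, false, 3), (19, false, 4), (20, false, 5), (12, false, 4), (12, false, 3), (8, false, 2), (5, false, 0), (19, false, 1), (19, false, 2), (18, false, 3), (13, false, 2), (13, false, 1), (19, false, 3), (20, false, 4), (13, false, 3), (13, false,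 2), (9, false, 0), (19, false, 1), (19, false, 3), (19, false, 2), (14, false, 0), (20, false, 0)], [(16, false, 6), (16, false, 5), (11, false, 4), (11, false, 3), (2, false, 1), (19, false, 2), (19, false, 1), (20, false, 2), (19, false, 2), (20, false, 3), (16, false, 4), (16, false, 3), (11, false, 2), (11, false, 1), (19, false, 4), (19, false, 3), (20, false, 4), (20, false, 4), (14, false, 2), (16, false, 4), (16, false, 3), (11, false, 2), (20, false, 4), (16, false, 4), (11, false, 3), (2, false, 1), (19, false, 2), (19, false, 1), (20, false, 2), (19, false, 3), (19, false, 2), (19, false, 4), (19, false, 3), (14, false, 1), (20, false, 1), (20, true, 1), (32, false, 0), (32, false, 2), (20, false, 0)]),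
   ([6, 3, 3, 5, 5, 1, 1, 4, 4, 5, 5], [(24, false, 0), (22, false, 6), (15, false, 5), (10, false, 4), (6, false, 3), (3, false, 2), (0, false, 0), (16, false, 4), (16, false, 3), (11, false, 2), (7, false, 1), (4, false, 0), (18, false, 2), (19, false, 3), (20, false, 4), (20, false, 5), (16, false, 5), (11, false, 4), (11, false, 3), (7, false, 2), (4, false, 1), (18, false, 3), (19, false, 4), (20, false, 5), (19, false, 7), (19, false, 6), (14, false, 4), (20, false, 4), (17, false, 5), (17, false, 4), (8, false, 3), (20, false, 5), (8, false, 4), (5, false, 2), (18, false, 3), (19, false, 4)], [(16, false, 4), (16, false, 3), (7, false, 2), (7, false, 1), (18, false, 5), (18, false, 4), (13, false, 3), (20, false, 5), (20, false, 6), (16, false, 6), (11, false, 5), (11, false, 4), (7, false, 3), (7, false, 2), (18, false, 6), (18, false, 5), (13, false, 4), (20, false, 6), (19, false, 8), (19, false, 7), (14, false, 5), (20, false, 5), (19, false, 5), (20, false, 6), (19, false, 6), (19, false, 7), (14, false, 5), (20, false, 5), (20, true, 5), (20, true, 5), (14, true, 5), (19, true, 7), (19, true, 8), (19, true, 6), (19, true, 7), (19, true, 5), (19, true, 6), (14, true, 5), (19, true, 7), (19, true,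 8), (20, true, 7), (19, true, 6), (13, true, 4), (13, true, 5), (18, true, 6), (20, true, 6), (19, true, 5), (13, true, 3), (13, true, 4), (18, true, 5), (18, true, 6), (22, false, 0), (24, false, 8), (25, false, 14), (25, false, 19), (26, false, 24), (26, false, 26), (15, false, 7), (10, false, 6), (6, false, 5), (3, false, 4), (3, false, 3), (1, false, 2), (1, false, 1), (11, false, 5), (4, false, 4), (4, false, 3), (17, false, 5), (19, false, 7), (19, false, 6), (20, false, 7), (17, false, 7), (12, false, 6), (5, false, 4), (17, false, 5), (12, false, 4), (19, false, 6), (17, false, 7), (12, false, 6), (12, false, 5), (17, false, 8), (12, false, 7), (12, false, 6), (5, false, 4), (18, false, 6), (13, false, 5), (13, false, 4), (19, false, 6), (20, false, 7), (14, false, 5), (15, false, 6), (15, false, 5), (6, false, 4), (1, false, 3), (1, false, 2), (0, false, 0), (11, false, 3), (4, false, 2), (4, false, 1), (17, false, 3), (19, false, 5), (19, false, 4), (20, false, 5), (17, false, 5), (12, false, 4), (5, false, 2), (17, false, 3), (12, false, 2), (19, false, 4), (18, false, 5), (13, false, 4), (13, false, 3), (19, false, 5), (20, false, 6), (17, false, 7), (17, false, 6), (12, false, 5), (12, false, 4),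 (8, false, 3), (19, false, 5), (19, false, 6), (20, false, 7), (13, false, 6), (13, false, 5), (19, false, 7), (19, false, 9), (19, false, 8), (14, false, 6), (20, false, 6), (8, false, 5), (8, false, 4), (5, false, 2), (18, false, 3), (17, false, 5), (17, false, 4), (8, false, 3), (8, false, 2), (18, false, 4), (20, false, 5), (19, false, 5), (19, false, 6), (17, false, 8), (17, false, 7), (12, false, 6), (12, false, 5), (8, false, 4), (8, false, 3), (18, false, 5), (19, false, 7), (19, false, 6), (19, false, 8), (19, false, 7), (20, false, 8), (17, false, 8), (12, false, 7), (12, false, 6), (8, false, 5), (8, false, 4), (5, false, 2), (18, false, 3), (19, false, 5), (19, false, 4), (19, false, 6), (19, false, 5), (20, false, 6), (14, false, 4), (20, false, 5)]),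
   ([7, 1, 1, 4, 4, 5, 5, 0, 0, 1, 1, 2, 2, 3, 3, 4, 4, 5, 5], [(28, false, 0), (27, false, 9), (16, false, 8), (16, false, 7), (11, false, 6), (7, false, 5), (7, false, 4), (4, false, 3), (4, false, 2), (17, false, 4), (18, false, 6), (18, false, 5), (19, false, 7), (19, false, 6), (20, false, 7), (18, false, 7), (13, false, 6), (19, false, 9), (19, false, 8), (20, false, 9), (19, false, 9), (14, false, 7), (20, false, 7), (17, false, 8), (17, false, 7), (8, false, 6), (8, false, 5), (5, false, 3), (18, false, 4), (20, false, 5), (17, false, 5), (8, false, 4), (8, false, 3), (18, false, 5), (20, false, 6)], [(15, false, 6), (15, false, 5), (10, false, 4), (10, false, 3), (1, false, 2), (1, false, 1), (11, false, 5), (4, false, 4), (4, false, 3), (17, false, 5), (19, false, 7), (19, false, 6), (20, false, 7), (17, false, 7), (12, false, 6), (5, false, 4), (17, false, 5), (12, false, 4), (19, false, 6), (19, false, 7), (14, false, 5), (19, false, 6), (19, false, 5), (20, false, 6), (15, false, 7), (15, false, 6), (10, false, 5), (3, false, 4), (1, false, 3), (1, false, 2), (11, false, 6), (4, false, 5), (4, false, 4), (17, false, 6), (19, false, 8), (19, false, 7), (20, false, 8), (17, false, 8), (12, false, 7),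 (5, false, 5), (17, false, 6), (12, false, 5), (19, false, 7), (17, false, 8), (12, false, 7), (12, false, 6), (19, false, 9), (14, false, 7), (20, false, 7), (16, false, 7), (4, false, 6), (4, false, 5), (2, false, 3), (17, false, 4), (17, false, 3), (20, false, 4), (16, false, 6), (16, false, 5), (4, false, 4), (4, false, 3), (17, false, 5), (20, false, 6), (17, false, 6), (5, false, 4), (17, false, 4), (18, false, 5), (18, false, 6), (19, false, 7), (19, false, 8), (20, false, 9), (20, true, 9), (20, true, 9), (20, true, 9), (19, true, 8), (19, true, 9), (19, true, 7), (19, true, 8), (18, true, 6), (8, true, 4), (8, true, 5), (12, true, 6), (12, true, 7), (17, true, 8), (20, true, 8), (19, true, 7), (19, true, 8), (19, true, 6), (19, true, 7), (18, true, 5), (5, true, 4), (8, true, 6), (8, true, 7), (12, true, 8), (12, true, 9), (17, true, 10), (17, true, 11), (20, true, 8), (14, true, 8), (19, true, 10), (20, true, 10), (19, true, 9), (19, true, 10), (13, true, 7), (18, true, 8), (20, true, 8), (19, true, 7), (19, true, 8), (18, true, 6), (18, true, 7), (17, true, 5), (4, true, 3), (4, true, 4), (7, true, 5), (7, true, 6), (11, true, 7), (20, true, 8), (20, true, 8), (19, true, 7), (19, true, 8), (14, true,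 7), (20, true, 9), (19, true, 8), (13, true, 6), (20, true, 7), (19, true, 6), (18, true, 5), (20, true, 4), (17, true, 3), (17, true, 4), (2, true, 3), (4, true, 5), (4, true, 6), (7, true, 7), (7, true, 8), (11, true, 9), (11, true, 10), (16, true, 11), (16, true, 12), (27, false, 0), (28, false, 3), (29, false, 12), (32, false, 16), (32, false, 18), (3, false, 2), (3, false, 1), (1, false, 0), (12, false, 4), (5, false, 2), (12, false, 2), (11, false, 3), (4, false, 2), (19, false, 4), (20, false, 5), (12, false, 4), (12, false, 5), (5, false, 3), (13, false, 3), (18, false, 5), (13, false, 4), (19, false, 7), (19, false, 6), (20, false, 7), (17, false, 7), (12, false, 6), (12, false, 5), (8, false, 4), (8, false, 3), (18, false, 5), (19, false, 7), (19, false, 6), (19, false, 8), (19, false, 7), (20, false, 8), (14, false, 6), (20, false, 6), (20, false, 6)])]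

def p3Eqs : List (List ℕ × List Step × List Step) :=
  p3Eqs_0 ++ p3Eqs_1 ++ p3Eqs_2

def p3D_0 : List (List ℕ) :=
  [[0, 0, 0, 0, 0, 0, 0, 0, 0, 0, 0, 0, 0, 0, 0, 0, 0, 0, 0, 0, 0, 0, 0, 0, 0, 0, 0, 0, 0, 0, 0, 0, 0],
   [0, 0, 0, 0, 0, 0, 0, 0, 0, 0, 0, 0, 0, 0, 0, 0, 0, 0, 0, 0, 0, 0, 0, 0, 0, 0, 0, 0, 0, 0, 0, 0, 0],
   [0, 0, 0, 0, 0, 0, 0, 0, 0, 0, 0, 0, 0, 0, 0, 0, 0, 0, 0, 0, 0, 0, 0, 0, 0, 0, 0, 0, 0, 1, 0, 2, 0],
   [0, 0, 0, 0, 0, 0, 0, 0, 0, 0, 0, 0, 0, 0, 0, 0, 0, 0, 0, 0, 0, 0, 0, 0, 0, 0, 0, 0, 0, 0, 0, 0, 0],
   [0, 0, 0, 0, 0, 0, 0, 0, 0, 0, 0, 0, 0, 0, 0, 0, 0, 0, 0, 0, 0, 0, 0, 0, 0, 0, 0, 0, 0, 2, 0, 2, 0]]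

def p3D_1 : List (List ℕ) :=
  [[0, 0, 0, 0, 0, 0, 0, 0, 0, 0, 0, 0, 0, 0, 0, 0, 0, 0, 0, 0, 0, 0, 0, 0, 0, 1, 0, 0, 0, 1, 0, 2, 0]]

def p3D : List (List ℕ) :=
  p3D_0 ++ p3D_1

def p3Sol_0 : List (ℕ × List (ℕ × ℕ)) :=
  [(0, [(1, 2), (2, 2), (4, 2), (5, 1), (6, 1), (8, 1), (17, 2)]),
   (0, [(0, 1), (2, 1), (3, 2), (4, 1), (5, 2), (6, 2), (10, 1), (12, 2), (13, 2), (14, 2), (15, 1), (22, 1)]),
   (0, [(5, 1), (6, 2), (7, 2), (8, 2), (9, 2), (11, 2), (12, 1), (13, 2), (14, 1), (16, 1), (17, 1), (18, 2), (20, 2), (21, 1), (22, 2)]),
   (0, [(2, 1), (3, 2), (9, 2), (10, 1), (12, 2), (13, 2), (15, 1)]),
   (0, [(0, 2), (1, 1), (2, 1), (3, 2), (4, 2), (5, 1), (6, 1), (12, 2), (13, 2), (14, 2), (15, 2), (18, 1), (21, 2), (22, 1)]),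
   (0, [(1, 1), (2, 1), (3, 2), (4, 2), (5, 2), (8, 1)]),
   (0, [(0, 2), (2, 1), (4, 2), (5, 1), (6, 2), (7, 2), (10, 2), (12, 1), (13, 1), (15, 2), (18, 1), (19, 2)]),
   (0, [(0, 1), (1, 1), (2, 1), (4, 2), (5, 2), (6, 2), (7, 1), (8, 2), (9, 2), (10, 1), (11, 2), (12, 1), (13, 1), (14, 2), (15, 1), (18, 1), (19, 2), (21, 1), (22, 1)]),
   (0, [(1, 1), (2, 2), (4, 1), (5, 1), (6, 1), (7, 1), (10, 2), (11, 2), (13, 2), (14, 1), (15, 2), (18, 1), (21, 2), (22, 1)]),
   (0, [(1, 2), (2, 2), (3, 2), (4, 2), (5, 2), (6, 2), (8, 2), (16, 2), (17, 1)])]

def p3Sol_1 : List (ℕ × List (ℕ × ℕ)) :=
  [(0, [(1, 1), (3, 2), (4, 1), (5, 2), (6, 1), (7, 2), (10, 2), (11, 2), (14, 1), (15, 1), (18, 1), (21, 2), (22, 1)]),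
   (0, [(1, 2), (2, 2), (3, 1), (4, 2), (5, 1), (6, 1), (7, 1), (9, 2), (10, 1), (11, 1), (12, 2), (13, 2), (18, 2), (21, 1), (22, 2)]),
   (0, [(2, 2), (3, 2), (5, 1), (7, 1)]),
   (0, [(1, 1), (3, 2), (4, 1), (5, 1), (6, 1), (7, 2), (9, 1), (10, 2), (11, 2), (13, 1), (14, 1), (18, 1), (21, 2), (22, 1)]),
   (0, [(2, 2), (3, 1), (4, 1), (5, 1), (8, 2)]),
   (0, [(2, 1)]),
   (0, [(0, 2)]),
   (0, [(3, 2)]),
   (0, [(2, 1), (4, 2)]),
   (0, [(3, 1), (5, 1)])]

def p3Sol_2 : List (ℕ × List (ℕ × ℕ)) :=
  [(0, [(6, 2)])]

def p3Sol : List (ℕ × List (ℕ × ℕ)) :=
  p3Sol_0 ++ p3Sol_1 ++ p3Sol_2

def p3Nf_0 : List (List ℕ) :=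
  [[0, 2, 2, 3, 3, 4, 5], [0, 1, 2, 2], [0, 5], [0, 0, 1, 1, 2, 3, 3, 4, 4], [0, 0, 1, 1, 3, 5, 5], [0, 1, 1, 2, 3, 3, 5, 5], [1, 3, 4], [0, 0, 2, 2, 3, 5], [0, 2, 2], [0, 1, 2, 3, 3, 4], [0, 0, 1, 2, 2, 3, 4, 4, 5, 5], [0, 0, 1, 2, 2, 4], [0, 0, 2, 2, 3, 4, 5], [1, 3, 4, 4], [0, 0, 1, 2, 3, 3, 4, 5, 5], [0, 1, 1, 3, 4, 4, 5, 5], [0, 1, 3, 4, 4], [3, 4, 4, 5], [0, 0, 3, 3, 4, 5], [0, 0, 1, 1, 4, 4, 5, 5], [0, 0, 1, 1, 2], [2, 2, 4, 5], [0, 1, 1, 2, 4], [0, 0, 1, 1, 2, 3, 3, 5, 5], [1, 1, 2, 2, 3, 4], [1, 1, 2, 2, 3, 3, 4, 4, 5, 5], [0, 0, 1, 2, 2, 3, 3, 5, 5], [0, 1, 2, 2, 3, 3, 4, 4], [2, 2, 3], [0, 1, 2, 3, 5, 5], [0, 0, 2, 2, 4, 5], [0, 0, 1, 1, 3, 3, 4], [0, 1, 1, 2, 3, 3, 4, 4, 5], [1, 2, 3, 3, 4, 4, 5, 5], [0, 1, 1, 2, 2, 4, 4, 5], [2, 2, 5], [1, 1, 2, 2, 4], [0, 2, 2, 3, 4, 5], [0, 0, 1, 2, 3, 3, 4, 4, 5, 5], [0, 1, 1, 2, 2, 3, 3, 5, 5], [2, 3, 5, 5], [0, 0, 1, 1, 2, 2], [1, 1, 2, 3, 4, 4], [1, 1, 2, 2, 3, 3, 5, 5], [0, 2, 3, 4], [0, 0, 1, 2, 3, 3, 5, 5], [0, 1, 1, 3, 4], [0, 1, 1, 2, 3, 4, 4, 5, 5], [0, 0, 4, 5, 5], [4, 4, 5], [0, 3, 4, 5, 5], [0, 0, 1, 1, 2, 2, 3, 5, 5], [1, 1, 3, 3, 4, 4, 5, 5], [0, 0, 1, 1, 2, 2, 3, 3, 4, 4], [1, 1, 3, 4], [2, 2, 3, 3, 4, 4, 5], [0, 0, 2, 2, 4, 4, 5], [0, 0, 1, 3,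 3, 5], [0, 1, 1, 2, 5], [0, 0, 2, 3, 4, 4, 5, 5], [0, 1, 2, 2, 4, 4], [0, 1, 2, 2, 3, 3, 5, 5], [1, 1, 3, 3, 5, 5], [1, 3], [0, 0, 3, 3, 4, 4, 5, 5], [1, 4, 4], [0, 2, 2, 3, 3, 4, 4, 5], [0, 0, 2, 4], [0, 0, 1, 2, 3, 4, 4, 5, 5], [2, 4, 4, 5, 5], [0, 0, 1, 2, 3, 4], [0, 1, 1, 3, 3, 4, 4, 5, 5], [0, 0, 2, 2, 3, 3], [1, 1, 2, 3, 3, 4, 5], [0, 0, 1, 2, 4, 4, 5], [0, 2, 3, 4, 4, 5], [1, 2, 4, 4], [1, 1, 2, 2, 4, 4], [0, 1, 4, 4], [1, 2, 3, 3, 5, 5], [0, 1, 1, 2, 2, 3, 5], [0, 0, 1, 1, 2, 3, 4, 4, 5, 5], [0, 0, 1, 2, 5], [0, 0, 2, 2, 3, 3, 4, 4], [0, 1, 1, 2, 2, 3, 4], [0, 0, 1, 2, 2, 3, 3, 4, 4, 5, 5], [0, 0, 3, 3], [0, 0, 4, 5], [0, 3, 3], [0, 1, 2, 2, 3, 4, 4, 5], [0, 0, 1, 1, 2, 3, 4, 5], [0, 0, 1, 1, 2, 4], [0, 1, 4], [0, 1, 2, 2, 3, 4, 5], [0, 1, 1, 2, 2, 3, 3, 4, 5, 5], [0, 2, 4, 5, 5], [0, 0, 1, 3, 3, 4, 4, 5], [1, 1, 2, 2, 3, 5], [0, 0, 1, 1, 4, 5, 5], [0, 1, 3, 4, 5, 5]]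

def p3Nf_1 : List (List ℕ) :=
  [[0, 1, 1, 2, 3, 3, 4, 5, 5], [1, 1, 4, 5], [0, 2, 2, 4, 4], [1, 1, 2, 3, 5, 5], [0, 0, 1, 2, 3, 5], [2, 2, 4, 4], [1, 2, 2, 3, 3, 4, 5], [1, 3, 3, 4, 4], [2, 2, 3, 3, 4, 5], [0, 1, 1, 3, 3, 4, 5, 5], [1, 1], [1, 1, 3, 5], [2, 2, 3, 3, 5, 5], [1, 1, 3, 4, 4], [1, 1, 2, 4], [1, 2, 2, 4, 4, 5], [1, 1, 2, 2, 3, 3, 4], [0, 2, 2, 3, 4, 4, 5], [1, 2, 3, 4], [0, 2, 3, 3, 4], [1, 2, 2, 4], [0, 4, 4, 5], [3, 3, 5, 5], [0, 1, 2, 2, 3, 5], [1, 3, 3, 4], [0, 0, 2, 4, 4], [0, 1, 3, 3, 4, 5], [3, 4], [0, 0, 1, 3, 5], [0, 1, 1, 3, 3, 5, 5], [0, 1, 2, 3, 4, 5, 5], [0, 0, 1, 3, 4, 4], [0, 1, 2, 5], [0, 1, 1, 4], [4, 5], [0, 1], [0, 0, 2, 2, 3, 4, 4], [2, 3, 4], [0, 2, 2, 3], [0, 1, 3, 4], [0, 1, 1, 3, 5, 5], [0, 4, 4], [1, 4], [1, 1, 2], [0, 0, 2, 2, 3, 4, 4, 5], [0, 1, 2, 2, 3, 3, 4, 5], [0, 2, 5], [0, 2, 4, 4, 5, 5], [3, 3, 4, 4, 5, 5], [0, 0, 2, 3, 4, 5, 5], [0, 0, 1, 1, 2, 2, 4, 4, 5], [0, 1, 1, 3, 3, 4, 5], [0, 1, 2, 3, 5], [2, 3, 3], [0, 0, 1, 3, 3, 4, 5, 5], [1, 2, 3, 3, 4, 4, 5], [2, 2, 3, 4, 4], [1, 2, 4, 5], [2, 2, 3, 3, 4, 4], [0, 0, 2, 2], [1, 1, 4, 4, 5, 5], [1, 2, 2, 3, 4, 5, 5], [0, 0, 1, 1, 2, 2, 3, 3, 4], [0, 1, 2, 5, 5], [0, 1, 1, 2, 2, 3, 4, 5], [0, 1, 4, 5], [0, 2, 3, 3, 5],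 [0, 0, 1, 2, 2, 3, 5, 5], [0, 1, 2, 4, 4, 5, 5], [0, 0, 3, 4, 4, 5], [0, 0, 1, 1, 2, 2, 4], [0, 1, 1, 2, 4, 4, 5, 5], [0, 3, 3, 4, 4, 5], [0, 0, 1, 3, 4, 5], [0, 0, 1, 2, 2, 4, 4, 5, 5], [0, 1, 1, 3], [1, 2, 2, 3, 3, 4, 4, 5], [0, 2, 2, 3, 3, 5], [1, 1, 2, 4, 5], [1, 2, 3, 3, 4], [1, 2, 5, 5], [0, 0, 1, 2, 3], [2, 2, 3, 3, 4, 5, 5], [0, 1, 3, 3, 4, 4, 5, 5], [0, 0, 3, 3, 5], [1, 2, 4, 4, 5, 5], [0, 0, 5, 5], [2, 3, 3, 4, 4], [0, 1, 1, 2, 3, 5, 5], [0, 1, 2, 2, 4], [1, 1, 2, 3, 3, 5, 5], [0, 0, 1, 2, 2], [0, 0, 1, 5, 5], [0, 0, 1, 1, 2, 3, 5, 5], [0, 0, 2, 3, 3, 4, 4], [0, 0, 1, 2, 5, 5], [2, 4, 5, 5], [1, 5, 5], [0, 0, 1, 1, 2, 2, 5], [0, 0, 1, 1, 3, 4]]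

def p3Nf_2 : List (List ℕ) :=
  [[0, 1, 3, 3, 5], [0, 2, 3], [1, 2, 2, 4, 4, 5, 5], [0, 1, 1, 2, 2, 3, 4, 4, 5], [1, 2, 2, 3, 4, 5], [0, 3, 3, 4, 5], [1, 1, 2, 2, 5, 5], [0, 1, 1, 4, 4, 5], [0, 0, 2, 3, 3, 5, 5], [0, 0, 3, 5, 5], [1, 2, 3, 4, 5, 5], [0, 1, 3, 5, 5], [0, 0, 1, 1, 2, 2, 4, 5], [0, 1, 1, 5], [1, 1, 4], [0, 1, 1, 2, 3, 4], [2, 2, 3, 4, 5], [2, 5, 5], [1, 1, 3, 3, 4], [0, 0, 1, 4, 4, 5], [0, 3, 3, 5], [0, 0, 2, 3, 3, 4, 5, 5], [0, 0, 1, 3, 4, 4, 5], [0, 2, 5, 5], [1, 1, 2, 3, 3, 4, 4, 5, 5], [0, 0, 1, 4, 5, 5], [2, 3, 4, 4, 5, 5], [0, 0, 1, 1, 3, 3, 4, 4], [0, 0, 2, 2, 3, 3, 4, 5, 5], [5], [0, 4, 5, 5], [1, 1, 2, 4, 4, 5, 5], [0, 0, 1, 1, 3, 4, 4, 5], [0, 1, 2, 4, 5, 5], [1, 2, 2, 5], [0, 0, 1, 2, 4, 4], [1, 1, 2, 2, 3, 4, 4], [0, 1, 2, 2, 3], [0, 1, 1, 2, 2, 3, 3, 4, 4, 5], [0, 0, 1, 1, 2, 2, 3, 3, 5, 5], [1, 2, 3, 3], [0, 2, 2, 3, 3, 4, 4], [3, 3, 4, 5], [0, 0, 1, 1, 3, 4, 5, 5], [0, 1, 2, 2, 4, 5, 5], [0, 0, 3], [0, 0, 1, 2, 2, 3, 4], [0, 3, 3, 4, 4], [0, 0, 4, 4], [0, 1, 1, 2, 2, 3, 3, 4, 4, 5, 5], [1, 2, 3], [0, 0, 1, 2, 2, 5, 5], [4, 4], [0, 1, 1, 3, 4, 5, 5], [0, 0, 3, 4, 4], [1, 2, 3, 4, 4, 5], [2, 3, 3, 4, 5], [0, 1, 3], [1, 5], [0, 1, 1, 2, 4, 4, 5], [0, 0, 1, 1, 5], [0, 1, 1, 2, 5, 5],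 [1, 2, 2, 3, 3], [1, 1, 2, 4, 4], [0, 2, 3, 3, 4, 4], [2, 3, 4, 4, 5], [0, 1, 2, 3, 3, 4, 4, 5], [0, 0, 1, 2, 3, 4, 5, 5], [0, 0, 2, 2, 3, 3, 4], [0, 2, 2, 4], [0, 0, 1], [0, 1, 1, 4, 4, 5, 5], [0, 1, 1, 2, 2, 4, 5, 5], [0, 1, 2, 3, 3, 5, 5], [0, 0, 2, 3, 4, 4, 5], [0, 0, 1, 1, 2, 2, 3, 4, 4], [1, 3, 3], [0, 3, 4, 4], [1, 1, 2, 3, 3, 5], [0, 2, 2, 3, 5, 5], [0, 3, 5, 5], [3, 4, 5], [0, 1, 2, 2, 3, 3, 5], [0, 0, 1, 2, 4, 5], [0, 2, 4, 5], [0, 1, 2, 3, 4, 4, 5], [0, 1, 1, 2, 2, 5, 5], [0, 0, 2, 5], [0, 0, 1, 1, 2, 2, 3, 4], [1, 1, 2, 3, 4, 5], [0, 0, 1, 4], [0, 0, 1, 1, 5, 5], [2, 3, 3, 4, 4, 5, 5], [0, 1, 2, 2, 3, 3, 4, 4, 5, 5], [1, 2, 5], [0, 0, 1, 1, 2, 2, 3, 3, 4, 5, 5], [0, 1, 1, 5, 5], [1, 2, 4, 5, 5], [0, 0, 1, 1, 2, 3, 4, 5, 5], [0, 0, 3, 4, 5]]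

def p3Nf_3 : List (List ℕ) :=
  [[0, 0, 1, 1, 2, 5], [1, 1, 2, 2, 3, 3, 4, 4], [0, 0, 1, 2, 4, 5, 5], [0, 0, 1, 4, 4, 5, 5], [1, 2, 2], [0, 0, 2, 2, 5, 5], [2, 3, 3, 5], [0, 0, 2, 3], [0, 1, 1, 2, 2, 3], [0, 0, 1, 2, 2, 3, 3, 4], [0, 0, 1, 1, 2, 3], [0, 0, 1, 1, 3, 3], [0, 1, 2, 4, 4, 5], [1, 4, 5], [0, 2, 2, 3, 4, 5, 5], [0, 0, 1, 1, 2, 4, 4, 5, 5], [2, 4, 4, 5], [0, 0, 2, 3, 4, 5], [3, 5], [0, 0, 2, 3, 5], [5, 5], [0, 1, 1, 2, 2, 3, 4, 4, 5, 5], [1, 1, 2, 3, 4, 5, 5], [0, 1, 2, 4], [0, 0, 4, 4, 5, 5], [0, 0, 1, 2, 3, 3, 4, 5], [1, 2, 2, 3, 4, 4], [0, 3, 4, 4, 5], [1, 3, 3, 5], [1, 1, 3, 3, 4, 5, 5], [0, 0, 1, 1, 2, 4, 4, 5], [1, 2, 3, 3, 4, 5], [1, 1, 2, 3, 4, 4, 5], [0, 0, 1, 1, 2, 2, 4, 4], [3, 3], [1, 1, 2, 2, 3, 5, 5], [0, 0, 2, 5, 5], [0, 0, 1, 3, 5, 5], [0, 0, 1, 1, 2, 3, 3, 4, 5], [0, 1, 1, 2, 2], [0, 0], [2, 3, 3, 4, 5, 5], [1, 1, 2, 3, 3, 4], [0, 0, 1, 1, 2, 3, 3, 4, 5, 5], [1, 2, 2, 3, 4, 4, 5, 5], [2, 4], [0, 1, 2, 3, 4], [0, 0, 1, 2, 3, 4, 4], [0, 1, 3, 3], [0, 0, 2, 3, 3, 4, 4, 5, 5], [0, 0, 2, 3, 3, 4, 5], [0, 0, 1, 1, 2, 2, 3, 4, 4, 5], [1, 2, 2, 3, 5], [0, 1, 1, 4, 5], [2], [1, 1, 3, 3], [1, 2, 2, 3, 5, 5], [0, 1, 2, 3, 3, 4, 4, 5, 5], [1, 2, 3, 5], [1, 3, 4, 5], [0, 2, 4, 4], [0, 1, 1, 2,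 2, 4, 5], [0, 0, 1, 2, 2, 3, 3, 5], [0, 2, 3, 4, 5, 5], [0, 3, 5], [1, 2, 2, 3], [1, 1, 3, 3, 4, 4], [0, 2, 2, 3, 3], [0, 0, 1, 1, 3, 4, 4], [2, 2, 4, 4, 5], [0, 0, 2, 2, 3, 4], [0, 0, 1, 2, 2, 3, 3, 4, 5], [2, 2, 4], [0, 1, 2, 3, 3, 5], [0, 0, 2, 2, 3, 3, 5], [0, 1, 1, 3, 3, 4, 4, 5], [0, 0, 1, 1, 3, 3, 4, 5, 5], [0, 1, 1, 2, 2, 3, 3, 4, 5], [1, 1, 2, 2, 5], [1, 1, 2, 3], [1, 1, 2, 3, 3, 4, 4, 5], [0, 0, 1, 1, 3, 3, 5], [0, 0, 1, 1, 2, 3, 3, 4], [0, 0, 2, 4, 5, 5], [1, 2, 2, 4, 5], [0, 0, 1, 1, 2, 2, 3, 4, 5, 5], [0, 0, 1, 1, 2, 2, 3, 3], [0, 1, 2, 2, 3, 4], [3], [1, 1, 5, 5], [0, 4], [1, 2, 2, 3, 4, 4, 5], [3, 5, 5], [0, 1, 1, 2, 3, 3, 4], [0, 0, 1, 1, 3, 3, 5, 5], [1, 1, 2, 2, 3, 4, 4, 5, 5], [1, 3, 3, 4, 5], [0, 0, 1, 2, 2, 3, 4, 5], [0, 0, 3, 4, 5, 5], [1, 1, 2, 2, 3, 3, 4, 5, 5]]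

def p3Nf_4 : List (List ℕ) :=
  [[0, 0, 1, 1, 4, 5], [0, 1, 2, 3, 4, 4], [0, 2, 2, 3, 3, 4], [0, 0, 1, 1, 3, 3, 4, 4, 5, 5], [0, 0, 1, 1, 4, 4, 5], [0, 0, 1, 3, 3, 4, 5], [0, 0, 1, 2, 2, 3, 3, 4, 5, 5], [3, 3, 4], [0, 0, 1, 2, 2, 4, 4, 5], [0, 0, 1, 3, 3, 4, 4, 5, 5], [0, 2, 3, 3, 5, 5], [1, 2, 2, 3, 3, 5, 5], [0, 0, 3, 4], [0, 2, 2, 4, 4, 5, 5], [0, 0, 1, 1, 2, 4, 4], [0, 0, 1, 3, 4], [0, 2, 3, 3, 4, 4, 5, 5], [2, 2, 3, 3], [0, 0, 2, 2, 4, 4], [0, 0, 1, 2, 2, 3, 5], [1, 1, 3, 5, 5], [0, 2, 2, 4, 5], [0, 0, 2, 4, 4, 5, 5], [0, 0, 2, 3, 5, 5], [0, 2, 2, 3, 4, 4], [0, 0, 1, 2, 2, 3, 4, 4, 5], [1, 2, 3, 4, 4], [1, 1, 4, 4], [0, 2, 2, 4, 5, 5], [1, 1, 2, 5, 5], [0, 0, 1, 2, 3, 3], [3, 3, 4, 4, 5], [0, 1, 2, 3, 4, 4, 5, 5], [3, 4, 4, 5, 5], [0, 1, 3, 3, 4, 4, 5], [0, 1, 1, 2, 3, 4, 5, 5], [1, 2, 2, 3, 3, 4, 5, 5], [0, 2, 3, 3, 4, 4, 5], [0, 3, 3, 4, 5, 5], [0, 0, 1, 1, 2, 2, 3, 4, 5], [0, 1, 2, 2, 3, 4, 4, 5, 5], [1, 2, 2, 3, 3, 5], [0, 1, 1, 3, 4, 4], [2, 3, 4, 5], [1, 1, 2, 3, 4], [0, 1, 4, 4, 5], [1, 2, 3, 4, 4, 5, 5], [1, 1, 2, 2, 3, 3], [0, 1, 1, 2, 2, 5], [0, 1, 1, 2, 4, 5], [1, 1, 2, 2, 4, 4, 5], [0, 0, 1, 1, 2, 2, 3, 4, 4, 5, 5], [0, 0, 2, 2, 3, 3, 4, 4, 5], [0, 1, 2, 3, 3], [1, 2, 2, 3, 3, 4, 4], [0, 3],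 [0, 1, 1, 2, 2, 4], [0, 1, 1, 3, 3], [0, 0, 2], [0, 1, 2, 2, 3, 3, 4, 5, 5], [0, 2, 3, 5], [4, 5, 5], [2, 2, 3, 4, 4, 5, 5], [2, 2, 3, 4, 5, 5], [0, 1, 2, 3, 3, 4, 4], [1, 3, 3, 5, 5], [0, 3, 4, 4, 5, 5], [0, 0, 2, 3, 3, 5], [0, 2, 3, 4, 4, 5, 5], [0, 0, 1, 2, 4], [0, 2, 3, 3, 4, 5, 5], [0, 1, 5, 5], [0, 1, 1, 2, 3], [1, 3, 3, 4, 4, 5, 5], [0, 2, 2, 5, 5], [2, 2], [0, 1, 3, 3, 4], [1, 1, 3, 4, 4, 5, 5], [2, 3, 3, 4], [0, 0, 1, 1, 2, 4, 5], [0, 0, 1, 2, 2, 4, 5], [0, 0, 1, 1], [0, 0, 1, 1, 2, 3, 4, 4], [0, 0, 1, 2, 2, 3, 4, 5, 5], [0, 0, 1, 1, 2, 3, 3], [1, 2, 3, 5, 5], [0, 1, 3, 4, 4, 5], [3, 3, 4, 5, 5], [0, 0, 4, 4, 5], [0, 0, 1, 2, 2, 3, 3, 4, 4, 5], [2, 2, 3, 4], [0, 1, 1, 2, 3, 5], [0, 0, 1, 1, 2, 2, 3, 3, 5], [0, 0, 2, 3, 3], [1, 1, 2, 2, 3, 4, 4, 5], [0, 0, 1, 1, 3, 3, 4, 4, 5], [0, 1, 1, 2, 3, 4, 5], [0, 4, 5], [0, 0, 1, 1, 3, 4, 4, 5, 5], [0, 2, 3, 5, 5]]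

def p3Nf_5 : List (List ℕ) :=
  [[1, 1, 2, 2, 4, 5, 5], [1, 3, 5, 5], [1, 1, 3, 4, 5, 5], [0, 1, 2, 4, 5], [1, 1, 2, 3, 3, 4, 4], [0, 3, 3, 4], [0, 0, 1, 2, 3, 3, 4, 4, 5], [0, 1, 1, 2, 2, 4, 4], [1, 2, 2, 3, 3, 4, 4, 5, 5], [1, 4, 4, 5, 5], [], [1, 2, 2, 5, 5], [0, 1, 1, 2, 3, 3, 5], [0, 1, 3, 3, 4, 4], [0, 0, 2, 3, 3, 4], [0, 1, 3, 3, 4, 5, 5], [0, 0, 1, 2, 2, 3, 3, 4, 4], [0, 1, 5], [0, 0, 1, 1, 2, 3, 3, 4, 4, 5], [2, 5], [1, 1, 3, 4, 4, 5], [2, 2, 3, 4, 4, 5], [1, 1, 3, 3, 4, 5], [1, 1, 2, 2], [1, 3, 3, 4, 4, 5], [0, 2, 3, 3, 4, 5], [0, 0, 1, 1, 2, 2, 3], [0, 0, 1, 2, 2, 3], [0, 1, 2, 2, 4, 4, 5, 5], [0, 0, 1, 4, 4], [0, 1, 2, 2, 3, 3, 4], [0, 0, 1, 3, 4, 5, 5], [0, 0, 1, 1, 2, 2, 3, 3, 4, 4, 5], [0, 0, 2, 2, 4, 5, 5], [0, 0, 3, 3, 4, 4], [0, 0, 1, 4, 5], [0, 0, 1, 1, 2, 3, 4, 4, 5], [0, 1, 3, 3, 5, 5], [0, 0, 1, 2, 2, 4, 4], [4], [0, 0, 1, 1, 2, 4, 5, 5], [0, 0, 2, 3, 3, 4, 4, 5], [0, 0, 3, 3, 4, 4, 5], [2, 4, 5], [0], [1, 3, 4, 4, 5, 5], [0, 1, 1, 3, 3, 5], [2, 3, 4, 5, 5], [0, 0, 1, 3, 3, 5, 5], [1, 1, 2, 4, 4, 5], [0, 1, 1, 2, 2, 3, 4, 4], [1, 1, 4, 4, 5], [0, 2, 3, 3], [0, 0, 1, 3, 3], [0, 0, 5], [0, 1, 1, 2, 3, 4, 4], [0, 1, 2, 2, 4, 4, 5], [0, 0, 2, 2, 3, 3, 4, 5], [0, 3, 4], [0, 2, 2, 3, 3, 5, 5],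 [0, 0, 1, 1, 2, 3, 5], [0, 1, 1, 2, 2, 3, 3], [2, 3, 5], [2, 2, 3, 5], [1, 1, 2, 5], [3, 3, 4, 4], [0, 1, 1], [0, 0, 2, 2, 3], [2, 3, 4, 4], [0, 1, 1, 2, 3, 4, 4, 5], [1, 2, 3, 3, 4, 5, 5], [0, 3, 4, 5], [1, 1, 2, 2, 3, 4, 5, 5], [0, 0, 3, 3, 4], [0, 1, 1, 2, 3, 3, 4, 4], [0, 0, 1, 1, 2, 2, 3, 3, 4, 4, 5, 5], [1, 2, 2, 3, 3, 4], [0, 0, 1, 1, 2, 2, 3, 5], [0, 1, 2, 4, 4], [0, 0, 1, 3, 3, 4], [0, 0, 2, 4, 4, 5], [1, 4, 4, 5], [0, 2, 2, 3, 4, 4, 5, 5], [1, 1, 3], [2, 3, 3, 4, 4, 5], [1, 2], [2, 2, 3, 3, 5], [2, 3], [0, 1, 1, 2, 2, 3, 3, 5], [0, 1, 1, 4, 4], [0, 0, 1, 1, 2, 2, 4, 4, 5, 5], [0, 0, 1, 1, 3, 5], [0, 1, 1, 2, 2, 3, 3, 4, 4], [0, 2, 4, 4, 5], [0, 0, 1, 1, 2, 2, 3, 3, 4, 5], [1, 1, 2, 2, 3, 3, 4, 5], [0, 1, 1, 2, 3, 3, 4, 4, 5, 5], [1, 3, 3, 4, 5, 5], [1, 3, 5], [1, 1, 2, 3, 3]]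

def p3Nf_6 : List (List ℕ) :=
  [[0, 0, 2, 2, 5], [0, 0, 2, 2, 3, 3, 4, 4, 5, 5], [0, 1, 1, 4, 5, 5], [0, 0, 1, 5], [0, 2, 2, 4, 4, 5], [0, 1, 2, 2, 3, 4, 4], [0, 1, 2, 3, 4, 5], [1, 1, 5], [1, 2, 2, 4, 5, 5], [0, 0, 2, 3, 4], [0, 1, 2, 3, 3, 4, 5, 5], [2, 3, 3, 5, 5], [0, 0, 1, 3], [0, 0, 1, 1, 4], [1, 4, 5, 5], [0, 1, 3, 5], [0, 0, 1, 3, 3, 4, 4], [0, 2, 3, 4, 4], [0, 1, 4, 4, 5, 5], [1, 1, 2, 2, 4, 4, 5, 5], [1, 1, 2, 3, 5], [3, 3, 5], [2, 2, 3, 5, 5], [1, 1, 3, 4, 5], [1, 2, 4], [0, 1, 2, 3, 3, 4, 5], [0, 1, 1, 2, 3, 3, 4, 5], [2, 2, 4, 4, 5, 5], [0, 1, 1, 2, 2, 3, 3, 4], [0, 1, 2, 2, 3, 4, 5, 5], [1], [0, 0, 2, 2, 4], [1, 1, 2, 2, 3], [0, 1, 1, 2, 4, 4], [1, 1, 2, 2, 3, 4, 5], [0, 0, 3, 3, 4, 5, 5], [0, 0, 3, 4, 4, 5, 5], [0, 0, 1, 2, 3, 3, 4, 4], [0, 2, 2, 3, 5], [0, 0, 1, 2, 2, 5], [3, 4, 5, 5], [0, 0, 3, 5], [0, 1, 1, 2, 2, 4, 4, 5, 5], [1, 3, 4, 4, 5], [0, 1, 2, 2, 5], [0, 0, 1, 1, 3, 4, 5], [1, 1, 2, 2, 4, 5], [0, 1, 2, 2, 4, 5], [0, 1, 1, 2, 2, 3, 5, 5], [0, 3, 3, 4, 4, 5, 5], [0, 0, 1, 1, 2, 3, 4], [1, 1, 2, 3, 3, 4, 5, 5], [0, 2, 4], [0, 1, 1, 3, 3, 4, 4], [0, 0, 2, 2, 3, 3, 5, 5], [0, 0, 2, 4, 5], [2, 2, 5, 5], [0, 0, 1, 1, 2, 3, 3, 5], [0, 0, 1, 2, 3, 4, 4, 5], [0, 0, 2, 2, 4, 4, 5, 5], [0, 0,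 1, 1, 2, 2, 4, 5, 5], [1, 1, 3, 3, 5], [1, 1, 2, 2, 3, 3, 5], [0, 1, 2, 2, 3, 5, 5], [2, 4, 4], [0, 1, 3, 4, 4, 5, 5], [0, 0, 1, 2, 3, 3, 5], [0, 2], [0, 1, 2, 2, 5, 5], [1, 1, 3, 3, 4, 4, 5], [0, 0, 1, 2, 2, 4, 5, 5], [0, 0, 1, 3, 4, 4, 5, 5], [1, 2, 2, 3, 4], [0, 0, 2, 2, 3, 5, 5], [0, 2, 3, 4, 5], [1, 2, 3, 3, 5], [0, 0, 1, 2, 3, 4, 5], [1, 2, 3, 4, 5], [0, 1, 2, 2, 3, 3], [1, 1, 4, 5, 5], [0, 1, 1, 2, 4, 5, 5], [0, 2, 2, 5], [0, 0, 2, 3, 4, 4], [1, 1, 2, 3, 4, 4, 5, 5], [1, 2, 2, 4, 4], [0, 0, 1, 1, 3], [0, 1, 1, 3, 5], [0, 1, 1, 3, 4, 4, 5], [0, 0, 1, 1, 3, 3, 4, 5], [0, 1, 1, 2], [0, 0, 1, 2, 4, 4, 5, 5], [1, 1, 2, 4, 5, 5], [2, 2, 3, 3, 4], [0, 2, 2, 3, 4], [3, 4, 4], [0, 0, 1, 2, 3, 5, 5], [0, 3, 3, 5, 5], [0, 1, 2], [0, 1, 1, 2, 3, 3], [0, 0, 1, 2, 2, 3, 3]]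

def p3Nf_7 : List (List ℕ) :=
  [[0, 0, 1, 1, 4, 4], [0, 0, 1, 2, 2, 3, 4, 4], [0, 0, 2, 2, 3, 4, 4, 5, 5], [0, 0, 1, 2], [2, 2, 4, 5, 5], [0, 1, 1, 3, 3, 4], [0, 1, 2, 2, 3, 3, 4, 4, 5], [0, 0, 3, 3, 5, 5], [0, 4, 4, 5, 5], [0, 1, 4, 5, 5], [0, 0, 2, 2, 3, 4, 5, 5], [1, 1, 2, 2, 3, 3, 4, 4, 5], [0, 2, 2, 3, 3, 4, 4, 5, 5], [0, 1, 1, 3, 4, 5], [0, 0, 1, 2, 3, 3, 4], [4, 4, 5, 5], [0, 5, 5], [0, 1, 3, 4, 5], [1, 2, 4, 4, 5], [0, 1, 1, 2, 2, 3, 4, 5, 5], [0, 0, 1, 1, 2, 3, 3, 4, 4, 5, 5], [0, 0, 1, 1, 2, 5, 5], [0, 0, 1, 1, 2, 2, 5, 5], [1, 3, 4, 5, 5], [2, 2, 3, 3, 4, 4, 5, 5], [1, 2, 3, 3, 4, 4], [0, 2, 2, 3, 3, 4, 5, 5], [0, 1, 2, 3], [0, 0, 4]]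

def p3Nf : List (List ℕ) :=
  p3Nf_0 ++ p3Nf_1 ++ p3Nf_2 ++ p3Nf_3 ++ p3Nf_4 ++ p3Nf_5 ++ p3Nf_6 ++ p3Nf_7

/-- The certificate at 3. -/
def cert3 : CfsgLib.SchurCert.GCert :=
  ⟨3, 6, p3Rels, p3Eqs, p3D, [], p3Sol, p3Nf⟩

def p5Mats : List (List ℕ) :=
  [[6613578480021193289216573795170053155422167437219302801797741892739676787922450332891387562233321106246533185549, 5411143025909890961920734140901973955270316776306868319948091099196799009383421495823408544082551260667852816391, 5411106329932026576698034381641912432271258936840169682927670196522945930703392853238607954864413939167262081031, 5411106329932035120646178065282241549189726557944059730858877279983021733192367402625671528342803367741354344455, 4208670875260788063727375361542010728427260966345866484700471419326510276008455009333305194752698985387750129673, 4208634179282932222713559890893093004564456133623353506719711843555948624003323593962414778317225317015403167753, 4208670875260788063857745664057772502564892844659433006346834898149776717889275572451189061074336445073359175689, 5411106329372098935101727012642881442215972545518216719436714115523811971414265818061336474491706602769594384391, 4208670875260788063857745664057772039396535895396296791511809127893666421629509920868377142485723252077220921353,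 4208634179842868408258008954269862136993958210097129844163476912327503673467703424958100309975050243393653899273, 5411106329932026576828404684127319541792439460900015389791902255874415144731258713748575420081612776174164312071, 5411143025909890961790363838416566382580779410823673091959799389803735293575088003315275943355745279985165205511, 5411106329932026576698036370934858071410760062270262064289755105791211422757025506204734851971060015394997075975, 4208634179282940766661703574563776786085240440305814997621992510473073949633403993235692639206933594091297505289, 5411106329372098935232097315128288551730085681317303384426058020754580937301852662681996505327967637659028226055, 5411106329372098935101727012642881442215972437678430025725747995308939365011791308506444462733452013731941122055, 5411106329932035120646178065282242012358083615050273598302697699444868463533365341370966622947607257943248666631, 5411106329372090391153583329032905600401817934778093206628802137077299174047291424147170620054462163067110883335, 5411106329932035120776550357060594297857475811371039189052090843516311740026063751733055036013397174775282335751, 5411106329932035120646180054605541852945679253310737273322854378143693493582661554917109357141442683358373412871,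 5411106329932035120646180054575187651504652236577620655920713083411816649936721319145840053414518237504637435911, 3006198725171629895287349934169960896325384684966508546141110544399738000595931149573228939690545698797773062155, 4208670875260788063857745664027417837948441598242207825944213303715096047387406831735561449765610688088281513993, 7816013934692440346005006196394523128390782545130747641349642454097702086752908177154392196089548862061321584651],
   [6613578480301169925936942010483590201006763339428470618682494219131662310448937184214266842585954488131565060109, 4208670875540756156629970195730979504894307119397006197578472033520667906932862580123343895248460341236260864009, 4208670875540756156499599893215218193925032298186362534261286562074759851066378547496700344561091968390442450953, 4208670874980819971085519143091618934745128661607481285951476459792609754647789785060796065183872495082235428873, 5411106329652067027873953533609034546860312391047918687678330475582508636841260096542335187005187043979931746311, 3006198724891670346463269086137083010914438139174257550892537071229912057124565811375663612169309360063582371851, 5411106329652067027873953533609034083691955441783137018503180506262905952938712599188910420589254390815004360711,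 4208670875540756156629970195730979968055596788242461023146638051091381444704402328831931100913976311669638758409, 4208670874980819970955150829899157464370516759078273645819135937029952622311992084192623357249335187588264689673, 5411106329652067027873951544316088907706676273420025894474460828972179100503920644295354379173845324593988435975, 4208634179562900315485786411889600310642755607627058555045519438074773479189999195010596912258553723610158792713, 4208670874980819971085519143091618934752196049864949318712488437907419910204951466199102799316114341923098394633, 5411106329652067027873953533609034546860312283209777548741882568388631987122706686578093113376391975410298322951, 4208634179562900315355414120111248025150430799563760997057138283810153456901644273675250916548356267644165750793, 5411143025629922869018139306743359380251365136087745405285100336589961008822186472060197571573963334795563433991, 5411143025629922869018139306773713581692392152822507477028132089847597874503463892392493546144674422104670142471, 4208670874980819971085519143061265196472458594139146387941299005781947010182818396292438444407199093529728712713, 5411106329652067027873951544316088444545386820255789910668351239202511655849041235118880361189385154792987885575,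 4208670875540756156629972184993570942592781335933768655249381756579916063095806161877449810176841769348028104713, 5411106329652067028004323836094441656381492915106118889985624452777217758501616970605481089768273182340382261255, 5411106329652067028004323836094441656381492915107764394543328782704589201259893375551010092560376437439973621767, 5411106329652067027873953533639388748294272019521921767762521710042636826600941419109528279839591926363387920391, 4208634179002964129941333369957294101354076024407441262056438955078449834851293746981931856493876718227436273673, 7816013934412463709284637981080986082806186642921579824464890127705716564226421325831512915736915480176289710091],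
   [8417250009457051337452793383776044860094712353551335975727205130250469207675719163537081211639412478090645340170, 4809870254607487943653939825261359710512042737099273889616855769298416290527472301256668753879373177961866461192, 4809906950585335240849981914755354500647913854665860477012806109357046077066346412584214404574890362768661807112, 6012342405256582297508046002817717204675876580682314062805591262197669826918213368991337740313750391825734565894, 4809870254607479399705798130913975769571786680419808040973719802965127433427979728414788186040220237321531162632, 6012342405256582297768786607788531423732372405316941542056845596592853015126259217683703498348430339827550388230, 4809906950585343784798127587688630183049664103666447664840874766502205498521028775059390707459789040994222735368, 4809906950585335240849981914755354963816270696089209998136865759398462172885184260588563347009730291901170843656, 3607434799936240886735137121551482628029314493387096880518673208860492025593777725693947001217142017033782165514, 4809906950585343784798125598426038745344122391032430480697986933421261481751225656348782084944106271597803208712, 4809906950585335240849983904078654804403866334352964682271664850181597141299595175778496853048949829591158620168,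 6012342404136709926679884502509810283434015489737891718802854449136915116517743410918618073993018743581405872134, 4809870254607479399705798130913975769571786572580021397479567565843879343673408848872524817473894977495942692872, 4809870254607479399705796141651384331866244967782499897933003440893319588979377294355545420759687816500367458312, 4809906950585335240849983904078654341235509492926324152032962788055871107115642626130357138768725788183786553352, 4809906950585343784798127587688630183049663995826660971129908646287511298080142510489621310041158721815219666952, 6012342405256582297768786607788531423718237628798714467420179216586909664277380411141190838976460630763063738374, 4809906950585335240849981914755354500647913746826073783301839989142351876625460147380629378596276212498740936712, 4809906950585343784798127587688629719881307046563524806511696759124668706545103999583018106079338767262383734792, 4809870254607479399705798130913975306403429623313594173529899383503280703086940251294624812814390354914457550856, 4809906950585335240849983904078654804403866442192751325765817087302845231054166054686925250242177424190314512392, 4809870254607487943653941814584659087931281318256814706307834440619526122639297032716165208161050721524514422792,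 6012342405256582297768786607788531423718237628798714467420945464357342611428818520022273701275266859778301231110, 6012342405256582297768786607788531423718237628798714467420179216586909666999639346508698546683457490217209430030],
   [6012324056987686284359283043658984935610420678981661254380790839850275849982751752346402632497683431104864321550, 4809888602316439227570848653141569786670661394903260248301064891709662413651465129545312322949336467609473122312, 4809888602876375413115299705780930356812772464435317127167048487322732004417787998484421133283075232620264161288, 6012324056987686284359283043658985861947134577511224642948670909353538676142629077470914948158355494409901441030, 4809888602876383957063445378714205576046165764172768100160091374211781129612704709376785517579360717849686835208, 6012397448943397966647654589927634602392526169061314639376750442693136231514786583860260873091382955126834069510, 3607453148205136900144640685681029116137131443204150093558061597289138941257888665485731248539737150426985267210, 4809888602876375412984931392588468886438160454066322843540555727438648376365789634713984492267429281882706673672, 4809888602876375413115301695043521794511246680972079584837958210382158566542319825223659333810063895034402832392,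 3607453148205136900144640685681029116137131443204150093558061597289138941257888665485721577133182485193401303050, 4809888602316439227440478350625808475708453854113588933148567701940193349913553022385607263930199647977204219912, 4809888602316447771388624023559083694941847153851039956358424471922510179833238412329038969920175745963129176072, 4809888602876383957063443389390905735458570018069226772531140046307398071443722915278423614346913585526183952392, 4809888602876375412984931392588468886431093173645350445159053574360954778159713914834150919370914217810381635592, 4809888602876375413115301695043521794518313961389760923888004079974109214344230342436543046507760644885848653832, 6012324056987686284359283043658984935610420678981661254380790839850275852705010687713910340204680290559010013190, 4809888602876383956933073086935852827378416510745788641966877810678491122779008360903227310022881611529750708232, 4809888602876383956933073086935852827371349230324816293802189540694065229297618243324724501578000672341379907592, 4809888602316447771518994326074845005904054694640711221294107778598533132884793596086369721613555466660840341512, 3607453148205136900144640685681029116137131443204150093558827845059571885687067838999296731724989602954679418890,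 4809888602876375412984929403265169045850564923642354802899908873776939903667537844051446640688292395265485570056, 4809888602876383957063443389390905735451502737651545383264280293621822906993950305793944565705220337075407683592, 4809888602876383956933075076198444265083958223379805826109765643759435139548811479613835932538564380926170234888, 8417268357725947350862296947905591348202529303368389188766593506987103024692606757699377125825186537202990448650]]

def p5Inv : List (List ℕ) :=
  [[6613578480581129474695838701905060250509890425589559485163826783554310470271336375080997021766322953557247459341, 4208670875260796607740703201824102809031289070183385260647045389259329960058459524956094006516308501564769370121, 4208670875260796607740703201793748144421905104185486974068987877437417490803093092060200768109669388175247081481, 4208670875260788063792559518153419027503437375241810282643628545163902093950736072516272549847490068314325450761, 4208634179282932222648375734312039370090596302464548953478957839341349181394215658276805013007620828852056948745, 4208670875260788063922929820638825673863328338294342302876908741909145767594124077413084944399978736012755402761, 4208670875260788063792561507446364666657073385029916382136532071559537429847147721184790381672632476426316480521,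 4208670875260788063792559518153418564335080425977028563250898444980241948971105771002809014274725554783796002825, 6613578479461257103606936596626339110225668286528736736546502016104315919789440439490916549075884206921443901445, 4208670875260788063922929820638825673856260950035228765558192422174951073353763118808330903513410749158702907401, 5411106329932035120580993908701187914722934115047659724051482007586926925910994061288463683243916184864552452103, 4208634179282940766596517428659423311030852466985446950173950372723257571006555515606468280798645367384173903881, 5411106329932026576763220527546265907318579629742856341108852581587187144880427183008484986157554626042652065799, 4208634179282932222648373745019094194112384630201983565036858684156449721969768157989716586543570832779708399625, 5411143025909890961855549984320920320796457052989495914759193662030819099287160843991756178610703669613576912903, 5411106329932035120711364211186595487412471588368996090976987871944300235867060137274423183597885772511176097799, 5411106329932035120711362221863295646824876057946673605110092983532976369461962028337653129776756346267697217543, 4208634179282932222778744047534855041906235221728518665354330103669808489447914614200435027088209160164191174665,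 4208670875260796607871075493572100893089654249772679788768049192157267903273406971010719630996473303922345705481, 4208670875260788063792561507446364203481649155345807819136818031319001240106033490398353604666723505211479621641, 5411106329932035120711364211156241285971444679477311671842750767892221395583209361493013370244672580073776807943, 5411106329932035120711364211156241285964377183376765986472944140571853211906362099802487467221392978948571856903, 4208670875260788063792559518153418564335080425975383058693960362823303453364267474938362873929002481289119072265, 7816013934132504160525741289659516033303059556760490957983557563283068404404022134964782736556547014750607310859],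
   [6613578480021193289151388643912172731525242141456035251639006182982997405544506572469782195740713395986526437389, 5411106329932035120580992914054715789902185336018477110772351330861694414433172545256824045040624662157699252231, 4208634179282940766596516434012950723041746523013554835071489451499061771836691637945928665375851415643162476553, 5411106329932035120580992914054715326726760998494581904278485041807718630328675844313512951991945087012124950535, 5411106329932035120580994903347660965880396900442901360278002578852538820899737325962045819836695262222512226311, 4208670875820732793285155249079581765721478959112785489161492032624085877910894341034719474423203924222421827593, 4208670875260788063792560512799891615492543211373915704034357098402792342288946267108335327661239348812684263433, 4208670875260788063792558523506945976345974589843277637302465561813980260596878106832724941671017783819344871433, 4208670875260796607740704196440220732411011048157379089171448798661613289972956969720740383532463339916258508809, 5411106329932035120711363216540122436247941522552782106585779019002427754711333192752860141197171029545707044871, 5411106329932035120711363216509768234813981786238992383007435547421051472474780516901037364874972700979640336391,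 5411143025349954776180727634519325388541743045529994167492018166590924816037659670652823535730251362679501815815, 4208670875820724249337011565439252185634654388744113772054368732073796041128646414170391972811921781800709980169, 4208670875260796607740704196470575397027462294574604269573304145325861016045646536922792840101805774750567956489, 5411143025909890961855548989674447269646061655851722311293685068880017359855579261090306076264283391644645392391, 5411106329372098935166912163900761866112897841283129774153154155207684390588897738443338557882660176813294813191, 5411106329932035120711363216509768697982338843345206250451255966882898202815819993387375437986687882604002607111, 4208670875820724249337009576146306083326796098369666334094435365285749710660597005327328567400813501884997894153, 5411106329932035120711365205802713873960550515607771638893355133759632357648119991311449669520789464515275587591, 4208670875260796607871074498925628305100548413638928812602802425897560101490604985811796521719353417001610051593, 3006198725171629895352535085427841320222309980729776096299846254156417385696133845362351685296707185545323151371, 4208634179282932222648374739665566318933133517069307317252437268075737286405472393603222876414841751494097174537,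 4208634179282932222648374739665566782108557962431343712900331583495455676696793717422378564658592714286674018313, 7816013934692440346070191347652403552287707840894015191508378163854381469130851937575997562582156572321328332811],
   [8417231661748091509718111174771266051643119609063780801984673670814041420846650679380191847698000743539487014922, 4809888602876383957063443389421259936899597034803988844274171793719028389162518130796646761889262523935057641480, 4809888602876375412984929403295523247284524444276571189273133993868202037709527336254012163828389976485428330504, 4809888602316439227570848653111215585222566882071243450086055045968349333973033723333890429664065045946119356424, 4809888602316447771388624023589437896375806674485256342731649580321759215227963020527257552708980925964977831944, 4809888602316439227570850642434515425810162628174784777715006373872732392142015517432252332896512178235263025160, 4809888602316439227440480339918754114855022367802794851829368925096646988245105966883458353549536806170903576584, 4809888602876375412984929403295523247291591940377116924859754504282194738034236690216133402795666076278683205640, 6012360752965542125503468816793309305833116474756706252594830606520074627668830505541075594964197161463330635782,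 4809888602316439227440478350656162677149480870845060045993770920360959839953548921921370968446010281588945453064, 3607416452227281059000454912546703819577721748899541706776141761116077334689673651799028591298997580275938492426, 3607489844182992741288826458815353486359827238979195091772101363958937718943967418680394539599693963752053932042, 4809888602876375412984931392558114684990066156913879382530664239033455992844445155974586257927765953018868662280, 4809888602876383956933075076228798466517917744014022212482990763850697273590759432807707876943519017427127631880, 4809888602316447771388622034266138055788211144061288302091002726660050742529711229864719701129844039382116990984, 3607416452227281059000454912546703819577721748899541706776141761116077337411932587166545970412551356763481833482, 4809888602316447771388622034266138055795278424482260700472504891429935845344640078734032500123832691530224238600, 4809888602876383956933073086905498625930322213593345180956986322273298739257622343155135496948075337946927333384, 4809888602876383957063445378683851374605138747438006028417059626799972405932321249507255384404945293297116905480, 6012360752965542125503468816793310232169830373286269641162710676023337453828707830665587910624866972968554070022,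 4809888602876375412984931392558114684997133437331560721580710096933571947960679034168255316020351488509908484104, 6012360752965542125503468816793310232169830373286269641161944428252904509399528657152012756033059855207275954182, 4809888602316447771388624023589437896382874170582511018986813807250008965148507171822428931477438711537353490440, 6012360752965542125503468816793310232169830373286269641162710676023337453828707830665587910624869224768367755278],
   [6012342404976614204996561081468851138647182094033508780266039589590067140958098319959801934278051150098657181710, 4809906950865303333622209430367980424865537903120272082847746965356527195363510834063992519340717945066229202952, 4809906950865303333622207441105388987159996406162537226795335077527393936385638403440573805565921817361671389192, 3607434800216208979507362647871162913100370028152302567672812847549526056244130342857454561098993701291842600970, 4809906950305375692025900072076003795663682890267681002408085452983121945048776907954125962542796031429477531656, 3607434800216208979507362647871162913100370028152302567672812847549347650282542098506147575466927215148146360330, 4809906950305367148077758377758974519332810907425900134053973130378631264976607558560017014158223857293887668232,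 4809906950865303333622207441075035248887326338695847833342861953444102634678901881242867237406192557315047686152, 6012342404976614204996561081468851138661316870551735854902705969596010489084718191134806885943023999708998139910, 4809906950305367148077756388435674678745215161325649815539664214558558145172740465471620582804617837286758416392, 4809870254327511306933570615331703583626832591593944689654804163855060967118956880793606287184298602564680024072, 3607434800216208979768103252841977132142731076268702972287400801938587490363968075389683081722519612791269621770, 4809906950305367148077756388466028417017885228792339208992903574720269292661432815553423643678318357091696902152, 4809870254887447492478021667940710415496273485814588967685001773158463677336566330118305015184350897657231048712, 4809906950865311877570353114038664206393389598061847060851930057222388008622672395384896838308342607331910615048, 4809906950305375692025902061368949897978608568901241977686735139505362972479487748510494095054382700875670487048, 6012342404976614204996561081468851138647182094033508780266039589590067140958098319959801934278053401898470866950, 4809870254327511306933572604624649685941758054547932277510755350485289144629904427448433894230388340661162737672,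 4809906950305367148077758377728619854723426941429647352033619936792077137110035249612666409106424730468177281032, 4809870254887447492478023657233655591474485265918586554395005130714995835530955788032238737092163733019200978952, 4809906950865303333622209430398335089474921869116524864868866395021501169012038970895439617401636236760887721992, 4809906950865311877570351124745719030415178033637422861563092680632976614195241193086396009221879649702546636808, 6012342404976614204996561081468851138647182094033508780266039589590067140958098319959811605684608067132054831110, 8417250009737019430225018910095725145165767888316541662881344757247311733717260190085977824044818818209197588490]]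

def p5Vec : ℕ := 5411087981943107200204456475862136625477535639638685626172551269477738286404425435869208495026642087824409034759

def p5Rels_0 : List (List ℕ × List ℕ) :=
  [([0, 0, 0, 0, 0], []),
   ([1, 0], [0, 1, 2, 2, 2, 2]),
   ([1, 1, 1, 1, 1], []),
   ([2, 0], [0, 2]),
   ([2, 1], [1, 2]),
   ([2, 2, 2, 2, 2], []),
   ([3, 0, 0, 0, 0, 1, 1, 1, 1, 2, 2, 2, 2], [0, 0, 2, 2, 2, 2, 3]),
   ([3, 1, 1, 1, 1], [0, 0, 0, 0, 1, 1, 1, 2, 2, 2, 2, 3]),
   ([3, 2, 2, 2, 2], [2, 2, 2, 2, 3])]

def p5Rels : List (List ℕ × List ℕ) :=
  p5Rels_0

def p5Eqs_0 : List (List ℕ × List Step × List Step) :=
  [([1, 1, 1, 1, 1, 0], [(2, false, 0)], [(1, false, 4), (1, false, 3), (1, false, 2), (1, false, 1), (1, false, 0), (4, false, 5), (4, false, 4), (4, false, 3), (4, false, 2), (5, false, 3), (4, false, 5), (4, false, 4), (4, false, 3), (5, false, 4), (4, false, 5), (4, false, 4), (5, false, 5), (4, false, 5), (2, false, 1), (5, false, 1)]),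
   ([3, 0, 0, 0, 0, 1, 1, 1, 1, 2, 2, 2, 2, 0, 0, 0, 0, 1, 1, 1, 1, 2, 2, 2, 2, 0, 0, 0, 0, 1, 1, 1, 1, 2, 2, 2, 2, 0, 0, 0, 0, 1, 1, 1, 1, 2, 2, 2, 2, 0, 0, 0, 0, 1, 1, 1, 1, 2, 2, 2, 2], [(6, false, 0), (6, false, 6), (6, false, 12), (6, false, 18), (6, false, 24), (3, false, 5), (3, false, 4), (3, false, 3), (3, false, 2), (3, false, 6), (3, false, 5), (3, false, 4), (3, false, 3), (5, false, 4), (3, false, 6), (3, false, 5), (3, false, 4), (0, false, 0), (3, false, 2), (3, false, 1), (3, false, 0), (5, false, 1), (3, false, 2), (3, false, 1), (3, false, 3), (3, false, 2), (5, false, 3), (3, false, 3), (3, false, 4), (0, false, 0), (5, false, 0)], [(3, false, 12), (3, false, 11), (3, false, 10), (3, false, 9), (1, false, 8), (1, false, 7), (1, false, 6), (1, false, 5), (0, false, 1), (4, false, 5), (4, false, 4), (4, false, 3), (4, false, 2), (5, false, 3), (4, false, 5), (4, false, 4), (4, false, 3), (5, false, 4), (4, false, 5), (4, false, 4), (5, false, 5), (5, false, 5), (1, false, 4), (1, false, 3), (1, false, 2), (1, false, 1), (4, false, 6), (4, false, 5), (4, false, 4), (4, false, 3), (5, false, 4), (4, false, 6), (4, false, 5), (4, false, 4), (5, false, 5), (4, false, 6), (4, false, 5), (5, false,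 6), (3, false, 6), (1, false, 5), (1, false, 4), (1, false, 3), (1, false, 2), (4, false, 7), (4, false, 6), (4, false, 5), (4, false, 4), (5, false, 5), (4, false, 7), (4, false, 6), (4, false, 5), (5, false, 6), (4, false, 7), (4, false, 6), (5, false, 7), (3, false, 8), (3, false, 7), (1, false, 6), (1, false, 5), (1, false, 4), (1, false, 3), (4, false, 8), (4, false, 7), (4, false, 6), (4, false, 5), (5, false, 6), (4, false, 8), (4, false, 7), (4, false, 6), (5, false, 7), (4, false, 8), (4, false, 7), (5, false, 8), (4, false, 10), (4, false, 9), (4, false, 8), (2, false, 4), (4, false, 6), (4, false, 5), (4, false, 4), (4, false, 7), (4, false, 6), (4, false, 5), (4, false, 8), (4, false, 7), (4, false, 6), (5, false, 7), (3, false, 8), (3, false, 7), (1, false, 6), (1, false, 5), (1, false, 4), (4, false, 9), (4, false, 8), (4, false, 7), (4, false, 6), (5, false, 7), (4, false, 9), (4, false, 8), (4, false, 7), (5, false, 8), (3, false, 11), (3, false, 10), (3, false, 9), (3, false, 8), (1, false, 7), (1, false, 6), (1, false, 5), (0, false, 1), (4, false, 5), (4, false, 4), (4, false, 3), (4, false, 2), (5, false, 3), (4, false, 5), (4, false, 4), (4, false, 3), (5, false, 4), (5, false, 4), (3, false,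 4), (1, false, 3), (1, false, 2), (1, false, 1), (4, false, 6), (4, false, 5), (4, false, 4), (4, false, 3), (5, false, 4), (4, false, 6), (4, false, 5), (4, false, 4), (5, false, 5), (3, false, 7), (3, false, 6), (3, false, 5), (1, false, 4), (1, false, 3), (1, false, 2), (4, false, 7), (4, false, 6), (4, false, 5), (4, false, 4), (5, false, 5), (4, false, 7), (4, false, 6), (4, false, 5), (5, false, 6), (5, false, 6), (2, false, 3), (3, false, 8), (3, false, 7), (3, false, 6), (3, false, 5), (1, false, 4), (1, false, 3), (4, false, 8), (4, false, 7), (4, false, 6), (4, false, 5), (5, false, 6), (5, false, 6), (3, false, 7), (3, false, 6), (1, false, 5), (1, false, 4), (4, false, 9), (4, false, 8), (4, false, 7), (4, false, 6), (5, false, 7), (5, false, 7), (1, false, 6), (1, false, 5), (0, false, 1), (4, false, 5), (4, false, 4), (4, false, 3), (4, false, 2), (5, false, 3), (3, false, 5), (3, false, 4), (3, false, 3), (1, false, 2), (1, false, 1), (4, false, 6), (4, false, 5), (4, false, 4), (4, false, 3), (5, false, 4), (5, false, 4), (4, false, 4), (4, false, 5), (4, false, 6), (2, false, 2), (4, false, 2), (5, false, 3), (1, false, 2), (3, false, 7), (3, false, 6), (3, false, 5), (3, false, 4), (1, false,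 3), (5, false, 5), (3, false, 7), (3, false, 6), (3, false, 5), (1, false, 4), (5, false, 6), (3, false, 7), (3, false, 6), (1, false, 5), (0, false, 1), (5, false, 2), (4, false, 2), (4, false, 3), (4, false, 4), (4, false, 5), (2, false, 1), (5, false, 1)]),
   ([3, 1, 1, 1, 1, 1, 1, 1, 1, 1, 1, 1, 1, 1, 1, 1, 1, 1, 1, 1, 1], [(7, false, 0), (7, false, 11), (7, false, 22), (7, false, 33), (7, false, 44), (3, false, 10), (3, false, 9), (3, false, 8), (3, false, 7), (1, false, 6), (1, false, 5), (1, false, 4), (0, false, 0), (4, false, 4), (4, false, 3), (4, false, 2), (4, false, 1), (5, false, 2), (4, false, 4), (4, false, 3), (4, false, 2), (5, false, 3), (5, false, 3), (3, false, 3), (1, false, 2), (1, false, 1), (1, false, 0), (4, false, 5), (4, false, 4), (4, false, 3), (4, false, 2), (5, false, 3), (4, false, 5), (4, false, 4), (4, false, 3), (5, false, 4), (3, false, 6), (3, false, 5), (3, false, 4), (1, false, 3), (1, false, 2), (1, false, 1), (4, false, 6), (4, false, 5), (4, false, 4), (4, false, 3), (5, false, 4), (4, false, 6), (4, false, 5), (4, false, 4), (5, false, 5), (5, false, 5), (1, false, 4), (1, false, 3), (1, false, 2), (4, false, 7), (4, false, 6), (4, false, 5), (4, false, 4), (5, false,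 5), (4, false, 7), (4, false, 6), (4, false, 5), (5, false, 6), (4, false, 7), (4, false, 6), (4, false, 8), (4, false, 7), (2, false, 3), (4, false, 4), (4, false, 3), (5, false, 4), (3, false, 4), (1, false, 3), (5, false, 5), (1, false, 4), (0, false, 0), (3, false, 4), (3, false, 3), (3, false, 2), (3, false, 1), (1, false, 0), (5, false, 2), (3, false, 4), (3, false, 3), (3, false, 2), (1, false, 1), (5, false, 3), (4, false, 4), (4, false, 3), (4, false, 5), (4, false, 4), (4, false, 6), (4, false, 5), (5, false, 6), (3, false, 6), (1, false, 5), (1, false, 4), (1, false, 3), (1, false, 2), (4, false, 7), (4, false, 6), (4, false, 5), (4, false, 4), (5, false, 5), (4, false, 7), (4, false, 6), (4, false, 5), (5, false, 6), (4, false, 7), (4, false, 6), (5, false, 7), (3, false, 8), (3, false, 7), (1, false, 6), (1, false, 5), (1, false, 4), (1, false, 3), (4, false, 8), (4, false, 7), (4, false, 6), (4, false, 5), (5, false, 6), (4, false, 8), (4, false, 7), (4, false, 6), (5, false, 7), (4, false, 8), (4, false, 7), (5, false, 8), (3, false, 10), (3, false, 9), (3, false, 8), (1, false, 7), (1, false, 6), (1, false, 5), (1, false, 4), (0, false, 0), (4, false, 4), (4, false, 3), (4, false, 2), (4, false,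 1), (5, false, 2), (4, false, 4), (4, false, 3), (4, false, 2), (5, false, 3), (4, false, 4), (4, false, 3), (5, false, 4), (3, false, 7), (3, false, 6), (3, false, 5), (3, false, 4), (1, false, 3), (1, false, 2), (1, false, 1), (1, false, 0), (4, false, 5), (4, false, 4), (4, false, 3), (4, false, 2), (5, false, 3), (4, false, 5), (4, false, 4), (4, false, 3), (5, false, 4), (4, false, 5), (4, false, 4), (5, false, 5), (5, false, 5), (2, false, 1), (3, false, 6), (3, false, 5), (3, false, 4), (3, false, 3), (1, false, 2), (1, false, 1), (4, false, 6), (4, false, 5), (4, false, 4), (4, false, 3), (5, false, 4), (5, false, 4), (3, false, 5), (3, false, 4), (1, false, 3), (1, false, 2), (4, false, 7), (4, false, 6), (4, false, 5), (4, false, 4), (5, false, 5), (5, false, 5), (1, false, 4), (1, false, 3), (4, false, 8), (4, false, 7), (4, false, 6), (4, false, 5), (5, false, 6), (3, false, 8), (3, false, 7), (3, false, 6), (1, false, 5), (1, false, 4), (0, false, 0), (4, false, 4), (4, false, 3), (4, false, 2), (4, false, 1), (5, false, 2), (5, false, 2), (4, false, 2), (4, false, 3), (4, false, 4), (2, false, 0), (5, false, 0)], [(2, false, 1), (2, false, 1), (2, false, 1), (2, false, 1)]),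
   ([3, 2, 2, 2, 2, 0, 0, 0, 0, 1, 1, 1, 1, 2, 2, 2, 2], [(8, false, 0), (6, false, 4), (3, false, 3), (3, false, 2), (3, false, 1), (3, false, 0), (3, false, 4), (3, false, 3), (3, false, 2), (3, false, 1), (5, false, 2)], [(3, false, 4), (3, false, 3), (3, false, 2), (3, false, 1), (3, false, 5), (3, false, 4), (3, false, 3), (3, false, 2), (3, false, 6), (3, false, 5), (3, false, 4), (3, false, 3), (3, false, 7), (3, false, 6), (3, false, 5), (3, false, 4), (4, false, 8), (4, false, 7), (4, false, 6), (4, false, 5), (4, false, 9), (4, false, 8), (4, false, 7), (4, false, 6), (4, false, 10), (4, false, 9), (4, false, 8), (4, false, 7), (4, false, 11), (4, false, 10), (4, false, 9), (4, false, 8), (5, false, 9), (5, true, 9), (6, false, 0), (8, false, 6), (5, false, 2)]),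
   ([3, 2, 2, 2, 2, 1, 1, 1, 1], [(8, false, 0), (7, false, 4), (3, false, 3), (3, false, 2), (3, false, 1), (3, false, 0), (3, false, 4), (3, false, 3), (3, false, 2), (3, false, 1), (3, false, 5), (3, false, 4), (3, false, 3), (3, false, 2), (3, false, 6), (3, false, 5), (3, false, 4), (3, false, 3), (4, false, 7), (4, false, 6), (4, false, 5), (4, false, 4), (4, false, 8), (4, false, 7), (4, false, 6), (4, false, 5), (4, false, 9), (4, false, 8), (4, false, 7), (4, false, 6), (5, false, 7)], [(4, false, 4), (4, false, 3), (4, false, 2), (4, false, 1), (4, false, 5), (4, false, 4), (4, false, 3), (4, false, 2), (4, false, 6), (4, false, 5), (4, false, 4), (4, false, 3), (4, false, 7), (4, false, 6), (4, false, 5), (4, false, 4), (7, false, 0), (8, false, 11), (5, false, 7)])]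

def p5Eqs : List (List ℕ × List Step × List Step) :=
  p5Eqs_0

def p5D_0 : List (List ℕ) :=
  [[0, 0, 0, 0, 0, 0, 0, 0, 0],
   [0, 0, 0, 0, 0, 0, 0, 0, 0],
   [0, 4, 0, 0, 0, 0, 0, 0, 0]]

def p5D : List (List ℕ) :=
  p5D_0

def p5Sol_0 : List (ℕ × List (ℕ × ℕ)) :=
  [(0, [(0, 3), (1, 3), (2, 3)]),
   (0, []),
   (0, [(0, 3), (1, 2), (2, 1)]),
   (0, [(3, 2), (4, 2)]),
   (0, [(3, 3), (4, 4)]),
   (0, [(0, 1)])]

def p5Sol : List (ℕ × List (ℕ × ℕ)) :=
  p5Sol_0

def p5Nf_0 : List (List ℕ) :=
  [[0, 2, 2, 2, 2], [0, 1, 1, 1, 2, 2, 2, 2], [0, 1, 1, 2, 2], [0, 0, 0, 1, 2, 2, 2, 2], [0, 0, 0, 0, 1, 1, 1, 2, 2, 2], [0, 0, 0, 1, 1, 1, 2, 2, 2], [2], [0, 0, 0, 0, 2, 2, 2], [0, 0, 0, 2], [0, 0, 0, 1, 1, 1, 1, 2, 2], [0, 0, 0, 0, 1, 1, 1], [0, 1, 2], [0, 0, 2], [1, 1, 1, 2, 2], [0, 0, 0, 0, 1, 1, 1, 1, 2, 2], [0, 0, 0, 1, 1, 1], [0, 1, 2, 2, 2], [1, 1, 1, 1, 2, 2, 2, 2], [1, 2, 2, 2, 2], [0, 0, 1, 1, 2, 2], [1, 2, 2, 2], [1, 1, 1], [0, 0, 0, 0, 1, 1, 2], [0, 0, 0, 0, 2, 2, 2, 2], [0, 0, 2, 2], [0, 0, 1, 2, 2], [0, 0, 1, 1, 1, 2], [0, 0, 1, 1, 1, 1, 2, 2, 2], [0, 0, 0, 0, 1, 1, 1, 1], [0, 0, 0, 2, 2, 2, 2], [0, 0, 0, 1, 1, 2, 2, 2, 2], [0, 0, 1, 1, 1], [0, 0, 0, 0, 1, 1, 2, 2, 2, 2], [0, 1, 1, 1, 1, 2, 2, 2], [1, 1,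 2, 2], [0, 0, 0, 0, 1, 2, 2, 2], [0, 0, 1], [0, 0, 2, 2, 2, 2], [0, 0, 1, 1, 1, 2, 2, 2], [1, 1, 1, 1], [1, 1, 2, 2, 2, 2], [0, 0, 0, 0, 1, 1, 2, 2], [0, 0, 0, 1, 1, 2], [0, 1, 1], [0, 0, 0, 0, 2], [0, 1], [0, 0, 0, 1, 1, 2, 2, 2], [0, 0, 1, 1, 1, 1, 2], [0, 0, 0, 0, 1, 2, 2], [0, 0, 0, 0, 1, 2], [2, 2], [1, 1, 1, 1, 2, 2, 2], [0, 2, 2], [0, 1, 1, 1, 1, 2, 2], [0, 0, 0, 1], [0, 1, 1, 1, 1], [0, 0, 0, 1, 1, 1, 1, 2, 2, 2], [0, 0, 0, 0, 1, 1, 1, 1, 2], [0, 1, 1, 2, 2, 2], [0, 0, 1, 2, 2, 2], [1, 1, 1, 2, 2, 2, 2], [1, 1], [0, 1, 1, 1, 1, 2, 2, 2, 2], [0, 0, 1, 1], [0, 0, 0, 1, 1, 2, 2], [0, 0, 1, 1, 1, 1, 2, 2], [0, 0, 0, 0, 1, 1, 1, 1, 2, 2, 2, 2], [0, 1, 1, 1, 2], [0, 0, 0, 1, 1, 1, 1], [0, 0, 1, 1, 2, 2, 2, 2], [2, 2, 2], [0, 0, 1, 1, 2], [0, 2], [0, 1, 1, 1, 2, 2], [0, 0, 0, 0, 1], [0, 0, 0, 1, 2], [1, 2], [0, 0, 1, 1, 1, 1, 2, 2, 2, 2], [1, 1, 2], [0, 0, 1, 1, 1, 2, 2, 2, 2], [0, 0, 0, 0, 1, 1], [], [0, 0, 0, 0, 1, 1, 1, 2, 2, 2, 2], [0, 0, 0, 2, 2], [0, 0, 1, 2], [0, 2, 2, 2], [0, 0, 0, 1, 1, 1, 2, 2, 2, 2], [1, 2, 2], [0, 1, 1, 1, 2, 2, 2], [0, 0, 1, 1, 1, 1], [0, 0, 0, 1, 1, 1, 1, 2], [0, 0, 0, 1, 2, 2, 2], [1, 1, 2, 2, 2], [0, 0, 2, 2, 2], [0, 0, 1, 1, 2, 2, 2], [0, 0, 0, 1, 1, 1, 1, 2, 2, 2, 2], [0, 1,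 1, 1], [1, 1, 1, 2, 2, 2], [0, 0, 0], [1, 1, 1, 1, 2, 2]]

def p5Nf_1 : List (List ℕ) :=
  [[0, 0, 0, 1, 1, 1, 2], [0, 0, 0, 2, 2, 2], [1, 1, 1, 1, 2], [0, 0, 0, 1, 2, 2], [0, 1, 1, 1, 1, 2], [0, 0, 0, 0, 1, 2, 2, 2, 2], [0, 1, 1, 2, 2, 2, 2], [0, 0, 1, 2, 2, 2, 2], [0, 0, 0, 0, 1, 1, 1, 2, 2], [1], [2, 2, 2, 2], [0, 1, 1, 2], [0, 0, 0, 0, 2, 2], [0, 0, 0, 1, 1], [0, 1, 2, 2, 2, 2], [0, 0, 0, 0], [0], [0, 0, 0, 1, 1, 1, 2, 2], [1, 1, 1, 2], [0, 0, 0, 0, 1, 1, 2, 2, 2], [0, 0, 1, 1, 1, 2, 2], [0, 0, 0, 0, 1, 1, 1, 2], [0, 1, 2, 2], [0, 0, 0, 0, 1, 1, 1, 1, 2, 2, 2], [0, 0]]

def p5Nf : List (List ℕ) :=
  p5Nf_0 ++ p5Nf_1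

/-- The certificate at 5. -/
def cert5 : CfsgLib.SchurCert.GCert :=
  ⟨5, 3, p5Rels, p5Eqs, p5D, [], p5Sol, p5Nf⟩

end CfsgLib.Leech.Co2Mult
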