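/-
A sign change in the Higman-Sims group moving all hundred points.
-/
import Cfsg.Agent.Leech.HS

set_option autoImplicit false

namespace CfsgLib.Leech.HS

open Cfsg CfsgLib.Golay

/-- A vector on a dodecad. -/
def vList : List ℤ := [2, 0, 2, 2, 2, 0, 0, 0, 0, 0, 0, 0, 0, 2, 2, 2, 0, 2, 2, 0, 0, 2, 2, 2]

/-- Its partner. -/
def wList : List ℤ := [2, 0, -2, -2, -2, 0, 0, 0, 0, 0, 0, 0, 0, -2, -2, -2, 0, -2, -2, 0, 0, -2, -2, 2]

/-- The dodecad off both. -/
abbrev cSet : Finset GolayPt := toSet 1646562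

theorem dod_data : inLeech (vecOf vList) = true ∧ inLeech (vecOf wList) = true ∧
    sqNorm (vecOf vList) = 48 ∧ sqNorm (vecOf wList) = 48 ∧ dotInt (vecOf vList) (vecOf wList) = -32 ∧
    inCode (mask cSet) = true ∧ cSet.card = 12 ∧
    (∀ p ∈ cSet, vecOf vList p = 0 ∧ vecOf wList p = 0) ∧ (∀ p, (vecOf vList p).natAbs ≤ 2) := by
  decide +kernel

/-- The vector on the dodecad, in the lattice. -/
def V1 : leechLattice := ⟨_, inLeech_spec dod_data.1⟩

/-- The partner, in the lattice. -/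
def W1 : leechLattice := ⟨_, inLeech_spec dod_data.2.1⟩

theorem cSet_code : IsCodeSet cSet := mem_supports_iff.2 dod_data.2.2.2.2.2.1

/-- The sign change. -/
def inv1 : Co0 := diag cSet_code

theorem inv1_apply (y : leechLattice) (p : GolayPt) :
    (inv1 • y).1 p = if p ∈ cSet then -y.1 p else y.1 p := by
  show signedPerm 1 cSet y.1 p = _
  simp [signedPerm, perm_one_symm]

theorem inv1_fix {y : leechLattice} (h : ∀ p ∈ cSet, y.1 p = 0) : inv1 • y = y :=
  Subtype.ext (funext fun p => by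
    rw [inv1_apply]; split_ifs with hp
    · rw [h p hp, neg_zero]
    · rfl)

theorem inv1_V : inv1 • V1 = V1 := inv1_fix fun p hp => (dod_data.2.2.2.2.2.2.2.1 p hp).1

theorem inv1_W : inv1 • W1 = W1 := inv1_fix fun p hp => (dod_data.2.2.2.2.2.2.2.1 p hp).2

theorem orderOf_inv1 : orderOf inv1 = 2 := by
  refine orderOf_eq_prime (by rw [pow_two]; exact (mul_eq_one_iff_inv_eq.2 (diag_inv cSet_code))) fun h => ?_
  obtain ⟨p, hp⟩ := Finset.card_pos.1 (show 0 < cSet.card by rw [dod_data.2.2.2.2.2.2.1]; omega)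
  have e := inv1_apply (eight p) p
  rw [h, one_smul, if_pos hp, show (eight p).1 p = 8 from Pi.single_eq_same _ _] at e
  omega

theorem inv1_free {y : leechLattice} (hn : sqNorm y.1 = 32) (hd : dotInt V1.1 y.1 = 24) : inv1 • y ≠ y := by
  intro h
  have hz : ∀ p ∈ cSet, y.1 p = 0 := fun p hp => by
    have := congrArg (fun v : leechLattice => v.1 p) h
    simp only [inv1_apply, if_pos hp] at this
    omega
  obtain ⟨p₀, hp₀⟩ := Finset.card_pos.1 (show 0 < cSet.card by rw [dod_data.2.2.2.2.2.2.1]; omega)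
  obtain ⟨m, hm, hpar, -, -⟩ := mem_lattice.1 y.2
  have hm0 : m = 0 := by have := hpar p₀; rw [hz p₀ hp₀] at this; omega
  subst hm0
  obtain ⟨hv, hc, hsupp, hcard, -⟩ := even_counts y.2 hpar (N := 8) (by omega) (by omega)
  simp only [List.mem_cons, List.not_mem_nil, or_false] at hv
  have n8 := not_lev (show (lev y.1 8).card = 0 by omega)
  have c6 : (lev y.1 6).card = 0 := by
    rcases support_card_cases (mem_supports_iff.1 hsupp) with e | e | e | e | e <;> omega
  have n6 := not_lev c6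
  have hdisj : Disjoint (lev y.1 2 ∪ lev y.1 6) cSet := Finset.disjoint_left.2 fun p hp hp' => by
    rw [Finset.mem_union, mem_lev, mem_lev, hz p hp'] at hp
    omega
  have hu : (symmDiff (lev y.1 2 ∪ lev y.1 6) cSet).card = (lev y.1 2 ∪ lev y.1 6).card + 12 := by
    rw [Disjoint.symmDiff_eq_sup hdisj, Finset.sup_eq_union, Finset.card_union_of_disjoint hdisj,
      dod_data.2.2.2.2.2.2.1]
  have c2 : (lev y.1 2).card = 0 := by
    rcases support_card_cases (mem_supports_iff.1 (symm_mem_code hsupp cSet_code)) with e | e | e | e | e <;>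
      rcases support_card_cases (mem_supports_iff.1 hsupp) with e' | e' | e' | e' | e' <;> omega
  have n2 := not_lev c2
  have hb : dotInt V1.1 y.1 ≤ ∑ p, if p ∈ lev y.1 4 then (8 : ℤ) else 0 := by
    refine Finset.sum_le_sum fun p _ => ?_
    have hVp : (V1.1 p).natAbs ≤ 2 := dod_data.2.2.2.2.2.2.2.2 p
    have h1 : V1.1 p * y.1 p ≤ ((V1.1 p).natAbs : ℤ) * (y.1 p).natAbs :=
      (le_abs_self _).trans (le_of_eq (by rw [abs_mul, Int.natCast_natAbs, Int.natCast_natAbs]))
    refine h1.trans ?_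
    have := hv p; have := n2 p; have := n6 p; have := n8 p
    split_ifs with h4
    · rw [mem_lev] at h4; rw [h4]; omega
    · rw [mem_lev] at h4
      rw [show (y.1 p).natAbs = 0 by omega]; simp
  rw [hd, Fintype.sum_ite_mem, Finset.sum_const, show (lev y.1 4).card = 2 by omega] at hb
  norm_num at hb

theorem exists_free_involution {v w : leechLattice} (hv : sqNorm v.1 = 48) (hw : sqNorm w.1 = 48)
    (hvw : dotInt v.1 w.1 = -32) : ∃ g : Co0, g • v = v ∧ g • w = w ∧ orderOf g = 2 ∧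
      ∀ x : leechLattice, sqNorm x.1 = 32 → dotInt v.1 x.1 = 24 → g • x ≠ x := by
  obtain ⟨g, gv, gw⟩ := exists_map_pair hv hw hvw
  obtain ⟨h, h1, h2⟩ := exists_map_pair (v := V1) (w := W1) dod_data.2.2.1 dod_data.2.2.2.1 dod_data.2.2.2.2.1
  set k := h⁻¹ * g
  have kv : k • v = V1 := by rw [mul_smul, gv, inv_smul_eq_iff, h1]
  have kw : k • w = W1 := by rw [mul_smul, gw, inv_smul_eq_iff, h2]
  refine ⟨k⁻¹ * inv1 * k, ?_, ?_, ?_, fun x hx hd e => ?_⟩
  · rw [mul_smul, mul_smul, kv, inv1_V, inv_smul_eq_iff, kv]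
  · rw [mul_smul, mul_smul, kw, inv1_W, inv_smul_eq_iff, kw]
  · rw [show k⁻¹ * inv1 * k = MulAut.conj k⁻¹ inv1 by simp, MulEquiv.orderOf_eq, orderOf_inv1]
  · rw [mul_smul, mul_smul, inv_smul_eq_iff] at e
    refine inv1_free ((norm_smul k x).trans hx) ?_ e
    rw [← kv, dot_smul]; exact hd

end CfsgLib.Leech.HS
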