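/-
Data: an automorphism fixing the McLaughlin frame and mixing the three monomial classes.
-/
import Mathlib.Init

set_option autoImplicit false

namespace CfsgLib.Leech.McL

/-- A word fixing the frame. -/
def fuseWord : List (List Nat × Nat × Bool) := [
  ([18, 5, 22, 9, 13, 6, 3, 23, 8, 14, 16, 0, 19, 4, 10, 11, 1, 2, 12, 7, 20, 17, 21, 15], 964841, true),
  ([12, 6, 9, 11, 17, 5, 4, 19, 23, 7, 20, 22, 3, 14, 0, 2, 21, 16, 8, 15, 1, 13, 10, 18], 12635423, true),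
  ([3, 23, 18, 9, 11, 22, 19, 20, 15, 14, 5, 4, 2, 0, 12, 10, 21, 8, 1, 13, 16, 7, 17, 6], 2590441, false)]

/-- A point. -/
def ptX1 : List Int := [0, 0, 0, 0, 0, 0, 0, 0, 0, 0, 0, 0, 0, 0, 4, 0, 0, 0, 0, 0, 0, 0, 0, 4]

/-- A point. -/
def ptY1 : List Int := [2, 0, 0, 2, 2, 2, 0, 0, 0, 0, 0, 0, 2, 2, 0, 0, 0, 0, 2, 0, 0, 0, 0, 2]

/-- A point. -/
def ptX2 : List Int := [0, 4, 0, 0, 0, 0, 0, 0, 0, 0, 0, 0, 0, 0, 0, 0, 0, 0, 0, 0, 0, 0, 0, 4]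

/-- A point. -/
def ptY2 : List Int := [1, -1, -1, 1, 1, 1, 1, -1, 1, 1, 1, 1, -1, 1, 1, -1, -1, -1, 1, 1, 1, 1, 1, 3]

end CfsgLib.Leech.McL
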