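/-
The two hundred and seventy-five points of the McLaughlin configuration.
-/
import Cfsg.Agent.Leech.HSPoints
import Cfsg.Agent.Leech.Maximal
import Cfsg.Agent.Leech.Dot8
import Cfsg.Agent.Leech.McLData

set_option autoImplicit false

namespace CfsgLib.Leech.McL

open Cfsg CfsgLib.Golay
open scoped Pointwise

/-- The frame vector of sum of squares forty-eight. -/
def uList : List ℤ := (List.range 24).map fun i => if i = 23 then 5 else 1

theorem uList_ok : inLeech (vecOf uList) = true ∧ sqNorm (vecOf uList) = 48 ∧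
    ∀ p, vecOf uList p = if p = none then 5 else 1 := by decide +kernel

/-- The frame vector. -/
def U0 : leechLattice := ⟨_, inLeech_spec uList_ok.1⟩

theorem U0_val (p : GolayPt) : U0.1 p = if p = none then 5 else 1 := uList_ok.2.2 p

/-- Points of the configuration, in coordinates. -/
def IsPt (x : leechLattice) : Prop :=
  sqNorm x.1 = 32 ∧ dotInt U0.1 x.1 = 24 ∧ x.1 none + x.1 (some 0) = 4

/-- Two fours. -/
def fourVal (j p : GolayPt) : ℤ := (if p = none then 4 else 0) + (if p = j then 4 else 0)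

/-- Eight twos. -/
def twoVal (o : Finset GolayPt) (p : GolayPt) : ℤ := if p ∈ o then 2 else 0

theorem dot_U0 (y : GolayPt → ℤ) : dotInt U0.1 y = 4 * y none + ∑ p, y p := by
  have h : ∀ p, U0.1 p * y p = (if p = none then 4 * y none else 0) + y p := fun p => by
    rw [U0_val]; split_ifs with h
    · subst h; ring
    · ring
  rw [dotInt, Finset.sum_congr rfl fun p _ => h p, Finset.sum_add_distrib, Finset.sum_ite_eq' Finset.univ none]
  simp

theorem sum_two {o : Finset GolayPt} (ho : o ∈ octads) : ∑ p, twoVal o p = 16 := by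
  simp only [twoVal]
  rw [Fintype.sum_ite_mem, Finset.sum_const, card_of_mem_octads ho]
  rfl

theorem sum_four (j : GolayPt) : ∑ p, fourVal j p = 8 := by
  simp only [fourVal]
  rw [Finset.sum_add_distrib, Finset.sum_ite_eq' Finset.univ none, Finset.sum_ite_eq' Finset.univ j]
  simp

/-- Even summands of the frame vector. -/
theorem classify_even {y : leechLattice} (hn : sqNorm y.1 = 32) (hd : dotInt U0.1 y.1 = 24)
    (hev : ∀ p, y.1 p % 2 = 0) :
    (∃ j, j ≠ none ∧ ∀ p, y.1 p = fourVal j p) ∨ ∃ o ∈ octads, (none : GolayPt) ∈ o ∧ ∀ p, y.1 p = twoVal o p := by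
  rw [dot_U0] at hd
  obtain ⟨hv, hc, hsupp, -, -⟩ := even_counts y.2 hev (N := 8) (by omega) (by omega)
  simp only [List.mem_cons, List.not_mem_nil, or_false] at hv
  have n8 := not_lev (show (lev y.1 8).card = 0 by omega)
  have c6 : (lev y.1 6).card = 0 := by
    rcases support_card_cases (mem_supports_iff.1 hsupp) with e | e | e | e | e <;> omega
  have n6 := not_lev c6
  rw [Finset.card_eq_zero.1 c6, Finset.union_empty] at hsupp
  have := hv none; have := n6 none; have := n8 none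
  rcases support_card_cases (mem_supports_iff.1 hsupp) with e | e | e | e | e <;> try omega
  · left
    have n2 := not_lev e
    have hval : ∀ p, (y.1 p).natAbs = 0 ∨ (y.1 p).natAbs = 4 := fun p => by
      have := hv p; have := n6 p; have := n8 p; have := n2 p; omega
    have hc4 : (lev y.1 4).card = 2 := by omega
    have hle : ∀ p, y.1 p ≤ if p ∈ lev y.1 4 then (4 : ℤ) else 0 := fun p => by
      have := hval p; split_ifs with h <;> rw [mem_lev] at h <;> omega
    have hbound : ∑ p, (if p ∈ lev y.1 4 then (4 : ℤ) else 0) = 8 := by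
      rw [Fintype.sum_ite_mem, Finset.sum_const, hc4]; rfl
    have hs := Finset.sum_le_sum (s := Finset.univ) fun p _ => hle p
    rw [hbound] at hs
    have := hval none
    have yn : y.1 none = 4 := by omega
    have heq := (Finset.sum_eq_sum_iff_of_le (s := Finset.univ) fun p _ => hle p).1 (by omega)
    have hn4 : (none : GolayPt) ∈ lev y.1 4 := mem_lev.2 (by omega)
    obtain ⟨j, hj⟩ := Finset.card_eq_one.1
      (show ((lev y.1 4).erase none).card = 1 by rw [Finset.card_erase_of_mem hn4]; omega)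
    have hj' : j ∈ (lev y.1 4).erase none := by rw [hj]; exact Finset.mem_singleton_self j
    rw [Finset.mem_erase] at hj'
    refine ⟨j, hj'.1, fun p => ?_⟩
    rw [heq p (Finset.mem_univ p), fourVal]
    rcases eq_or_ne p none with rfl | hp
    · rw [if_pos hn4, if_pos rfl, if_neg hj'.1.symm]; rfl
    rw [if_neg hp, zero_add]
    rcases eq_or_ne p j with rfl | hpj
    · rw [if_pos hj'.2, if_pos rfl]
    · have : p ∉ lev y.1 4 := fun h => hpj (by
        have : p ∈ (lev y.1 4).erase none := Finset.mem_erase.2 ⟨hp, h⟩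
        rwa [hj, Finset.mem_singleton] at this)
      rw [if_neg this, if_neg hpj]
  · right
    have n4 := not_lev (show (lev y.1 4).card = 0 by omega)
    have hval : ∀ p, (y.1 p).natAbs = 0 ∨ (y.1 p).natAbs = 2 := fun p => by
      have := hv p; have := n6 p; have := n8 p; have := n4 p; omega
    have hle : ∀ p, y.1 p ≤ if p ∈ lev y.1 2 then (2 : ℤ) else 0 := fun p => by
      have := hval p; split_ifs with h <;> rw [mem_lev] at h <;> omega
    have hbound : ∑ p, (if p ∈ lev y.1 2 then (2 : ℤ) else 0) = 16 := by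
      rw [Fintype.sum_ite_mem, Finset.sum_const, e]; rfl
    have hs := Finset.sum_le_sum (s := Finset.univ) fun p _ => hle p
    rw [hbound] at hs
    have := hval none
    have yn : y.1 none = 2 := by omega
    have heq := (Finset.sum_eq_sum_iff_of_le (s := Finset.univ) fun p _ => hle p).1 (by omega)
    exact ⟨lev y.1 2, mem_octads_of hsupp e, mem_lev.2 (by omega), fun p => heq p (Finset.mem_univ p)⟩

theorem classify {x : leechLattice} (h : IsPt x) :
    (∃ j, j ≠ none ∧ j ≠ some 0 ∧ ∀ p, x.1 p = fourVal j p) ∨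
    (∃ o ∈ octads, (none : GolayPt) ∈ o ∧ some 0 ∈ o ∧ ∀ p, x.1 p = twoVal o p) ∨
    (∃ o ∈ octads, (none : GolayPt) ∈ o ∧ some 0 ∉ o ∧ ∀ p, x.1 p = U0.1 p - twoVal o p) := by
  obtain ⟨hn, hd, hv⟩ := h
  have hnn : (some 0 : GolayPt) ≠ none := by simp
  obtain ⟨m, hm, hpar, -, -⟩ := mem_lattice.1 x.2
  rcases hm with rfl | rfl
  · rcases classify_even hn hd hpar with ⟨j, hj, e⟩ | ⟨o, ho, hon, e⟩
    · refine Or.inl ⟨j, hj, fun hj0 => ?_, e⟩
      subst hj0
      rw [e, e, fourVal, fourVal, if_pos rfl, if_neg hnn.symm, if_neg hnn, if_pos rfl] at hv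
      omega
    · refine Or.inr (Or.inl ⟨o, ho, hon, ?_, e⟩)
      rw [e, e, twoVal, twoVal, if_pos hon] at hv
      by_contra h0
      rw [if_neg h0] at hv
      omega
  · have hn' : sqNorm (U0 - x).1 = 32 := by
      rw [AddSubgroup.coe_sub, sqNorm_sub, show sqNorm U0.1 = 48 from uList_ok.2.1]; omega
    have hd' : dotInt U0.1 (U0 - x).1 = 24 := by
      have : dotInt U0.1 (U0 - x).1 = dotInt U0.1 U0.1 - dotInt U0.1 x.1 := by
        simp only [dotInt, AddSubgroup.coe_sub, Pi.sub_apply, mul_sub, Finset.sum_sub_distrib]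
      rw [this, dot_self, show sqNorm U0.1 = 48 from uList_ok.2.1, hd]; rfl
    have hev : ∀ p, (U0 - x).1 p % 2 = 0 := fun p => by
      have := hpar p
      rw [AddSubgroup.coe_sub, Pi.sub_apply, U0_val]
      split_ifs <;> omega
    have back : ∀ p, x.1 p = U0.1 p - (U0 - x).1 p := fun p => by
      rw [AddSubgroup.coe_sub, Pi.sub_apply]; ring
    rcases classify_even hn' hd' hev with ⟨j, hj, e⟩ | ⟨o, ho, hon, e⟩
    · exfalso
      rw [back, back, e, e, U0_val, U0_val, fourVal, fourVal, if_pos rfl, if_neg hnn, if_neg hnn, if_neg hj.symm,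
        if_pos rfl] at hv
      split_ifs at hv <;> omega
    · refine Or.inr (Or.inr ⟨o, ho, hon, fun h0 => ?_, fun p => by rw [back, e]⟩)
      rw [back, back, e, e, U0_val, U0_val, twoVal, twoVal, if_pos rfl, if_neg hnn, if_pos hon, if_pos h0] at hv
      omega

theorem four_point {j : GolayPt} (hj : j ≠ none) (hj' : j ≠ some 0) :
    ∃ x : leechLattice, IsPt x ∧ ∀ p, x.1 p = fourVal j p := by
  obtain ⟨h1, h2, -⟩ := four_vec (p := (none : GolayPt)) (q := j) hj.symm (s := 4) (t := 4) (Or.inl rfl) (Or.inl rfl)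
  have hx : ∀ p, (Pi.single none 4 + Pi.single j 4 : GolayPt → ℤ) p = fourVal j p := fun p => by
    simp only [Pi.add_apply, Pi.single_apply, fourVal]
  refine ⟨⟨_, h1⟩, ⟨h2, ?_, ?_⟩, hx⟩
  · rw [dot_U0]
    show 4 * (Pi.single none 4 + Pi.single j 4 : GolayPt → ℤ) none + ∑ p, (Pi.single none 4 + Pi.single j 4 : GolayPt → ℤ) p = 24
    rw [Finset.sum_congr rfl fun p _ => hx p, sum_four, hx, fourVal, if_pos rfl, if_neg hj.symm]; rfl
  · show (Pi.single none 4 + Pi.single j 4 : GolayPt → ℤ) none + (Pi.single none 4 + Pi.single j 4 : GolayPt → ℤ) (some 0) = 4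
    rw [hx, hx, fourVal, fourVal, if_pos rfl, if_neg hj.symm, if_neg (by simp), if_neg hj'.symm]; rfl

theorem two_vec {o : Finset GolayPt} (ho : o ∈ octads) : twoVal o ∈ leechLattice ∧ sqNorm (twoVal o) = 32 := by
  refine ⟨mem_lattice.2 ⟨0, Or.inl rfl, fun p => ?_, ?_, ?_⟩, ?_⟩
  · unfold twoVal; split_ifs <;> rfl
  · rw [sum_two ho]; rfl
  · obtain ⟨w, hw, e⟩ := ho.1
    have : half (twoVal o) = w := funext fun p => by
      have hp : p ∈ o ↔ w p ≠ 0 := by rw [← e]; simp [support₂]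
      unfold half twoVal
      by_cases h : p ∈ o
      · rw [if_pos h]
        rcases (by decide : ∀ a : ZMod 2, a = 0 ∨ a = 1) (w p) with e1 | e1
        · exact absurd e1 (hp.1 h)
        · rw [e1]; rfl
      · rw [if_neg h, not_not.1 (mt hp.2 h)]; rfl
    rw [this]; exact hw
  · show ∑ p, twoVal o p ^ 2 = 32
    simp only [twoVal, ite_pow, ne_eq, OfNat.ofNat_ne_zero, not_false_eq_true, zero_pow]
    rw [Fintype.sum_ite_mem, Finset.sum_const, card_of_mem_octads ho]
    rfl

theorem two_point {o : Finset GolayPt} (ho : o ∈ octads) (hon : (none : GolayPt) ∈ o) (ho0 : some 0 ∈ o) :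
    ∃ x : leechLattice, IsPt x ∧ ∀ p, x.1 p = twoVal o p := by
  refine ⟨⟨_, (two_vec ho).1⟩, ⟨(two_vec ho).2, ?_, ?_⟩, fun p => rfl⟩
  · rw [dot_U0]
    show 4 * twoVal o none + ∑ p, twoVal o p = 24
    rw [sum_two ho, twoVal, if_pos hon]; rfl
  · show twoVal o none + twoVal o (some 0) = 4
    rw [twoVal, twoVal, if_pos hon, if_pos ho0]; rfl

theorem odd_point {o : Finset GolayPt} (ho : o ∈ octads) (hon : (none : GolayPt) ∈ o) (ho0 : some 0 ∉ o) :
    ∃ x : leechLattice, IsPt x ∧ ∀ p, x.1 p = U0.1 p - twoVal o p := by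
  let y : leechLattice := ⟨_, (two_vec ho).1⟩
  have d : dotInt U0.1 y.1 = 24 := by
    rw [dot_U0]
    show 4 * twoVal o none + ∑ p, twoVal o p = 24
    rw [sum_two ho, twoVal, if_pos hon]; rfl
  have n : sqNorm y.1 = 32 := (two_vec ho).2
  refine ⟨U0 - y, ⟨?_, ?_, ?_⟩, fun p => rfl⟩
  · rw [AddSubgroup.coe_sub, sqNorm_sub, show sqNorm U0.1 = 48 from uList_ok.2.1, d, n]; rfl
  · have : dotInt U0.1 (U0 - y).1 = dotInt U0.1 U0.1 - dotInt U0.1 y.1 := by
      simp only [dotInt, AddSubgroup.coe_sub, Pi.sub_apply, mul_sub, Finset.sum_sub_distrib]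
    rw [this, dot_self, show sqNorm U0.1 = 48 from uList_ok.2.1, d]; rfl
  · show U0.1 none - twoVal o none + (U0.1 (some 0) - twoVal o (some 0)) = 4
    rw [U0_val, U0_val, twoVal, twoVal, if_pos rfl, if_pos hon, if_neg ho0, if_neg (show ¬ ((some 0 : GolayPt) = none) by simp)]; rfl

/-! ### The count -/

/-- Masks of octads with the first point and a prescribed behaviour at the second. -/
def octSel (b : Bool) : List ℕ := octList.filter fun m => m.testBit 23 && (m.testBit 0 == b)

theorem octSel_ok : (octSel true).Nodup ∧ (octSel true).length = 77 ∧ (octSel false).Nodup ∧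
    (octSel false).length = 176 ∧ octList.all (fun m => Nat.blt m (2 ^ 24)) = true ∧
    (Finset.univ \ ({none, some 0} : Finset GolayPt)).card = 22 ∧
    (idx (none : GolayPt)).val = 23 ∧ (idx (some 0 : GolayPt)).val = 0 := by decide +kernel

theorem mem_octSel {b : Bool} {o : Finset GolayPt} :
    mask o ∈ octSel b ↔ o ∈ octads ∧ (none : GolayPt) ∈ o ∧ (b = true ↔ some 0 ∈ o) := by
  obtain ⟨-, -, -, -, -, -, i23, i0⟩ := octSel_ok
  have a : (none : GolayPt) ∈ o ↔ (mask o).testBit 23 = true := by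
    conv_lhs => rw [← toSet_mask o, mem_toSet, i23]
  have c : (some 0 : GolayPt) ∈ o ↔ (mask o).testBit 0 = true := by
    conv_lhs => rw [← toSet_mask o, mem_toSet, i0]
  rw [octSel, List.mem_filter, mem_octads_iff, a, c]
  cases b <;> simp [Bool.and_eq_true]

theorem ncard_octSel (b : Bool) :
    {o : Finset GolayPt | o ∈ octads ∧ (none : GolayPt) ∈ o ∧ (b = true ↔ some 0 ∈ o)}.ncard =
      (octSel b).toFinset.card := by
  rw [← Set.ncard_coe_finset]
  refine Set.ncard_congr (fun o _ => mask o) (fun o ho => ?_) (fun o o' _ _ h => mask_injective h) fun m hm => ?_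
  · rw [Finset.mem_coe, List.mem_toFinset]; exact mem_octSel.2 ho
  · rw [Finset.mem_coe, List.mem_toFinset] at hm
    have hlt : m < 2 ^ 24 := by
      have := List.all_eq_true.1 octSel_ok.2.2.2.2.1 m (List.mem_of_mem_filter hm)
      simpa [Nat.blt_eq] using this
    exact ⟨toSet m, mem_octSel.1 (by rw [mask_toSet hlt]; exact hm), mask_toSet hlt⟩

theorem ncard_family {ι : Type} (S : Set ι) (P : ι → GolayPt → ℤ)
    (hex : ∀ i ∈ S, ∃ x : leechLattice, IsPt x ∧ ∀ p, x.1 p = P i p)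
    (hinj : ∀ i ∈ S, ∀ i' ∈ S, P i = P i' → i = i') :
    {x : leechLattice | ∃ i ∈ S, ∀ p, x.1 p = P i p}.ncard = S.ncard := by
  choose f hf1 hf2 using hex
  refine (Set.ncard_congr (s := S) (t := {x : leechLattice | ∃ i ∈ S, ∀ p, x.1 p = P i p}) (fun i hi => f i hi) (fun i hi => ⟨i, hi, hf2 i hi⟩) (fun i i' hi hi' h => ?_) ?_).symm
  · exact hinj i hi i' hi' (funext fun p => by rw [← hf2 i hi p, h, hf2 i' hi' p])
  · rintro x ⟨i, hi, e⟩
    exact ⟨i, hi, Subtype.ext (funext fun p => by rw [hf2 i hi, e])⟩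

/-- The three classes. -/
def classA : Set leechLattice :=
  {x | ∃ j ∈ ((Finset.univ \ {none, some 0} : Finset GolayPt) : Set GolayPt), ∀ p, x.1 p = fourVal j p}

/-- The three classes. -/
def classC : Set leechLattice :=
  {x | ∃ o ∈ {o : Finset GolayPt | o ∈ octads ∧ (none : GolayPt) ∈ o ∧ (true = true ↔ some 0 ∈ o)},
    ∀ p, x.1 p = twoVal o p}

/-- The three classes. -/
def classD : Set leechLattice :=
  {x | ∃ o ∈ {o : Finset GolayPt | o ∈ octads ∧ (none : GolayPt) ∈ o ∧ (false = true ↔ some 0 ∈ o)},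
    ∀ p, x.1 p = U0.1 p - twoVal o p}

theorem pt_eq : {x : leechLattice | IsPt x} = classA ∪ classC ∪ classD := by
  ext x
  constructor
  · intro h
    rcases classify h with ⟨j, h1, h2, e⟩ | ⟨o, ho, h1, h2, e⟩ | ⟨o, ho, h1, h2, e⟩
    · exact Or.inl (Or.inl ⟨j, by simp [h1, h2], e⟩)
    · exact Or.inl (Or.inr ⟨o, ⟨ho, h1, iff_of_true rfl h2⟩, e⟩)
    · exact Or.inr ⟨o, ⟨ho, h1, iff_of_false (by decide) h2⟩, e⟩
  · rintro ((⟨j, hj, e⟩ | ⟨o, ⟨ho, h1, h2⟩, e⟩) | ⟨o, ⟨ho, h1, h2⟩, e⟩)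
    · simp only [Finset.mem_coe, Finset.mem_sdiff, Finset.mem_univ, true_and, Finset.mem_insert,
        Finset.mem_singleton, not_or] at hj
      obtain ⟨y, hy, ey⟩ := four_point hj.1 hj.2
      rwa [show x = y from Subtype.ext (funext fun p => by rw [e, ey])]
    · obtain ⟨y, hy, ey⟩ := two_point ho h1 (h2.1 rfl)
      rwa [show x = y from Subtype.ext (funext fun p => by rw [e, ey])]
    · obtain ⟨y, hy, ey⟩ := odd_point ho h1 (fun h => by simpa using h2.2 h)
      rwa [show x = y from Subtype.ext (funext fun p => by rw [e, ey])]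

theorem class_sizes : classA.ncard = 22 ∧ classC.ncard = 77 ∧ classD.ncard = 176 ∧ (classA ∪ classC).ncard = 99 := by
  obtain ⟨n1, l1, n2, l2, -, c22, -, -⟩ := octSel_ok
  have two_inj : ∀ o o' : Finset GolayPt, twoVal o = twoVal o' → o = o' := fun o o' h => Finset.ext fun p => by
    have := congrFun h p
    unfold twoVal at this
    split_ifs at this with a b <;> simp_all
  have hA : classA.ncard = 22 := by
    refine (ncard_family _ _ (fun j hj => ?_) (fun i hi i' hi' h => ?_)).trans (by rw [Set.ncard_coe_finset, c22])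
    · simp only [Finset.mem_coe, Finset.mem_sdiff, Finset.mem_univ, true_and, Finset.mem_insert,
        Finset.mem_singleton, not_or] at hj
      exact four_point hj.1 hj.2
    · by_contra hne
      have := congrFun h i
      simp [fourVal, hne] at this
  have hC : classC.ncard = 77 := by
    refine (ncard_family _ _ (fun o ho => two_point ho.1 ho.2.1 (ho.2.2.1 rfl)) fun o _ o' _ h => two_inj o o' h).trans ?_
    rw [ncard_octSel, List.toFinset_card_of_nodup n1, l1]
  have hD : classD.ncard = 176 := by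
    refine (ncard_family _ _ (fun o ho => odd_point ho.1 ho.2.1 (fun h => by simpa using ho.2.2.2 h))
      fun o _ o' _ h => two_inj o o' (funext fun p => by have := congrFun h p; simpa using this)).trans ?_
    rw [ncard_octSel, List.toFinset_card_of_nodup n2, l2]
  have fin : ∀ {S : Set leechLattice} {n : ℕ}, S.ncard = n + 1 → S.Finite :=
    fun h => Set.finite_of_ncard_ne_zero (by omega)
  have dAC : Disjoint classA classC := Set.disjoint_left.2 fun x ⟨j, _, e⟩ ⟨o, ho, e'⟩ => by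
    have := (e none).symm.trans (e' none)
    rw [fourVal, twoVal, if_pos rfl, if_pos ho.2.1] at this
    split_ifs at this <;> omega
  refine ⟨hA, hC, hD, ?_⟩
  rw [Set.ncard_union_eq dAC (fin hA) (fin hC), hA, hC]

theorem ncard_pts : {x : leechLattice | IsPt x}.ncard = 275 := by
  obtain ⟨hA, hC, hD, hAC⟩ := class_sizes
  have fin : ∀ {S : Set leechLattice} {n : ℕ}, S.ncard = n + 1 → S.Finite :=
    fun h => Set.finite_of_ncard_ne_zero (by omega)
  have dD : Disjoint (classA ∪ classC) classD := Set.disjoint_left.2 fun x hx ⟨o, ho, e'⟩ => by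
    have h1 := e' (some 0)
    rw [U0_val, if_neg (by simp), twoVal, if_neg (fun h => by simpa using ho.2.2.2 h)] at h1
    rcases hx with ⟨j, _, e⟩ | ⟨o', _, e⟩
    · rw [e, fourVal] at h1; split_ifs at h1 <;> omega
    · rw [e, twoVal] at h1; split_ifs at h1 <;> omega
  rw [pt_eq, Set.ncard_union_eq dD (fin hAC) (fin hD), hAC, hD]

/-! ### Transitivity -/

/-- The monomial maps fixing the frame. -/
theorem perm_frame {σ : Equiv.Perm GolayPt} (hσ : σ ∈ M24) (hn : σ none = none) (h0 : σ (some 0) = some 0) :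
    perm hσ • U0 = U0 ∧ perm hσ • vStd = vStd ∧ ∀ (x : leechLattice) p, (perm hσ • x).1 p = x.1 (σ.symm p) := by
  have app : ∀ (x : leechLattice) p, (perm hσ • x).1 p = x.1 (σ.symm p) := fun x p => by
    show signedPerm σ ∅ x.1 p = _
    simp [signedPerm]
  have sn : ∀ p, σ.symm p = none ↔ p = none := fun p => by rw [Equiv.symm_apply_eq, hn]
  have s0 : ∀ p, σ.symm p = some 0 ↔ p = some 0 := fun p => by rw [Equiv.symm_apply_eq, h0]
  refine ⟨Subtype.ext (funext fun p => ?_), Subtype.ext (funext fun p => ?_), app⟩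
  · rw [app, U0_val, U0_val]
    simp only [sn]
  · rw [app]
    show vecOf repPair (σ.symm p) = vecOf repPair p
    rw [repPair_eq, repPair_eq]
    simp only [sn, s0]

theorem perm_two {σ : Equiv.Perm GolayPt} {o : Finset GolayPt} (p : GolayPt) :
    twoVal o (σ.symm p) = twoVal (σ • o) p := by
  simp only [twoVal, mem_smul_iff]

theorem map_pair_octad {o o' : Finset GolayPt} (ho : o ∈ octads) (ho' : o' ∈ octads)
    (hn : (none : GolayPt) ∈ o) (h0 : some 0 ∈ o) (hn' : (none : GolayPt) ∈ o') (h0' : some 0 ∈ o') :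
    ∃ σ, σ ∈ M24 ∧ σ • o = o' ∧ σ none = none ∧ σ (some 0) = some 0 := by
  have tup : ∀ u : Finset GolayPt, u ∈ octads → none ∈ u → some 0 ∈ u →
      ∃ f : Fin 5 → GolayPt, Function.Injective f ∧ f 0 = none ∧ f 1 = some 0 ∧ ∀ i, f i ∈ u := fun u hu hun hu0 => by
    have hc : 3 ≤ (u \ {none, some 0}).card := by
      have := Finset.le_card_sdiff ({none, some 0} : Finset GolayPt) u
      rw [card_of_mem_octads hu, Finset.card_pair (by simp)] at this
      omega
    obtain ⟨t, ht, ht3⟩ := Finset.exists_subset_card_eq hc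
    let e := (t.equivFinOfCardEq ht3).symm
    refine ⟨![none, some 0, (e 0).1, (e 1).1, (e 2).1], ?_, rfl, rfl, ?_⟩
    · have hne : ∀ i, (e i).1 ≠ none ∧ (e i).1 ≠ some 0 := fun i => by
        have := (Finset.mem_sdiff.1 (ht (e i).2)).2
        simpa using this
      have hij : ∀ i j, (e i).1 = (e j).1 ↔ i = j := fun i j => by rw [← Subtype.ext_iff, e.injective.eq_iff]
      intro a b h
      fin_cases a <;> fin_cases b <;> simp_all [eq_comm]
    · intro i
      fin_cases i
      exacts [hun, hu0, (Finset.mem_sdiff.1 (ht (e 0).2)).1, (Finset.mem_sdiff.1 (ht (e 1).2)).1,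
        (Finset.mem_sdiff.1 (ht (e 2).2)).1]
  obtain ⟨f, hf, f0, f1, fu⟩ := tup o ho hn h0
  obtain ⟨f', hf', f0', f1', fu'⟩ := tup o' ho' hn' h0'
  obtain ⟨σ, hσ, e⟩ := exists_map_tuple (n := 5) le_rfl f f' hf hf'
  refine ⟨σ, hσ, octad_unique (smul_mem_octads hσ ho) ho' (s := Finset.univ.image f') ?_ ?_ ?_, ?_, ?_⟩
  · rw [Finset.card_image_of_injective _ hf', Finset.card_univ, Fintype.card_fin]
  · intro p hp
    obtain ⟨i, -, rfl⟩ := Finset.mem_image.1 hp
    rw [← e i]
    exact Finset.smul_mem_smul_finset (a := σ) (fu i)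
  · intro p hp
    obtain ⟨i, -, rfl⟩ := Finset.mem_image.1 hp
    exact fu' i
  · have := e 0; rwa [f0, f0'] at this
  · have := e 1; rwa [f1, f1'] at this

/-- The frame stabiliser. -/
def K : Subgroup Co0 := MulAction.stabilizer Co0 U0 ⊓ MulAction.stabilizer Co0 vStd

theorem perm_mem {σ : Equiv.Perm GolayPt} (hσ : σ ∈ M24) (hn : σ none = none) (h0 : σ (some 0) = some 0) :
    perm hσ ∈ K := ⟨(perm_frame hσ hn h0).1, (perm_frame hσ hn h0).2.1⟩

theorem trans_A {x x' : leechLattice} (h : x ∈ classA) (h' : x' ∈ classA) : ∃ g ∈ K, g • x = x' := by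
  obtain ⟨j, hj, e⟩ := h
  obtain ⟨j', hj', e'⟩ := h'
  simp only [Finset.mem_coe, Finset.mem_sdiff, Finset.mem_univ, true_and, Finset.mem_insert,
    Finset.mem_singleton, not_or] at hj hj'
  have hnn : (none : GolayPt) ≠ some 0 := by simp
  obtain ⟨σ, hσ, t⟩ := exists_map_tuple (n := 3) (by omega) ![none, some 0, j] ![none, some 0, j']
    (inj3 hnn (Ne.symm hj.1) (Ne.symm hj.2)) (inj3 hnn (Ne.symm hj'.1) (Ne.symm hj'.2))
  refine ⟨_, perm_mem hσ (t 0) (t 1), Subtype.ext (funext fun p => ?_)⟩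
  rw [(perm_frame hσ (t 0) (t 1)).2.2, e, e', fourVal, fourVal]
  have sn : σ.symm p = none ↔ p = none := by rw [Equiv.symm_apply_eq, show σ none = none from t 0]
  have sj : σ.symm p = j ↔ p = j' := by rw [Equiv.symm_apply_eq, show σ j = j' from t 2]
  simp only [sn, sj]

theorem trans_C {x x' : leechLattice} (h : x ∈ classC) (h' : x' ∈ classC) : ∃ g ∈ K, g • x = x' := by
  obtain ⟨o, ⟨ho, hn, h0⟩, e⟩ := h
  obtain ⟨o', ⟨ho', hn', h0'⟩, e'⟩ := h'
  obtain ⟨σ, hσ, eo, tn, t0⟩ := map_pair_octad ho ho' hn (h0.1 rfl) hn' (h0'.1 rfl)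
  refine ⟨_, perm_mem hσ tn t0, Subtype.ext (funext fun p => ?_)⟩
  rw [(perm_frame hσ tn t0).2.2, e, e', perm_two, eo]

theorem trans_D {x x' : leechLattice} (h : x ∈ classD) (h' : x' ∈ classD) : ∃ g ∈ K, g • x = x' := by
  obtain ⟨o, ⟨ho, hn, h0⟩, e⟩ := h
  obtain ⟨o', ⟨ho', hn', h0'⟩, e'⟩ := h'
  have out : (some 0 : GolayPt) ∉ o := fun h => by simpa using h0.2 h
  have out' : (some 0 : GolayPt) ∉ o' := fun h => by simpa using h0'.2 h
  obtain ⟨a, ha, ea, a1, a2⟩ := map_octad_in_out ho hn out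
  obtain ⟨b, hb, eb, b1, b2⟩ := map_octad_in_out ho' hn' out'
  have tn : (b * a⁻¹) none = none := by
    rw [Equiv.Perm.mul_apply, Equiv.Perm.inv_eq_iff_eq.2 a1.symm, b1]
  have t0 : (b * a⁻¹) (some 0) = some 0 := by
    rw [Equiv.Perm.mul_apply, Equiv.Perm.inv_eq_iff_eq.2 a2.symm, b2]
  refine ⟨_, perm_mem (mul_mem hb (inv_mem ha)) tn t0, Subtype.ext (funext fun p => ?_)⟩
  obtain ⟨f1, -, f3⟩ := perm_frame (mul_mem hb (inv_mem ha)) tn t0
  have hU := congrArg (fun v : leechLattice => v.1 p) f1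
  simp only [f3] at hU
  rw [f3, e, e', hU, perm_two, mul_smul, ← ea, inv_smul_smul, eb]

theorem fuse_ok : wordOk fuseWord = true ∧ runWord fuseWord uList = uList ∧ runWord fuseWord repPair = repPair ∧
    inLeech (vecOf ptX1) = true ∧ inLeech (vecOf ptX2) = true ∧
    runWord fuseWord ptX1 = ptY1 ∧ runWord fuseWord ptX2 = ptY2 ∧
    (∀ p, vecOf ptX1 p = fourVal (ptN 14) p) ∧ (∀ p, vecOf ptX2 p = fourVal (ptN 1) p) ∧
    (∀ p, vecOf ptY1 p = twoVal (toSet (suppMask ptY1)) p) ∧
    (∀ p, vecOf ptY2 p = vecOf uList p - twoVal (toSet (suppMask ((List.range 24).map fun i =>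
      uList.getD i 0 - ptY2.getD i 0))) p) := by decide +kernel

theorem fuse : (∃ x ∈ classA, ∃ y ∈ classC, ∃ g ∈ K, g • x = y) ∧ ∃ x ∈ classA, ∃ y ∈ classD, ∃ g ∈ K, g • x = y := by
  obtain ⟨hw, hu, hv, m1, m2, r1, r2, a1, a2, c1, d2⟩ := fuse_ok
  obtain ⟨E, hE⟩ := word_elt hw
  have hK : E ∈ K := ⟨MulAction.mem_stabilizer_iff.2 (Subtype.ext ((hE _ U0.2).trans (by rw [hu]; rfl))),
    MulAction.mem_stabilizer_iff.2 (Subtype.ext ((hE _ repPair_mem).trans (by rw [hv]; rfl)))⟩
  let x1 : leechLattice := ⟨_, inLeech_spec m1⟩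
  let x2 : leechLattice := ⟨_, inLeech_spec m2⟩
  have hA1 : x1 ∈ classA := ⟨ptN 14, by decide +kernel, a1⟩
  have hA2 : x2 ∈ classA := ⟨ptN 1, by decide +kernel, a2⟩
  have hpt : ∀ {x : leechLattice}, x ∈ classA → IsPt (E • x) := fun {x} hx => by
    have hx' : IsPt x := by
      have : x ∈ {x : leechLattice | IsPt x} := by rw [pt_eq]; exact Or.inl (Or.inl hx)
      exact this
    refine ⟨(norm_smul E x).trans hx'.1, ?_, ?_⟩
    · rw [← show E • U0 = U0 from hK.1, dot_smul]; exact hx'.2.1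
    · have h4 : dotInt vStd.1 x.1 = 16 := by
        rw [show vStd.1 = vecOf repPair from rfl, dot_repPair]; have := hx'.2.2; omega
      have : dotInt vStd.1 (E • x).1 = 16 := by rw [← show E • vStd = vStd from hK.2, dot_smul]; exact h4
      rw [show vStd.1 = vecOf repPair from rfl, dot_repPair] at this
      omega
  constructor
  · refine ⟨x1, hA1, E • x1, ?_, E, hK, rfl⟩
    have e : ∀ p, (E • x1).1 p = twoVal (toSet (suppMask ptY1)) p := fun p => by rw [hE _ x1.2, r1, c1]
    rcases classify (hpt hA1) with ⟨j, hj, -, h⟩ | ⟨o, ho, h1, h2, h⟩ | ⟨o, ho, h1, h2, h⟩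
    · exfalso
      have := (h j).symm.trans (e j)
      rw [fourVal, if_neg hj, if_pos rfl, twoVal] at this
      split_ifs at this <;> omega
    · exact ⟨o, ⟨ho, h1, iff_of_true rfl h2⟩, h⟩
    · exfalso
      have := (h (some 0)).symm.trans (e (some 0))
      rw [U0_val, if_neg (by simp), twoVal, if_neg h2, twoVal] at this
      split_ifs at this <;> omega
  · refine ⟨x2, hA2, E • x2, ?_, E, hK, rfl⟩
    have e : (E • x2).1 (ptN 1) % 2 = 1 := by rw [hE _ x2.2, r2]; decide +kernel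
    rcases classify (hpt hA2) with ⟨j, hj, -, h⟩ | ⟨o, ho, h1, h2, h⟩ | ⟨o, ho, h1, h2, h⟩
    · exfalso; rw [h, fourVal] at e; split_ifs at e <;> omega
    · exfalso; rw [h, twoVal] at e; split_ifs at e <;> omega
    · exact ⟨o, ⟨ho, h1, iff_of_false (by decide) h2⟩, h⟩

theorem transitive_pts {x x' : leechLattice} (h : IsPt x) (h' : IsPt x') : ∃ g ∈ K, g • x = x' := by
  obtain ⟨⟨a, ha, c, hc, g, hg, eg⟩, ⟨b, hb, d, hd, k, hk, ek⟩⟩ := fuse
  have key : ∀ {y : leechLattice}, IsPt y → ∃ g ∈ K, g • a = y := by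
    intro y hy
    have hy' : y ∈ classA ∪ classC ∪ classD := pt_eq ▸ hy
    rcases hy' with (h1 | h1) | h1
    · exact trans_A ha h1
    · obtain ⟨t, ht, et⟩ := trans_C hc h1
      exact ⟨t * g, mul_mem ht hg, by rw [mul_smul, eg, et]⟩
    · obtain ⟨s, hs, es⟩ := trans_A ha hb
      obtain ⟨t, ht, et⟩ := trans_D hd h1
      exact ⟨t * k * s, mul_mem (mul_mem ht hk) hs, by rw [mul_smul, mul_smul, es, ek, et]⟩
  obtain ⟨g1, h1, e1⟩ := key h
  obtain ⟨g2, h2, e2⟩ := key h'
  exact ⟨g2 * g1⁻¹, mul_mem h2 (inv_mem h1), by rw [mul_smul, ← e1, inv_smul_smul, e2]⟩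

/-- The configuration for an arbitrary frame. -/
theorem config {u v : leechLattice} (hu : sqNorm u.1 = 48) (hv : sqNorm v.1 = 32 ∧ sqNorm (u.1 - v.1) = 32) :
    ∃ g : Co0, g • u = U0 ∧ g • v = vStd ∧ ∀ x : leechLattice,
      (sqNorm x.1 = 32 ∧ sqNorm (u.1 - x.1) = 32 ∧ dotInt v.1 x.1 = 16) ↔ IsPt (g • x) := by
  obtain ⟨g, g1, g2⟩ := transitive_summand hu hv (u' := U0) (v' := vStd) uList_ok.2.1 ⟨HS.norm_X0, by
    show sqNorm (vecOf uList - vecOf repPair) = 32
    decide +kernel⟩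
  refine ⟨g, g1, g2, fun x => ?_⟩
  unfold IsPt
  rw [norm_smul, ← g1, dot_smul, ← mul_right_inj' (show (4 : ℤ) ≠ 0 by norm_num) (c := 4), mul_add,
    ← dot_repPair, show vecOf repPair = vStd.1 from rfl, ← g2, dot_smul, sqNorm_sub]
  constructor
  · rintro ⟨a, b, c⟩; exact ⟨a, by omega, by omega⟩
  · rintro ⟨a, b, c⟩; exact ⟨a, by omega, by omega⟩

end CfsgLib.Leech.McL
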