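/-
Orders of the stabilisers of one vector and of a decomposed vector.
-/
import Cfsg.Agent.Leech.Order
import Cfsg.Agent.Leech.Decomp
import Cfsg.Agent.Leech.McLPoints

set_option autoImplicit false

namespace CfsgLib.Leech

open Cfsg CfsgLib.Golay MulAction

theorem ncard_vectors (P : (GolayPt → ℤ) → Prop) :
    {v : leechLattice | P v.1}.ncard = {x : GolayPt → ℤ | x ∈ leechLattice ∧ P x}.ncard := by
  rw [← Set.ncard_image_of_injective _ Subtype.val_injective]
  refine congrArg Set.ncard (Set.ext fun x => ⟨?_, fun h => ⟨⟨x, h.1⟩, h.2, rfl⟩⟩)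
  rintro ⟨y, hy, rfl⟩
  exact ⟨y.2, hy⟩

theorem card_stab32 {v : leechLattice} (hv : sqNorm v.1 = 32) : Nat.card (stabilizer Co0 v) = 42305421312000 := by
  have h := (stabilizer Co0 v).card_mul_index
  rw [index_stabilizer, show orbit Co0 v = {w : leechLattice | sqNorm w.1 = 32} from Set.ext fun w =>
    ⟨fun ⟨g, e⟩ => by rw [← e]; exact (norm_smul g v).trans hv, fun hw => by
      obtain ⟨g, e⟩ := transitive32 (v := v) (w := w) hv hw; exact ⟨g, e⟩⟩,
    ncard_vectors (fun x => sqNorm x = 32), ncard_32.1, card_Co0] at h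
  omega

theorem card_stab48 {v : leechLattice} (hv : sqNorm v.1 = 48) : Nat.card (stabilizer Co0 v) = 495766656000 := by
  have h := (stabilizer Co0 v).card_mul_index
  rw [index_stabilizer, show orbit Co0 v = {w : leechLattice | sqNorm w.1 = 48} from Set.ext fun w =>
    ⟨fun ⟨g, e⟩ => by rw [← e]; exact (norm_smul g v).trans hv, fun hw => by
      obtain ⟨g, e⟩ := transitive48 (v := v) (w := w) hv hw; exact ⟨g, e⟩⟩,
    ncard_vectors (fun x => sqNorm x = 48), ncard_48.1, card_Co0] at h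
  omega

theorem orbit_summand {u v : leechLattice} (hu : sqNorm u.1 = 48) (hv : sqNorm v.1 = 32 ∧ sqNorm (u.1 - v.1) = 32) :
    orbit (stabilizer Co0 u) v = {x : leechLattice | sqNorm x.1 = 32 ∧ sqNorm (u.1 - x.1) = 32} := by
  ext x
  constructor
  · rintro ⟨⟨g, hg⟩, rfl⟩
    refine ⟨(norm_smul g v).trans hv.1, ?_⟩
    show sqNorm (u.1 - (g • v).1) = 32
    rw [← AddSubgroup.coe_sub, ← show g • u = u from hg, ← smul_sub', norm_smul, AddSubgroup.coe_sub]
    exact hv.2
  · intro hx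
    obtain ⟨g, g1, g2⟩ := transitive_summand hu hv hu hx
    exact ⟨⟨g, g1⟩, g2⟩

theorem card_stab_pair {u v : leechLattice} (hu : sqNorm u.1 = 48) (hv : sqNorm v.1 = 32 ∧ sqNorm (u.1 - v.1) = 32) :
    Nat.card ↥(stabilizer Co0 u ⊓ stabilizer Co0 v) = 898128000 := by
  have h := card_eq_mul_of_orbit (stabilizer Co0 u) v _ (orbit_summand hu hv)
  rw [card_stab48 hu, ncard_vectors (fun x => sqNorm x = 32 ∧ sqNorm (u.1 - x) = 32),
    show {x : GolayPt → ℤ | x ∈ leechLattice ∧ sqNorm x = 32 ∧ sqNorm (u.1 - x) = 32} = summands u.1 from rfl,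
    summands_count u.2 hu] at h
  omega

end CfsgLib.Leech
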