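/-
The McLaughlin group: order and simplicity.
-/
import Cfsg.Agent.Leech.StabOrder
import Cfsg.Agent.Leech.HS
import Cfsg.Agent.Golay.Norm

set_option autoImplicit false

namespace CfsgLib.Leech.McL

open Cfsg CfsgLib.Golay MulAction
open scoped Pointwise

theorem card_K : Nat.card K = 898128000 :=
  card_stab_pair uList_ok.2.1 ⟨HS.norm_X0, by
    show sqNorm (vecOf uList - vecOf repPair) = 32
    decide +kernel⟩

theorem finite_K : Finite K := Nat.finite_of_card_ne_zero (by rw [card_K]; omega)

theorem pt_smul {g : Co0} (hg : g ∈ K) {x : leechLattice} (hx : IsPt x) : IsPt (g • x) := by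
  refine ⟨(norm_smul g x).trans hx.1, ?_, ?_⟩
  · rw [← show g • U0 = U0 from hg.1, dot_smul]; exact hx.2.1
  · have h4 : dotInt vStd.1 x.1 = 16 := by
      rw [show vStd.1 = vecOf repPair from rfl, dot_repPair]; have := hx.2.2; omega
    have : dotInt vStd.1 (g • x).1 = 16 := by rw [← show g • vStd = vStd from hg.2, dot_smul]; exact h4
    rw [show vStd.1 = vecOf repPair from rfl, dot_repPair] at this
    omega

theorem orbit_K {x : leechLattice} (hx : IsPt x) : orbit K x = {y : leechLattice | IsPt y} := by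
  ext y
  constructor
  · rintro ⟨⟨g, hg⟩, rfl⟩; exact pt_smul hg hx
  · intro hy
    obtain ⟨g, hg, e⟩ := transitive_pts hx hy
    exact ⟨⟨g, hg⟩, e⟩

/-! ### The monomial part -/

theorem perm_apply {σ : Equiv.Perm GolayPt} (hσ : σ ∈ M24) (x : leechLattice) (p : GolayPt) :
    (perm hσ • x).1 p = x.1 (σ.symm p) := by
  show signedPerm σ ∅ x.1 p = _
  simp [signedPerm]

theorem perm_mul {σ τ : Equiv.Perm GolayPt} (hσ : σ ∈ M24) (hτ : τ ∈ M24) :
    perm (mul_mem hσ hτ) = perm hσ * perm hτ := by
  rw [perm, perm, perm, mono_mul]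
  exact mono_congr rfl (by simp)

/-- The monomial elements of the frame stabiliser. -/
def permHom : fixGroup [2 ^ 23, 2 ^ 0] →* K :=
  MonoidHom.mk' (fun σ => ⟨perm (Simple.mem_K22.1 σ.2).1,
      perm_mem (Simple.mem_K22.1 σ.2).1 (Simple.mem_K22.1 σ.2).2.1 (Simple.mem_K22.1 σ.2).2.2⟩)
    fun σ τ => Subtype.ext (perm_mul (Simple.mem_K22.1 σ.2).1 (Simple.mem_K22.1 τ.2).1)

theorem permHom_injective : Function.Injective permHom := fun σ τ h =>
  Subtype.ext (HS.mono_perm_inj (hc := empty_mem) (hd := empty_mem)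
    (congrArg (fun k : K => (k : Co0)) h : perm (Simple.mem_K22.1 σ.2).1 = perm (Simple.mem_K22.1 τ.2).1))

/-- An element of the frame stabiliser fixing the first cross vector is monomial. -/
theorem mem_range_permHom {g : K} (h : (g : Co0) • eight none = eight none) : g ∈ permHom.range := by
  obtain ⟨g, hg⟩ := g
  have e0 : eight (some 0) = 2 • vStd - eight none := Subtype.ext (funext fun p => by
    show (Pi.single (some 0) 8 : GolayPt → ℤ) p = 2 • vecOf repPair p - (Pi.single none 8 : GolayPt → ℤ) p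
    rw [Pi.single_apply, Pi.single_apply, repPair_eq]
    rcases eq_or_ne p none with rfl | hp
    · simp
    · by_cases h : p = some 0 <;> simp [hp, h])
  have h0 : g • eight (some 0) = eight (some 0) := by
    rw [e0, two_nsmul, smul_sub', smul_add', show g • vStd = vStd from hg.2, show g • eight none = eight none from h]
  obtain ⟨σ, hσ, c, hc, rfl⟩ := exists_mono
    (mem_crossStab_of_eight (i := none) (by rw [show g • eight none = eight none from h]; exact eight_mem_cross none))
  have hc0 : c = ∅ := Finset.eq_empty_of_forall_notMem fun p hp => by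
    have := congrArg (fun v : leechLattice => v.1 p) (show mono hσ hc • U0 = U0 from hg.1)
    have e : (mono hσ hc • U0).1 p = -U0.1 (σ.symm p) := by
      show signedPerm σ c U0.1 p = _
      simp [signedPerm, hp]
    simp only [e, U0_val] at this
    split_ifs at this <;> omega
  refine ⟨⟨σ, Simple.mem_K22.2 ⟨hσ, (HS.mono_fix_eight h).1, (HS.mono_fix_eight h0).1⟩⟩, Subtype.ext ?_⟩
  subst hc0
  rfl

/-! ### Faithfulness -/

theorem eq_one_of_fix {g : K} (h : ∀ x : leechLattice, IsPt x → (g : Co0) • x = x) : g = 1 := by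
  let R : Finset GolayPt := Finset.univ \ {none, some 0}
  have hR : ∀ j, j ∈ R ↔ j ≠ none ∧ j ≠ some 0 := fun j => by simp [R]
  have hA : ∀ j ∈ R, ∃ x : leechLattice, (g : Co0) • x = x ∧ ∀ p, x.1 p = fourVal j p := fun j hj => by
    obtain ⟨x, hx, e⟩ := four_point ((hR j).1 hj).1 ((hR j).1 hj).2
    exact ⟨x, h x hx, e⟩
  choose f hf1 hf2 using hA
  let a : leechLattice := ∑ j ∈ R.attach, f j.1 j.2
  have fix_a : (g : Co0) • a = a := by
    rw [show (g : Co0) • a = hom (g : Co0) a from rfl, map_sum]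
    exact Finset.sum_congr rfl fun j _ => hf1 j.1 j.2
  have ha : ∀ p, a.1 p = if p = none then 88 else if p = some 0 then 0 else 4 := fun p => by
    show ((∑ j ∈ R.attach, f j.1 j.2 : leechLattice) : GolayPt → ℤ) p = _
    rw [AddSubgroup.val_finset_sum, Finset.sum_apply, Finset.sum_congr rfl (g := fun j => fourVal j.1 p)
      fun j _ => hf2 j.1 j.2 p, Finset.sum_attach R (fun j => fourVal j p)]
    simp only [fourVal, Finset.sum_add_distrib, Finset.sum_const, Finset.sum_ite_eq]
    have hc : R.card = 22 := octSel_ok.2.2.2.2.2.1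
    rw [hc]
    rcases eq_or_ne p none with rfl | hp
    · simp [R]
    rcases eq_or_ne p (some 0) with rfl | hp'
    · simp [R]
    · simp [R, hp, hp']
  have e9 : (9 : ℕ) • eight none = a + vStd - (4 : ℕ) • U0 := Subtype.ext (funext fun p => by
    show 9 • (Pi.single none 8 : GolayPt → ℤ) p = a.1 p + vecOf repPair p - 4 • U0.1 p
    rw [ha, repPair_eq, U0_val, Pi.single_apply]
    rcases eq_or_ne p none with rfl | hp
    · simp
    · by_cases h : p = some 0 <;> simp [hp, h])
  have fix9 : (g : Co0) • eight none = eight none := by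
    have h9 : (g : Co0) • ((9 : ℕ) • eight none) = (9 : ℕ) • eight none := by
      rw [e9, smul_sub', smul_add', fix_a, show (g : Co0) • vStd = vStd from g.2.2]
      rw [show (g : Co0) • ((4 : ℕ) • U0) = hom (g : Co0) ((4 : ℕ) • U0) from rfl, map_nsmul,
        show hom (g : Co0) U0 = U0 from g.2.1]
    rw [show (g : Co0) • ((9 : ℕ) • eight none) = hom (g : Co0) ((9 : ℕ) • eight none) from rfl, map_nsmul] at h9
    refine Subtype.ext (funext fun p => ?_)
    have := congrArg (fun v : leechLattice => v.1 p) h9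
    simp only [AddSubgroup.coe_nsmul, Pi.smul_apply, nsmul_eq_mul] at this
    exact mul_left_cancel₀ (by norm_num) this
  obtain ⟨σ, rfl⟩ := mem_range_permHom fix9
  suffices σ = 1 by rw [this, map_one]
  obtain ⟨hσ, hn, h0⟩ := Simple.mem_K22.1 σ.2
  refine Subtype.ext (Equiv.ext fun j => ?_)
  show σ.1 j = j
  rcases eq_or_ne j none with rfl | hj
  · exact hn
  rcases eq_or_ne j (some 0) with rfl | hj'
  · exact h0
  by_contra hne
  have := congrArg (fun v : leechLattice => v.1 (σ.1 j)) (hf1 j ((hR j).2 ⟨hj, hj'⟩))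
  rw [show ((permHom σ : K) : Co0) = perm hσ from rfl] at this
  simp only [perm_apply, Equiv.symm_apply_apply, hf2, fourVal, if_neg hne, if_true] at this
  rw [if_neg hj, if_neg (fun e => hj (σ.1.injective (e.trans hn.symm)))] at this
  omega

/-! ### Divisibility by eleven -/

/-- The part of a point's support description that is permuted. -/
def tag (o : Finset GolayPt) (j : GolayPt) : Finset GolayPt := o \ {none, some 0, j}

theorem orbit_five {S : Finset (Finset GolayPt)} {j : GolayPt} (hj : j ≠ none) (hj' : j ≠ some 0)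
    {o : Finset GolayPt} (ho : o ∈ S) (hS : ∀ u ∈ S, u.card = 8)
    (hinv : ∀ σ, σ ∈ M24 → σ none = none → σ (some 0) = some 0 → σ j = j → ∀ u ∈ S, σ • u ∈ S) :
    5 ≤ S.card := by
  by_contra hlt
  let T : Finset GolayPt := Finset.univ \ {none, some 0, j}
  have h3 : ({none, some 0, j} : Finset GolayPt).card = 3 := Finset.card_eq_three.2
    ⟨none, some 0, j, by simp, Ne.symm hj, Ne.symm hj', rfl⟩
  have hT : T.card = 21 := by
    rw [Finset.card_sdiff_of_subset (Finset.subset_univ _), Finset.card_univ, card_pt, h3]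
  obtain ⟨p, hp, p', hp', hpp⟩ := Finset.one_lt_card.1 (show 1 < (tag o j).card by
    have := Finset.le_card_sdiff ({none, some 0, j} : Finset GolayPt) o
    rw [hS o ho, h3] at this
    unfold tag
    omega)
  unfold tag at hp hp'
  simp only [Finset.mem_sdiff, Finset.mem_insert, Finset.mem_singleton, not_or] at hp hp'
  have hcov : T.powersetCard 2 ⊆ S.biUnion fun u => u.powersetCard 2 := by
    intro t ht
    rw [Finset.mem_powersetCard] at ht
    obtain ⟨q, q', hqq, rfl⟩ := Finset.card_eq_two.1 ht.2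
    have hq := ht.1 (Finset.mem_insert_self _ _)
    have hq' := ht.1 (Finset.mem_insert_of_mem (Finset.mem_singleton_self _))
    simp only [T, Finset.mem_sdiff, Finset.mem_univ, true_and, Finset.mem_insert, Finset.mem_singleton, not_or] at hq hq'
    obtain ⟨σ, hσ, e⟩ := exists_map_tuple (n := 5) le_rfl ![none, some 0, j, p, p'] ![none, some 0, j, q, q']
      (by intro a b h; fin_cases a <;> fin_cases b <;> simp_all [eq_comm])
      (by intro a b h; fin_cases a <;> fin_cases b <;> simp_all [eq_comm])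
    refine Finset.mem_biUnion.2 ⟨σ • o, hinv σ hσ (e 0) (e 1) (e 2) o ho, Finset.mem_powersetCard.2 ⟨?_, ht.2⟩⟩
    intro r hr
    simp only [Finset.mem_insert, Finset.mem_singleton] at hr
    rcases hr with rfl | rfl
    · exact (show σ p = r from e 3) ▸ Finset.smul_mem_smul_finset hp.1
    · exact (show σ p' = r from e 4) ▸ Finset.smul_mem_smul_finset hp'.1
  have h := (Finset.card_le_card hcov).trans Finset.card_biUnion_le
  rw [Finset.card_powersetCard, hT,
    Finset.sum_congr rfl fun u hu => by rw [Finset.card_powersetCard, hS u hu], Finset.sum_const, smul_eq_mul,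
    show Nat.choose 21 2 = 210 by decide +kernel, show Nat.choose 8 2 = 28 by decide +kernel] at h
  omega

theorem inj4 {α : Type*} {a b c d : α} (h1 : a ≠ b) (h2 : a ≠ c) (h3 : a ≠ d) (h4 : b ≠ c) (h5 : b ≠ d) (h6 : c ≠ d) :
    Function.Injective ![a, b, c, d] := by
  intro i j h
  fin_cases i <;> fin_cases j <;> first
    | rfl
    | exact absurd h h1 | exact absurd h h2 | exact absurd h h3 | exact absurd h h4 | exact absurd h h5
    | exact absurd h h6 | exact absurd h.symm h1 | exact absurd h.symm h2 | exact absurd h.symm h3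
    | exact absurd h.symm h4 | exact absurd h.symm h5 | exact absurd h.symm h6

theorem eleven_dvd (N : Subgroup K) (hN : N.Normal) (hne : N ≠ ⊥) : 11 ∣ Nat.card N := by
  haveI := finite_K
  have hfin : {x : leechLattice | IsPt x}.Finite := Set.finite_of_ncard_ne_zero (by rw [ncard_pts]; omega)
  let O : leechLattice → Set leechLattice := fun x => orbit N x
  have hOsub : ∀ {x}, IsPt x → O x ⊆ {x : leechLattice | IsPt x} := fun hx => by
    rintro _ ⟨n, rfl⟩; exact pt_smul n.1.2 hx
  have hOmap : ∀ (g : K) (x : leechLattice), O ((g : Co0) • x) = (fun y => (g : Co0) • y) '' O x := by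
    intro g x
    ext y
    constructor
    · rintro ⟨n, rfl⟩
      refine ⟨_, ⟨⟨g⁻¹ * n.1 * g, by simpa using hN.conj_mem _ n.2 g⁻¹⟩, rfl⟩, ?_⟩
      show (g : Co0) • (((g⁻¹ * n.1 * g : K) : Co0) • x) = ((n.1 : K) : Co0) • (g : Co0) • x
      simp only [Subgroup.coe_mul, Subgroup.coe_inv, mul_smul, smul_inv_smul]
    · rintro ⟨_, ⟨n, rfl⟩, rfl⟩
      refine ⟨⟨g * n.1 * g⁻¹, hN.conj_mem _ n.2 g⟩, ?_⟩
      show (((g * n.1 * g⁻¹ : K) : Co0)) • (g : Co0) • x = (g : Co0) • ((n.1 : K) : Co0) • x
      simp only [Subgroup.coe_mul, Subgroup.coe_inv, mul_smul, inv_smul_smul]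
  have hsize : ∀ {x y}, IsPt x → IsPt y → (O x).ncard = (O y).ncard := fun hx hy => by
    obtain ⟨g, hg, rfl⟩ := transitive_pts hx hy
    rw [hOmap ⟨g, hg⟩, Set.ncard_image_of_injective _ (MulAction.injective g)]
  have hAex := fun (j : GolayPt) (h : j ≠ none ∧ j ≠ some 0) => four_point h.1 h.2
  choose A hA1 hA2 using hAex
  have j1 : (some 1 : GolayPt) ≠ none ∧ (some 1 : GolayPt) ≠ some 0 := by decide
  set x0 := A _ j1 with hx0
  set s := (O x0).ncard with hs
  have hsd : s ∣ Nat.card N := by
    rw [hs, show O x0 = orbit N x0 from rfl, ← index_stabilizer]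
    exact Subgroup.index_dvd_card _
  -- all orbits have size `s`, and they partition the points
  have hdvd : s ∣ 275 := by
    rw [← ncard_pts, Set.ncard_eq_toFinset_card _ hfin, Finset.card_eq_sum_ones]
    classical
    rw [← Finset.sum_fiberwise_of_maps_to (t := hfin.toFinset.image O) (fun x hx => Finset.mem_image_of_mem _ hx)]
    refine Finset.dvd_sum fun o ho => ?_
    obtain ⟨x, hx, rfl⟩ := Finset.mem_image.1 ho
    rw [Finset.sum_const, smul_eq_mul, mul_one]
    refine dvd_of_eq ?_
    rw [hs, hsize (hA1 _ j1) (hfin.mem_toFinset.1 hx),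
      Set.ncard_eq_toFinset_card _ (hfin.subset (hOsub (hfin.mem_toFinset.1 hx)))]
    refine congrArg Finset.card (Finset.ext fun y => ?_)
    simp only [Set.Finite.mem_toFinset, Finset.mem_filter]
    refine ⟨fun h => ⟨hOsub (hfin.mem_toFinset.1 hx) h, orbit_eq_iff.2 h⟩, fun h => orbit_eq_iff.1 h.2⟩
  have hs1 : s ≠ 1 := by
    intro h1
    refine hne ((Subgroup.eq_bot_iff_forall _).2 fun n hn => ?_)
    refine eq_one_of_fix fun x hx => ?_
    obtain ⟨a, ha⟩ := Set.ncard_eq_one.1 ((hsize hx (hA1 _ j1)).trans h1)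
    have m1 : (n : Co0) • x ∈ O x := ⟨⟨n, hn⟩, rfl⟩
    have m2 : x ∈ O x := mem_orbit_self x
    rw [ha, Set.mem_singleton_iff] at m1 m2
    exact m1.trans m2.symm
  by_contra h11
  have hs11 : ¬ 11 ∣ s := fun h => h11 (h.trans hsd)
  have hcases : s = 5 ∨ s = 25 := by
    have hmem : s ∈ Nat.divisors 275 := Nat.mem_divisors.2 ⟨hdvd, by norm_num⟩
    rw [show Nat.divisors 275 = {1, 5, 11, 25, 55, 275} by decide +kernel] at hmem
    simp only [Finset.mem_insert, Finset.mem_singleton] at hmem
    rcases hmem with e | e | e | e | e | e <;> rw [e] at hs1 hs11 ⊢ <;> omega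
  -- the monomial elements act on the orbits
  have hmove : ∀ {σ : Equiv.Perm GolayPt} (hσ : σ ∈ M24) (hn : σ none = none) (h0 : σ (some 0) = some 0)
      (i : GolayPt) (hi : i ≠ none ∧ i ≠ some 0) (hi' : σ i ≠ none ∧ σ i ≠ some 0),
      perm hσ • A i hi = A (σ i) hi' := by
    intro σ hσ hn h0 i hi hi'
    refine Subtype.ext (funext fun p => ?_)
    rw [perm_apply, hA2, hA2, fourVal, fourVal]
    have sn : σ.symm p = none ↔ p = none := by rw [Equiv.symm_apply_eq, hn]
    have sj : σ.symm p = i ↔ p = σ i := by rw [Equiv.symm_apply_eq]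
    simp only [sn, sj]
  by_cases hshare : ∃ i hi, i ≠ some 1 ∧ A i hi ∈ O x0
  · obtain ⟨i, hi, hi1, him⟩ := hshare
    -- then all twenty-two lie in one orbit
    have hall : ∀ k hk, A k hk ∈ O x0 := by
      intro k hk
      rcases eq_or_ne k (some 1) with rfl | hk1
      · exact mem_orbit_self x0
      obtain ⟨σ, hσ, e⟩ := exists_map_tuple (n := 4) (by omega) ![none, some 0, some 1, i] ![none, some 0, some 1, k]
        (inj4 (by simp) (Ne.symm j1.1) (Ne.symm hi.1) (Ne.symm j1.2) (Ne.symm hi.2) (Ne.symm hi1))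
        (inj4 (by simp) (Ne.symm j1.1) (Ne.symm hk.1) (Ne.symm j1.2) (Ne.symm hk.2) (Ne.symm hk1))
      have h1 : perm hσ • x0 = x0 := by
        rw [hx0, hmove hσ (e 0) (e 1) _ j1 (by rw [show σ (some 1) = some 1 from e 2]; exact j1)]
        congr 1
        exact e 2
      have h2 : perm hσ • A i hi = A k hk := by
        rw [hmove hσ (e 0) (e 1) _ hi (by rw [show σ i = k from e 3]; exact hk)]
        congr 1
        exact e 3
      have := hOmap ⟨perm hσ, perm_mem hσ (e 0) (e 1)⟩ x0
      rw [show ((⟨perm hσ, perm_mem hσ (e 0) (e 1)⟩ : K) : Co0) • x0 = x0 from h1] at this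
      rw [this]
      exact ⟨_, him, h2⟩
    have hAsub : classA ⊆ O x0 := fun y ⟨k, hk, e⟩ => by
      simp only [Finset.mem_coe, Finset.mem_sdiff, Finset.mem_univ, true_and, Finset.mem_insert,
        Finset.mem_singleton, not_or] at hk
      rw [show y = A k hk from Subtype.ext (funext fun p => by rw [e, hA2])]
      exact hall k hk
    have hstable : ∀ (g : Co0) (hg : g ∈ K), g • x0 ∈ O x0 → ∀ y ∈ O x0, g • y ∈ O x0 := fun g hg hgx y hy => by
      rw [show O x0 = O (((⟨g, hg⟩ : K) : Co0) • x0) from (orbit_eq_iff.2 hgx).symm, hOmap]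
      exact ⟨y, hy, rfl⟩
    have hperm : ∀ {σ : Equiv.Perm GolayPt} (hσ : σ ∈ M24), σ none = none → σ (some 0) = some 0 →
        ∀ y ∈ O x0, perm hσ • y ∈ O x0 := fun {σ} hσ hn h0 => by
      refine hstable _ (perm_mem hσ hn h0) ?_
      have hi' : σ (some 1) ≠ none ∧ σ (some 1) ≠ some 0 :=
        ⟨fun e => j1.1 (σ.injective (e.trans hn.symm)), fun e => j1.2 (σ.injective (e.trans h0.symm))⟩
      rw [hx0, hmove hσ hn h0 _ j1 hi']
      exact hall _ hi'
    have hlt : s < 99 := by omega
    have hC : ∀ y ∈ O x0, y ∉ classC := fun y hy hyC => by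
      have hsubC : classC ⊆ O x0 := fun z hz => by
        obtain ⟨o, ⟨ho, hn, h0⟩, e⟩ := hyC
        obtain ⟨o', ⟨ho', hn', h0'⟩, e'⟩ := hz
        obtain ⟨σ, hσ, eo, tn, t0⟩ := map_pair_octad ho ho' hn (h0.1 rfl) hn' (h0'.1 rfl)
        rw [show z = perm hσ • y from Subtype.ext (funext fun p => by rw [perm_apply, e, e', perm_two, eo])]
        exact hperm hσ tn t0 y hy
      have h := Set.ncard_le_ncard (Set.union_subset hAsub hsubC) (hfin.subset (hOsub (hA1 _ j1)))
      rw [class_sizes.2.2.2] at h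
      omega
    have hD : ∀ y ∈ O x0, y ∉ classD := fun y hy hyD => by
      have hsubD : classD ⊆ O x0 := fun z hz => by
        obtain ⟨o, ⟨ho, hn, h0⟩, e⟩ := hyD
        obtain ⟨o', ⟨ho', hn', h0'⟩, e'⟩ := hz
        have out : (some 0 : GolayPt) ∉ o := fun h => by simpa using h0.2 h
        have out' : (some 0 : GolayPt) ∉ o' := fun h => by simpa using h0'.2 h
        obtain ⟨a, ha, ea, a1, a2⟩ := map_octad_in_out ho hn out
        obtain ⟨b, hb, eb, b1, b2⟩ := map_octad_in_out ho' hn' out'
        have tn : (b * a⁻¹) none = none := by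
          rw [Equiv.Perm.mul_apply, Equiv.Perm.inv_eq_iff_eq.2 a1.symm, b1]
        have t0 : (b * a⁻¹) (some 0) = some 0 := by
          rw [Equiv.Perm.mul_apply, Equiv.Perm.inv_eq_iff_eq.2 a2.symm, b2]
        rw [show z = perm (mul_mem hb (inv_mem ha)) • y from Subtype.ext (funext fun p => by
          obtain ⟨f1, -, f3⟩ := perm_frame (mul_mem hb (inv_mem ha)) tn t0
          have hU := congrArg (fun v : leechLattice => v.1 p) f1
          simp only [f3] at hU
          rw [perm_apply, e, e', hU, perm_two, mul_smul, ← ea, inv_smul_smul, eb])]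
        exact hperm _ tn t0 y hy
      have h := Set.ncard_le_ncard hsubD (hfin.subset (hOsub (hA1 _ j1)))
      rw [class_sizes.2.2.1] at h
      omega
    have heq : O x0 = classA := Set.Subset.antisymm (fun y hy => by
      have hy' : y ∈ classA ∪ classC ∪ classD := pt_eq ▸ hOsub (hA1 _ j1) hy
      rcases hy' with (h | h) | h
      · exact h
      · exact absurd h (hC y hy)
      · exact absurd h (hD y hy)) hAsub
    have := class_sizes.1
    rw [← heq] at this
    omega
  · push Not at hshare
    have hmeet : ∀ y ∈ O x0, y ∈ classA → y = x0 := fun y hy ⟨k, hk, e⟩ => by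
      simp only [Finset.mem_coe, Finset.mem_sdiff, Finset.mem_univ, true_and, Finset.mem_insert,
        Finset.mem_singleton, not_or] at hk
      have hyA : y = A k hk := Subtype.ext (funext fun p => by rw [e, hA2])
      rcases eq_or_ne k (some 1) with rfl | hk1
      · exact hyA
      · exact absurd (hyA ▸ hy) (hshare k hk hk1)
    -- twenty-two disjoint orbits
    have hinj : ∀ {i hi k hk}, A k hk ∈ O (A i hi) → k = i := by
      intro i hi k hk hmem
      by_contra hne'
      obtain ⟨σ, hσ, e⟩ := exists_map_tuple (n := 3) (by omega) ![none, some 0, i] ![none, some 0, some 1]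
        (inj3 (by simp) (Ne.symm hi.1) (Ne.symm hi.2)) (inj3 (by simp) (Ne.symm j1.1) (Ne.symm j1.2))
      have hk' : σ k ≠ none ∧ σ k ≠ some 0 :=
        ⟨fun e' => hk.1 (σ.injective (e'.trans (e 0).symm)), fun e' => hk.2 (σ.injective (e'.trans (e 1).symm))⟩
      have h1 : perm hσ • A i hi = x0 := by
        rw [hx0, hmove hσ (e 0) (e 1) _ hi (by rw [show σ i = some 1 from e 2]; exact j1)]
        congr 1
        exact e 2
      refine hshare (σ k) hk' (fun e' => hne' (σ.injective (e'.trans (show σ i = some 1 from e 2).symm))) ?_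
      have := hOmap ⟨perm hσ, perm_mem hσ (e 0) (e 1)⟩ (A i hi)
      rw [show ((⟨perm hσ, perm_mem hσ (e 0) (e 1)⟩ : K) : Co0) • A i hi = x0 from h1] at this
      rw [this]
      exact ⟨_, hmem, hmove hσ (e 0) (e 1) k hk hk'⟩
    have h5 : s = 5 := by
      rcases hcases with e | e
      · exact e
      exfalso
      classical
      let R : Finset GolayPt := Finset.univ \ {none, some 0}
      have hR : ∀ j ∈ R, j ≠ none ∧ j ≠ some 0 := fun j hj => by simpa [R] using hj
      let F : {j // j ∈ R} → Finset leechLattice := fun j => (hfin.subset (hOsub (hA1 j.1 (hR j.1 j.2)))).toFinset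
      have hsub : R.attach.biUnion F ⊆ hfin.toFinset := fun y hy => by
        obtain ⟨j, -, hy'⟩ := Finset.mem_biUnion.1 hy
        rw [Set.Finite.mem_toFinset] at hy' ⊢
        exact hOsub (hA1 j.1 (hR j.1 j.2)) hy'
      have hdis : ((R.attach : Finset {j // j ∈ R}) : Set {j // j ∈ R}).PairwiseDisjoint F := fun i _ k _ hik => by
        refine Finset.disjoint_left.2 fun y h1 h2 => hik (Subtype.ext ?_)
        rw [Set.Finite.mem_toFinset] at h1 h2
        refine (hinj (hi := hR i.1 i.2) (hk := hR k.1 k.2) ?_).symm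
        rw [show O (A i.1 (hR i.1 i.2)) = O y from (orbit_eq_iff.2 h1).symm, show O y = O (A k.1 (hR k.1 k.2)) from orbit_eq_iff.2 h2]
        exact mem_orbit_self _
      have hcard := Finset.card_le_card hsub
      rw [Finset.card_biUnion hdis, Finset.sum_congr rfl (g := fun _ => 25) fun j _ => (by
          rw [← Set.ncard_eq_toFinset_card _ (hfin.subset (hOsub (hA1 j.1 (hR j.1 j.2)))), ← hsize (hA1 _ j1) (hA1 j.1 (hR j.1 j.2)), ← hx0, ← hs, e]),
        Finset.sum_const, Finset.card_attach, show R.card = 22 from octSel_ok.2.2.2.2.2.1,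
        ← Set.ncard_eq_toFinset_card _ hfin, ncard_pts] at hcard
      norm_num at hcard
    -- four further points fixed by the stabiliser of three
    have hstab : ∀ {σ : Equiv.Perm GolayPt} (hσ : σ ∈ M24), σ none = none → σ (some 0) = some 0 → σ (some 1) = some 1 →
        ∀ y ∈ O x0, perm hσ • y ∈ O x0 := by
      intro σ hσ hn h0 h1 y hy
      have hx : perm hσ • x0 = x0 := by
        rw [hx0, hmove hσ hn h0 _ j1 (by rw [h1]; exact j1)]
        congr 1
      have := hOmap ⟨perm hσ, perm_mem hσ hn h0⟩ x0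
      rw [show ((⟨perm hσ, perm_mem hσ hn h0⟩ : K) : Co0) • x0 = x0 from hx] at this
      rw [this]
      exact ⟨y, hy, rfl⟩
    classical
    obtain ⟨y, hy, hyne⟩ := Set.exists_ne_of_one_lt_ncard (show 1 < (O x0).ncard by rw [← hs, h5]; omega) x0
    have hOfin := hfin.subset (hOsub (hA1 _ j1))
    have hrest : (O x0 \ {x0}).ncard = 4 := by
      rw [Set.ncard_sdiff_singleton_of_mem (mem_orbit_self x0), show (orbit N x0).ncard = 5 from hs.symm.trans h5]
    have hy' : y ∈ classA ∪ classC ∪ classD := pt_eq ▸ hOsub (hA1 _ j1) hy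
    rcases hy' with (h | h) | h
    · exact hyne (hmeet y hy h)
    · let S : Finset (Finset GolayPt) := Finset.univ.filter fun u => u ∈ octads ∧ ∃ z ∈ O x0, ∀ p, z.1 p = twoVal u p
      obtain ⟨o, ⟨ho, -, -⟩, e⟩ := h
      have h5' := orbit_five (S := S) j1.1 j1.2 (o := o) (by simp only [S, Finset.mem_filter, Finset.mem_univ, true_and]; exact ⟨ho, y, hy, e⟩)
        (fun u hu => card_of_mem_octads (Finset.mem_filter.1 hu).2.1)
        (fun σ hσ hn h0 h1 u hu => by
          obtain ⟨hu', z, hz, ez⟩ := (Finset.mem_filter.1 hu).2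
          refine Finset.mem_filter.2 ⟨Finset.mem_univ _, smul_mem_octads hσ hu', _, hstab hσ hn h0 h1 z hz, fun p => ?_⟩
          rw [perm_apply, ez, perm_two])
      have hle : S.card ≤ (O x0 \ {x0}).ncard := by
        rw [← Set.ncard_coe_finset]
        have hSmem : ∀ u ∈ (S : Set (Finset GolayPt)), ∃ z ∈ O x0, ∀ p, z.1 p = twoVal u p :=
          fun u hu => (Finset.mem_filter.1 (Finset.mem_coe.1 hu)).2.2
        choose F hF1 hF2 using hSmem
        refine Set.ncard_le_ncard_of_injOn (fun u => if h : u ∈ (S : Set (Finset GolayPt)) then F u h else x0) (fun u hu => ?_) ?_ (hOfin.subset Set.sdiff_subset)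
        · rw [dif_pos hu]
          refine ⟨hF1 u hu, fun e' => ?_⟩
          have h1 := hF2 u hu none
          rw [Set.mem_singleton_iff.1 e', hx0, hA2, fourVal, twoVal, if_pos rfl] at h1
          split_ifs at h1 <;> omega
        · intro u hu u' hu' heq
          simp only [dif_pos hu, dif_pos hu'] at heq
          refine Finset.ext fun p => ?_
          have := hF2 u hu p
          rw [heq, hF2 u' hu' p, twoVal, twoVal] at this
          constructor <;> intro hp <;> by_contra hq <;> simp [hp, hq] at this <;> omega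
      omega
    · let S : Finset (Finset GolayPt) := Finset.univ.filter fun u => u ∈ octads ∧ ∃ z ∈ O x0, ∀ p, z.1 p = U0.1 p - twoVal u p
      obtain ⟨o, ⟨ho, -, -⟩, e⟩ := h
      have h5' := orbit_five (S := S) j1.1 j1.2 (o := o) (by simp only [S, Finset.mem_filter, Finset.mem_univ, true_and]; exact ⟨ho, y, hy, e⟩)
        (fun u hu => card_of_mem_octads (Finset.mem_filter.1 hu).2.1)
        (fun σ hσ hn h0 h1 u hu => by
          obtain ⟨hu', z, hz, ez⟩ := (Finset.mem_filter.1 hu).2
          refine Finset.mem_filter.2 ⟨Finset.mem_univ _, smul_mem_octads hσ hu', _, hstab hσ hn h0 h1 z hz, fun p => ?_⟩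
          have hU := congrArg (fun v : leechLattice => v.1 p) (perm_frame hσ hn h0).1
          simp only [perm_apply] at hU
          rw [perm_apply, ez, hU, perm_two])
      have hle : S.card ≤ (O x0 \ {x0}).ncard := by
        rw [← Set.ncard_coe_finset]
        have hSmem : ∀ u ∈ (S : Set (Finset GolayPt)), ∃ z ∈ O x0, ∀ p, z.1 p = U0.1 p - twoVal u p :=
          fun u hu => (Finset.mem_filter.1 (Finset.mem_coe.1 hu)).2.2
        choose F hF1 hF2 using hSmem
        refine Set.ncard_le_ncard_of_injOn (fun u => if h : u ∈ (S : Set (Finset GolayPt)) then F u h else x0) (fun u hu => ?_) ?_ (hOfin.subset Set.sdiff_subset)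
        · rw [dif_pos hu]
          refine ⟨hF1 u hu, fun e' => ?_⟩
          have h1 := hF2 u hu (some 0)
          rw [Set.mem_singleton_iff.1 e', hx0, hA2, U0_val, fourVal, twoVal] at h1
          split_ifs at h1 <;> simp_all <;> omega
        · intro u hu u' hu' heq
          simp only [dif_pos hu, dif_pos hu'] at heq
          refine Finset.ext fun p => ?_
          have := hF2 u hu p
          rw [heq, hF2 u' hu' p, twoVal, twoVal] at this
          constructor <;> intro hp <;> by_contra hq <;> simp [hp, hq] at this <;> omega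
      omega

/-! ### The Sylow subgroup of order eleven -/

/-- The eleven-cycle pair. -/
def orbSetA : Finset GolayPt := (Norm.dataM22.orbA.map ptN).toFinset

/-- The eleven-cycle pair. -/
def orbSetB : Finset GolayPt := (Norm.dataM22.orbB.map ptN).toFinset

theorem orb_ok :
    (orbSetA ∪ orbSetB = Finset.univ \ {none, some 0}) ∧ Disjoint orbSetA orbSetB ∧
    orbSetA.card = 11 ∧ orbSetB.card = 11 ∧
    (∀ k < 11, permOf (Norm.powTab Norm.dataM22 1) (ptN (Norm.dataM22.orbA.getD k 0)) = ptN (Norm.dataM22.orbA.getD ((k + 1) % 11) 0)) ∧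
    (∀ k < 11, permOf (Norm.powTab Norm.dataM22 1) (ptN (Norm.dataM22.orbB.getD k 0)) = ptN (Norm.dataM22.orbB.getD ((k + 1) % 11) 0)) ∧
    (∀ p ∈ orbSetA, ∃ k < 11, ptN (Norm.dataM22.orbA.getD k 0) = p) ∧
    (∀ p ∈ orbSetB, ∃ k < 11, ptN (Norm.dataM22.orbB.getD k 0) = p) := by decide +kernel

theorem fixed_eight {c : fixGroup [2 ^ 23, 2 ^ 0]} (hc : (c : Equiv.Perm GolayPt) = permOf (Norm.powTab Norm.dataM22 1))
    {y : leechLattice} (hfix : (permHom c : Co0) • y = y) (hn : sqNorm y.1 = 64)
    (hU : dotInt U0.1 y.1 = 40) (hv : dotInt vStd.1 y.1 = 32) : y = eight none := by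
  obtain ⟨hun, hdisj, cA, cB, sA, sB, eA, eB⟩ := orb_ok
  have hinv : ∀ p, y.1 (c.1 p) = y.1 p := fun p => by
    have := congrArg (fun v : leechLattice => v.1 (c.1 p)) hfix
    rw [show (permHom c : Co0) = perm (Simple.mem_K22.1 c.2).1 from rfl] at this
    simp only [perm_apply, Equiv.symm_apply_apply] at this
    exact this.symm
  set α := y.1 (ptN (Norm.dataM22.orbA.getD 0 0))
  set β := y.1 (ptN (Norm.dataM22.orbB.getD 0 0))
  have hA : ∀ k, k < 11 → y.1 (ptN (Norm.dataM22.orbA.getD k 0)) = α := by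
    intro k hk
    induction k with
    | zero => rfl
    | succ k ih =>
      have := hinv (ptN (Norm.dataM22.orbA.getD k 0))
      rw [hc, sA k (by omega), Nat.mod_eq_of_lt hk] at this
      rw [this, ih (by omega)]
  have hB : ∀ k, k < 11 → y.1 (ptN (Norm.dataM22.orbB.getD k 0)) = β := by
    intro k hk
    induction k with
    | zero => rfl
    | succ k ih =>
      have := hinv (ptN (Norm.dataM22.orbB.getD k 0))
      rw [hc, sB k (by omega), Nat.mod_eq_of_lt hk] at this
      rw [this, ih (by omega)]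
  have vA : ∀ p ∈ orbSetA, y.1 p = α := fun p hp => by obtain ⟨k, hk, rfl⟩ := eA p hp; exact hA k hk
  have vB : ∀ p ∈ orbSetB, y.1 p = β := fun p hp => by obtain ⟨k, hk, rfl⟩ := eB p hp; exact hB k hk
  have split : ∀ f : GolayPt → ℤ, ∑ p, f p = (∑ p ∈ orbSetA, f p + ∑ p ∈ orbSetB, f p) + (f none + f (some 0)) :=
    fun f => by
      rw [← Finset.sum_union hdisj, hun, ← Finset.sum_sdiff (Finset.subset_univ ({none, some 0} : Finset GolayPt)),
        Finset.sum_pair (by simp)]
  have hs : ∑ p, y.1 p = 11 * α + 11 * β + (y.1 none + y.1 (some 0)) := by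
    rw [split, Finset.sum_congr rfl vA, Finset.sum_congr rfl vB, Finset.sum_const, Finset.sum_const, cA, cB]
    simp
  have hq : sqNorm y.1 = 11 * α ^ 2 + 11 * β ^ 2 + (y.1 none ^ 2 + y.1 (some 0) ^ 2) := by
    rw [sqNorm, split, Finset.sum_congr rfl (fun p hp => by rw [vA p hp] : ∀ p ∈ orbSetA, y.1 p ^ 2 = α ^ 2),
      Finset.sum_congr rfl (fun p hp => by rw [vB p hp] : ∀ p ∈ orbSetB, y.1 p ^ 2 = β ^ 2),
      Finset.sum_const, Finset.sum_const, cA, cB]
    simp
  rw [dot_U0, hs] at hU
  rw [show vStd.1 = vecOf repPair from rfl, dot_repPair] at hv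
  rw [hn] at hq
  have b0 : y.1 (some 0) = 8 - y.1 none := by omega
  rw [b0] at hU hq
  have h4 : 4 * y.1 none = 32 - 11 * α - 11 * β := by omega
  have bα : -2 ≤ α ∧ α ≤ 2 := by
    constructor <;> nlinarith [sq_nonneg β, sq_nonneg (y.1 none), sq_nonneg (8 - y.1 none), sq_nonneg (α + 3), sq_nonneg (α - 3)]
  have bβ : -2 ≤ β ∧ β ≤ 2 := by
    constructor <;> nlinarith [sq_nonneg α, sq_nonneg (y.1 none), sq_nonneg (8 - y.1 none), sq_nonneg (β + 3), sq_nonneg (β - 3)]
  have key : α = 0 ∧ β = 0 ∧ y.1 none = 8 := by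
    rcases (show α = -2 ∨ α = -1 ∨ α = 0 ∨ α = 1 ∨ α = 2 by omega) with ha | ha | ha | ha | ha <;>
      rcases (show β = -2 ∨ β = -1 ∨ β = 0 ∨ β = 1 ∨ β = 2 by omega) with hb | hb | hb | hb | hb <;>
      rw [ha, hb] at h4 hq ⊢ <;> first
        | omega
        | (rw [show y.1 none = 8 by omega] at hq ⊢; norm_num at hq ⊢)
        | (rw [show y.1 none = (32 - 11 * α - 11 * β) / 4 by omega, ha, hb] at hq; norm_num at hq)
  obtain ⟨ka, kb, kn⟩ := key
  refine Subtype.ext (funext fun p => ?_)
  show y.1 p = (Pi.single none 8 : GolayPt → ℤ) p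
  rcases eq_or_ne p none with rfl | hp
  · rw [Pi.single_eq_same, kn]
  rw [Pi.single_eq_of_ne hp]
  rcases eq_or_ne p (some 0) with rfl | hp'
  · omega
  have hpm : p ∈ orbSetA ∪ orbSetB := by rw [hun]; simp [hp, hp']
  rcases Finset.mem_union.1 hpm with h | h
  · rw [vA p h, ka]
  · rw [vB p h, kb]

theorem isSimpleGroup_K : IsSimpleGroup K := by
  haveI := finite_K
  haveI : Fact (Nat.Prime 11) := ⟨by norm_num⟩
  have hp : Norm.dataM22.p.Prime := by norm_num [Norm.dataM22]
  have hr : Norm.dataM22.r.Prime := by norm_num [Norm.dataM22]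
  obtain ⟨e22⟩ := Simple.equiv_K22 none (some 0) (by decide)
  obtain ⟨c', hc', hoc1, -, hnorm'⟩ := Norm.sylow_of_data Norm.dataM22 Norm.dataM22_ok.1 Norm.dataM22_ok.2 hp hr
    (by norm_num [Norm.dataM22]) 40320
    ((Nat.card_congr e22.toEquiv).symm.trans (Cfsg.Agent.S0378.result none (some 0) (by decide)))
    (by norm_num [Norm.dataM22])
  obtain ⟨c, hc, hoc, hnorm⟩ : ∃ c : fixGroup [2 ^ 23, 2 ^ 0], (c : Equiv.Perm GolayPt) = permOf (Norm.powTab Norm.dataM22 1) ∧
      orderOf c = 11 ∧ Nat.card (Subgroup.normalizer (Subgroup.zpowers c : Set (fixGroup [2 ^ 23, 2 ^ 0]))) = 11 * 5 :=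
    (show [2 ^ 23, 2 ^ 0] = Norm.dataM22.fs by norm_num [Norm.dataM22]) ▸ ⟨c', hc', hoc1, hnorm'⟩
  have hoc' : orderOf (permHom c) = 11 := (orderOf_injective permHom permHom_injective c).trans hoc
  set C := Subgroup.zpowers (permHom c) with hC
  have hCc : Nat.card C = 11 := by rw [hC, Nat.card_zpowers, hoc']
  have hCidx : ¬ 11 ∣ C.index := by
    have h := C.card_mul_index
    rw [hCc, card_K] at h
    omega
  let P : Sylow 11 K := (IsPGroup.of_card (n := 1) (by rw [hCc, pow_one])).toSylow hCidx
  have hPC : (P : Subgroup K) = C := rfl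
  refine SimpleCrit.isSimpleGroup_of_prime_sylow (p := 11) (r := 5) (by norm_num) (by norm_num) P hCc ?_ eleven_dvd
    (by rw [card_K]; norm_num)
  rw [hPC]
  -- everything normalising the subgroup is monomial
  have hmap : Subgroup.normalizer (C : Set K) =
      (Subgroup.normalizer (Subgroup.zpowers c : Set (fixGroup [2 ^ 23, 2 ^ 0]))).map permHom := by
    have hCmap : C = (Subgroup.zpowers c).map permHom := (MonoidHom.map_zpowers permHom c).symm
    ext g
    constructor
    · intro hg
      have hfix : ((g : Co0) • eight none) = eight none := by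
        have hmem : g⁻¹ * permHom c * g ∈ C := by
          have := (Subgroup.mem_normalizer_iff.1 ((Subgroup.normalizer (C : Set K)).inv_mem hg) (permHom c)).1
            (Subgroup.mem_zpowers _)
          simpa using this
        obtain ⟨k, hk⟩ := Subgroup.mem_zpowers_iff.1 hmem
        refine fixed_eight hc ?_ ?_ ?_ ?_
        · have e1 : ∀ x : K, x ∈ C → (x : Co0) • eight none = eight none := fun x hx => by
            obtain ⟨n, rfl⟩ := Subgroup.mem_zpowers_iff.1 hx
            have h0 : (permHom c : Co0) • eight none = eight none := by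
              refine Subtype.ext (funext fun p => ?_)
              rw [show (permHom c : Co0) = perm (Simple.mem_K22.1 c.2).1 from rfl, perm_apply]
              show (Pi.single none 8 : GolayPt → ℤ) (c.1.symm p) = (Pi.single none 8 : GolayPt → ℤ) p
              have : c.1.symm p = none ↔ p = none := by
                rw [Equiv.symm_apply_eq, (Simple.mem_K22.1 c.2).2.1]
              simp only [Pi.single_apply, this]
            exact (zpow_mem (show permHom c ∈ stabilizer K (eight none) from h0) n)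
          have e2 := e1 _ hmem
          simp only [Subgroup.coe_mul, Subgroup.coe_inv, mul_smul, inv_smul_eq_iff] at e2
          exact e2
        · exact (norm_smul (g : Co0) _).trans (cross_mem (eight_mem_cross none)).2
        · rw [← show (g : Co0) • U0 = U0 from g.2.1, dot_smul, dot_U0]
          show 4 * (Pi.single none 8 : GolayPt → ℤ) none + ∑ p, (Pi.single none 8 : GolayPt → ℤ) p = 40
          rw [Pi.single_eq_same, Finset.sum_pi_single']
          rfl
        · rw [← show (g : Co0) • vStd = vStd from g.2.2, dot_smul, show vStd.1 = vecOf repPair from rfl, dot_repPair]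
          show 4 * (Pi.single none 8 : GolayPt → ℤ) none + 4 * (Pi.single none 8 : GolayPt → ℤ) (some 0) = 32
          rw [Pi.single_eq_same, Pi.single_eq_of_ne (by simp)]
          rfl
      obtain ⟨σ, rfl⟩ := mem_range_permHom hfix
      refine ⟨σ, Subgroup.mem_normalizer_iff.2 fun x => ?_, rfl⟩
      have := Subgroup.mem_normalizer_iff.1 hg (permHom x)
      rw [← map_inv, ← map_mul, ← map_mul, hCmap, Subgroup.mem_map_iff_mem permHom_injective,
        Subgroup.mem_map_iff_mem permHom_injective] at this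
      exact this
    · rintro ⟨σ, hσ, rfl⟩
      have := Subgroup.le_normalizer_map permHom ⟨σ, hσ, rfl⟩
      rwa [← hCmap] at this
  rw [hmap, Subgroup.card_map_of_injective permHom_injective, hnorm]


theorem isMcL {v w : leechLattice} (hv : sqNorm v.1 = 32) (hw : sqNorm w.1 = 32) (hvw : dotInt v.1 w.1 = -8) :
    IsMcL ↥(stabilizer Co0 v ⊓ stabilizer Co0 w) := by
  have hu : sqNorm (v + w).1 = 48 := by rw [AddSubgroup.coe_add, sqNorm_add]; omega
  have hs : sqNorm v.1 = 32 ∧ sqNorm ((v + w).1 - v.1) = 32 := ⟨hv, by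
    rw [AddSubgroup.coe_add, add_sub_cancel_left]; exact hw⟩
  obtain ⟨g, gu, gv, -⟩ := config hu hs
  have gw : g • w = U0 - vStd := by
    rw [← gu, ← gv, ← smul_sub', add_sub_cancel_left]
  have e : (stabilizer Co0 v ⊓ stabilizer Co0 w).map (MulAut.conj g).toMonoidHom = K := by
    ext x
    rw [Subgroup.mem_map_equiv, MulAut.conj_symm_apply, Subgroup.mem_inf, mem_stabilizer_iff, mem_stabilizer_iff,
      mul_smul, mul_smul, inv_smul_eq_iff, mul_smul, mul_smul, inv_smul_eq_iff, gv, gw, smul_sub', K,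
      Subgroup.mem_inf, mem_stabilizer_iff, mem_stabilizer_iff]
    constructor
    · rintro ⟨h1, h2⟩; rw [h1] at h2; exact ⟨sub_left_injective h2, h1⟩
    · rintro ⟨h1, h2⟩; exact ⟨h2, by rw [h1, h2]⟩
  let φ : ↥(stabilizer Co0 v ⊓ stabilizer Co0 w) ≃* K :=
    ((stabilizer Co0 v ⊓ stabilizer Co0 w).equivMapOfInjective _ (MulAut.conj g).injective).trans
      (MulEquiv.subgroupCongr e)
  haveI := isSimpleGroup_K
  exact ⟨φ.isSimpleGroup, (Nat.card_congr φ.toEquiv).trans card_K⟩

end CfsgLib.Leech.McL
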