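/-
The third Conway group: simplicity through its action on the decompositions of a vector.
-/
import Cfsg.Agent.Leech.McL
import Cfsg.Agent.Leech.HSInvol

set_option autoImplicit false

namespace CfsgLib.Leech.Co3

open Cfsg CfsgLib.Golay MulAction CfsgLib.Leech.McL
open scoped Pointwise

/-- The stabiliser of the frame vector. -/
def G : Subgroup Co0 := stabilizer Co0 U0

theorem norm_U0 : sqNorm U0.1 = 48 := uList_ok.2.1

theorem card_G : Nat.card G = 495766656000 := card_stab48 norm_U0

theorem finite_G : Finite G := Nat.finite_of_card_ne_zero (by rw [card_G]; omega)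

/-- Summands of the frame vector. -/
def IsSummand (x : leechLattice) : Prop := sqNorm x.1 = 32 ∧ sqNorm (U0.1 - x.1) = 32

theorem summand_V : IsSummand vStd := ⟨HS.norm_X0, by
  show sqNorm (vecOf uList - vecOf repPair) = 32
  decide +kernel⟩

theorem summand_sub {x : leechLattice} (h : IsSummand x) : IsSummand (U0 - x) :=
  ⟨h.2, by rw [AddSubgroup.coe_sub, sub_sub_cancel]; exact h.1⟩

theorem orbit_vStd : orbit G vStd = {x : leechLattice | IsSummand x} := orbit_summand norm_U0 summand_V

theorem smul_mirror {g : Co0} (hg : g ∈ G) (x : leechLattice) : g • (U0 - x) = U0 - g • x := by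
  rw [smul_sub', show g • U0 = U0 from hg]

theorem dot_U0_summand {x : leechLattice} (h : IsSummand x) : dotInt U0.1 x.1 = 24 := by
  have := h.2
  rw [sqNorm_sub, norm_U0, h.1] at this
  omega

theorem pt_iff {x : leechLattice} : IsPt x ↔ IsSummand x ∧ dotInt vStd.1 x.1 = 16 := by
  rw [show vStd.1 = vecOf repPair from rfl, dot_repPair]
  constructor
  · rintro ⟨a, b, c⟩
    refine ⟨⟨a, ?_⟩, by omega⟩
    rw [sqNorm_sub, norm_U0, a]; omega
  · rintro ⟨h, c⟩
    exact ⟨h.1, dot_U0_summand h, by omega⟩

theorem dot_mirror (x : leechLattice) : dotInt vStd.1 (U0 - x).1 = 24 - dotInt vStd.1 x.1 := by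
  rw [HS.dot_sub_right, dotInt_comm', dot_U0_summand summand_V]

theorem summand_cases {x : leechLattice} (h : IsSummand x) :
    x = vStd ∨ x = U0 - vStd ∨ IsPt x ∨ IsPt (U0 - x) := by
  have hsub := (summand_sub h).1
  rcases dot_values vStd.2 x.2 HS.norm_X0 h.1 with e | e | e | e | e | e | e
  · exact Or.inl (Subtype.ext e)
  · exfalso
    have := dot_U0_summand h
    have h2 := dot_U0_summand summand_V
    rw [e] at this
    simp only [dotInt, Pi.neg_apply, mul_neg, Finset.sum_neg_distrib] at this h2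
    omega
  · exact Or.inr (Or.inr (Or.inl (pt_iff.2 ⟨h, e⟩)))
  · exact Or.inr (Or.inr (Or.inr (pt_iff.2 ⟨summand_sub h, by rw [dot_mirror, e]; rfl⟩)))
  all_goals
    rcases dot_values vStd.2 (U0 - x).2 HS.norm_X0 hsub with e' | e' | e' | e' | e' | e' | e'
    · exact Or.inr (Or.inl (by rw [← show U0 - x = vStd from Subtype.ext e', sub_sub_cancel]))
    · exfalso
      have := dot_mirror x
      rw [e', e] at this
      simp only [dotInt, Pi.neg_apply, mul_neg, Finset.sum_neg_distrib] at this
      have h2 := HS.norm_X0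
      simp only [sqNorm] at h2
      have h3 : ∑ p, vStd.1 p * vStd.1 p = 32 := by rw [← h2]; simp only [pow_two]
      omega
    all_goals (have := dot_mirror x; omega)

theorem mirror_set (T : Set leechLattice) : {x : leechLattice | U0 - x ∈ T}.ncard = T.ncard := by
  refine Set.ncard_preimage_of_injective_subset_range (fun a b h => sub_right_injective h) fun y _ => ?_
  exact ⟨U0 - y, sub_sub_cancel U0 y⟩

theorem finite_pts : {x : leechLattice | IsPt x}.Finite := Set.finite_of_ncard_ne_zero (by rw [ncard_pts]; omega)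

theorem finite_summands : {x : leechLattice | IsSummand x}.Finite := by
  refine Set.finite_of_ncard_ne_zero ?_
  have h := card_eq_mul_of_orbit G vStd _ orbit_vStd
  rw [card_G] at h
  intro h0
  rw [h0] at h
  omega

/-- Sets of other summands invariant under the stabiliser of one. -/
theorem invariant_cases {T : Set leechLattice} (hT : ∀ x ∈ T, IsSummand x ∧ x ≠ vStd ∧ x ≠ U0 - vStd)
    (hinv : ∀ g ∈ K, ∀ x ∈ T, g • x ∈ T) : T.ncard = 0 ∨ T.ncard = 275 ∨ T.ncard = 550 := by
  have hfin : T.Finite := finite_summands.subset fun x hx => (hT x hx).1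
  let P : Set leechLattice := {x | IsPt x}
  let Q : Set leechLattice := {x | IsPt (U0 - x)}
  have hP : ∀ x ∈ T, x ∈ P → P ⊆ T := fun x hx hp y hy => by
    obtain ⟨g, hg, e⟩ := transitive_pts hp hy
    exact e ▸ hinv g hg x hx
  have hQ : ∀ x ∈ T, x ∈ Q → Q ⊆ T := fun x hx hp y hy => by
    obtain ⟨g, hg, e⟩ := transitive_pts hp hy
    rw [smul_mirror hg.1] at e
    exact (sub_right_injective e : g • x = y) ▸ hinv g hg x hx
  have hcov : T ⊆ P ∪ Q := fun x hx => by
    obtain ⟨h1, h2, h3⟩ := hT x hx
    rcases summand_cases h1 with e | e | e | e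
    · exact absurd e h2
    · exact absurd e h3
    · exact Or.inl e
    · exact Or.inr e
  have cP : P.ncard = 275 := ncard_pts
  have cQ : Q.ncard = 275 := (mirror_set P).trans ncard_pts
  have fP : P.Finite := finite_pts
  have fQ : Q.Finite := Set.finite_of_ncard_ne_zero (by omega)
  have dPQ : Disjoint P Q := Set.disjoint_left.2 fun x h1 h2 => by
    have := (pt_iff.1 h2).2
    rw [dot_mirror, (pt_iff.1 h1).2] at this
    omega
  by_cases h1 : ∃ x ∈ T, x ∈ P <;> by_cases h2 : ∃ x ∈ T, x ∈ Q
  · obtain ⟨x, hx, hxP⟩ := h1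
    obtain ⟨y, hy, hyQ⟩ := h2
    right; right
    rw [show T = P ∪ Q from Set.Subset.antisymm hcov (Set.union_subset (hP x hx hxP) (hQ y hy hyQ)),
      Set.ncard_union_eq dPQ fP fQ, cP, cQ]
  · obtain ⟨x, hx, hxP⟩ := h1
    push Not at h2
    right; left
    rw [show T = P from Set.Subset.antisymm (fun z hz => (hcov hz).resolve_right (h2 z hz)) (hP x hx hxP), cP]
  · obtain ⟨y, hy, hyQ⟩ := h2
    push Not at h1
    right; left
    rw [show T = Q from Set.Subset.antisymm (fun z hz => (hcov hz).resolve_left (h1 z hz)) (hQ y hy hyQ), cQ]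
  · push Not at h1 h2
    left
    rw [Set.ncard_eq_zero hfin]
    exact Set.eq_empty_of_forall_notMem fun z hz => (hcov hz).elim (h1 z hz) (h2 z hz)

/-- A summand exchanged with its partner by the sign change. -/
def aList : List ℤ := [1, -3, 1, 1, 1, 1, 1, 1, 1, 1, 1, 1, 1, 1, 1, 1, 1, 1, 1, 1, 1, 1, 1, 1]

theorem aList_ok : inLeech (vecOf aList) = true ∧ sqNorm (vecOf aList) = 32 ∧
    sqNorm (vecOf HS.vList - vecOf aList) = 32 ∧
    ∀ p, (if p ∈ HS.cSet then -(vecOf aList p) else vecOf aList p) = vecOf HS.vList p - vecOf aList p := by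
  decide +kernel

/-- Every subgroup of index two meets some decomposition in a swap. -/
theorem exists_swap (N : Subgroup G) (hidx : N.index = 2) :
    ∃ n ∈ N, ∃ x, IsSummand x ∧ (n : Co0) • x = U0 - x := by
  haveI := finite_G
  obtain ⟨k, hk⟩ := transitive48 (v := HS.V1) (w := U0) HS.dod_data.2.2.1 norm_U0
  let a : leechLattice := ⟨_, inLeech_spec aList_ok.1⟩
  have ha : HS.inv1 • a = HS.V1 - a := Subtype.ext (funext fun p => by
    rw [HS.inv1_apply]; exact aList_ok.2.2.2 p)
  have hW : sqNorm (k • HS.W1).1 = 48 := (norm_smul k _).trans HS.dod_data.2.2.2.1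
  have hVW : dotInt U0.1 (k • HS.W1).1 = -32 := by rw [← hk, dot_smul]; exact HS.dod_data.2.2.2.2.1
  obtain ⟨hsimple, hcard⟩ := HS.isHS norm_U0 hW hVW
  haveI := hsimple
  let f : ↥(stabilizer Co0 U0 ⊓ stabilizer Co0 (k • HS.W1)) →* G := Subgroup.inclusion inf_le_left
  haveI : N.Normal := Subgroup.normal_of_index_eq_two hidx
  rcases hsimple.eq_bot_or_eq_top_of_normal (N.comap f) inferInstance with h | h
  · exfalso
    haveI : Finite ↥(stabilizer Co0 U0 ⊓ stabilizer Co0 (k • HS.W1)) := Nat.finite_of_card_ne_zero (by rw [hcard]; omega)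
    obtain ⟨x, hx⟩ := exists_prime_orderOf_dvd_card' (G := ↥(stabilizer Co0 U0 ⊓ stabilizer Co0 (k • HS.W1))) 11
      (hp := ⟨by norm_num⟩) (by rw [hcard]; norm_num)
    have hmem : x ^ 2 ∈ N.comap f := by
      rw [Subgroup.mem_comap, map_pow]; exact Subgroup.sq_mem_of_index_two hidx (f x)
    rw [h, Subgroup.mem_bot] at hmem
    have := orderOf_dvd_of_pow_eq_one hmem
    rw [hx] at this
    norm_num at this
  · let t : ↥(stabilizer Co0 U0 ⊓ stabilizer Co0 (k • HS.W1)) := ⟨k * HS.inv1 * k⁻¹, by
      show (k * HS.inv1 * k⁻¹) • U0 = U0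
      rw [mul_smul, mul_smul, inv_smul_eq_iff.2 hk.symm, HS.inv1_V, hk], by
      show (k * HS.inv1 * k⁻¹) • k • HS.W1 = k • HS.W1
      rw [mul_smul, mul_smul, inv_smul_smul, HS.inv1_W]⟩
    refine ⟨f t, ?_, k • a, ⟨(norm_smul k _).trans aList_ok.2.1, ?_⟩, ?_⟩
    · have : t ∈ N.comap f := h ▸ Subgroup.mem_top t
      exact this
    · rw [← hk, ← AddSubgroup.coe_sub, ← smul_sub', norm_smul, AddSubgroup.coe_sub]; exact aList_ok.2.2.1
    · show (k * HS.inv1 * k⁻¹) • k • a = U0 - k • a
      rw [mul_smul, mul_smul, inv_smul_smul, ha, smul_sub', hk]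

theorem no_two {t : G} (ht : ∀ x : leechLattice, IsSummand x → (t : Co0) • x = U0 - x) : False := by
  let R : Finset GolayPt := Finset.univ \ {none, some 0}
  have hA : ∀ j ∈ R, ∃ x : leechLattice, (t : Co0) • x = U0 - x ∧ ∀ p, x.1 p = fourVal j p := fun j hj => by
    have hj' : j ≠ none ∧ j ≠ some 0 := by simpa [R] using hj
    obtain ⟨x, hx, e⟩ := four_point hj'.1 hj'.2
    exact ⟨x, ht x (pt_iff.1 hx).1, e⟩
  choose f hf1 hf2 using hA
  let a : leechLattice := ∑ j ∈ R.attach, f j.1 j.2
  have hc : R.card = 22 := octSel_ok.2.2.2.2.2.1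
  have ht_a : (t : Co0) • a = (22 : ℕ) • U0 - a := by
    rw [show (t : Co0) • a = hom (t : Co0) a from rfl, map_sum,
      Finset.sum_congr rfl (g := fun j => U0 - f j.1 j.2) (fun j _ => hf1 j.1 j.2), Finset.sum_sub_distrib,
      Finset.sum_const, Finset.card_attach, hc]
  have ha : ∀ p, a.1 p = if p = none then 88 else if p = some 0 then 0 else 4 := fun p => by
    show ((∑ j ∈ R.attach, f j.1 j.2 : leechLattice) : GolayPt → ℤ) p = _
    rw [AddSubgroup.val_finset_sum, Finset.sum_apply, Finset.sum_congr rfl (g := fun j => fourVal j.1 p)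
      fun j _ => hf2 j.1 j.2 p, Finset.sum_attach R (fun j => fourVal j p)]
    simp only [fourVal, Finset.sum_add_distrib, Finset.sum_const, Finset.sum_ite_eq]
    rw [hc]
    rcases eq_or_ne p none with rfl | hp
    · simp [R]
    rcases eq_or_ne p (some 0) with rfl | hp'
    · simp [R]
    · simp [R, hp, hp']
  have e9 : (9 : ℕ) • eight none = a + vStd - (4 : ℕ) • U0 := Subtype.ext (funext fun p => by
    show 9 • (Pi.single none 8 : GolayPt → ℤ) p = a.1 p + vecOf repPair p - 4 • U0.1 p
    rw [ha, repPair_eq, U0_val, Pi.single_apply]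
    rcases eq_or_ne p none with rfl | hp
    · simp
    · by_cases h : p = some 0 <;> simp [hp, h])
  have h9 : (t : Co0) • ((9 : ℕ) • eight none) = (22 : ℕ) • U0 - a + (U0 - vStd) - (4 : ℕ) • U0 := by
    rw [e9, smul_sub', smul_add', ht_a, ht vStd summand_V,
      show (t : Co0) • ((4 : ℕ) • U0) = hom (t : Co0) ((4 : ℕ) • U0) from rfl, map_nsmul,
      show hom (t : Co0) U0 = U0 from t.2]
  rw [show (t : Co0) • ((9 : ℕ) • eight none) = hom (t : Co0) ((9 : ℕ) • eight none) from rfl, map_nsmul] at h9
  have := congrArg (fun v : leechLattice => v.1 (ptN 1)) h9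
  simp only [AddSubgroup.coe_sub, AddSubgroup.coe_add, AddSubgroup.coe_nsmul, Pi.sub_apply, Pi.add_apply,
    Pi.smul_apply, nsmul_eq_mul] at this
  rw [ha, U0_val] at this
  simp only [if_neg (show ¬ ptN 1 = (none : GolayPt) by decide +kernel),
    if_neg (show ¬ ptN 1 = (some 0 : GolayPt) by decide +kernel)] at this
  rw [show vStd.1 (ptN 1) = 0 by show vecOf repPair (ptN 1) = 0; decide +kernel] at this
  simp only [Pi.mul_apply, Pi.natCast_apply, U0_val, if_neg (show ¬ ptN 1 = (none : GolayPt) by decide +kernel)] at this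
  omega

theorem isSimpleGroup_G : IsSimpleGroup G := by
  haveI := finite_G
  haveI := isSimpleGroup_K
  haveI : Nontrivial G := Finite.one_lt_card_iff_nontrivial.1 (by rw [card_G]; omega)
  refine ⟨fun N hN => or_iff_not_imp_left.2 fun hne => ?_⟩
  haveI := hN
  set L := stabilizer G vStd with hL
  have hLK : ∀ g : Co0, g ∈ K → ∃ h : g ∈ G, (⟨g, h⟩ : G) ∈ L := fun g hg => ⟨hg.1, hg.2⟩
  let eL : L ≃* K :=
    { toFun := fun g => ⟨g.1.1, g.1.2, g.2⟩
      invFun := fun g => ⟨⟨g.1, g.2.1⟩, g.2.2⟩
      left_inv := fun _ => rfl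
      right_inv := fun _ => rfl
      map_mul' := fun _ _ => rfl }
  haveI : IsSimpleGroup L := eL.isSimpleGroup
  let O : Set leechLattice := orbit N vStd
  have hOsub : ∀ y ∈ O, IsSummand y := by
    rintro _ ⟨n, rfl⟩
    have : (n.1 • vStd : leechLattice) ∈ orbit G vStd := mem_orbit _ _
    rw [orbit_vStd] at this
    exact this
  have hmap : ∀ (g : G) (x : leechLattice), orbit N ((g : Co0) • x) = (fun y => (g : Co0) • y) '' orbit N x := by
    intro g x
    ext y
    constructor
    · rintro ⟨n, rfl⟩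
      refine ⟨_, ⟨⟨g⁻¹ * n.1 * g, by simpa using hN.conj_mem _ n.2 g⁻¹⟩, rfl⟩, ?_⟩
      show (g : Co0) • (((g⁻¹ * n.1 * g : G) : Co0) • x) = ((n.1 : G) : Co0) • (g : Co0) • x
      simp only [Subgroup.coe_mul, Subgroup.coe_inv, mul_smul, smul_inv_smul]
    · rintro ⟨_, ⟨n, rfl⟩, rfl⟩
      refine ⟨⟨g * n.1 * g⁻¹, hN.conj_mem _ n.2 g⟩, ?_⟩
      show (((g * n.1 * g⁻¹ : G) : Co0)) • (g : Co0) • x = (g : Co0) • ((n.1 : G) : Co0) • x
      simp only [Subgroup.coe_mul, Subgroup.coe_inv, mul_smul, inv_smul_smul]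
  have hOinv : ∀ g ∈ K, ∀ y ∈ O, g • y ∈ O := fun g hg y hy => by
    obtain ⟨hgG, hgL⟩ := hLK g hg
    have h2 := hmap ⟨g, hgG⟩ vStd
    rw [show ((⟨g, hgG⟩ : G) : Co0) • vStd = vStd from hg.2] at h2
    show g • y ∈ orbit N vStd
    rw [h2]
    exact ⟨y, hy, rfl⟩
  have hvK : ∀ g ∈ K, g • (U0 - vStd) = U0 - vStd := fun g hg => by rw [smul_mirror hg.1, show g • vStd = vStd from hg.2]
  have hT := invariant_cases (T := O \ {vStd, U0 - vStd})
    (fun x hx => ⟨hOsub x hx.1, fun e => hx.2 (Or.inl e), fun e => hx.2 (Or.inr e)⟩)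
    fun g hg x hx => ⟨hOinv g hg x hx.1, fun e => by
      rcases e with e | e
      · exact hx.2 (Or.inl (smul_left_cancel g (e.trans hg.2.symm)))
      · exact hx.2 (Or.inr (smul_left_cancel g ((Set.mem_singleton_iff.1 e).trans (hvK g hg).symm)))⟩
  have hOfin : O.Finite := finite_summands.subset hOsub
  have hv1 : vStd ∈ O := mem_orbit_self _
  have hne' : vStd ≠ U0 - vStd := fun e => by
    have := congrArg (fun v : leechLattice => v.1 (ptN 1)) e
    revert this
    show ¬ (vecOf repPair (ptN 1) = vecOf uList (ptN 1) - vecOf repPair (ptN 1))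
    decide +kernel
  have hsize : O.ncard = (O \ {vStd, U0 - vStd}).ncard + 1 ∧ U0 - vStd ∉ O ∨
      O.ncard = (O \ {vStd, U0 - vStd}).ncard + 2 ∧ U0 - vStd ∈ O := by
    by_cases hm : U0 - vStd ∈ O
    · right
      refine ⟨?_, hm⟩
      rw [← Set.ncard_sdiff_add_ncard_of_subset (Set.insert_subset hv1 (Set.singleton_subset_iff.2 hm)) hOfin, Set.ncard_pair hne']
    · left
      refine ⟨?_, hm⟩
      rw [show O \ {vStd, U0 - vStd} = O \ {vStd} from Set.ext fun y => ⟨fun h => ⟨h.1, fun e => h.2 (Or.inl e)⟩,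
        fun h => ⟨h.1, fun e => e.elim h.2 fun e' => hm (Set.mem_singleton_iff.1 e' ▸ h.1)⟩⟩,
        Set.ncard_sdiff_singleton_add_one hv1 hOfin]
  have hcardN : Nat.card (stabilizer N vStd) * O.ncard = Nat.card N := by
    rw [← index_stabilizer]; exact Subgroup.card_mul_index _
  have hdvdN : Nat.card N ∣ 495766656000 := card_G ▸ Subgroup.card_subgroup_dvd_card N
  have hall : ∀ n : G, n ∈ N → (n : Co0) • vStd = vStd → ∀ x, IsSummand x → O.ncard = 1 → (n : Co0) • x = x := by
    intro n hn _ x hx h1
    obtain ⟨g, rfl⟩ : x ∈ orbit G vStd := by rw [orbit_vStd]; exact hx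
    have hfix : ∀ m : G, m ∈ N → (m : Co0) • vStd = vStd := fun m hm => by
      obtain ⟨a, ha⟩ := Set.ncard_eq_one.1 h1
      have m1 : (m : Co0) • vStd ∈ O := ⟨⟨m, hm⟩, rfl⟩
      rw [ha, Set.mem_singleton_iff] at m1
      have m2 := hv1
      rw [ha, Set.mem_singleton_iff] at m2
      exact m1.trans m2.symm
    have := hfix _ (hN.conj_mem n hn g⁻¹)
    simp only [inv_inv, Subgroup.coe_mul, Subgroup.coe_inv, mul_smul, inv_smul_eq_iff] at this
    exact this
  rcases (show IsSimpleGroup L from inferInstance).eq_bot_or_eq_top_of_normal (N.subgroupOf L) Subgroup.normal_subgroupOf with h | h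
  · exfalso
    have hbot : stabilizer N vStd = ⊥ := (Subgroup.eq_bot_iff_forall _).2 fun n hn => by
      have : (⟨n.1, hn⟩ : L) ∈ N.subgroupOf L := n.2
      rw [h, Subgroup.mem_bot] at this
      exact Subtype.ext (congrArg (fun z : L => (z : G)) this)
    rw [hbot, Subgroup.card_bot, one_mul] at hcardN
    let f : N → leechLattice := fun n => ((n : G) : Co0) • vStd
    have hf : Function.Injective f := fun a b hab => by
      have : b⁻¹ * a ∈ stabilizer N vStd := by
        rw [mem_stabilizer_iff, mul_smul, inv_smul_eq_iff]; exact hab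
      rw [hbot, Subgroup.mem_bot, inv_mul_eq_one] at this
      exact this.symm
    have hNne1 : O.ncard ≠ 1 := fun h1 => hne ((Subgroup.card_eq_one).1 (hcardN.symm.trans h1))
    have hcases : Nat.card N = 2 ∨ Nat.card N = 276 ∨ Nat.card N = 552 := by
      rw [← hcardN] at hdvdN ⊢
      rcases hsize with ⟨e, -⟩ | ⟨e, -⟩ <;> rcases hT with e' | e' | e' <;> rw [e, e'] at hdvdN hNne1 ⊢ <;>
        first | omega | norm_num at hdvdN
    rcases hcases with h2 | h23
    · -- a central element exchanging every pair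
      obtain ⟨t, ht⟩ : ∃ t : N, t ≠ 1 := by
        haveI : Nontrivial N := Finite.one_lt_card_iff_nontrivial.1 (by omega)
        exact exists_ne 1
      have htv : ((t : G) : Co0) • vStd = U0 - vStd := by
        rw [h2] at hcardN
        have hm : U0 - vStd ∈ O := by
          rcases hsize with ⟨e, -⟩ | ⟨-, hm⟩
          · rcases hT with e' | e' | e' <;> omega
          · exact hm
        obtain ⟨t', ht'⟩ := hm
        have hd : ∀ s : N, s = 1 ∨ s = t := fun s => by
          by_contra hs
          push Not at hs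
          have : ({1, t, s} : Set N).ncard = 3 := Set.ncard_eq_three.2
            ⟨1, t, s, ht.symm, hs.1.symm, hs.2.symm, rfl⟩
          have := Set.ncard_le_card ({1, t, s} : Set N)
          omega
        rcases hd t' with e | e
        · subst e; exact absurd (one_smul N vStd ▸ ht') hne'
        · subst e; exact ht'
      refine no_two (t := (t : G)) fun x hx => ?_
      obtain ⟨g, rfl⟩ : x ∈ orbit G vStd := by rw [orbit_vStd]; exact hx
      have hconj : (⟨g⁻¹ * t.1 * g, by simpa using hN.conj_mem _ t.2 g⁻¹⟩ : N) = t := by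
        by_contra hs
        have h1 : (⟨g⁻¹ * t.1 * g, by simpa using hN.conj_mem _ t.2 g⁻¹⟩ : N) ≠ 1 := fun e => by
          have e2 : g⁻¹ * t.1 * g = 1 := congrArg Subtype.val e
          exact ht (Subtype.ext (by simpa [mul_assoc] using congrArg (fun y => g * y * g⁻¹) e2))
        have : ({1, t, ⟨g⁻¹ * t.1 * g, by simpa using hN.conj_mem _ t.2 g⁻¹⟩} : Set N).ncard = 3 := Set.ncard_eq_three.2
          ⟨1, t, _, ht.symm, h1.symm, fun e => hs e.symm, rfl⟩
        have := Set.ncard_le_card ({1, t, ⟨g⁻¹ * t.1 * g, by simpa using hN.conj_mem _ t.2 g⁻¹⟩} : Set N)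
        omega
      have e3 : (t : G) * g = g * t.1 := by
        conv_rhs => rw [← congrArg Subtype.val hconj]
        group
      show ((t : G) : Co0) • (g : Co0) • vStd = U0 - (g : Co0) • vStd
      rw [← mul_smul, ← Subgroup.coe_mul, e3, Subgroup.coe_mul, mul_smul, htv, smul_mirror g.2]
    · haveI : Fact (Nat.Prime 23) := ⟨by norm_num⟩
      let Z : Set N := {n | n ^ 23 = 1 ∧ n ≠ 1}
      obtain ⟨z, hz⟩ := exists_prime_orderOf_dvd_card' (G := N) 23 (by rcases h23 with e | e <;> rw [e] <;> norm_num)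
      have hzZ : z ∈ Z := ⟨hz ▸ pow_orderOf_eq_one z, fun e => by rw [e, orderOf_one] at hz; omega⟩
      -- the stabiliser of the summand acts on the elements through conjugation
      have hconj : ∀ (g : Co0) (hg : g ∈ K) (n : N),
          f (MulAut.conjNormal (⟨g, hg.1⟩ : G) n) = g • f n := by
        intro g hg n
        show ((MulAut.conjNormal (⟨g, hg.1⟩ : G) n : N) : G).1 • vStd = g • ((n : G) : Co0) • vStd
        rw [MulAut.conjNormal_apply]
        simp only [Subgroup.coe_mul, Subgroup.coe_inv, mul_smul, inv_smul_eq_iff.2 (show vStd = g • vStd from hg.2.symm)]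
      have hnofix : ∀ n ∈ Z, f n ≠ vStd ∧ f n ≠ U0 - vStd := by
        intro n hn
        refine ⟨fun e => hn.2 (hf (e.trans (one_smul G vStd).symm)), fun e => ?_⟩
        -- then the square of the element is fixed as well
        have hfix : ∀ g ∈ K, g • f (n ^ 2) = f (n ^ 2) := fun g hg => by
          have h1 : MulAut.conjNormal (⟨g, hg.1⟩ : G) n = n := hf (by rw [hconj g hg, e, hvK g hg])
          rw [← hconj g hg, map_pow, h1]
        have hm : f (n ^ 2) ∈ O := ⟨_, rfl⟩
        have hcase := invariant_cases (T := ({f (n ^ 2)} : Set leechLattice) \ {vStd, U0 - vStd})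
          (fun x hx => ⟨by rw [Set.mem_singleton_iff.1 hx.1]; exact hOsub _ hm, fun e => hx.2 (Or.inl e), fun e => hx.2 (Or.inr e)⟩)
          (fun g hg x hx => by have e := Set.mem_singleton_iff.1 hx.1; subst e; rwa [hfix g hg])
        have hle : (({f (n ^ 2)} : Set leechLattice) \ {vStd, U0 - vStd}).ncard ≤ 1 :=
          (Set.ncard_le_ncard Set.sdiff_subset (Set.finite_singleton _)).trans (Set.ncard_singleton _).le
        have h0 : (({f (n ^ 2)} : Set leechLattice) \ {vStd, U0 - vStd}) = ∅ := by
          rw [← Set.ncard_eq_zero ((Set.finite_singleton _).subset Set.sdiff_subset)]; omega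
        have hmem : f (n ^ 2) ∈ ({vStd, U0 - vStd} : Set leechLattice) := by
          by_contra hc
          have : f (n ^ 2) ∈ (({f (n ^ 2)} : Set leechLattice) \ {vStd, U0 - vStd}) := ⟨rfl, hc⟩
          rw [h0] at this
          exact this
        rcases hmem with e' | e'
        · have e2 : n ^ 2 = 1 := hf (e'.trans (one_smul G vStd).symm)
          refine hn.2 ?_
          have h22 : n ^ 22 = 1 := by rw [show (22 : ℕ) = 2 * 11 by norm_num, pow_mul, e2, one_pow]
          have h' := hn.1
          rwa [show (23 : ℕ) = 22 + 1 by norm_num, pow_succ, h22, one_mul] at h'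
        · have e2 : n ^ 2 = n := hf ((Set.mem_singleton_iff.1 e').trans e.symm)
          rw [pow_two] at e2
          exact hn.2 (mul_eq_left.1 e2)
      have hTZ := invariant_cases (T := f '' Z)
        (fun x hx => by
          obtain ⟨n, hn, rfl⟩ := hx
          exact ⟨hOsub _ ⟨n, rfl⟩, (hnofix n hn).1, (hnofix n hn).2⟩)
        (fun g hg x hx => by
          obtain ⟨n, hn, rfl⟩ := hx
          exact ⟨_, ⟨by rw [← map_pow, hn.1, map_one], fun e => hn.2 ((MulEquiv.map_eq_one_iff _).1 e)⟩, hconj g hg n⟩)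
      rw [Set.ncard_image_of_injective _ hf] at hTZ
      -- at most twenty-four Sylow subgroups
      classical
      haveI : Fintype (Sylow 23 N) := Fintype.ofFinite _
      have hcount : Nat.card (Sylow 23 N) ≤ 24 := by
        obtain ⟨P⟩ : Nonempty (Sylow 23 N) := inferInstance
        have hd := P.card_dvd_index
        have hi := Subgroup.card_mul_index (P : Subgroup N)
        have hP : 23 ≤ Nat.card (P : Subgroup N) := by
          refine Nat.le_of_dvd Nat.card_pos ?_
          rw [Sylow.card_eq_multiplicity P]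
          refine dvd_pow_self 23 ?_
          have := (Nat.Prime.factorization_pos_of_dvd (by norm_num : Nat.Prime 23) Nat.card_pos.ne'
            (by rcases h23 with e | e <;> rw [e] <;> norm_num : 23 ∣ Nat.card N))
          omega
        have hle : (P : Subgroup N).index ≤ 24 := by
          have h552 : Nat.card N ≤ 552 := by omega
          have := Nat.mul_le_mul_right (P : Subgroup N).index hP
          omega
        exact (Nat.le_of_dvd (Nat.pos_of_ne_zero Subgroup.index_ne_zero_of_finite) hd).trans hle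
      have hZle : Z.ncard ≤ 24 * 22 := by
        let B : Sylow 23 N → Finset N := fun P => (((P : Subgroup N) : Set N).toFinite.toFinset).erase 1
        have hsub : Z ⊆ ((Finset.univ.biUnion B : Finset N) : Set N) := fun n hn => by
          obtain ⟨P, hP⟩ := (IsPGroup.of_card (n := 1) (G := Subgroup.zpowers n) (by
            rw [Nat.card_zpowers, pow_one]
            exact orderOf_eq_prime hn.1 hn.2) : IsPGroup 23 (Subgroup.zpowers n)).exists_le_sylow
          simp only [B, Finset.coe_biUnion, Set.mem_iUnion, Finset.mem_coe, Finset.mem_erase, Set.Finite.mem_toFinset]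
          exact ⟨P, Finset.mem_univ P, hn.2, hP (Subgroup.mem_zpowers n)⟩
        refine (Set.ncard_le_ncard hsub (Finset.finite_toSet _)).trans ?_
        rw [Set.ncard_coe_finset]
        refine (Finset.card_biUnion_le).trans ((Finset.sum_le_card_nsmul _ _ 22 fun P _ => ?_).trans ?_)
        · rw [Finset.card_erase_of_mem (by simp), ← Set.ncard_eq_toFinset_card _, ← Nat.card_coe_set_eq]
          show Nat.card (P : Subgroup N) - 1 ≤ 22
          rw [Sylow.card_eq_multiplicity P]
          have : (Nat.card N).factorization 23 ≤ 1 := by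
            by_contra hc
            have hdd : 23 ^ 2 ∣ Nat.card N := (pow_dvd_pow 23 (by omega)).trans (Nat.ordProj_dvd _ 23)
            rcases h23 with e | e <;> rw [e] at hdd <;> norm_num at hdd
          have := Nat.pow_le_pow_right (show 0 < 23 by norm_num) this
          omega
        · rw [Finset.card_univ, ← Nat.card_eq_fintype_card, smul_eq_mul]; omega
      have hZ1 : 1 ≤ Z.ncard := (Set.ncard_pos (Set.toFinite Z)).2 ⟨z, hzZ⟩
      have h275 : Z.ncard = 275 := by omega
      -- inversion pairs the elements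
      have hpar : Even Z.ncard := by
        rw [Set.ncard_eq_toFinset_card Z (Set.toFinite Z)]
        have hev : (((Set.toFinite Z).toFinset.card : ℕ) : ZMod 2) = 0 := by
          rw [Finset.cast_card]
          refine Finset.sum_involution (fun n _ => n⁻¹) (fun n _ => by decide) (fun n hn _ e => ?_)
            (fun n hn => ?_) (fun n _ => inv_inv n)
          · rw [Set.Finite.mem_toFinset] at hn
            have h2 : n ^ 2 = 1 := by rw [pow_two]; exact inv_eq_iff_mul_eq_one.1 e
            have h22 : n ^ 22 = 1 := by rw [show (22 : ℕ) = 2 * 11 by norm_num, pow_mul, h2, one_pow]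
            have h' := hn.1
            rw [show (23 : ℕ) = 22 + 1 by norm_num, pow_succ, h22, one_mul] at h'
            exact hn.2 h'
          · rw [Set.Finite.mem_toFinset] at hn ⊢
            exact ⟨by rw [inv_pow, hn.1, inv_one], fun e => hn.2 (inv_eq_one.1 e)⟩
        exact (ZMod.natCast_eq_zero_iff_even).1 hev
      rw [h275] at hpar
      exact absurd hpar (by decide)
  · rw [Subgroup.subgroupOf_eq_top] at h
    have hst : Nat.card (stabilizer N vStd) = 898128000 := by
      rw [← card_K]
      exact Nat.card_congr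
        { toFun := fun x => ⟨x.1.1.1, x.1.1.2, x.2⟩
          invFun := fun x => ⟨⟨⟨x.1, x.2.1⟩, h (show (⟨x.1, x.2.1⟩ : G) ∈ L from x.2.2)⟩, x.2.2⟩
          left_inv := fun _ => rfl
          right_inv := fun _ => rfl }
    rw [hst] at hcardN
    refine Subgroup.eq_top_of_card_eq N ?_
    rw [card_G, ← hcardN]
    rw [← hcardN] at hdvdN
    have h1 : O.ncard ≠ 1 := by
      intro h1
      obtain ⟨x, hx⟩ := Set.nonempty_of_ncard_ne_zero (show {x : leechLattice | IsPt x}.ncard ≠ 0 by rw [ncard_pts]; omega)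
      obtain ⟨y, hy, hyx⟩ := Set.exists_ne_of_one_lt_ncard (show 1 < {x : leechLattice | IsPt x}.ncard by rw [ncard_pts]; omega) x
      obtain ⟨g, hg, e⟩ := transitive_pts hx hy
      obtain ⟨hgG, hgL⟩ := hLK g hg
      exact hyx ((e.symm.trans (hall ⟨g, hgG⟩ (h hgL) hg.2 x (pt_iff.1 hx).1 h1)))
    have hmir : O.ncard ≠ 2 := by
      intro h2
      obtain ⟨x, hx⟩ := Set.nonempty_of_ncard_ne_zero (show {x : leechLattice | IsPt x}.ncard ≠ 0 by rw [ncard_pts]; omega)
      -- the orbit of every summand is its pair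
      have hm : U0 - vStd ∈ O := by
        rcases hsize with ⟨e, -⟩ | ⟨-, hm⟩
        · rcases hT with e' | e' | e' <;> omega
        · exact hm
      have hO2 : O = {vStd, U0 - vStd} := (Set.eq_of_subset_of_ncard_le
        (Set.insert_subset hv1 (Set.singleton_subset_iff.2 hm)) (by rw [Set.ncard_pair hne']; omega) hOfin).symm
      obtain ⟨g, e⟩ : x ∈ orbit G vStd := by rw [orbit_vStd]; exact (pt_iff.1 hx).1
      have hPfin := finite_pts
      have hsub : {y : leechLattice | IsPt y} ⊆ orbit N x := fun y hy => by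
        obtain ⟨k, hk, ek⟩ := transitive_pts hx hy
        obtain ⟨hkG, hkL⟩ := hLK k hk
        exact ⟨⟨⟨k, hkG⟩, h hkL⟩, ek⟩
      have hc : (orbit N x).ncard = 2 := by
        rw [← e]
        show (orbit N ((g : Co0) • vStd)).ncard = 2
        rw [hmap g vStd, Set.ncard_image_of_injective _ (MulAction.injective (g : Co0))]
        exact h2
      have hsf : (orbit N x).Finite := Set.finite_of_ncard_ne_zero (by omega)
      have := Set.ncard_le_ncard hsub hsf
      rw [ncard_pts, hc] at this
      omega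
    have h276 : O.ncard ≠ 276 := by
      intro h276
      have hidx : N.index = 2 := by
        have := Subgroup.card_mul_index N
        rw [card_G, ← hcardN, h276] at this
        omega
      obtain ⟨n, hn, x, hx, e⟩ := exists_swap N hidx
      obtain ⟨g, hgx⟩ : x ∈ orbit G vStd := by rw [orbit_vStd]; exact hx
      have hgx' : (g : Co0) • vStd = x := hgx
      have hm : U0 - vStd ∈ O := by
        refine ⟨⟨g⁻¹ * n * g, by simpa using hN.conj_mem n hn g⁻¹⟩, ?_⟩
        show (((g⁻¹ * n * g : G) : Co0)) • vStd = U0 - vStd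
        simp only [Subgroup.coe_mul, Subgroup.coe_inv, mul_smul, hgx', e, inv_smul_eq_iff]
        rw [smul_mirror g.2, hgx']
      rcases hsize with ⟨-, hno⟩ | ⟨e', -⟩
      · exact hno hm
      · rcases hT with e'' | e'' | e'' <;> omega
    rcases hsize with ⟨e, -⟩ | ⟨e, -⟩ <;> rcases hT with e' | e' | e' <;> rw [e, e'] at hdvdN h1 hmir h276 ⊢ <;>
      first | omega | norm_num at hdvdN

theorem isCo3 {v : leechLattice} (hv : sqNorm v.1 = 48) : IsCo3 (stabilizer Co0 v) := by
  obtain ⟨g, hg⟩ := transitive48 (v := U0) (w := v) norm_U0 hv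
  haveI := isSimpleGroup_G
  let φ : G ≃* stabilizer Co0 v := MulAction.stabilizerEquivStabilizer hg.symm
  exact ⟨φ.symm.isSimpleGroup, (Nat.card_congr φ.symm.toEquiv).trans card_G⟩

end CfsgLib.Leech.Co3
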