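/-
Lattice automorphisms given by packed integer matrices, acting on packed vectors.
-/
import Cfsg.Agent.Leech.Minimal
import Cfsg.Agent.Leech.Xi
import Cfsg.Agent.Leech.Aut

set_option autoImplicit false
set_option maxRecDepth 100000

namespace CfsgLib.Leech.Co3Mult

open Cfsg CfsgLib.Golay

/-! ### Packing -/

/-- Pack the first `n` values in base 65536. -/
def pkN : ℕ → (ℕ → ℕ) → ℕ
  | 0, _ => 0
  | n + 1, f => f 0 + 65536 * pkN n fun t => f (t + 1)

/-- A field of a packed number. -/
def fld (y t : ℕ) : ℕ := y / 65536 ^ t % 65536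

/-- The packed number with all fields one. -/
def ones : ℕ := pkN 24 fun _ => 1

/-- Small fields and nothing beyond them. -/
def wf (y : ℕ) : Bool :=
  (List.range 24).all (fun t => Nat.ble (fld y t) 16) && Nat.beq (pkN 24 (fld y)) y

theorem pkN_congr : ∀ n {f g : ℕ → ℕ}, (∀ t < n, f t = g t) → pkN n f = pkN n g
  | 0, _, _, _ => rfl
  | n + 1, f, g, h => by
    show f 0 + _ = g 0 + _
    rw [h 0 n.succ_pos, pkN_congr n (f := fun t => f (t + 1)) (g := fun t => g (t + 1))
      fun t ht => h _ (Nat.succ_lt_succ ht)]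

theorem pkN_add : ∀ n (f g : ℕ → ℕ), pkN n (fun t => f t + g t) = pkN n f + pkN n g
  | 0, _, _ => rfl
  | n + 1, f, g => by
    show f 0 + g 0 + _ = (f 0 + _) + (g 0 + _)
    rw [pkN_add n (fun t => f (t + 1)) fun t => g (t + 1)]
    ring

theorem pkN_smul : ∀ n (a : ℕ) (f : ℕ → ℕ), pkN n (fun t => a * f t) = a * pkN n f
  | 0, _, _ => rfl
  | n + 1, a, f => by
    show a * f 0 + _ = a * (f 0 + _)
    rw [pkN_smul n a fun t => f (t + 1)]
    ring

theorem pkN_zero : ∀ n, pkN n (fun _ => 0) = 0
  | 0 => rfl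
  | n + 1 => by show 0 + 65536 * pkN n (fun _ => 0) = 0; rw [pkN_zero n]

theorem pkN_inj : ∀ n (f g : ℕ → ℕ), (∀ t < n, f t < 65536) → (∀ t < n, g t < 65536) →
    pkN n f = pkN n g → ∀ t < n, f t = g t
  | 0, _, _, _, _, _, t, ht => absurd ht t.not_lt_zero
  | n + 1, f, g, hf, hg, h, t, ht => by
    change f 0 + 65536 * pkN n (fun t => f (t + 1)) = g 0 + 65536 * pkN n (fun t => g (t + 1)) at h
    have h0 := hf 0 n.succ_pos
    have h1 := hg 0 n.succ_pos
    rcases t with _ | t
    · omega
    · exact pkN_inj n (fun t => f (t + 1)) (fun t => g (t + 1)) (fun s hs => hf _ (Nat.succ_lt_succ hs))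
        (fun s hs => hg _ (Nat.succ_lt_succ hs)) (by omega) t (Nat.lt_of_succ_lt_succ ht)

theorem wf_spec {y : ℕ} (h : wf y = true) : (∀ t < 24, fld y t ≤ 16) ∧ pkN 24 (fld y) = y := by
  simp only [wf, Bool.and_eq_true, List.all_eq_true, List.mem_range, Nat.ble_eq, Nat.beq_eq] at h
  exact h

/-- The coordinates of a packed vector. -/
def Val (y : ℕ) (p : GolayPt) : ℤ := (fld y (idx p).val : ℤ) - 8

theorem eq_of_Val {x y : ℕ} (hx : wf x = true) (hy : wf y = true) (h : Val x = Val y) : x = y := by
  rw [← (wf_spec hx).2, ← (wf_spec hy).2]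
  refine pkN_congr 24 fun t ht => ?_
  have := congrFun h (ptN t)
  simp only [Val, idx_ptN ht] at this
  omega

/-! ### Application of a matrix -/

/-- The weighted sum of the columns. -/
def colSum (M : List ℕ) (d : ℕ → ℕ) : ℕ → ℕ
  | 0 => 0
  | n + 1 => colSum M d n + d n * M.getD n 0

/-- The sum of the fields. -/
def fldSum (x : ℕ) : ℕ → ℕ
  | 0 => 0
  | n + 1 => fldSum x n + fld x n

/-- The image of a packed vector. -/
def ap (M : List ℕ) (x : ℕ) : ℕ :=
  ((colSum M (fld x) 24 + 1600 * ones) - (8 * fldSum x 24 * ones + 8 * colSum M (fun _ => 1) 24)) / 8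

/-- The test for one application. -/
def apOk (M : List ℕ) (x : ℕ) : Bool :=
  let y := ap M x
  Nat.beq (colSum M (fld x) 24 + 1600 * ones)
      (8 * y + (8 * fldSum x 24 * ones + 8 * colSum M (fun _ => 1) 24)) && wf y

/-- Every column is a packed vector. -/
def wfM (M : List ℕ) : Bool := (List.range 24).all fun j => wf (M.getD j 0)

/-- An entry. -/
def ent (M : List ℕ) (p q : GolayPt) : ℤ := Val (M.getD (idx q).val 0) p

/-- The linear map of a matrix, eight times too large. -/
def lin (M : List ℕ) : (GolayPt → ℤ) →+ (GolayPt → ℤ) :=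
  AddMonoidHom.mk' (fun x p => ∑ q, x q * ent M p q) fun x y => funext fun p => by
    simp only [Pi.add_apply, add_mul, Finset.sum_add_distrib]

theorem lin_apply (M : List ℕ) (x : GolayPt → ℤ) (p : GolayPt) : lin M x p = ∑ q, x q * ent M p q := rfl

theorem colSum_fields {M : List ℕ} (hM : wfM M = true) (d : ℕ → ℕ) : ∀ n ≤ 24,
    colSum M d n = pkN 24 (fun t => ∑ j ∈ Finset.range n, d j * fld (M.getD j 0) t)
  | 0, _ => by simp only [colSum, Finset.range_zero, Finset.sum_empty, pkN_zero]
  | n + 1, hn => by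
    have hw := List.all_eq_true.1 hM n (List.mem_range.2 (by omega))
    simp only [Finset.sum_range_succ]
    rw [pkN_add, ← colSum_fields hM d n (by omega), pkN_smul, (wf_spec hw).2]
    rfl

theorem fldSum_eq (x : ℕ) : ∀ n, fldSum x n = ∑ j ∈ Finset.range n, fld x j
  | 0 => rfl
  | n + 1 => by rw [Finset.sum_range_succ, ← fldSum_eq x n]; rfl

theorem sum_pts {N : Type*} [AddCommMonoid N] (f : ℕ → N) :
    ∑ q : GolayPt, f (idx q).val = ∑ j ∈ Finset.range 24, f j := by
  rw [← pts_list fun q => f (idx q).val, ← List.toFinset_range, List.sum_toFinset _ List.nodup_range]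
  exact congrArg List.sum (List.map_congr_left fun j hj => by rw [idx_ptN (List.mem_range.1 hj)])

theorem ap_spec {M : List ℕ} (hM : wfM M = true) {x : ℕ} (hx : wf x = true) (h : apOk M x = true) :
    wf (ap M x) = true ∧ ∀ p, 8 * Val (ap M x) p = lin M (Val x) p := by
  simp only [apOk, Bool.and_eq_true, Nat.beq_eq] at h
  obtain ⟨heq, hy⟩ := h
  refine ⟨hy, fun p => ?_⟩
  obtain ⟨hxb, -⟩ := wf_spec hx
  obtain ⟨hyb, hyp⟩ := wf_spec hy
  have hMb : ∀ j < 24, ∀ t < 24, fld (M.getD j 0) t ≤ 16 :=
    fun j hj => (wf_spec (List.all_eq_true.1 hM j (List.mem_range.2 hj))).1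
  set S : ℕ → ℕ := fun t => ∑ j ∈ Finset.range 24, fld x j * fld (M.getD j 0) t with hS
  set B : ℕ → ℕ := fun t => ∑ j ∈ Finset.range 24, 1 * fld (M.getD j 0) t with hB
  set A := ∑ j ∈ Finset.range 24, fld x j with hA
  have hA' : A ≤ 384 := (Finset.sum_le_card_nsmul _ _ 16 fun j hj => hxb j (Finset.mem_range.1 hj)).trans (by simp)
  have hS' : ∀ t < 24, S t ≤ 6144 := fun t ht =>
    (Finset.sum_le_card_nsmul _ _ 256 fun j hj =>
      Nat.mul_le_mul (hxb j (Finset.mem_range.1 hj)) (hMb j (Finset.mem_range.1 hj) t ht)).trans (by simp)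
  have hB' : ∀ t < 24, B t ≤ 384 := fun t ht =>
    (Finset.sum_le_card_nsmul _ _ 16 fun j hj => by
      rw [one_mul]; exact hMb j (Finset.mem_range.1 hj) t ht).trans (by simp)
  have e1 : colSum M (fld x) 24 + 1600 * ones = pkN 24 (fun t => S t + 1600 * 1) := by
    rw [pkN_add, pkN_smul, colSum_fields hM _ 24 le_rfl]; rfl
  have e2 : 8 * ap M x + (8 * fldSum x 24 * ones + 8 * colSum M (fun _ => 1) 24) =
      pkN 24 (fun t => 8 * fld (ap M x) t + (8 * A * 1 + 8 * B t)) := by
    rw [pkN_add, pkN_add, pkN_smul, pkN_smul, pkN_smul, hyp, colSum_fields hM _ 24 le_rfl, fldSum_eq]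
    rfl
  rw [e1, e2] at heq
  set t := (idx p).val
  have ht : t < 24 := (idx p).isLt
  have key := pkN_inj 24 _ _ (fun s hs => by have := hS' s hs; omega)
    (fun s hs => by have := hyb s hs; have := hB' s hs; omega) heq t ht
  have hlin : lin M (Val x) p = (S t : ℤ) - 8 * B t - 8 * A + 1536 := by
    rw [lin_apply]
    have : ∀ q : GolayPt, Val x q * ent M p q =
        ((fld x (idx q).val : ℤ) - 8) * ((fld (M.getD (idx q).val 0) t : ℤ) - 8) := fun q => rfl
    rw [Finset.sum_congr rfl fun q _ => this q,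
      sum_pts fun j => ((fld x j : ℤ) - 8) * ((fld (M.getD j 0) t : ℤ) - 8), hS, hB, hA]
    push_cast
    simp only [sub_mul, mul_sub, Finset.sum_sub_distrib, ← Finset.mul_sum, ← Finset.sum_mul, one_mul,
      Finset.sum_const, Finset.card_range, nsmul_eq_mul]
    ring
  rw [hlin]
  show 8 * ((fld (ap M x) t : ℤ) - 8) = _
  omega

/-! ### The generating vectors of the lattice -/

/-- Pack a vector given by index. -/
def pkV (f : ℕ → ℤ) : ℕ := pkN 24 fun t => (f t + 8).toNat

/-- Eight at one index. -/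
def e8 (j : ℕ) : ℕ := pkV fun t => bif Nat.beq t j then 8 else 0

/-- The packed pair vectors. -/
def pairPk (a : ℤ) : ℕ := pkV fun t => (bif Nat.beq t 23 then 4 else 0) + bif Nat.beq t 0 then a else 0

/-- The packed difference vectors. -/
def diffPk (j : ℕ) : ℕ := pkV fun t => (bif Nat.beq t j then 4 else 0) + bif Nat.beq t 23 then -4 else 0

/-- The packed octad vectors. -/
def octPk (m : ℕ) : ℕ := pkV fun t => bif m.testBit t then 2 else 0

/-- The packed odd vector. -/
def oddPk : ℕ := pkV fun t => oddVec (ptN t)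

/-- All packed generating vectors. -/
def genPk : List ℕ :=
  [pairPk 4, pairPk (-4), oddPk] ++ ((List.range 23).map diffPk ++ basis.map fun a => octPk a.2)

theorem pair_val : ∀ a ∈ ([4, -4] : List ℤ), ∀ p : GolayPt,
    Val (pairPk a) p = (if p = none then 4 else 0) + if p = some 0 then a else 0 := by decide +kernel

theorem diff_val : ∀ j : GolayPt, j ≠ none → ∀ p : GolayPt,
    Val (diffPk (idx j).val) p = (if p = j then 4 else 0) + if p = none then -4 else 0 := by decide +kernel

theorem oct_val : ∀ a ∈ basis, ∀ p : GolayPt,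
    Val (octPk a.2) p = if a.2.testBit (idx p).val then 2 else 0 := by decide +kernel

theorem odd_val : ∀ p : GolayPt, Val oddPk p = oddVec p := by decide +kernel

theorem e8_val : ∀ j p : GolayPt, Val (e8 (idx j).val) p = if p = j then 8 else 0 := by decide +kernel

theorem e8_wf : ∀ j : GolayPt, wf (e8 (idx j).val) = true := by decide +kernel

/-! ### Automorphisms -/

/-- The vectors sent into the lattice. -/
def mDom (M : List ℕ) : AddSubgroup (GolayPt → ℤ) where
  carrier := {x | ∃ y ∈ leechLattice, ∀ p, 8 * y p = lin M x p}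
  zero_mem' := ⟨0, zero_mem _, fun p => by rw [map_zero]; simp⟩
  add_mem' := by
    rintro x x' ⟨y, hy, e⟩ ⟨y', hy', e'⟩
    exact ⟨y + y', add_mem hy hy', fun p => by rw [map_add, Pi.add_apply, Pi.add_apply, mul_add, e, e']⟩
  neg_mem' := by
    rintro x ⟨y, hy, e⟩
    exact ⟨-y, neg_mem hy, fun p => by rw [map_neg, Pi.neg_apply, Pi.neg_apply, mul_neg, e]⟩

/-- The matrix sends the lattice into itself. -/
def domChk (M : List ℕ) : Bool :=
  genPk.all fun x => wf x && apOk M x && inLeech (Val (ap M x))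

/-- The second matrix times the first is sixty-four. -/
def invChk (M N : List ℕ) : Bool :=
  (List.range 24).all fun j => apOk N (M.getD j 0) && Nat.beq (ap N (M.getD j 0)) (e8 j)

/-- The second matrix is the transpose of the first. -/
def trChk (M N : List ℕ) : Bool :=
  (List.range 24).all fun j => (List.range 24).all fun t =>
    Nat.beq (fld (M.getD j 0) t) (fld (N.getD t 0) j)

/-- The tests for an automorphism. -/
def matOk (M N : List ℕ) : Bool :=
  wfM M && wfM N && domChk M && domChk N && invChk M N && invChk N M && trChk M N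

theorem le_mDom {M : List ℕ} (hM : wfM M = true) (h : domChk M = true) : leechLattice ≤ mDom M := by
  have hg : ∀ x ∈ genPk, Val x ∈ mDom M := fun x hx => by
    have hh := List.all_eq_true.1 h x hx
    simp only [Bool.and_eq_true] at hh
    exact ⟨_, inLeech_spec hh.2, (ap_spec hM hh.1.1 hh.1.2).2⟩
  refine le_of_gens ⟨fun a ha => ?_, fun j hj => ?_, fun a ha => ?_, ?_⟩
  · have ha' : a ∈ ([4, -4] : List ℤ) := by rcases ha with rfl | rfl <;> simp
    have := hg (pairPk a) (by rcases ha with rfl | rfl <;> simp [genPk])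
    convert this using 1
    funext p
    rw [pair_val a ha' p]
    simp [Pi.single_apply]
  · have hlt : (idx j).val < 23 := by
      have := (idx j).isLt
      by_contra hc
      exact hj (idx_injective (Fin.ext (show (idx j).val = (idx none).val by
        rw [show (idx (none : GolayPt)).val = 23 from rfl]; omega)))
    have := hg (diffPk (idx j).val)
      (List.mem_append_right _ (List.mem_append_left _ (List.mem_map.2 ⟨_, List.mem_range.2 hlt, rfl⟩)))
    convert this using 1
    funext p
    rw [diff_val j hj p]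
    simp [Pi.single_apply]
  · have := hg (octPk a.2) (List.mem_append_right _ (List.mem_append_right _ (List.mem_map.2 ⟨a, ha, rfl⟩)))
    convert this using 1
    funext p
    rw [oct_val a ha p]
    simp [two, mem_toSet]
  · have := hg oddPk (by simp [genPk])
    convert this using 1
    funext p
    rw [odd_val p]

theorem lin_lin {M N : List ℕ} (hM : wfM M = true) (hN : wfM N = true) (h : invChk M N = true)
    (x : GolayPt → ℤ) : lin N (lin M x) = (64 : ℤ) • x := by
  have hcol : ∀ q p, ∑ r, ent M r q * ent N p r = if p = q then 64 else 0 := by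
    intro q p
    have hh := List.all_eq_true.1 h (idx q).val (List.mem_range.2 (idx q).isLt)
    simp only [Bool.and_eq_true, Nat.beq_eq] at hh
    have e := (ap_spec hN (List.all_eq_true.1 hM _ (List.mem_range.2 (idx q).isLt)) hh.1).2 p
    rw [hh.2, e8_val] at e
    rw [show ∑ r, ent M r q * ent N p r = lin N (Val (M.getD (idx q).val 0)) p from rfl, ← e]
    split_ifs <;> norm_num
  funext p
  rw [lin_apply, Finset.sum_congr rfl fun r _ => by rw [lin_apply, Finset.sum_mul], Finset.sum_comm,
    Finset.sum_congr rfl fun q _ => by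
      rw [Finset.sum_congr rfl fun r _ => mul_assoc (x q) _ _, ← Finset.mul_sum, hcol]]
  simp [mul_comm]

theorem exists_aut {M N : List ℕ} (h : matOk M N = true) :
    ∃ g : Co0, ∀ (v : leechLattice) (p : GolayPt), 8 * (g • v).1 p = lin M v.1 p := by
  simp only [matOk, Bool.and_eq_true] at h
  obtain ⟨⟨⟨⟨⟨⟨hM, hN⟩, hdM⟩, hdN⟩, hMN⟩, hNM⟩, htr⟩ := h
  choose f hf hfe using fun v : leechLattice => le_mDom hM hdM v.2
  choose f' hf' hfe' using fun v : leechLattice => le_mDom hN hdN v.2
  have round : ∀ {A B : List ℕ}, wfM A = true → wfM B = true → invChk A B = true →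
      ∀ {x y z : GolayPt → ℤ}, (∀ p, 8 * y p = lin A x p) → (∀ p, 8 * z p = lin B y p) → z = x := by
    intro A B hA hB hAB x y z hy hz
    have h1 : (8 : ℤ) • y = lin A x := funext fun p => by rw [Pi.smul_apply, smul_eq_mul, hy]
    have h2 := lin_lin hA hB hAB x
    rw [← h1, map_zsmul] at h2
    funext p
    have h3 := congrFun h2 p
    simp only [Pi.smul_apply, smul_eq_mul] at h3
    rw [← hz] at h3
    omega
  let e : Equiv.Perm leechLattice :=
    { toFun := fun v => ⟨f v, hf v⟩
      invFun := fun v => ⟨f' v, hf' v⟩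
      left_inv := fun v => Subtype.ext (round hM hN hMN (hfe v) (hfe' ⟨f v, hf v⟩))
      right_inv := fun v => Subtype.ext (round hN hM hNM (hfe' v) (hfe ⟨f' v, hf' v⟩)) }
  have hadj : ∀ p q, ent M p q = ent N q p := fun p q => by
    have := List.all_eq_true.1 (List.all_eq_true.1 htr (idx q).val (List.mem_range.2 (idx q).isLt))
      (idx p).val (List.mem_range.2 (idx p).isLt)
    rw [Nat.beq_eq] at this
    show ((fld _ _ : ℕ) : ℤ) - 8 = ((fld _ _ : ℕ) : ℤ) - 8
    rw [this]
  refine ⟨⟨e, fun v w => Subtype.ext (funext fun p => ?_), fun v => ?_⟩, fun v p => hfe v p⟩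
  · show f (v + w) p = f v p + f w p
    have h1 := hfe (v + w) p
    rw [AddSubgroup.coe_add, map_add, Pi.add_apply, ← hfe, ← hfe] at h1
    omega
  · show sqNorm (f v) = sqNorm v.1
    have h1 : ∑ p, lin M v.1 p * lin M v.1 p = ∑ q, v.1 q * lin N (lin M v.1) q := by
      calc ∑ p, lin M v.1 p * lin M v.1 p = ∑ p, ∑ q, v.1 q * (lin M v.1 p * ent N q p) :=
            Finset.sum_congr rfl fun p _ => by
              rw [lin_apply, Finset.sum_mul, ← lin_apply]
              exact Finset.sum_congr rfl fun q _ => by rw [hadj]; ring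
        _ = _ := by rw [Finset.sum_comm]; exact Finset.sum_congr rfl fun q _ => by rw [← Finset.mul_sum]; rfl
    rw [lin_lin hM hN hMN] at h1
    simp only [← hfe, Pi.smul_apply, smul_eq_mul] at h1
    have h2 : ∑ p, 8 * f v p * (8 * f v p) = 64 * ∑ p, f v p ^ 2 := by
      rw [Finset.mul_sum]; exact Finset.sum_congr rfl fun p _ => by ring
    have h3 : ∑ q, v.1 q * (64 * v.1 q) = 64 * ∑ q, v.1 q ^ 2 := by
      rw [Finset.mul_sum]; exact Finset.sum_congr rfl fun p _ => by ring
    rw [h2, h3] at h1
    simp only [sqNorm]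
    omega

/-- Automorphisms agreeing on the vectors with one coordinate eight are equal. -/
theorem ext_eights {g h : Co0} (he : ∀ i, g • eight i = h • eight i) : g = h := by
  refine Subtype.ext (Equiv.ext fun v => Subtype.ext (funext fun p => ?_))
  let fg : leechLattice →+ leechLattice := AddMonoidHom.mk' g.1 g.2.1
  let fh : leechLattice →+ leechLattice := AddMonoidHom.mk' h.1 h.2.1
  have hv : (8 : ℤ) • v = ∑ i, v.1 i • eight i := Subtype.ext (funext fun k => by
    rw [AddSubgroup.coe_zsmul, AddSubmonoidClass.coe_finsetSum, Finset.sum_apply]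
    simp [eight, Pi.single_apply, mul_comm])
  have h1 : fg ((8 : ℤ) • v) = fh ((8 : ℤ) • v) := by
    rw [hv, map_sum, map_sum]
    refine Finset.sum_congr rfl fun i _ => ?_
    rw [map_zsmul, map_zsmul, show fg (eight i) = fh (eight i) from he i]
  rw [map_zsmul, map_zsmul] at h1
  have h2 := congrFun (congrArg Subtype.val h1) p
  simp only [AddSubgroup.coe_zsmul, Pi.smul_apply, smul_eq_mul] at h2
  show (g.1 v).1 p = (h.1 v).1 p
  exact mul_left_cancel₀ (by norm_num : (8 : ℤ) ≠ 0) h2

end CfsgLib.Leech.Co3Mult
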