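/-
Data: orbit trees of the stabiliser of three points on octads, and an automorphism fixing a point of the configuration.
-/
import Cfsg.Agent.Golay.Orbit

set_option autoImplicit false
set_option maxRecDepth 20000

namespace CfsgLib.Leech.McL

open CfsgLib.Golay

/-- Permutations fixing three points. -/
def threeGens : List (List Nat) := [
  [0, 1, 20, 18, 21, 6, 15, 2, 19, 12, 13, 4, 3, 17, 5, 7, 8, 22, 11, 10, 14, 9, 16, 23],
  [0, 1, 19, 6, 4, 21, 5, 10, 18, 8, 22, 17, 15, 20, 2, 14, 3, 7, 13, 12, 9, 16, 11, 23],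
  [0, 1, 16, 12, 17, 10, 15, 11, 22, 18, 3, 4, 13, 21, 5, 7, 8, 19, 2, 6, 9, 14, 20, 23]]

/-- Orbit tree (21 octads). -/
def treeTT : OrbTree :=
  (.node 0 (.node 0 (.node 0 .nil .nil) (.node 2 (.node 0 .nil (.node 1 .nil .nil)) .nil)) (.node 1 (.node 0 (.node 0 .nil .nil) (.node 1 (.node 1 (.node 1 .nil .nil) (.node 2 .nil .nil)) (.node 2 .nil .nil))) (.node 2 (.node 1 (.node 0 .nil (.node 1 .nil .nil)) (.node 2 (.node 0 .nil .nil) .nil)) .nil)))

/-- The root of that tree. -/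
def treeTTRoot : Nat := 9347075

/-- Orbit tree (56 octads). -/
def treeTF : OrbTree :=
  (.node 0 (.node 0 (.node 0 (.node 2 (.node 1 .nil .nil) .nil) (.node 1 (.node 1 (.node 0 .nil .nil) (.node 2 .nil .nil)) (.node 2 (.node 0 (.node 0 .nil .nil) (.node 1 .nil .nil)) .nil))) (.node 1 (.node 0 .nil (.node 1 (.node 1 .nil .nil) (.node 2 .nil .nil))) (.node 2 (.node 0 (.node 0 (.node 0 .nil (.node 2 .nil .nil)) (.node 1 .nil (.node 2 .nil .nil))) (.node 2 (.node 1 .nil .nil) .nil)) .nil))) (.node 1 (.node 0 (.node 0 (.node 0 .nil .nil) (.node 1 .nil (.node 2 (.node 1 .nil .nil) .nil))) (.node 1 (.node 0 .nil (.node 1 (.node 2 .nil .nil) (.node 2 (.node 0 .nil .nil) .nil))) (.node 2 (.node 0 .nil (.node 1 (.node 0 .nil .nil) (.node 2 (.node 0 .nil .nil) .nil))) .nil))) (.node 2 (.node 1 (.node 0 .nil (.node 1 .nil (.node 2 (.node 0 .nil (.node 2 .nil .nil)) .nil))) (.node 2 (.node 2 .nil .nil) .nil))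 .nil)))

/-- The root of that tree. -/
def treeTFRoot : Nat := 13062145

/-- Orbit tree (56 octads). -/
def treeFT : OrbTree :=
  (.node 0 (.node 0 (.node 0 (.node 1 (.node 1 .nil .nil) .nil) (.node 1 (.node 0 .nil (.node 1 .nil (.node 2 .nil .nil))) .nil)) (.node 1 (.node 0 (.node 0 .nil (.node 2 (.node 0 .nil .nil) .nil)) (.node 1 (.node 0 (.node 0 .nil (.node 2 .nil .nil)) .nil) .nil)) (.node 2 (.node 1 (.node 1 (.node 1 .nil .nil) (.node 2 (.node 1 .nil .nil) .nil)) .nil) .nil))) (.node 1 (.node 0 (.node 0 (.node 1 .nil .nil) (.node 1 (.node 0 .nil (.node 2 .nil .nil)) .nil)) (.node 1 (.node 0 (.node 0 .nil (.node 2 .nil .nil)) (.node 1 .nil .nil)) (.node 2 (.node 0 (.node 0 .nil (.node 1 .nil .nil)) (.node 1 (.node 2 .nil .nil) (.node 2 (.node 0 .nil .nil) .nil))) .nil))) (.node 2 (.node 1 (.node 0 (.node 0 .nil (.node 1 .nil (.node 2 .nil .nil))) (.node 2 (.node 1 (.node 0 .nil .nil) .nil) .nil))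 (.node 2 (.node 2 .nil .nil) .nil)) .nil)))

/-- The root of that tree. -/
def treeFTRoot : Nat := 10305542

/-- Orbit tree (120 octads). -/
def treeFF : OrbTree :=
  (.node 0 (.node 0 (.node 0 (.node 0 (.node 0 (.node 2 .nil .nil) (.node 2 .nil .nil)) (.node 1 (.node 1 .nil .nil) .nil)) (.node 1 (.node 0 (.node 0 .nil (.node 1 .nil (.node 2 (.node 2 .nil .nil) .nil))) (.node 1 .nil (.node 2 (.node 0 .nil .nil) .nil))) (.node 2 (.node 0 (.node 1 .nil .nil) (.node 1 (.node 0 .nil (.node 2 (.node 1 .nil .nil) .nil)) .nil)) .nil))) (.node 1 (.node 1 (.node 0 (.node 0 .nil .nil) (.node 1 (.node 0 .nil (.node 2 .nil .nil)) (.node 2 (.node 1 .nil .nil) .nil))) (.node 2 (.node 0 (.node 2 .nil .nil) (.node 1 (.node 1 (.node 1 .nil .nil) .nil) (.node 2 (.node 1 .nil .nil) .nil))) .nil)) (.node 2 (.node 0 (.node 0 (.node 0 .nil (.node 2 (.node 2 .nil .nil) .nil)) (.node 1 (.node 1 .nil .nil) .nil)) (.node 1 (.node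 1 (.node 0 (.node 1 .nil .nil) .nil) (.node 2 .nil .nil)) (.node 2 (.node 0 (.node 2 .nil .nil) (.node 1 .nil (.node 2 (.node 0 (.node 1 .nil .nil) (.node 1 .nil .nil)) .nil))) .nil))) .nil))) (.node 1 (.node 0 (.node 0 (.node 0 (.node 0 .nil (.node 1 .nil .nil)) (.node 2 (.node 1 (.node 1 .nil .nil) .nil) .nil)) (.node 1 (.node 1 (.node 2 .nil .nil) .nil) (.node 2 (.node 1 (.node 1 .nil .nil) .nil) .nil))) (.node 1 (.node 0 (.node 0 (.node 2 (.node 2 .nil .nil) .nil) (.node 2 .nil .nil)) (.node 1 (.node 0 (.node 1 .nil .nil) (.node 2 (.node 0 .nil .nil) .nil)) (.node 2 (.node 0 (.node 0 .nil .nil) (.node 1 .nil (.node 2 .nil .nil))) .nil))) (.node 2 (.node 0 (.node 0 .nil (.node 1 .nil .nil)) (.node 1 (.node 0 (.node 1 .nil (.node 2 .nil .nil)) (.node 1 .nil (.node 2 .nil .nil))) (.node 2 (.node 2 .nil .nil) .nil))) .nil))) (.node 2 (.node 1 (.node 0 .nil (.node 1 (.node 1 (.node 0 .nil (.node 1 .nil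 .nil)) .nil) .nil)) (.node 2 (.node 1 (.node 0 (.node 2 .nil .nil) (.node 1 .nil (.node 2 .nil .nil))) .nil) .nil)) .nil)))

/-- The root of that tree. -/
def treeFFRoot : Nat := 13938692

/-- A word fixing three vectors of the configuration. -/
def threeWord : List (List Nat × Nat × Bool) := [
  ([13, 7, 23, 12, 4, 20, 21, 8, 3, 5, 6, 15, 2, 9, 1, 16, 10, 14, 11, 22, 17, 18, 19, 0], 4906134, true),
  ([14, 1, 5, 17, 9, 16, 23, 8, 15, 3, 4, 0, 21, 22, 12, 7, 13, 6, 19, 11, 18, 10, 2, 20], 16056344, true),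
  ([3, 2, 22, 18, 23, 20, 11, 0, 12, 8, 10, 15, 19, 13, 17, 16, 5, 14, 7, 1, 4, 9, 21, 6], 5468947, false)]

/-- A point. -/
def from04 : List Int := [0, 0, 4, 0, 0, 0, 0, 0, 0, 0, 0, 0, 0, 0, 0, 0, 0, 0, 0, 0, 0, 0, 0, 4]

/-- A point. -/
def to04 : List Int := [1, 1, 1, 1, -1, 1, 1, -1, 1, 1, 1, 1, 1, -1, -1, -1, -1, 1, -1, 1, 1, 1, 1, 3]

/-- A point. -/
def from01 : List Int := [0, 0, 0, 0, 0, 0, 0, 0, 0, 0, 0, 0, 0, 0, 0, 0, 0, 0, 0, 0, 4, 0, 0, 4]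

/-- A point. -/
def to01 : List Int := [2, 2, 2, 0, 0, 0, 2, 2, 0, 0, 0, 0, 0, 0, 0, 0, 0, 0, 0, 2, 0, 2, 0, 2]

/-- A point. -/
def from23 : List Int := [2, 0, 0, 0, 0, 0, 0, 0, 0, 0, 0, 0, 2, 0, 2, 0, 2, 2, 2, 0, 0, 0, 2, 2]

/-- A point. -/
def to23 : List Int := [1, -1, -1, -1, 1, 1, 1, 1, 1, 1, -1, -1, 1, 1, 1, 1, -1, 1, 1, 1, 1, -1, 1, 3]

end CfsgLib.Leech.McL
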