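/-
The lattice modulo twice itself: faithful, irreducible, and a unique invariant quadratic form.
-/
import Cfsg.Agent.Leech.Pairs
import Cfsg.Agent.Leech.Minimal

set_option autoImplicit false

namespace CfsgLib.Leech

open Cfsg CfsgLib.Golay

/-- A vector. -/
def triA : List ℤ := [0, 0, 0, 0, 0, 0, 0, 0, 0, 0, 4, 0, 0, -4, 0, 0, 0, 0, 0, 0, 0, 0, 0, 0]
/-- A vector. -/
def triB : List ℤ := [0, 0, 0, 0, 0, 0, 0, 0, 0, 0, -4, 4, 0, 0, 0, 0, 0, 0, 0, 0, 0, 0, 0, 0]
/-- A vector. -/
def triC : List ℤ := [3, -1, -1, 1, 1, -1, 1, 1, 1, -1, -1, -1, 1, 1, -1, 1, -1, 1, -1, 1, 1, 1, -1, -1]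
/-- A vector. -/
def triD : List ℤ := [1, -1, 1, -1, -1, 1, -1, -1, -1, -1, -1, -3, -1, 1, -1, -1, -1, 1, 1, -1, -1, -1, 1, -1]
/-- A vector. -/
def shift48 : List ℤ := [-1, -1, -1, -1, -1, -1, 1, 1, 1, -1, 1, -1, -1, 1, 1, -1, -1, 1, -3, 1, 1, 1, 1, -1]
/-- A vector. -/
def shift64 : List ℤ := [0, 2, -2, 0, -2, 0, 0, 0, -2, 0, 2, 0, 0, 0, 0, 0, 0, 2, 0, 2, 0, 0, 0, -2]
theorem consts_ok : (inLeech (vecOf triA) && inLeech (vecOf triB) && inLeech (vecOf triC) && inLeech (vecOf triD) &&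
    inLeech (vecOf shift48) && inLeech (vecOf shift64)) = true := by decide +kernel

theorem consts_norm : [triA, triB, triC, triD, shift48, shift64].all
    (fun l => ((List.range 24).map fun i => l.getD i 0 * l.getD i 0).sum == 32) = true := by decide +kernel

theorem consts_dot : ([(triA, triB, (-16 : ℤ)), (triA, triC, -8), (triB, triC, 0), (triA, triD, -8), (triB, triD, -8),
    (repDod, shift48, -16), (repCross, shift64, -16)].all fun a =>
      ((List.range 24).map fun i => a.1.getD i 0 * a.2.1.getD i 0).sum == a.2.2) = true := by decide +kernel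

theorem dot_vecOf (a b : List ℤ) :
    dotInt (vecOf a) (vecOf b) = ((List.range 24).map fun i => a.getD i 0 * b.getD i 0).sum := by
  rw [dotInt, ← pts_list]
  exact congrArg List.sum (List.map_congr_left fun i hi => by rw [vecOf, vecOf, idx_ptN (List.mem_range.1 hi)])

theorem norm_vecOf (a : List ℤ) : sqNorm (vecOf a) = ((List.range 24).map fun i => a.getD i 0 * a.getD i 0).sum := by
  rw [← dot_self, dot_vecOf]

/-- The exceptional classes. -/
theorem exists_short {x : GolayPt → ℤ} (hx : x ∈ leechLattice) (h : ¬ ∃ z ∈ leechLattice, x = 2 • z) :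
    ∃ y ∈ leechLattice, (sqNorm y = 32 ∨ sqNorm y = 48 ∨ sqNorm y = 64) ∧ ∃ z ∈ leechLattice, x - y = 2 • z := by
  obtain ⟨y, hy, hn, z, hz, e⟩ := frames_and_short.2 x hx
  have hy0 : y ≠ 0 := fun e0 => h ⟨z, hz, by rw [← e, e0, sub_zero]⟩
  have := sqNorm_min hy hy0
  obtain ⟨k, hk⟩ := sqNorm_dvd hy
  exact ⟨y, hy, by omega, z, hz, e⟩

theorem single_add (i : GolayPt) (a b : ℤ) : (Pi.single i a + Pi.single i b : GolayPt → ℤ) = Pi.single i (a + b) :=
  (Pi.single_add (f := fun _ => ℤ) i a b).symm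

theorem pair_min {i j : GolayPt} (h : i ≠ j) {a : ℤ} (ha : a = 4 ∨ a = -4) :
    (Pi.single i 4 + Pi.single j a : GolayPt → ℤ) ∈ leechLattice ∧
      sqNorm (Pi.single i 4 + Pi.single j a : GolayPt → ℤ) = 32 := by
  constructor
  · have := fours_mem (i := i) (j := j) (a := 4) (b := -a) (Or.inl rfl) (by omega)
    rwa [Pi.single_neg (f := fun _ => ℤ), sub_neg_eq_add] at this
  · rw [sqNorm_add, sqNorm_single, sqNorm_single, dotInt,
      Finset.sum_eq_zero fun k _ => by simp only [Pi.single_apply]; split_ifs <;> simp_all]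
    rcases ha with rfl | rfl <;> norm_num

theorem kernel_trivial {g : Co0}
    (h : ∀ v : leechLattice, ∃ w : leechLattice, (g • v).1 - v.1 = 2 • w.1) : g ∈ Subgroup.center Co0 := by
  have hmin : ∀ v : leechLattice, sqNorm v.1 = 32 → g • v = v ∨ g • v = -v := fun v hv => by
    obtain ⟨w, hw⟩ := h v
    rcases congr_short v.2 w.2 hw (by rw [norm_smul]; omega) (by omega) with e | e | e
    · exact Or.inl (Subtype.ext e)
    · exact Or.inr (Subtype.ext e)
    · have := norm_smul g v; omega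
  have key : ∀ i j : GolayPt, i ≠ j → ∃ a b : leechLattice, a.1 = Pi.single i 4 + Pi.single j 4 ∧
      b.1 = Pi.single i 4 + Pi.single j (-4) ∧ (g • a = a ∨ g • a = -a) ∧ (g • b = b ∨ g • b = -b) := fun i j hij => by
    obtain ⟨h1, h1'⟩ := pair_min hij (a := 4) (Or.inl rfl)
    obtain ⟨h2, h2'⟩ := pair_min hij (a := -4) (Or.inr rfl)
    exact ⟨⟨_, h1⟩, ⟨_, h2⟩, rfl, rfl, hmin _ h1', hmin _ h2'⟩
  have hdiag : ∀ i : GolayPt, (g • eight i).1 = Pi.single i 8 ∨ (g • eight i).1 = Pi.single i (-8) := fun i => by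
    have two : ∀ j, i ≠ j → ((g • eight i).1 = Pi.single i 8 ∨ (g • eight i).1 = Pi.single i (-8)) ∨
        ((g • eight i).1 = Pi.single j 8 ∨ (g • eight i).1 = Pi.single j (-8)) := fun j hij => by
      obtain ⟨a, b, ea, eb, ha, hb⟩ := key i j hij
      have e : eight i = a + b := Subtype.ext (by
        funext k; simp only [AddSubgroup.coe_add, ea, eb, eight, Pi.add_apply, Pi.single_apply]; split_ifs <;> omega)
      have e' : (g • eight i).1 = (g • a).1 + (g • b).1 := by rw [e, smul_add', AddSubgroup.coe_add]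
      rcases ha with ha | ha <;> rcases hb with hb | hb <;> rw [e', ha, hb] <;>
        simp only [AddSubgroup.coe_neg, ea, eb] <;>
        [left; right; right; left] <;> [left; left; right; right] <;>
        funext k <;> simp only [Pi.add_apply, Pi.neg_apply, Pi.single_apply] <;> split_ifs <;> omega
    obtain ⟨j, hj⟩ := Finset.exists_mem_ne (s := (Finset.univ : Finset GolayPt)) (by simp [card_pt]) i
    obtain ⟨k, hk⟩ := Finset.exists_mem_ne (s := (Finset.univ.erase i : Finset GolayPt)) (by simp [card_pt]) j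
    rw [Finset.mem_erase] at hk
    rcases two j hj.2.symm with r | r
    · exact r
    rcases two k hk.1.1.symm with r' | r'
    · exact r'
    exfalso
    rcases r with r | r <;> rcases r' with r' | r' <;>
      · have := congrFun (r.symm.trans r') j
        simp [hk.2.symm] at this
  have hS : g ∈ crossStab := mem_crossStab_of_eight (i := none) (by
    rcases hdiag none with e | e <;> rw [e]
    · exact ⟨none, 8, Or.inl rfl, rfl⟩
    · exact ⟨none, -8, Or.inr rfl, rfl⟩)
  obtain ⟨σ, hσ, c, hc, rfl⟩ := stab_mono g hS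
  have hσ1 : σ = 1 := Equiv.ext fun i => by
    by_contra hne
    have hne' : σ i ≠ i := hne
    have hev : (mono hσ hc • eight i).1 (σ i) = signedPerm σ c (eight i).1 (σ i) := rfl
    rcases hdiag i with e | e <;> rw [e] at hev <;>
      (simp [signedPerm, eight, hne'] at hev; split_ifs at hev <;> omega)
  subst hσ1
  have hconst : ∀ i j : GolayPt, i ≠ j → (i ∈ c ↔ j ∈ c) := fun i j hij => by
    obtain ⟨a, b, ea, -, ha, -⟩ := key i j hij
    have h1 : ∀ k, (mono hσ hc • a).1 k = if k ∈ c then -(a.1 k) else a.1 k := fun k => rfl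
    have a1 : a.1 i = 4 := by rw [ea]; simp [hij]
    have a2 : a.1 j = 4 := by rw [ea]; simp [hij.symm]
    have q1 := h1 i
    have q2 := h1 j
    rcases ha with e | e <;> rw [e] at q1 q2 <;> simp only [AddSubgroup.coe_neg, Pi.neg_apply, a1, a2] at q1 q2 <;>
      by_cases hi : i ∈ c <;> by_cases hj : j ∈ c <;> simp [hi, hj] at q1 q2 ⊢
  by_cases hn : (none : GolayPt) ∈ c
  · have hc' : c = Finset.univ := Finset.eq_univ_of_forall fun i => by
      rcases eq_or_ne i none with rfl | hi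
      · exact hn
      · exact (hconst i none hi).2 hn
    subst hc'
    exact negOne_central
  · have hc' : c = ∅ := Finset.eq_empty_of_forall_notMem fun i hi => by
      rcases eq_or_ne i none with rfl | hi'
      · exact hn hi
      · exact hn ((hconst i none hi').1 hi)
    subst hc'
    have : mono hσ hc = (1 : Co0) := Subtype.ext (Equiv.ext fun v => Subtype.ext (funext fun j => by
      rw [mono_apply]; simp [signedPerm, perm_one_symm]))
    rw [this]
    exact one_mem _

theorem irreducible {M : AddSubgroup (GolayPt → ℤ)} (h2 : ∀ v ∈ leechLattice, (2 : ℤ) • v ∈ M)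
    (hle : M ≤ leechLattice) (hinv : ∀ g : Co0, ∀ v : leechLattice, v.1 ∈ M → (g • v).1 ∈ M)
    {x : GolayPt → ℤ} (hx : x ∈ M) (hnx : ¬ ∃ z ∈ leechLattice, x = 2 • z) : M = leechLattice := by
  obtain ⟨y, hy, hn, z, hz, e⟩ := exists_short (hle hx) hnx
  have hyM : y ∈ M := by
    have : y = x - (2 : ℤ) • z := by rw [ofNat_zsmul, ← e, sub_sub_cancel]
    rw [this]
    exact sub_mem hx (h2 z hz)
  have hall : ∀ w ∈ leechLattice, sqNorm w = sqNorm y → w ∈ M := fun w hw hwn => by
    obtain ⟨g, eg⟩ : ∃ g : Co0, g • (⟨y, hy⟩ : leechLattice) = ⟨w, hw⟩ := by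
      rcases hn with hn | hn | hn
      · exact transitive32 hn (hwn.trans hn)
      · exact transitive48 hn (hwn.trans hn)
      · exact transitive64 hn (hwn.trans hn)
    have := hinv g ⟨y, hy⟩ hyM
    rw [eg] at this
    exact this
  have hcs := consts_ok
  simp only [Bool.and_eq_true] at hcs
  have hsh : ∀ (u s : List ℤ), inLeech (vecOf u) = true → inLeech (vecOf s) = true →
      sqNorm (vecOf u) = sqNorm y → sqNorm (vecOf s) = 32 → dotInt (vecOf u) (vecOf s) = -16 →
      ∃ m ∈ M, sqNorm m = 32 := fun u s hu hs hun hsn hd => by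
    refine ⟨vecOf s, ?_, hsn⟩
    have h1 := hall _ (inLeech_spec hu) hun
    have h2' := hall _ (add_mem (inLeech_spec hu) (inLeech_spec hs)) (by rw [sqNorm_add]; omega)
    simpa using sub_mem h2' h1
  have hd := consts_dot
  have hnr := consts_norm
  simp only [List.all_cons, List.all_nil, Bool.and_eq_true, Bool.and_true, beq_iff_eq] at hd hnr
  obtain ⟨m, hm, hmn⟩ : ∃ m ∈ M, sqNorm m = 32 := by
    rcases hn with hn | hn | hn
    · exact ⟨y, hyM, hn⟩
    · exact hsh repDod shift48 (by decide +kernel) hcs.1.2 (by rw [hn, norm_vecOf]; decide +kernel)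
        (by rw [norm_vecOf]; exact hnr.2.2.2.2.1) (by rw [dot_vecOf]; exact hd.2.2.2.2.2.1)
    · exact hsh repCross shift64 (by decide +kernel) hcs.2 (by rw [hn, norm_vecOf]; decide +kernel)
        (by rw [norm_vecOf]; exact hnr.2.2.2.2.2) (by rw [dot_vecOf]; exact hd.2.2.2.2.2.2)
  refine le_antisymm hle (le_trans (le_of_gens hasGens_minGen) ((AddSubgroup.closure_le _).2 ?_))
  rintro w ⟨hw, hwn⟩
  obtain ⟨g, eg⟩ := transitive32 (v := (⟨m, hle hm⟩ : leechLattice)) (w := ⟨w, hw⟩) hmn hwn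
  have := hinv g ⟨m, hle hm⟩ hm
  rw [eg] at this
  exact this

theorem quad_form (Q : leechLattice → ZMod 2) (hcoset : ∀ v w : leechLattice, Q (v + (w + w)) = Q v)
    (hquad : ∀ u v w : leechLattice, Q (u + v + w) + Q u + Q v + Q w = Q (u + v) + Q (u + w) + Q (v + w))
    (hinv : ∀ (g : Co0) (v : leechLattice), Q (g • v) = Q v) (hne : ∃ v, Q v ≠ 0) (v : leechLattice) :
    Q v = ((sqNorm v.1 / 16 : ℤ) : ZMod 2) := by
  have hcs := consts_ok
  have hd := consts_dot
  have hnr := consts_norm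
  simp only [Bool.and_eq_true] at hcs
  simp only [List.all_cons, List.all_nil, Bool.and_eq_true, Bool.and_true, beq_iff_eq] at hd hnr
  have e32 : ∀ {a b : leechLattice}, sqNorm a.1 = 32 → sqNorm b.1 = 32 → Q a = Q b := fun ha hb => by
    obtain ⟨g, e⟩ := transitive32 ha hb; rw [← e, hinv]
  have e48 : ∀ {a b : leechLattice}, sqNorm a.1 = 48 → sqNorm b.1 = 48 → Q a = Q b := fun ha hb => by
    obtain ⟨g, e⟩ := transitive48 ha hb; rw [← e, hinv]
  have e64 : ∀ {a b : leechLattice}, sqNorm a.1 = 64 → sqNorm b.1 = 64 → Q a = Q b := fun ha hb => by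
    obtain ⟨g, e⟩ := transitive64 ha hb; rw [← e, hinv]
  let A : leechLattice := ⟨_, inLeech_spec hcs.1.1.1.1.1⟩
  let B : leechLattice := ⟨_, inLeech_spec hcs.1.1.1.1.2⟩
  let C : leechLattice := ⟨_, inLeech_spec hcs.1.1.1.2⟩
  let D : leechLattice := ⟨_, inLeech_spec hcs.1.1.2⟩
  have nA : sqNorm A.1 = 32 := (norm_vecOf _).trans hnr.1
  have nB : sqNorm B.1 = 32 := (norm_vecOf _).trans hnr.2.1
  have nC : sqNorm C.1 = 32 := (norm_vecOf _).trans hnr.2.2.1
  have nD : sqNorm D.1 = 32 := (norm_vecOf _).trans hnr.2.2.2.1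
  have dAB : dotInt A.1 B.1 = -16 := (dot_vecOf _ _).trans hd.1
  have dAC : dotInt A.1 C.1 = -8 := (dot_vecOf _ _).trans hd.2.1
  have dBC : dotInt B.1 C.1 = 0 := (dot_vecOf _ _).trans hd.2.2.1
  have dAD : dotInt A.1 D.1 = -8 := (dot_vecOf _ _).trans hd.2.2.2.1
  have dBD : dotInt B.1 D.1 = -8 := (dot_vecOf _ _).trans hd.2.2.2.2.1
  have add2 : ∀ (a b : leechLattice) (k : ℤ), sqNorm a.1 = 32 → sqNorm b.1 = 32 → dotInt a.1 b.1 = k →
      sqNorm (a + b).1 = 64 + 2 * k := fun a b k ha hb hk => by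
    rw [AddSubgroup.coe_add, sqNorm_add]; omega
  have add3 : ∀ (a b c : leechLattice), dotInt (a + b).1 c.1 = dotInt a.1 c.1 + dotInt b.1 c.1 := fun a b c => by
    simp only [dotInt, AddSubgroup.coe_add, Pi.add_apply, add_mul, Finset.sum_add_distrib]
  have nABC : sqNorm (A + B + C).1 = 48 := by
    rw [AddSubgroup.coe_add, sqNorm_add, add3, add2 A B _ nA nB dAB]; omega
  have nABD : sqNorm (A + B + D).1 = 32 := by
    rw [AddSubgroup.coe_add, sqNorm_add, add3, add2 A B _ nA nB dAB]; omega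
  have qD := hquad A B D
  rw [e32 nABD nA, e32 nB nA, e32 nD nA, e32 (add2 A B _ nA nB dAB) nA,
    e48 (add2 A D _ nA nD dAD) nABC, e48 (add2 B D _ nB nD dBD) nABC] at qD
  have qC := hquad A B C
  rw [e32 nB nA, e32 nC nA, e32 (add2 A B _ nA nB dAB) nA, e48 (add2 A C _ nA nC dAC) nABC] at qC
  set a := Q A
  set b := Q (A + B + C)
  set c := Q (B + C)
  have z1 : ∀ a b : ZMod 2, a + a + a + a = a + b + b → a = 0 := by decide
  have z2 : ∀ a b c : ZMod 2, b + a + a + a = a + b + c → a = 0 → c = 0 := by decide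
  have ha : a = 0 := z1 a b qD
  have hc : c = 0 := z2 a b c qC ha
  have n64 : sqNorm (B + C).1 = 64 := by rw [add2 B C _ nB nC dBC]; rfl
  have cls : ∀ u : leechLattice, (Q u = 0 ∧ sqNorm u.1 % 32 = 0) ∨ (Q u = b ∧ sqNorm u.1 % 32 = 16) := fun u => by
    obtain ⟨y, hy, hn, z, hz, e⟩ := frames_and_short.2 u.1 u.2
    have eu : u = (⟨y, hy⟩ : leechLattice) + (⟨z, hz⟩ + ⟨z, hz⟩) := Subtype.ext (by
      show u.1 = y + (z + z)
      rw [← two_nsmul, ← e]; abel)
    have hmod : sqNorm u.1 % 32 = sqNorm y % 32 := by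
      obtain ⟨k, hk⟩ := dot_dvd hy hz
      obtain ⟨l, hl⟩ := sqNorm_dvd hz
      rw [show u.1 = y + (z + z) from congrArg Subtype.val eu, sqNorm_add, sqNorm_add]
      have : dotInt y (z + z) = 2 * dotInt y z := by
        simp only [dotInt, Pi.add_apply, mul_add, Finset.sum_add_distrib]; ring
      have := dot_self z
      omega
    have eq : Q u = Q ⟨y, hy⟩ := by rw [eu, hcoset]
    rw [eq, hmod]
    rcases eq_or_ne y 0 with h0 | h0
    · left
      have q0 := hquad 0 0 0
      simp only [add_zero] at q0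
      subst h0
      refine ⟨?_, by simp [sqNorm]⟩
      change Q 0 = 0
      revert q0; generalize Q 0 = q; revert q; decide
    have := sqNorm_min hy h0
    obtain ⟨k, hk⟩ := sqNorm_dvd hy
    rcases (show sqNorm y = 32 ∨ sqNorm y = 48 ∨ sqNorm y = 64 by omega) with h | h | h
    · exact Or.inl ⟨(e32 (a := ⟨y, hy⟩) h nA).trans ha, by omega⟩
    · exact Or.inr ⟨e48 (a := ⟨y, hy⟩) h nABC, by omega⟩
    · exact Or.inl ⟨(e64 (a := ⟨y, hy⟩) h n64).trans hc, by omega⟩
  have hb : b = 1 := by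
    obtain ⟨u, hu⟩ := hne
    rcases cls u with ⟨r, -⟩ | ⟨r, -⟩
    · exact absurd r hu
    · exact (by decide : ∀ q : ZMod 2, q ≠ 0 → q = 1) b (r ▸ hu)
  obtain ⟨k, hk⟩ := sqNorm_dvd v.2
  rcases cls v with ⟨r, hr⟩ | ⟨r, hr⟩
  · rw [r]
    exact ((cast2_eq (b := 0) (show sqNorm v.1 / 16 % 2 = 0 % 2 by omega)).trans Int.cast_zero).symm
  · rw [r, hb]
    exact ((cast2_eq (b := 1) (show sqNorm v.1 / 16 % 2 = 1 % 2 by omega)).trans Int.cast_one).symm

end CfsgLib.Leech
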